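import Mathlib

set_option autoImplicit false
universe u
open TensorProduct

namespace Groth.Agent.Lib.Helper24

/-- The support of a base change of a finite module is the preimage of the support. -/
theorem mem_support_baseChange_iff {A B : Type*} [CommRing A] [CommRing B] [Algebra A B]
    (M : Type*) [AddCommGroup M] [Module A M] [Module.Finite A M] (q : PrimeSpectrum B) :
    q ∈ Module.support B (B ⊗[A] M) ↔
      PrimeSpectrum.comap (algebraMap A B) q ∈ Module.support A M := by
  rw [Module.mem_support_iff_nontrivial_residueField_tensorProduct,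
    Module.mem_support_iff_nontrivial_residueField_tensorProduct]
  let p := (PrimeSpectrum.comap (algebraMap A B) q).asIdeal
  have : q.asIdeal.LiesOver p := ⟨rfl⟩
  let := Localization.AtPrime.algebraOfLiesOver p q.asIdeal
  let K := p.ResidueField
  let K' := q.asIdeal.ResidueField
  have : IsScalarTower A K K' := inferInstance
  let e1 : K' ⊗[B] (B ⊗[A] M) ≃ₗ[K'] K' ⊗[A] M :=
    AlgebraTensorModule.cancelBaseChange A B K' K' M
  let e2 : K' ⊗[K] (K ⊗[A] M) ≃ₗ[K'] K' ⊗[A] M :=
    AlgebraTensorModule.cancelBaseChange A K K' K' M
  rw [e1.nontrivial_congr, ← e2.nontrivial_congr]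
  have hfree : Module.Free K K' := Module.Free.of_divisionRing K K'
  have hff : Module.FaithfullyFlat K K' := inferInstance
  rw [← not_iff_not, not_nontrivial_iff_subsingleton, not_nontrivial_iff_subsingleton]
  constructor
  · intro h
    exact Module.FaithfullyFlat.lTensor_reflects_triviality K K' (K ⊗[A] M)
  · intro h
    infer_instance


/-- The unramified locus commutes with base change (ring level). -/
theorem mem_unramifiedLocus_iff_of_isPushout {R S A B : Type*} [CommRing R] [CommRing S]
    [CommRing A] [CommRing B] [Algebra R S] [Algebra R A] [Algebra R B] [Algebra S B]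
    [Algebra A B] [IsScalarTower R S B] [IsScalarTower R A B]
    [Algebra.IsPushout R S A B] [Algebra.EssFiniteType R A] (q : PrimeSpectrum B) :
    q ∈ Algebra.unramifiedLocus S B ↔
      PrimeSpectrum.comap (algebraMap A B) q ∈ Algebra.unramifiedLocus R A := by
  rw [Algebra.unramifiedLocus_eq_compl_support, Algebra.unramifiedLocus_eq_compl_support,
    Set.mem_compl_iff, Set.mem_compl_iff,
    ← (KaehlerDifferential.tensorKaehlerEquiv R S A B).support_eq, mem_support_baseChange_iff]

end Groth.Agent.Lib.Helper24
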