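import Mathlib
import Groth.Prelude.Def_CAlg

/-!
# Gorenstein local rings are invariant under ring isomorphisms (helper24)
-/

set_option autoImplicit false
universe w w' v v' u u'

namespace Groth.Agent.Lib.Helper24

open CategoryTheory Abelian Limits

/-- A fully faithful exact functor preserving projective objects reflects finite injective
dimension. -/
theorem hasInjectiveDimensionLT_of_obj {C : Type u} [Category.{v} C] [Abelian C]
    {D : Type u'} [Category.{v'} D] [Abelian D] (F : C ⥤ D) [F.Additive]
    [PreservesFiniteLimits F] [PreservesFiniteColimits F] [F.Full] [F.Faithful]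
    [EnoughProjectives C] [F.PreservesProjectiveObjects] (X : C) (n : ℕ)
    (h : HasInjectiveDimensionLT (F.obj X) n) : HasInjectiveDimensionLT X n := by
  let _ := HasExt.standard C
  let _ := HasExt.standard D
  rw [hasInjectiveDimensionLT_iff]
  intro i hi Y e
  have hb := F.mapExt_bijective_of_preservesProjectiveObjects Y X i
  apply hb.1
  rw [map_zero]
  exact Ext.eq_zero_of_hasInjectiveDimensionLT _ n hi

end Groth.Agent.Lib.Helper24

namespace Groth.Agent.Lib.Helper24

open CategoryTheory Abelian Limits

/-- Gorenstein-ness of local rings transfers along ring isomorphisms. -/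
theorem isGorensteinLocalRing_of_ringEquiv {R S : Type u} [CommRing R] [CommRing S] (e : R ≃+* S)
    (h : LocCoh.IsGorensteinLocalRing R) : LocCoh.IsGorensteinLocalRing S := by
  have hN : IsNoetherianRing S := isNoetherianRing_of_ringEquiv R e
  have hL : IsLocalRing S := e.isLocalRing
  obtain ⟨n, hn⟩ := h.exists_hasInjectiveDimensionLT
  refine { exists_hasInjectiveDimensionLT := ⟨n, ?_⟩ }
  have : (ModuleCat.restrictScalars.{u} e.toRingHom).IsEquivalence :=
    ModuleCat.restrictScalars_isEquivalence_of_ringEquiv e
  apply hasInjectiveDimensionLT_of_obj (ModuleCat.restrictScalars.{u} e.toRingHom)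
  let l : (ModuleCat.restrictScalars.{u} e.toRingHom).obj (ModuleCat.of S S) ≃ₗ[R] R :=
    { toFun := fun x => e.symm (show S from x)
      invFun := fun x => (e x : S)
      map_add' := fun x y => map_add e.symm (show S from x) (show S from y)
      map_smul' := fun r x => by
        change e.symm (e r * (show S from x)) = r * e.symm (show S from x)
        rw [map_mul, e.symm_apply_apply]
      left_inv := fun x => e.apply_symm_apply (show S from x)
      right_inv := fun x => e.symm_apply_apply x }
  exact hasInjectiveDimensionLT_of_iso l.toModuleIso.symm n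

theorem isGorensteinLocalRing_iff_of_ringEquiv {R S : Type u} [CommRing R] [CommRing S]
    (e : R ≃+* S) : LocCoh.IsGorensteinLocalRing R ↔ LocCoh.IsGorensteinLocalRing S :=
  ⟨isGorensteinLocalRing_of_ringEquiv e, isGorensteinLocalRing_of_ringEquiv e.symm⟩

/-- Rewriting the ideal in a quotient. -/
theorem isGorensteinLocalRing_quotient_congr {R : Type u} [CommRing R] {I J : Ideal R} (h : I = J) :
    LocCoh.IsGorensteinLocalRing (R ⧸ I) ↔ LocCoh.IsGorensteinLocalRing (R ⧸ J) := by
  subst h; rfl

end Groth.Agent.Lib.Helper24
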