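import Groth.Agent.Lib.Helper2.InjHullCriterion
import Groth.Agent.H34.DoubleAnn

/-!
# Zero-dimensional Gorenstein local rings: self-injectivity and the socle (helper24)

For a Noetherian local ring `R` of dimension zero:
`R` is Gorenstein iff `R` is self-injective iff `Hom_R(κ, R)` has length one.
-/

set_option autoImplicit false
universe u

namespace Groth.Agent.Lib.Helper24

open IsLocalRing Groth.Agent.Lib.Helper2 CategoryTheory

section

variable {R : Type u} [CommRing R] [IsLocalRing R]

/-- For an injective module `I` over a local ring, `length Hom(M, I) = length M * length Hom(κ, I)`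
for `M` of finite length. -/
lemma length_hom_eq_mul (I : Type u) [AddCommGroup I] [Module R I] (hI : Module.Injective R I)
    (M : Type u) [AddCommGroup M] [Module R M] (hM : IsFiniteLength R M) :
    Module.length R (M →ₗ[R] I) =
      Module.length R M * Module.length R (ResidueField R →ₗ[R] I) := by
  induction hM with
  | of_subsingleton =>
    rw [Module.length_eq_zero, Module.length_eq_zero, zero_mul]
  | @of_simple_quotient M _ _ N _ hN ih =>
    have h1 : Module.length R ((M ⧸ N) →ₗ[R] I) = Module.length R (ResidueField R →ₗ[R] I) := by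
      obtain ⟨J, hJ, ⟨e⟩⟩ := isSimpleModule_iff_quot_maximal.mp
        (inferInstance : IsSimpleModule R (M ⧸ N))
      obtain rfl := IsLocalRing.eq_maximalIdeal hJ
      rw [(LinearEquiv.congrLeft I R e).length_eq]
      rfl
    rw [length_hom_eq_add hI N, ih, h1,
      Module.length_eq_add_of_exact N.subtype N.mkQ N.injective_subtype N.mkQ_surjective
        (LinearMap.exact_subtype_mkQ N), Module.length_eq_one R (M ⧸ N), add_mul, one_mul, add_comm]

lemma enat_eq_one_of_eq_mul {a r : ℕ∞} (h0 : a ≠ 0) (ht : a ≠ ⊤) (h : a = a * r) : r = 1 := by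
  lift a to ℕ using ht
  rcases ENat.ne_top_iff_exists.mp (show r ≠ ⊤ by
    rintro rfl
    rw [ENat.mul_top h0] at h
    exact ENat.natCast_ne_top a h) with ⟨n, rfl⟩
  have h0' : a ≠ 0 := by exact_mod_cast h0
  have h' : a = a * n := by exact_mod_cast h
  have : n = 1 := by
    have h2 : a * 1 = a * n := by rw [mul_one]; exact h'
    exact (Nat.eq_of_mul_eq_mul_left (Nat.pos_of_ne_zero h0') h2).symm
  rw [this]; rfl

/-- A self-injective Artinian local ring has a socle of length one. -/
theorem length_hom_residueField_self_of_injective [IsArtinianRing R] (hI : Module.Injective R R) :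
    Module.length R (ResidueField R →ₗ[R] R) = 1 := by
  have hfl : IsFiniteLength R R := isFiniteLength_of_isArtinianRing R R
  have h1 := length_hom_eq_mul R hI R hfl
  rw [(LinearMap.ringLmapEquivSelf R R R).length_eq] at h1
  exact enat_eq_one_of_eq_mul (Module.length_pos (R := R) (M := R)).ne'
    (Module.length_ne_top_iff.mpr hfl) h1

/-- An Artinian local ring whose socle has length one is self-injective. -/
theorem injective_self_of_length_hom_residueField [IsNoetherianRing R] [IsArtinianRing R]
    (h : Module.length R (ResidueField R →ₗ[R] R) = 1) : Module.Injective R R := by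
  have hnil : IsNilpotent (maximalIdeal R) :=
    (isArtinianRing_iff_isNilpotent_maximalIdeal R).mp inferInstance
  obtain ⟨N, hN⟩ := hnil
  have ha : LocCoh.IsPowerTorsion (maximalIdeal R) R := by
    intro m
    refine ⟨N, fun a ha => ?_⟩
    rw [hN] at ha
    rw [(Submodule.mem_bot R).mp ha, zero_smul]
  have hb : Nonempty ((ResidueField R →ₗ[R] R) ≃ₗ[R] ResidueField R) := by
    have hs : IsSimpleModule R (ResidueField R →ₗ[R] R) := Module.length_eq_one_iff.mp h
    obtain ⟨J, hJ, ⟨e⟩⟩ := isSimpleModule_iff_quot_maximal.mp hs
    obtain rfl := IsLocalRing.eq_maximalIdeal hJ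
    exact ⟨e⟩
  obtain ⟨f, hf⟩ := exists_isInjectiveHull_of_powerTorsion_socle_length (A := R) R ha hb
    (fun _ => ⊥) (fun _ => ⟨N, hN.le⟩) (fun _ => ⟨0, bot_le⟩) (fun _ => by
      have e1 : (R ⧸ (⊥ : Ideal R)) ≃ₗ[R] R := Submodule.quotEquivOfEqBot ⊥ rfl
      rw [(LinearEquiv.congrLeft R R e1).length_eq, (LinearMap.ringLmapEquivSelf R R R).length_eq,
        e1.length_eq])
  exact hf.isInjective

end

section

variable (R : Type u) [CommRing R] [IsLocalRing R] [IsNoetherianRing R]

theorem isArtinianRing_of_ringKrullDim_eq_zero (hdim : ringKrullDim R = 0) : IsArtinianRing R := by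
  rw [isArtinianRing_iff_krullDimLE_zero, Ring.krullDimLE_iff, hdim]
  rfl

/-- A zero-dimensional Noetherian local ring is Gorenstein iff its socle has length one. -/
theorem isGorensteinLocalRing_iff_length_hom_of_dim_zero (hdim : ringKrullDim R = 0) :
    LocCoh.IsGorensteinLocalRing R ↔ Module.length R (ResidueField R →ₗ[R] R) = 1 := by
  have hart : IsArtinianRing R := isArtinianRing_of_ringKrullDim_eq_zero R hdim
  constructor
  · intro hG
    exact length_hom_residueField_self_of_injective
      (Groth.Agent.H34.DoubleAnn.injective_of_gorenstein_dim_zero R hdim)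
  · intro h
    have hI : Module.Injective R R := injective_self_of_length_hom_residueField h
    have : Injective (ModuleCat.of R R) := Module.injective_object_of_injective_module R R
    exact { exists_hasInjectiveDimensionLT := ⟨1, inferInstance⟩ }

/-- A Gorenstein local ring of depth zero has dimension zero. -/
theorem ringKrullDim_eq_zero_of_gorenstein_of_depth_eq_zero (hG : LocCoh.IsGorensteinLocalRing R)
    (hd : LocCoh.depth R R = 0) : ringKrullDim R = 0 := by
  obtain ⟨t, ht, hsd, -⟩ := Groth.Agent.Lib.Helper60.gorenstein_data (A := R)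
    hG.exists_hasInjectiveDimensionLT
  rw [hd] at ht
  have ht0 : t = 0 := by exact_mod_cast ht.symm
  subst ht0
  rw [Module.supportDim_self_eq_ringKrullDim] at hsd
  rw [hsd]
  rfl

end

end Groth.Agent.Lib.Helper24
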