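import Groth.Agent.Lib.Helper73.CMFibre4
import Groth.Agent.Lib.Helper82.CMPoly
import Mathlib

/-!
# Tensor products of fields are Cohen–Macaulay (helper24)

* `exists_algEquiv_residueField`: a field generated (as a field) by the image of a ring `R` is the
  residue field of `R` at the kernel.
* `isCohenMacaulayRing_tensor_field_of_essFiniteType`: for field extensions `K/k`, `L/k` with `K`
  essentially of finite type over `k`, the ring `L ⊗[k] K` is a (Noetherian) Cohen–Macaulay ring.
-/

set_option autoImplicit false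
universe u

namespace Groth.Agent.Lib.Helper24

open TensorProduct

/-- A field `K` which is an `R`-algebra and in which every element is a fraction of elements
coming from `R` is `R`-isomorphic to the residue field of `R` at the kernel of `R → K`. -/
theorem exists_algEquiv_residueField {R K : Type u} [CommRing R] [Field K] [Algebra R K]
    (hgen : ∀ x : K, ∃ a b : R, algebraMap R K b ≠ 0 ∧ x * algebraMap R K b = algebraMap R K a) :
    ∃ (p : Ideal R) (_ : p.IsPrime), Nonempty (p.ResidueField ≃ₐ[R] K) := by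
  let p : Ideal R := RingHom.ker (algebraMap R K)
  have hp : p.IsPrime := RingHom.ker_isPrime _
  refine ⟨p, hp, ?_⟩
  have hunit : p.primeCompl ≤ (IsUnit.submonoid K).comap (Algebra.ofId R K) := by
    intro r hr
    rw [Submonoid.mem_comap, IsUnit.mem_submonoid_iff]
    have : algebraMap R K r ≠ 0 := fun h => hr ((RingHom.mem_ker).mpr h)
    exact this.isUnit
  let φ : p.ResidueField →ₐ[R] K := Ideal.ResidueField.liftₐ p (Algebra.ofId R K) le_rfl hunit
  have hφ : ∀ r : R, φ (algebraMap R p.ResidueField r) = algebraMap R K r := fun r =>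
    Ideal.ResidueField.liftₐ_algebraMap p (Algebra.ofId R K) le_rfl hunit r
  have hinj : Function.Injective φ := φ.toRingHom.injective
  have hsurj : Function.Surjective φ := by
    intro x
    obtain ⟨a, b, hb, hab⟩ := hgen x
    refine ⟨algebraMap R p.ResidueField a / algebraMap R p.ResidueField b, ?_⟩
    rw [map_div₀, hφ, hφ, div_eq_iff hb, hab]
  exact ⟨AlgEquiv.ofBijective φ ⟨hinj, hsurj⟩⟩

/-- For field extensions `K/k`, `L/k` with `K` essentially of finite type over `k`, the tensor
product `L ⊗[k] K` is a Cohen–Macaulay ring. -/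
theorem isCohenMacaulayRing_tensor_field_of_essFiniteType (k K L : Type u) [Field k] [Field K]
    [Field L] [Algebra k K] [Algebra k L] [Algebra.EssFiniteType k K] :
    LocCoh.IsCohenMacaulayRing (L ⊗[k] K) := by
  classical
  obtain ⟨n, f, hf⟩ := Algebra.FiniteType.iff_quotient_mvPolynomial''.mp
    (inferInstance : Algebra.FiniteType k (Algebra.EssFiniteType.subalgebra k K))
  let Pk := MvPolynomial (Fin n) k
  let ψ : Pk →ₐ[k] K := (Algebra.EssFiniteType.subalgebra k K).val.comp f
  let _ : Algebra Pk K := ψ.toRingHom.toAlgebra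
  have htower : IsScalarTower k Pk K := IsScalarTower.of_algebraMap_eq fun c => (ψ.commutes c).symm
  have hgen : ∀ x : K, ∃ a b : Pk, algebraMap Pk K b ≠ 0 ∧
      x * algebraMap Pk K b = algebraMap Pk K a := by
    intro x
    obtain ⟨⟨a₀, b₀⟩, hab⟩ := IsLocalization.surj (Algebra.EssFiniteType.submonoid k K) x
    obtain ⟨a, rfl⟩ := hf a₀
    obtain ⟨b, hb⟩ := hf b₀.1
    refine ⟨a, b, ?_, ?_⟩
    · have hu : IsUnit (algebraMap (Algebra.EssFiniteType.subalgebra k K) K b₀.1) := b₀.2
      have : algebraMap Pk K b = algebraMap (Algebra.EssFiniteType.subalgebra k K) K b₀.1 := by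
        change ((Algebra.EssFiniteType.subalgebra k K).val (f b)) = _
        rw [hb]; rfl
      rw [this]
      exact hu.ne_zero
    · have : algebraMap Pk K b = algebraMap (Algebra.EssFiniteType.subalgebra k K) K b₀.1 := by
        change ((Algebra.EssFiniteType.subalgebra k K).val (f b)) = _
        rw [hb]; rfl
      rw [this]
      exact hab
  obtain ⟨p, hp, ⟨e⟩⟩ := exists_algEquiv_residueField (R := Pk) (K := K) hgen
  -- `Pk ⊗[k] L` is a polynomial ring over `L`
  let eT : (Pk ⊗[k] L) ≃+* MvPolynomial (Fin n) L :=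
    (Algebra.TensorProduct.comm k Pk L).toRingEquiv.trans
      (MvPolynomial.algebraTensorAlgEquiv k L (σ := Fin n)).toRingEquiv
  have hregL : IsRegularRing (MvPolynomial (Fin n) L) :=
    MvPolynomial.isRegularRing_of_isRegularRing _
  have hCMpoly : LocCoh.IsCohenMacaulayRing (MvPolynomial (Fin n) L) :=
    Groth.Agent.Lib.Helper82.CMPoly.isCohenMacaulayRing_of_isRegularRing _
  have hCMT : LocCoh.IsCohenMacaulayRing (Pk ⊗[k] L) :=
    Groth.Agent.Lib.Helper82.CMPoly.isCohenMacaulayRing_of_ringEquiv eT.symm hCMpoly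
  have hNT : IsNoetherianRing (Pk ⊗[k] L) := hCMT.toIsNoetherian
  have hfib : LocCoh.IsCohenMacaulayRing (p.Fiber (Pk ⊗[k] L)) :=
    Groth.Agent.Lib.Helper73.CMFibre.isCohenMacaulayRing_fiber_of_flat Pk (Pk ⊗[k] L) hCMT p
  -- identify the fibre with `L ⊗[k] K`
  let e1 : p.Fiber (Pk ⊗[k] L) ≃+* p.ResidueField ⊗[k] L :=
    (Algebra.TensorProduct.cancelBaseChange k Pk Pk p.ResidueField L).toRingEquiv
  let e2 : p.ResidueField ⊗[k] L ≃+* K ⊗[k] L :=
    (Algebra.TensorProduct.congr (e.restrictScalars k) (AlgEquiv.refl : L ≃ₐ[k] L)).toRingEquiv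
  let e3 : K ⊗[k] L ≃+* L ⊗[k] K := (Algebra.TensorProduct.comm k K L).toRingEquiv
  exact Groth.Agent.Lib.Helper82.CMPoly.isCohenMacaulayRing_of_ringEquiv
    ((e1.trans e2).trans e3) hfib

end Groth.Agent.Lib.Helper24
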