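import Groth.Agent.Lib.Helper24.GorenFlat
import Groth.Agent.Lib.Helper24.CMFieldTensor
import Groth.Agent.Lib.Helper29.FlatAscent2
import Groth.Agent.S0342

/-!
# Gorenstein rings: flat maps, fibres, and extension of the base field (helper24)

* `isGorensteinLocalRing_localization_iff_of_flat`: for a flat map `R → S` of Noetherian rings and
  primes `q` over `p`: `S_q` is Gorenstein iff `R_p` and `S_q / p S_q` are.
* `isGorensteinRing_fiber_of_flat`: a flat map with Gorenstein target has Gorenstein fibres.
* `isGorensteinRing_tensor_field_of_essFiniteType`: `L ⊗[k] K` is Gorenstein for field extensions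
  `K/k`, `L/k` with `K/k` essentially of finite type.
* `isGorensteinLocalRing_tensor_field_iff_of_essFiniteType(_left)`: invariance of Gorenstein-ness of
  local rings under extension of the base field.
-/

set_option autoImplicit false
universe u

namespace Groth.Agent.Lib.Helper24

open TensorProduct IsLocalRing Groth.Agent.Lib.Helper29

section AtPrime

variable {R S : Type u} [CommRing R] [CommRing S] [Algebra R S] [IsNoetherianRing R]
  [IsNoetherianRing S] [Module.Flat R S]

/-- Gorenstein-ness along the flat local map `R_p → S_q`. -/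
theorem isGorensteinLocalRing_localization_iff_of_flat (p : Ideal R) [p.IsPrime] (q : Ideal S)
    [q.IsPrime] [q.LiesOver p] :
    LocCoh.IsGorensteinLocalRing (Localization.AtPrime q) ↔
      LocCoh.IsGorensteinLocalRing (Localization.AtPrime p) ∧
        LocCoh.IsGorensteinLocalRing
          (Localization.AtPrime q ⧸ p.map (algebraMap R (Localization.AtPrime q))) := by
  let _ := Localization.AtPrime.algebraOfLiesOver p q
  have hNp : IsNoetherianRing (Localization.AtPrime p) :=
    IsLocalization.isNoetherianRing p.primeCompl _ inferInstance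
  have hNq : IsNoetherianRing (Localization.AtPrime q) :=
    IsLocalization.isNoetherianRing q.primeCompl _ inferInstance
  have hflat : Module.Flat (Localization.AtPrime p) (Localization.AtPrime q) := inferInstance
  have hloc : IsLocalHom (algebraMap (Localization.AtPrime p) (Localization.AtPrime q)) := by
    rw [Localization.AtPrime.IsLiesOverAlgebra.algebraMap_eq]
    exact Localization.isLocalHom_localRingHom _ _ _ _
  have hmap : (maximalIdeal (Localization.AtPrime p)).map
      (algebraMap (Localization.AtPrime p) (Localization.AtPrime q)) =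
      p.map (algebraMap R (Localization.AtPrime q)) := by
    rw [← Localization.AtPrime.map_eq_maximalIdeal, Ideal.map_map,
      ← IsScalarTower.algebraMap_eq]
  rw [isGorensteinLocalRing_iff_of_flat_local (Localization.AtPrime p) (Localization.AtPrime q)]
  exact and_congr Iff.rfl (isGorensteinLocalRing_quotient_congr hmap)

/-- A flat map of Noetherian rings with Gorenstein target has Gorenstein fibres. -/
theorem isGorensteinRing_fiber_of_flat (hS : LocCoh.IsGorensteinRing S) (p : Ideal R) [p.IsPrime] :
    LocCoh.IsGorensteinRing (p.Fiber S) := by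
  have hNF : IsNoetherianRing (p.Fiber S) := isNoetherianRing_fiber R S p
  refine { isGorensteinLocalRing_localization := fun q' hq' => ?_ }
  let e := fiberLocalizationEquiv p q'
  have hr : (q'.comap (Algebra.TensorProduct.includeRight : S →ₐ[R] p.Fiber S)).LiesOver p := by
    infer_instance
  have h1 := (isGorensteinLocalRing_localization_iff_of_flat p
    (q'.comap (Algebra.TensorProduct.includeRight : S →ₐ[R] p.Fiber S))).mp
    (hS.isGorensteinLocalRing_localization _)
  exact isGorensteinLocalRing_of_ringEquiv e.symm h1.2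

end AtPrime

section Rings

/-- Gorenstein rings transfer along ring isomorphisms. -/
theorem isGorensteinRing_of_ringEquiv {F G : Type u} [CommRing F] [CommRing G]
    (e : F ≃+* G) (h : LocCoh.IsGorensteinRing F) : LocCoh.IsGorensteinRing G := by
  have hN : IsNoetherianRing G := isNoetherianRing_of_ringEquiv F e
  refine { isGorensteinLocalRing_localization := fun p hp => ?_ }
  have h1 := h.isGorensteinLocalRing_localization (p.comap e)
  exact isGorensteinLocalRing_of_ringEquiv (IsLocalization.ringEquivOfRingEquiv
    (Localization.AtPrime (p.comap e)) (Localization.AtPrime p) e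
    (e.map_primeCompl_comap_eq p)) h1

/-- Regular rings are Gorenstein. -/
theorem isGorensteinRing_of_isRegularRing (F : Type u) [CommRing F]
    [IsRegularRing F] : LocCoh.IsGorensteinRing F := by
  refine { isGorensteinLocalRing_localization := fun p hp => ?_ }
  exact Groth.Agent.S0342.result _

/-- For field extensions `K/k`, `L/k` with `K` essentially of finite type over `k`, the tensor
product `L ⊗[k] K` is a Gorenstein ring. -/
theorem isGorensteinRing_tensor_field_of_essFiniteType (k K L : Type u) [Field k] [Field K]
    [Field L] [Algebra k K] [Algebra k L] [Algebra.EssFiniteType k K] :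
    LocCoh.IsGorensteinRing (L ⊗[k] K) := by
  classical
  obtain ⟨n, f, hf⟩ := Algebra.FiniteType.iff_quotient_mvPolynomial''.mp
    (inferInstance : Algebra.FiniteType k (Algebra.EssFiniteType.subalgebra k K))
  let Pk := MvPolynomial (Fin n) k
  let ψ : Pk →ₐ[k] K := (Algebra.EssFiniteType.subalgebra k K).val.comp f
  let _ : Algebra Pk K := ψ.toRingHom.toAlgebra
  have htower : IsScalarTower k Pk K := IsScalarTower.of_algebraMap_eq fun c => (ψ.commutes c).symm
  have hgen : ∀ x : K, ∃ a b : Pk, algebraMap Pk K b ≠ 0 ∧
      x * algebraMap Pk K b = algebraMap Pk K a := by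
    intro x
    obtain ⟨⟨a₀, b₀⟩, hab⟩ := IsLocalization.surj (Algebra.EssFiniteType.submonoid k K) x
    obtain ⟨a, rfl⟩ := hf a₀
    obtain ⟨b, hb⟩ := hf b₀.1
    refine ⟨a, b, ?_, ?_⟩
    · have hu : IsUnit (algebraMap (Algebra.EssFiniteType.subalgebra k K) K b₀.1) := b₀.2
      have : algebraMap Pk K b = algebraMap (Algebra.EssFiniteType.subalgebra k K) K b₀.1 := by
        change ((Algebra.EssFiniteType.subalgebra k K).val (f b)) = _
        rw [hb]; rfl
      rw [this]
      exact hu.ne_zero
    · have : algebraMap Pk K b = algebraMap (Algebra.EssFiniteType.subalgebra k K) K b₀.1 := by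
        change ((Algebra.EssFiniteType.subalgebra k K).val (f b)) = _
        rw [hb]; rfl
      rw [this]
      exact hab
  obtain ⟨p, hp, ⟨e⟩⟩ := exists_algEquiv_residueField (R := Pk) (K := K) hgen
  let eT : (Pk ⊗[k] L) ≃+* MvPolynomial (Fin n) L :=
    (Algebra.TensorProduct.comm k Pk L).toRingEquiv.trans
      (MvPolynomial.algebraTensorAlgEquiv k L (σ := Fin n)).toRingEquiv
  have hregL : IsRegularRing (MvPolynomial (Fin n) L) :=
    MvPolynomial.isRegularRing_of_isRegularRing _
  have hGpoly : LocCoh.IsGorensteinRing (MvPolynomial (Fin n) L) :=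
    isGorensteinRing_of_isRegularRing _
  have hGT : LocCoh.IsGorensteinRing (Pk ⊗[k] L) := isGorensteinRing_of_ringEquiv eT.symm hGpoly
  have hNT : IsNoetherianRing (Pk ⊗[k] L) := hGT.toIsNoetherian
  have hfib : LocCoh.IsGorensteinRing (p.Fiber (Pk ⊗[k] L)) :=
    isGorensteinRing_fiber_of_flat (R := Pk) (S := Pk ⊗[k] L) hGT p
  let e1 : p.Fiber (Pk ⊗[k] L) ≃+* p.ResidueField ⊗[k] L :=
    (Algebra.TensorProduct.cancelBaseChange k Pk Pk p.ResidueField L).toRingEquiv
  let e2 : p.ResidueField ⊗[k] L ≃+* K ⊗[k] L :=
    (Algebra.TensorProduct.congr (e.restrictScalars k) (AlgEquiv.refl : L ≃ₐ[k] L)).toRingEquiv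
  let e3 : K ⊗[k] L ≃+* L ⊗[k] K := (Algebra.TensorProduct.comm k K L).toRingEquiv
  exact isGorensteinRing_of_ringEquiv ((e1.trans e2).trans e3) hfib

end Rings

section Field

variable (k K A : Type u) [Field k] [Field K] [Algebra k K] [CommRing A] [Algebra k A]
  [IsNoetherianRing A] [IsNoetherianRing (A ⊗[k] K)]

/-- Descent of Gorenstein-ness along a field extension. -/
theorem isGorensteinLocalRing_tensor_field_descent (𝔓 : Ideal (A ⊗[k] K)) [𝔓.IsPrime]
    (h : LocCoh.IsGorensteinLocalRing (Localization.AtPrime 𝔓)) :
    LocCoh.IsGorensteinLocalRing (Localization.AtPrime (𝔓.under A)) :=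
  ((isGorensteinLocalRing_localization_iff_of_flat (𝔓.under A) 𝔓).mp h).1

/-- Ascent of Gorenstein-ness along a field extension, provided `κ(𝔭) ⊗[k] K` is Gorenstein. -/
theorem isGorensteinLocalRing_tensor_field_ascent (𝔓 : Ideal (A ⊗[k] K)) [𝔓.IsPrime]
    (hfib : LocCoh.IsGorensteinRing ((𝔓.under A).ResidueField ⊗[k] K))
    (h : LocCoh.IsGorensteinLocalRing (Localization.AtPrime (𝔓.under A))) :
    LocCoh.IsGorensteinLocalRing (Localization.AtPrime 𝔓) := by
  obtain ⟨q', hq', hq'q⟩ := exists_fiber_prime (𝔓.under A) 𝔓
  let eF : (𝔓.under A).Fiber (A ⊗[k] K) ≃+* (𝔓.under A).ResidueField ⊗[k] K :=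
    (Algebra.TensorProduct.cancelBaseChange k A A (𝔓.under A).ResidueField K).toRingEquiv
  have hGF : LocCoh.IsGorensteinRing ((𝔓.under A).Fiber (A ⊗[k] K)) :=
    isGorensteinRing_of_ringEquiv eF.symm hfib
  have h1 := hGF.isGorensteinLocalRing_localization q'
  have h2 := isGorensteinLocalRing_of_ringEquiv (fiberLocalizationEquiv (𝔓.under A) q') h1
  have key : ∀ (r : Ideal (A ⊗[k] K)) (hr : r.IsPrime), r = 𝔓 →
      LocCoh.IsGorensteinLocalRing (Localization.AtPrime r ⧸
        (𝔓.under A).map (algebraMap A (Localization.AtPrime r))) →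
      LocCoh.IsGorensteinLocalRing (Localization.AtPrime 𝔓 ⧸
        (𝔓.under A).map (algebraMap A (Localization.AtPrime 𝔓))) := by
    rintro r hr rfl h
    exact h
  exact (isGorensteinLocalRing_localization_iff_of_flat (𝔓.under A) 𝔓).mpr
    ⟨h, key _ _ hq'q h2⟩

/-- If `K/k` is essentially of finite type, Gorenstein-ness of local rings is invariant under the
extension of the base field. -/
theorem isGorensteinLocalRing_tensor_field_iff_of_essFiniteType [Algebra.EssFiniteType k K]
    (𝔓 : Ideal (A ⊗[k] K)) [𝔓.IsPrime] :
    LocCoh.IsGorensteinLocalRing (Localization.AtPrime 𝔓) ↔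
      LocCoh.IsGorensteinLocalRing (Localization.AtPrime (𝔓.under A)) :=
  ⟨isGorensteinLocalRing_tensor_field_descent k K A 𝔓,
    isGorensteinLocalRing_tensor_field_ascent k K A 𝔓
      (isGorensteinRing_tensor_field_of_essFiniteType k K _)⟩

/-- If `A` is essentially of finite type over `k`, Gorenstein-ness of local rings is invariant
under an arbitrary extension of the base field. -/
theorem isGorensteinLocalRing_tensor_field_iff_of_essFiniteType_left
    [Algebra.EssFiniteType k A] (𝔓 : Ideal (A ⊗[k] K)) [𝔓.IsPrime] :
    LocCoh.IsGorensteinLocalRing (Localization.AtPrime 𝔓) ↔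
      LocCoh.IsGorensteinLocalRing (Localization.AtPrime (𝔓.under A)) := by
  refine ⟨isGorensteinLocalRing_tensor_field_descent k K A 𝔓,
    isGorensteinLocalRing_tensor_field_ascent k K A 𝔓 ?_⟩
  have : Algebra.EssFiniteType k (𝔓.under A).ResidueField :=
    Algebra.EssFiniteType.comp k A _
  have h := isGorensteinRing_tensor_field_of_essFiniteType k (𝔓.under A).ResidueField K
  exact isGorensteinRing_of_ringEquiv
    (Algebra.TensorProduct.comm k K (𝔓.under A).ResidueField).toRingEquiv h

end Field

end Groth.Agent.Lib.Helper24
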