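import Mathlib

set_option autoImplicit false
universe u
open TensorProduct IsLocalRing

namespace Groth.Agent.Lib.Helper24

local notation "𝓀[" R "]" => ResidueField R

/-- Ring-level: a finitely presented algebra `R → S` which is flat and formally unramified on the
local rings at `q` (over `p = q ∩ R`) is étale at `q`. -/
theorem isEtaleAt_of_flat_of_formallyUnramified_localization
    {R S : Type u} [CommRing R] [CommRing S] [Algebra R S]
    [Algebra.FinitePresentation R S] (p : Ideal R) (q : Ideal S)
    [p.IsPrime] [q.IsPrime] [q.LiesOver p]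
    (hflat : letI := Localization.AtPrime.algebraOfLiesOver p q
      Module.Flat (Localization.AtPrime p) (Localization.AtPrime q))
    (hunr : letI := Localization.AtPrime.algebraOfLiesOver p q
      Algebra.FormallyUnramified (Localization.AtPrime p) (Localization.AtPrime q)) :
    Algebra.IsEtaleAt R q := by
  let Rp := Localization.AtPrime p
  let Sp := Localization (Algebra.algebraMapSubmonoid S p.primeCompl)
  let Sq := Localization.AtPrime q
  let := Localization.AtPrime.algebraOfLiesOver p q
  have hflat' : Module.Flat Rp Sq := hflat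
  have hunr' : Algebra.FormallyUnramified Rp Sq := hunr
  let f : Sp →ₐ[S] Sq := IsLocalization.liftAlgHom (M := Algebra.algebraMapSubmonoid S p.primeCompl)
        (f := Algebra.ofId _ _) (by
      rintro ⟨_, x, hx, rfl⟩
      simpa using! IsLocalization.map_units (M := q.primeCompl) Sq ⟨algebraMap _ _ x,
        by simp_all [q.over_def p]⟩)
  algebraize [f.toRingHom]
  have : IsScalarTower R Sp Sq := .to₁₃₄ _ S _ _
  have : IsScalarTower Rp Sp Sq := .of_algebraMap_eq' <| by
    apply IsLocalization.ringHom_ext p.primeCompl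
    simp only [RingHom.comp_assoc, ← IsScalarTower.algebraMap_eq]
  have : IsLocalization (Algebra.algebraMapSubmonoid Sp q.primeCompl) Sq :=
    .isLocalization_of_submonoid_le _ _ (Algebra.algebraMapSubmonoid S p.primeCompl) _
    (by rintro _ ⟨x, hx, rfl⟩; simp_all [q.over_def p])
  have : Algebra.FinitePresentation Rp Sp := by
    have : Algebra.IsPushout R Rp S Sp :=
      .symm <| Algebra.isPushout_of_isLocalization p.primeCompl _ _ _
    exact .equiv (Algebra.IsPushout.equiv R Rp S Sp)
  have : Algebra.EssFiniteType Rp Sq := .of_comp R Rp Sq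
  have : Algebra.FormallyEtale 𝓀[Rp] (𝓀[Rp] ⊗[Rp] Sq) :=
    Algebra.FormallyEtale.of_formallyUnramified_of_field _ _
  have : Algebra.FormallySmooth 𝓀[Rp] (𝓀[Rp] ⊗[Rp] Sq) := inferInstance
  have : IsLocalHom (algebraMap Rp Sq) := by
    rw [RingHom.algebraMap_toAlgebra]
    infer_instance
  have hsm : Algebra.FormallySmooth Rp Sq := Algebra.FormallySmooth.of_formallySmooth_residueField_tensor
    (R := Rp) (S := Sq) (P := Sp) (Algebra.algebraMapSubmonoid _ q.primeCompl)
  have : Algebra.FormallySmooth R Sq := .comp R Rp Sq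
  have : Algebra.FormallyUnramified R Sq := .comp R Rp Sq
  exact Algebra.FormallyEtale.of_formallyUnramified_and_formallySmooth
    


open AlgebraicGeometry CategoryTheory

set_option backward.defeqAttrib.useBackward true in
set_option backward.isDefEq.respectTransparency false in
/-- If the stalk map of a locally finitely presented morphism at `x` is flat and formally
unramified, then `f` is étale on an affine neighbourhood of `x`. -/
theorem exists_etale_appLE_of_flat_of_formallyUnramified_stalk {X Y : Scheme.{u}}
    (f : X ⟶ Y) [LocallyOfFinitePresentation f]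
    (x : X) (hflat : (f.stalkMap x).hom.Flat) (hunr : (f.stalkMap x).hom.FormallyUnramified) :
    ∃ (U : Y.Opens) (_ : IsAffineOpen U) (V : X.Opens) (_ : IsAffineOpen V) (hVU : V ≤ f ⁻¹ᵁ U),
      x ∈ V ∧ (f.appLE U V hVU).hom.Etale := by
  obtain ⟨_, ⟨U, hU, rfl⟩, hxU, -⟩ :=
    Y.isBasis_affineOpens.exists_subset_of_mem_open (Set.mem_univ (f x)) isOpen_univ
  obtain ⟨_, ⟨V, hV, rfl⟩, hxV, hVU⟩ :=
    X.isBasis_affineOpens.exists_subset_of_mem_open hxU (U.2.preimage f.continuous)
  have := f.finitePresentation_appLE hU hV hVU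
  algebraize [(f.appLE U V hVU).hom]
  let p := (hU.primeIdealOf ⟨f x, hVU hxV⟩).asIdeal
  let q := (hV.primeIdealOf ⟨x, hxV⟩).asIdeal
  have : q.LiesOver p :=
    ⟨congr($(IsAffineOpen.comap_primeIdealOf_appLE U hU V hV hVU hxV).1).symm⟩
  let := Localization.AtPrime.algebraOfLiesOver p q
  have h1 : Module.Flat (Localization.AtPrime p) (Localization.AtPrime q) := by
    rw [← RingHom.flat_algebraMap_iff]
    exact (RingHom.Flat.respectsIso.arrow_mk_iso_iff
      (IsAffineOpen.arrowStalkMapIso f U hU V hV hVU hxV)).mp hflat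
  have h2 : Algebra.FormallyUnramified (Localization.AtPrime p) (Localization.AtPrime q) := by
    rw [← RingHom.formallyUnramified_algebraMap]
    exact (RingHom.FormallyUnramified.respectsIso.arrow_mk_iso_iff
      (IsAffineOpen.arrowStalkMapIso f U hU V hV hVU hxV)).mp hunr
  have : Algebra.IsEtaleAt Γ(Y, U) q :=
    isEtaleAt_of_flat_of_formallyUnramified_localization p q h1 h2
  obtain ⟨r, hrx, hr⟩ := Algebra.exists_etale_of_isEtaleAt (R := Γ(Y, U)) q
  refine ⟨_, hU, _, hV.basicOpen r, (X.basicOpen_le r).trans hVU, ?_, ?_⟩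
  · rwa [← PrimeSpectrum.mem_basicOpen, IsAffineOpen.primeIdealOf,
      ← hV.fromSpec_preimage_basicOpen, Scheme.Hom.mem_preimage, ← Scheme.Hom.comp_apply,
      IsAffineOpen.isoSpec_hom, IsAffineOpen.toSpecΓ_fromSpec] at hrx
  · have := hV.isLocalization_basicOpen r
    rw [← RingHom.etale_algebraMap] at hr
    convert!
      RingHom.Etale.propertyIsLocal.respectsIso.1 _
        (IsLocalization.algEquiv (.powers r) _ Γ(X, X.basicOpen r)).toRingEquiv hr
    ext
    dsimp
    simp only [IsScalarTower.algebraMap_apply Γ(Y, U) Γ(X, V) (Localization _),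
      IsLocalization.map_eq]
    simp only [RingHom.algebraMap_toAlgebra, RingHomCompTriple.comp_apply, ← ConcreteCategory.comp_apply,
      Scheme.Hom.appLE_map]


/-- If the stalk map of a locally finitely presented morphism at `x` is flat and formally
unramified, then `f` is étale on an open neighbourhood of `x`. -/
theorem exists_opens_etale_of_flat_of_formallyUnramified_stalk {X Y : Scheme.{u}}
    (f : X ⟶ Y) [LocallyOfFinitePresentation f]
    (x : X) (hflat : (f.stalkMap x).hom.Flat) (hunr : (f.stalkMap x).hom.FormallyUnramified) :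
    ∃ U : X.Opens, x ∈ U ∧ Etale (U.ι ≫ f) := by
  obtain ⟨U, hU, V, hV, hVU, hxV, H⟩ :=
    exists_etale_appLE_of_flat_of_formallyUnramified_stalk f x hflat hunr
  refine ⟨V, hxV, ?_⟩
  have : Etale (f.resLE U V hVU) := by
    have : IsAffine _ := hU
    have : IsAffine _ := hV
    rw [HasRingHomProperty.iff_of_isAffine (P := @Etale)]
    exact (RingHom.Etale.propertyIsLocal.respectsIso.arrow_mk_iso_iff
      (arrowResLEAppIso f U V hVU)).mpr H
  rw [← Scheme.Hom.resLE_comp_ι f hVU]
  infer_instance

/-- The stalk map at `x` of `U.ι ≫ f` has a ring-hom property (respecting isos) iff that of `f`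
does. -/
theorem stalkMap_ι_comp_iff {P : ∀ {R S : Type u} [CommRing R] [CommRing S], (R →+* S) → Prop}
    (hP : RingHom.RespectsIso @P) {X Y : Scheme.{u}} (f : X ⟶ Y) (U : X.Opens) (x : U.toScheme) :
    P ((U.ι ≫ f).stalkMap x).hom ↔ P (f.stalkMap (U.ι x)).hom := by
  symm
  refine (hP.cancel_right_isIso (f.stalkMap (U.ι x)) (U.ι.stalkMap x)).symm.trans ?_
  rw [← CommRingCat.hom_comp, ← Scheme.Hom.stalkMap_comp]
  rfl

/-- For a morphism locally of finite type, the stalk map at `x` is formally unramified iff
`𝔪_y 𝒪_x = 𝔪_x` and `κ(x)/κ(y)` is finite separable. -/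
theorem formallyUnramified_stalkMap_iff_residue {X Y : Scheme.{u}} (f : X ⟶ Y)
    [LocallyOfFiniteType f] (x : X) :
    (f.stalkMap x).hom.FormallyUnramified ↔
      ((IsLocalRing.maximalIdeal (Y.presheaf.stalk (f.base x))).map (f.stalkMap x).hom =
          IsLocalRing.maximalIdeal (X.presheaf.stalk x) ∧
        letI := (f.residueFieldMap x).hom.toAlgebra
        Module.Finite (Y.residueField (f.base x)) (X.residueField x) ∧
          Algebra.IsSeparable (Y.residueField (f.base x)) (X.residueField x)) := by
  algebraize [(f.stalkMap x).hom]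
  have : IsLocalHom (algebraMap (Y.presheaf.stalk (f x)) (X.presheaf.stalk x)) :=
    inferInstanceAs <| IsLocalHom (f.stalkMap x).hom
  have : Algebra.EssFiniteType (Y.presheaf.stalk (f x)) (X.presheaf.stalk x) := by
    rw [← RingHom.essFiniteType_algebraMap, RingHom.algebraMap_toAlgebra]
    exact LocallyOfFiniteType.stalkMap f x
  have halg : (f.residueFieldMap x).hom.toAlgebra =
      (inferInstance : Algebra (IsLocalRing.ResidueField <| Y.presheaf.stalk (f x))
        (IsLocalRing.ResidueField <| X.presheaf.stalk x)) := by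
    refine Algebra.algebra_ext _ _ fun x ↦ ?_
    obtain ⟨x, rfl⟩ := IsLocalRing.residue_surjective x
    rfl
  have h0 : (f.stalkMap x).hom.FormallyUnramified ↔
      Algebra.FormallyUnramified (Y.presheaf.stalk (f x)) (X.presheaf.stalk x) := by
    rw [← RingHom.formallyUnramified_algebraMap, RingHom.algebraMap_toAlgebra]
  rw [h0]
  constructor
  · intro h
    refine ⟨Algebra.FormallyUnramified.map_maximalIdeal, ?_⟩
    show @Module.Finite _ _ _ _ (f.residueFieldMap x).hom.toAlgebra.toModule ∧
      @Algebra.IsSeparable _ _ _ _ (f.residueFieldMap x).hom.toAlgebra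
    rw [halg]
    have hfin : Module.Finite (IsLocalRing.ResidueField (Y.presheaf.stalk (f x)))
      (IsLocalRing.ResidueField (X.presheaf.stalk x)) := inferInstance
    have hsep : Algebra.IsSeparable (IsLocalRing.ResidueField (Y.presheaf.stalk (f x)))
      (IsLocalRing.ResidueField (X.presheaf.stalk x)) := inferInstance
    exact ⟨hfin, hsep⟩
  · rintro ⟨h1, h2⟩
    have h2' : @Algebra.IsSeparable _ _ _ _ (f.residueFieldMap x).hom.toAlgebra := h2.2
    rw [halg] at h2'
    have hsep : Algebra.IsSeparable (IsLocalRing.ResidueField (Y.presheaf.stalk (f x)))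
      (IsLocalRing.ResidueField (X.presheaf.stalk x)) := h2'
    exact Algebra.FormallyUnramified.of_map_maximalIdeal h1

end Groth.Agent.Lib.Helper24
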