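import Mathlib
import Groth.Agent.Lib.Helper13.NormalRing
import Groth.Agent.S9407

/-!
# Smooth algebras over normal rings are normal (helper24)

* `mem_range_of_isIntegral_tensor_of_smooth`: `S` smooth over `R`, `R` integrally closed in `K`
  ⇒ `S` is integrally closed in `S ⊗[R] K`.
* `isNormalRing_of_etale`: étale over an integrally closed domain ⇒ normal ring.
* `isIntegrallyClosed_mvPolynomial_fin`.
* `isNormalRing_of_isLocalization`, `isNormalRing_of_forall_exists_away`: normality localizes / is local.
* `isNormalRing_of_smooth_of_isIntegrallyClosed`, `isNormalRing_of_smooth`.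
* `isIntegrallyClosed_atPrime_of_smooth`, `isReduced_atPrime_of_smooth`: local versions at a prime.
-/

set_option autoImplicit false
universe u
open TensorProduct

namespace Groth.Agent.Lib.Helper24

/-- If `R` is integrally closed in `K` (e.g. an integrally closed domain and its fraction field),
and `S` is smooth over `R`, then `S` is integrally closed in `S ⊗[R] K`. -/
theorem mem_range_of_isIntegral_tensor_of_smooth (R S K : Type*) [CommRing R] [CommRing S]
    [Algebra R S] [Algebra.Smooth R S] [CommRing K] [Algebra R K]
    (hR : integralClosure R K = ⊥) (x : S ⊗[R] K) (hx : IsIntegral S x) :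
    x ∈ (algebraMap S (S ⊗[R] K)).range := by
  obtain ⟨w, hw⟩ := (TensorProduct.toIntegralClosure_bijective_of_smooth (R := R) (S := S)
    (B := K)).2 ⟨x, hx⟩
  have hw' : Algebra.TensorProduct.map (AlgHom.id S S) (integralClosure R K).val w = x := by
    have := congrArg Subtype.val hw
    simpa [TensorProduct.toIntegralClosure] using this
  rw [← hw']
  clear hw hw'
  induction w using TensorProduct.induction_on with
  | zero => simp
  | add a b ha hb => rw [map_add]; exact add_mem ha hb
  | tmul s y =>
    obtain ⟨y, hy⟩ := y
    have hy' : y ∈ (⊥ : Subalgebra R K) := hR ▸ hy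
    obtain ⟨r, rfl⟩ := Algebra.mem_bot.mp hy'
    refine ⟨r • s, ?_⟩
    simp only [Algebra.TensorProduct.map_tmul, AlgHom.coe_id, id_eq, Subalgebra.coe_val,
      Algebra.TensorProduct.algebraMap_apply, Algebra.algebraMap_self, RingHom.id_apply]
    rw [Algebra.algebraMap_eq_smul_one, ← TensorProduct.smul_tmul]

/-- An étale algebra over an integrally closed domain is a normal ring. -/
theorem isNormalRing_of_etale (P E : Type u) [CommRing P] [IsDomain P] [IsIntegrallyClosed P]
    [CommRing E] [Algebra P E] [Algebra.Etale P E] : EGA4.IsNormalRing E := by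
  let L := FractionRing P
  let T := E ⊗[P] L
  let T' := L ⊗[P] E
  let e : T' ≃ₐ[P] T := Algebra.TensorProduct.comm P L E
  have : Module.Finite L T' := Algebra.FormallyUnramified.finite_of_free L T'
  have : IsArtinianRing T' := IsArtinianRing.of_finite L T'
  have : IsReduced T' := Algebra.FormallyUnramified.isReduced_of_field L T'
  have hart : IsArtinianRing T := (e : T' ≃+* T).surjective.isArtinianRing
  have hred : IsReduced T :=
    isReduced_of_injective (e.symm : T ≃+* T') (e.symm : T ≃+* T').injective
  have : Module.Flat P E := Algebra.Smooth.flat P E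
  let M := Algebra.algebraMapSubmonoid E (nonZeroDivisors P)
  have hloc : IsLocalization M T := inferInstance
  have hM : M ≤ nonZeroDivisors E := by
    rintro _ ⟨p, hp, rfl⟩
    have h1 : IsSMulRegular E p := Module.Flat.isSMulRegular_of_nonZeroDivisors hp
    rw [mem_nonZeroDivisors_iff_right]
    intro x hx
    apply h1
    simp only [smul_zero]
    rw [Algebra.smul_def, mul_comm]
    exact hx
  have hfrac : IsFractionRing E T := IsLocalization.of_le M _ hM (fun r hr =>
    IsArtinianRing.isUnit_of_mem_nonZeroDivisors
      (IsLocalization.map_nonZeroDivisors_le M T ⟨r, hr, rfl⟩))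
  have hinj : Function.Injective (algebraMap E T) := IsFractionRing.injective E T
  have : IsReduced E := isReduced_of_injective (algebraMap E T) hinj
  have hfin : (minimalPrimes E).Finite := by
    have h := IsLocalization.minimalPrimes_comap M T (⊥ : Ideal T)
    rw [show (⊥ : Ideal T).comap (algebraMap E T) = ⊥ from
      (RingHom.injective_iff_ker_eq_bot _).mp hinj] at h
    change ((⊥ : Ideal E).minimalPrimes).Finite
    rw [h]
    exact Set.Finite.image _ (minimalPrimes.finite_of_isNoetherianRing T)
  refine Helper13.isNormalRing_of_isIntegrallyClosedIn hfin T ?_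
  intro x hx
  exact mem_range_of_isIntegral_tensor_of_smooth P E L
    (IsIntegrallyClosed.integralClosure_eq_bot_iff L |>.mpr inferInstance) x hx

/-- Polynomial rings in finitely many variables over an integrally closed domain are integrally
closed. -/
theorem isIntegrallyClosed_mvPolynomial_fin (R : Type*) [CommRing R] [IsDomain R]
    [IsIntegrallyClosed R] (n : ℕ) : IsIntegrallyClosed (MvPolynomial (Fin n) R) := by
  induction n with
  | zero =>
    exact IsIntegrallyClosed.of_equiv (MvPolynomial.isEmptyAlgEquiv R (Fin 0)).symm.toRingEquiv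
  | succ n ih =>
    exact IsIntegrallyClosed.of_equiv (MvPolynomial.finSuccEquiv R n).symm.toRingEquiv

/-- "Integrally closed domain" transfers along ring isomorphisms. -/
theorem isDomain_and_isIntegrallyClosed_of_ringEquiv {A B : Type*} [CommRing A] [CommRing B]
    (e : A ≃+* B) (h : IsDomain A ∧ IsIntegrallyClosed A) : IsDomain B ∧ IsIntegrallyClosed B := by
  obtain ⟨h1, h2⟩ := h
  exact ⟨e.symm.toMulEquiv.isDomain A, IsIntegrallyClosed.of_equiv e⟩

theorem atPrime_congr {S : Type u} [CommRing S] {P : ∀ (A : Type u) [CommRing A], Prop}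
    (I J : Ideal S) [I.IsPrime] [J.IsPrime] (h : I = J) (hI : P (Localization.AtPrime I)) :
    P (Localization.AtPrime J) := by
  subst h
  exact hI

/-- For a localization `S'` of `S` and a prime `q'` of `S'`, the local ring of `S'` at `q'` is
isomorphic to the local ring of `S` at the contraction of `q'`. -/
noncomputable def atPrimeComapEquiv {S S' : Type*} [CommRing S] [CommRing S'] [Algebra S S']
    (M : Submonoid S) [IsLocalization M S'] (q' : Ideal S') [q'.IsPrime] :
    Localization.AtPrime (q'.comap (algebraMap S S')) ≃ₐ[S] Localization.AtPrime q' :=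
  have : IsLocalization.AtPrime (Localization.AtPrime q') (q'.comap (algebraMap S S')) :=
    IsLocalization.isLocalization_isLocalization_atPrime_isLocalization M _ q'
  IsLocalization.algEquiv (q'.comap (algebraMap S S')).primeCompl _ _

/-- A localization of a normal ring is normal. -/
theorem isNormalRing_of_isLocalization {S S' : Type u} [CommRing S] [CommRing S'] [Algebra S S']
    (M : Submonoid S) [IsLocalization M S'] (h : EGA4.IsNormalRing S) : EGA4.IsNormalRing S' := by
  intro q' hq'
  exact isDomain_and_isIntegrallyClosed_of_ringEquiv (atPrimeComapEquiv M q').toRingEquiv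
    (h (q'.comap (algebraMap S S')))

/-- If `S'` is a localization of `S` at a submonoid disjoint from a prime `q`, then there is a
prime `q'` of `S'` with `S_q ≃ S'_{q'}`. -/
theorem exists_atPrime_ringEquiv_of_disjoint {S S' : Type u} [CommRing S] [CommRing S']
    [Algebra S S'] (M : Submonoid S) [IsLocalization M S'] (q : Ideal S) [hq : q.IsPrime]
    (hdisj : Disjoint (M : Set S) (q : Set S)) :
    ∃ (q' : Ideal S') (_ : q'.IsPrime),
      Nonempty (Localization.AtPrime q ≃+* Localization.AtPrime q') := by
  let q' : Ideal S' := q.map (algebraMap S S')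
  have hq' : q'.IsPrime := IsLocalization.isPrime_of_isPrime_disjoint M _ _ hq hdisj
  have hcomap : q'.comap (algebraMap S S') = q :=
    IsLocalization.under_map_of_isPrime_disjoint M _ hq hdisj
  refine ⟨q', hq', ?_⟩
  exact atPrime_congr (P := fun A _ => Nonempty (A ≃+* Localization.AtPrime q')) _ _ hcomap
    ⟨(atPrimeComapEquiv M q').toRingEquiv⟩

/-- If `S'` is a normal ring which is a localization of `S` at a submonoid disjoint from a prime
`q`, then `S_q` is an integrally closed domain. -/
theorem isIntegrallyClosed_atPrime_of_isLocalization {S S' : Type u} [CommRing S] [CommRing S']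
    [Algebra S S'] (M : Submonoid S) [IsLocalization M S'] (q : Ideal S) [hq : q.IsPrime]
    (hdisj : Disjoint (M : Set S) (q : Set S)) (hN : EGA4.IsNormalRing S') :
    IsDomain (Localization.AtPrime q) ∧ IsIntegrallyClosed (Localization.AtPrime q) := by
  obtain ⟨q', hq', ⟨e⟩⟩ := exists_atPrime_ringEquiv_of_disjoint (S' := S') M q hdisj
  exact isDomain_and_isIntegrallyClosed_of_ringEquiv e.symm (hN q')

/-- Normality is local: if every prime has a basic open neighbourhood which is normal, the ring is
normal. -/
theorem isNormalRing_of_forall_exists_away {S : Type u} [CommRing S]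
    (h : ∀ (q : Ideal S) [q.IsPrime], ∃ f ∉ q, EGA4.IsNormalRing (Localization.Away f)) :
    EGA4.IsNormalRing S := by
  intro q hq
  obtain ⟨f, hf, hN⟩ := h q
  exact isIntegrallyClosed_atPrime_of_isLocalization (.powers f) q
    ((Ideal.disjoint_powers_iff_notMem_of_isPrime _).mpr hf) hN

/-- A smooth algebra over an integrally closed domain is a normal ring. -/
theorem isNormalRing_of_smooth_of_isIntegrallyClosed (R S : Type u) [CommRing R] [IsDomain R]
    [IsIntegrallyClosed R] [CommRing S] [Algebra R S] [Algebra.Smooth R S] :
    EGA4.IsNormalRing S := by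
  apply isNormalRing_of_forall_exists_away
  intro q hq
  obtain ⟨f, hfq, n, _, _, _⟩ :=
    Algebra.IsSmoothAt.exists_isStandardEtale_mvPolynomial (R := R) (p := q)
  have : IsIntegrallyClosed (MvPolynomial (Fin n) R) := isIntegrallyClosed_mvPolynomial_fin R n
  exact ⟨f, hfq, isNormalRing_of_etale (MvPolynomial (Fin n) R) (Localization.Away f)⟩

/-- Local version: if `S` is smooth over `R`, `q` is a prime of `S` over `p`, and `R_p` is an
integrally closed domain, then so is `S_q`. -/
theorem isIntegrallyClosed_atPrime_of_smooth (R S : Type u) [CommRing R] [CommRing S]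
    [Algebra R S] [Algebra.Smooth R S] (p : Ideal R) [p.IsPrime] (q : Ideal S) [q.IsPrime]
    [q.LiesOver p]
    (h : IsDomain (Localization.AtPrime p) ∧ IsIntegrallyClosed (Localization.AtPrime p)) :
    IsDomain (Localization.AtPrime q) ∧ IsIntegrallyClosed (Localization.AtPrime q) := by
  obtain ⟨hdom, hic⟩ := h
  let A := Localization.AtPrime p
  let S' := A ⊗[R] S
  let _ : Algebra S S' := Algebra.TensorProduct.rightAlgebra
  have hloc : IsLocalization (Algebra.algebraMapSubmonoid S p.primeCompl) S' :=
    IsLocalization.tensorRight A p.primeCompl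
  have hN : EGA4.IsNormalRing S' := isNormalRing_of_smooth_of_isIntegrallyClosed A S'
  refine isIntegrallyClosed_atPrime_of_isLocalization
    (Algebra.algebraMapSubmonoid S p.primeCompl) q ?_ hN
  rw [Set.disjoint_left]
  rintro _ ⟨r, hr, rfl⟩ hq'
  apply hr
  rw [Ideal.LiesOver.over (p := p) (P := q)]
  exact hq'

/-- A smooth algebra over a normal ring is a normal ring. -/
theorem isNormalRing_of_smooth (R S : Type u) [CommRing R] [CommRing S] [Algebra R S]
    [Algebra.Smooth R S] (hR : EGA4.IsNormalRing R) : EGA4.IsNormalRing S := by
  intro q hq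
  have : q.LiesOver (q.under R) := ⟨rfl⟩
  exact isIntegrallyClosed_atPrime_of_smooth R S (q.under R) q (hR (q.under R))

/-- Local version for reducedness: if `S` is smooth over `R`, `q` is a prime of `S` over `p`, and
`R_p` is reduced, then so is `S_q`. -/
theorem isReduced_atPrime_of_smooth (R S : Type u) [CommRing R] [CommRing S]
    [Algebra R S] [Algebra.Smooth R S] (p : Ideal R) [p.IsPrime] (q : Ideal S) [q.IsPrime]
    [q.LiesOver p] (h : IsReduced (Localization.AtPrime p)) :
    IsReduced (Localization.AtPrime q) := by
  let A := Localization.AtPrime p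
  let S' := A ⊗[R] S
  let _ : Algebra S S' := Algebra.TensorProduct.rightAlgebra
  have hloc : IsLocalization (Algebra.algebraMapSubmonoid S p.primeCompl) S' :=
    IsLocalization.tensorRight A p.primeCompl
  have hN : IsReduced S' := Groth.Agent.S9407.result A S'
  have hdisj : Disjoint (Algebra.algebraMapSubmonoid S p.primeCompl : Set S) (q : Set S) := by
    rw [Set.disjoint_left]
    rintro _ ⟨r, hr, rfl⟩ hq'
    apply hr
    rw [Ideal.LiesOver.over (p := p) (P := q)]
    exact hq'
  obtain ⟨q', hq', ⟨e⟩⟩ := exists_atPrime_ringEquiv_of_disjoint (S' := S')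
    (Algebra.algebraMapSubmonoid S p.primeCompl) q hdisj
  exact isReduced_of_injective e e.injective

end Groth.Agent.Lib.Helper24
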