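import Mathlib
import Groth.Agent.Lib.Helper13.NormalDescent
import Groth.Agent.Lib.Helper24.SmoothNormal

/-!
# Descent of normality / reducedness at primes along flat maps (helper24)
-/

set_option autoImplicit false
universe u

namespace Groth.Agent.Lib.Helper24

/-- For a flat ring map `A → B` and a prime `q` of `B` over `p`, the induced map `A_p → B_q` is
faithfully flat. -/
theorem faithfullyFlat_localRingHom (A B : Type*) [CommRing A] [CommRing B] [Algebra A B]
    [Module.Flat A B] (p : Ideal A) [p.IsPrime] (q : Ideal B) [q.IsPrime]
    (hpq : p = q.comap (algebraMap A B)) :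
    letI : Algebra (Localization.AtPrime p) (Localization.AtPrime q) :=
      (Localization.localRingHom p q (algebraMap A B) hpq).toAlgebra
    Module.FaithfullyFlat (Localization.AtPrime p) (Localization.AtPrime q) := by
  have hflat : (algebraMap A B).Flat := RingHom.flat_algebraMap_iff.mpr inferInstance
  have hloc := hflat.localRingHom q p hpq
  let _ : Algebra (Localization.AtPrime p) (Localization.AtPrime q) :=
    (Localization.localRingHom p q (algebraMap A B) hpq).toAlgebra
  have : Module.Flat (Localization.AtPrime p) (Localization.AtPrime q) := hloc
  have : IsLocalHom (algebraMap (Localization.AtPrime p) (Localization.AtPrime q)) :=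
    Localization.isLocalHom_localRingHom p q (algebraMap A B) hpq
  exact Module.FaithfullyFlat.of_flat_of_isLocalHom

/-- Flat descent of "integrally closed domain" from `B_q` to `A_p`. -/
theorem isIntegrallyClosed_atPrime_of_flat (A B : Type*) [CommRing A] [CommRing B] [Algebra A B]
    [Module.Flat A B] (p : Ideal A) [p.IsPrime] (q : Ideal B) [q.IsPrime] [q.LiesOver p]
    (h : IsDomain (Localization.AtPrime q) ∧ IsIntegrallyClosed (Localization.AtPrime q)) :
    IsDomain (Localization.AtPrime p) ∧ IsIntegrallyClosed (Localization.AtPrime p) := by
  obtain ⟨h1, h2⟩ := h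
  have hpq : p = q.comap (algebraMap A B) := Ideal.LiesOver.over
  let _ : Algebra (Localization.AtPrime p) (Localization.AtPrime q) :=
    (Localization.localRingHom p q (algebraMap A B) hpq).toAlgebra
  have : Module.FaithfullyFlat (Localization.AtPrime p) (Localization.AtPrime q) :=
    faithfullyFlat_localRingHom A B p q hpq
  exact Groth.Agent.Lib.Helper13.isIntegrallyClosed_of_faithfullyFlat
    (Localization.AtPrime p) (Localization.AtPrime q)

/-- Flat descent of reducedness from `B_q` to `A_p`. -/
theorem isReduced_atPrime_of_flat (A B : Type*) [CommRing A] [CommRing B] [Algebra A B]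
    [Module.Flat A B] (p : Ideal A) [p.IsPrime] (q : Ideal B) [q.IsPrime] [q.LiesOver p]
    (h : IsReduced (Localization.AtPrime q)) : IsReduced (Localization.AtPrime p) := by
  have hpq : p = q.comap (algebraMap A B) := Ideal.LiesOver.over
  let _ : Algebra (Localization.AtPrime p) (Localization.AtPrime q) :=
    (Localization.localRingHom p q (algebraMap A B) hpq).toAlgebra
  have : Module.FaithfullyFlat (Localization.AtPrime p) (Localization.AtPrime q) :=
    faithfullyFlat_localRingHom A B p q hpq
  exact isReduced_of_injective (algebraMap (Localization.AtPrime p) (Localization.AtPrime q))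
    (FaithfulSMul.algebraMap_injective _ _)

/-- Normality descends along faithfully flat ring maps. -/
theorem isNormalRing_of_faithfullyFlat (A B : Type u) [CommRing A] [CommRing B] [Algebra A B]
    [Module.FaithfullyFlat A B] (hB : EGA4.IsNormalRing B) : EGA4.IsNormalRing A := by
  intro p hp
  obtain ⟨q, hq, hqp⟩ := Ideal.exists_isPrime_liesOver_of_faithfullyFlat (B := B) p
  exact isIntegrallyClosed_atPrime_of_flat A B p q (hB q)

end Groth.Agent.Lib.Helper24
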