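import Mathlib
import Groth.Agent.Lib.Helper24.SmoothNormal
import Groth.Agent.Lib.Helper24.NormalFlatDescent
import Groth.Agent.Lib.Helper24.EtaleAtStalk

/-!
# Reducedness / normality of stalks at smooth points (helper24)
-/

set_option autoImplicit false
universe u
open CategoryTheory AlgebraicGeometry

namespace Groth.Agent.Lib.Helper24

/-- The stalk at a point of an affine open is the localization at the corresponding prime. -/
theorem stalk_ringEquiv_atPrime {X : Scheme.{u}} {U : X.Opens} (hU : IsAffineOpen U) (x : X)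
    (hx : x ∈ U) :
    Nonempty (X.presheaf.stalk x ≃+* Localization.AtPrime (hU.primeIdealOf ⟨x, hx⟩).asIdeal) := by
  let := TopCat.Presheaf.algebra_section_stalk X.presheaf ⟨x, hx⟩
  have := hU.isLocalization_stalk ⟨x, hx⟩
  exact ⟨(IsLocalization.algEquiv (hU.primeIdealOf ⟨x, hx⟩).asIdeal.primeCompl _ _).toRingEquiv⟩

/-- At a smooth point, normality of the local ring of the base ascends. -/
theorem isIntegrallyClosed_stalk_of_formallySmooth_stalkMap {X Y : Scheme.{u}} (f : X ⟶ Y)
    [LocallyOfFinitePresentation f] (x : X) (H : (f.stalkMap x).hom.FormallySmooth)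
    (h : IsDomain (Y.presheaf.stalk (f.base x)) ∧ IsIntegrallyClosed (Y.presheaf.stalk (f.base x))) :
    IsDomain (X.presheaf.stalk x) ∧ IsIntegrallyClosed (X.presheaf.stalk x) := by
  obtain ⟨U, hU, V, hV, hVU, hxV, Hs⟩ := exists_smooth_of_formallySmooth_stalk f x H
  algebraize [(f.appLE U V hVU).hom]
  let p := (hU.primeIdealOf ⟨f.base x, hVU hxV⟩).asIdeal
  let q := (hV.primeIdealOf ⟨x, hxV⟩).asIdeal
  have : q.LiesOver p :=
    ⟨congr($(IsAffineOpen.comap_primeIdealOf_appLE U hU V hV hVU hxV).1).symm⟩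
  obtain ⟨e1⟩ := stalk_ringEquiv_atPrime hU (f.base x) (hVU hxV)
  obtain ⟨e2⟩ := stalk_ringEquiv_atPrime hV x hxV
  have h1 := isDomain_and_isIntegrallyClosed_of_ringEquiv e1 h
  have h2 := isIntegrallyClosed_atPrime_of_smooth Γ(Y, U) Γ(X, V) p q h1
  exact isDomain_and_isIntegrallyClosed_of_ringEquiv e2.symm h2

/-- At a smooth point, reducedness of the local ring of the base ascends. -/
theorem isReduced_stalk_of_formallySmooth_stalkMap {X Y : Scheme.{u}} (f : X ⟶ Y)
    [LocallyOfFinitePresentation f] (x : X) (H : (f.stalkMap x).hom.FormallySmooth)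
    (h : _root_.IsReduced (Y.presheaf.stalk (f.base x))) :
    _root_.IsReduced (X.presheaf.stalk x) := by
  obtain ⟨U, hU, V, hV, hVU, hxV, Hs⟩ := exists_smooth_of_formallySmooth_stalk f x H
  algebraize [(f.appLE U V hVU).hom]
  let p := (hU.primeIdealOf ⟨f.base x, hVU hxV⟩).asIdeal
  let q := (hV.primeIdealOf ⟨x, hxV⟩).asIdeal
  have : q.LiesOver p :=
    ⟨congr($(IsAffineOpen.comap_primeIdealOf_appLE U hU V hV hVU hxV).1).symm⟩
  obtain ⟨e1⟩ := stalk_ringEquiv_atPrime hU (f.base x) (hVU hxV)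
  obtain ⟨e2⟩ := stalk_ringEquiv_atPrime hV x hxV
  have h1 : _root_.IsReduced (Localization.AtPrime p) :=
    isReduced_of_injective e1.symm e1.symm.injective
  have h2 := isReduced_atPrime_of_smooth Γ(Y, U) Γ(X, V) p q h1
  exact isReduced_of_injective e2 e2.injective

/-- If the stalk map at `x` is flat, it is faithfully flat. -/
theorem faithfullyFlat_stalkMap {X Y : Scheme.{u}} (f : X ⟶ Y) (x : X)
    (H : (f.stalkMap x).hom.Flat) :
    letI := (f.stalkMap x).hom.toAlgebra
    Module.FaithfullyFlat (Y.presheaf.stalk (f.base x)) (X.presheaf.stalk x) := by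
  let _ := (f.stalkMap x).hom.toAlgebra
  have : Module.Flat (Y.presheaf.stalk (f.base x)) (X.presheaf.stalk x) := H
  have : IsLocalHom (algebraMap (Y.presheaf.stalk (f.base x)) (X.presheaf.stalk x)) :=
    f.toLRSHom.prop x
  exact Module.FaithfullyFlat.of_flat_of_isLocalHom

/-- Flat descent of normality of stalks. -/
theorem isIntegrallyClosed_stalk_of_flat_stalkMap {X Y : Scheme.{u}} (f : X ⟶ Y) (x : X)
    (H : (f.stalkMap x).hom.Flat)
    (h : IsDomain (X.presheaf.stalk x) ∧ IsIntegrallyClosed (X.presheaf.stalk x)) :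
    IsDomain (Y.presheaf.stalk (f.base x)) ∧ IsIntegrallyClosed (Y.presheaf.stalk (f.base x)) := by
  obtain ⟨h1, h2⟩ := h
  let _ := (f.stalkMap x).hom.toAlgebra
  have := faithfullyFlat_stalkMap f x H
  exact Groth.Agent.Lib.Helper13.isIntegrallyClosed_of_faithfullyFlat
    (Y.presheaf.stalk (f.base x)) (X.presheaf.stalk x)

/-- Flat descent of reducedness of stalks. -/
theorem isReduced_stalk_of_flat_stalkMap {X Y : Scheme.{u}} (f : X ⟶ Y) (x : X)
    (H : (f.stalkMap x).hom.Flat) (h : _root_.IsReduced (X.presheaf.stalk x)) :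
    _root_.IsReduced (Y.presheaf.stalk (f.base x)) := by
  let _ := (f.stalkMap x).hom.toAlgebra
  have := faithfullyFlat_stalkMap f x H
  exact isReduced_of_injective (algebraMap (Y.presheaf.stalk (f.base x)) (X.presheaf.stalk x))
    (FaithfulSMul.algebraMap_injective _ _)

/-- A formally smooth stalk map of a morphism locally of finite presentation is flat. -/
theorem flat_stalkMap_of_formallySmooth {X Y : Scheme.{u}} (f : X ⟶ Y)
    [LocallyOfFinitePresentation f] (x : X) (H : (f.stalkMap x).hom.FormallySmooth) :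
    (f.stalkMap x).hom.Flat := by
  have hx : x ∈ f.smoothLocus := H
  have hsm : Smooth (f.smoothLocus.ι ≫ f) := by
    rw [← Scheme.Hom.smoothLocus_eq_top_iff, ← Scheme.Hom.preimage_smoothLocus_eq]
    ext y
    simp
  obtain ⟨x', rfl⟩ : ∃ x' : f.smoothLocus.toScheme, f.smoothLocus.ι x' = x := ⟨⟨x, hx⟩, rfl⟩
  have h1 : ((f.smoothLocus.ι ≫ f).stalkMap x').hom.Flat := Flat.stalkMap _ x'
  exact (stalkMap_ι_comp_iff RingHom.Flat.respectsIso f f.smoothLocus x').mp h1

end Groth.Agent.Lib.Helper24
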