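import Mathlib
import Groth.Agent.S2116
import Groth.Agent.S1468
import Groth.Agent.Lib.Helper14.SmoothFibre

/-!
# Geometrically regular algebras of finite type over a field are smooth (helper24)

* `isSmoothAt_maximal_of_isGeometricallyRegular`
* `smooth_of_isGeometricallyRegular`
-/

set_option autoImplicit false
universe u
open TensorProduct

namespace Groth.Agent.Lib.Helper24

attribute [local instance] Algebra.TensorProduct.rightAlgebra in
/-- A finite type algebra over a field `K` which is geometrically regular is smooth over `K` at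
every maximal ideal. -/
theorem isSmoothAt_maximal_of_isGeometricallyRegular (K C : Type u) [Field K] [CommRing C]
    [Algebra K C] [Algebra.FiniteType K C] (h : CAlg.IsGeometricallyRegular K C) (m : Ideal C)
    [hm : m.IsMaximal] : Algebra.IsSmoothAt K m := by
  have hfp : Algebra.FinitePresentation K C :=
    Algebra.FinitePresentation.of_finiteType.mp inferInstance
  let _ : Field (C ⧸ m) := Ideal.Quotient.field m
  have hfin : Module.Finite K (C ⧸ m) := finite_of_finite_type_of_isJacobsonRing K (C ⧸ m)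
  have hreg : IsRegularRing ((C ⧸ m) ⊗[K] C) := h (C ⧸ m) hfin
  let φ : (C ⧸ m) ⊗[K] C →ₐ[C ⧸ m] (C ⧸ m) :=
    Algebra.TensorProduct.lift (Algebra.ofId (C ⧸ m) (C ⧸ m)) (Ideal.Quotient.mkₐ K m)
      (fun _ _ => Commute.all _ _)
  have hφsurj : Function.Surjective φ := fun a => ⟨a ⊗ₜ 1, by simp [φ]⟩
  have hm'max : (RingHom.ker φ).IsMaximal := RingHom.ker_isMaximal_of_surjective _ hφsurj
  have hunder : (RingHom.ker φ).under C = m := by
    ext c
    rw [Ideal.under_def, Ideal.mem_comap, RingHom.mem_ker]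
    change φ (1 ⊗ₜ c) = 0 ↔ _
    simp [φ, Ideal.Quotient.eq_zero_iff_mem]
  have hregloc : IsRegularLocalRing (Localization.AtPrime (RingHom.ker φ)) :=
    IsRegularRing.isRegularLocalRing_localization (RingHom.ker φ)
  -- the residue field of `m'` is `K'`
  have hb1 : Function.Bijective (algebraMap (C ⧸ m) (((C ⧸ m) ⊗[K] C) ⧸ RingHom.ker φ)) := by
    constructor
    · exact (algebraMap (C ⧸ m) (((C ⧸ m) ⊗[K] C) ⧸ RingHom.ker φ)).injective
    · intro x
      obtain ⟨y, rfl⟩ := Ideal.Quotient.mk_surjective x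
      refine ⟨φ y, ?_⟩
      rw [IsScalarTower.algebraMap_apply (C ⧸ m) ((C ⧸ m) ⊗[K] C) _, Ideal.Quotient.algebraMap_eq,
        Ideal.Quotient.eq, RingHom.mem_ker, map_sub, AlgHom.commutes]
      simp
  have hb2 : Function.Bijective (algebraMap (((C ⧸ m) ⊗[K] C) ⧸ RingHom.ker φ)
      (RingHom.ker φ).ResidueField) :=
    Ideal.bijective_algebraMap_quotient_residueField (RingHom.ker φ)
  have hb : Function.Bijective (algebraMap (C ⧸ m) (RingHom.ker φ).ResidueField) := by
    rw [IsScalarTower.algebraMap_eq (C ⧸ m) (((C ⧸ m) ⊗[K] C) ⧸ RingHom.ker φ)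
      (RingHom.ker φ).ResidueField]
    exact hb2.comp hb1
  have hfs : Algebra.FormallySmooth (C ⧸ m) (RingHom.ker φ).ResidueField :=
    Groth.Agent.S2116.formallySmooth_of_bijective _ _ hb
  have hsm : Algebra.IsSmoothAt (C ⧸ m) (RingHom.ker φ) :=
    Groth.Agent.S2116.formallySmooth_of_isRegularLocalRing (C ⧸ m) ((C ⧸ m) ⊗[K] C)
      (RingHom.ker φ)
  have hflat : Module.Flat K (Localization.AtPrime ((RingHom.ker φ).under C)) := inferInstance
  have key := Groth.Agent.Lib.Helper14.isSmoothAt_under_of_isPushout_field (R := K) (A := C)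
    (K := C ⧸ m) (F := (C ⧸ m) ⊗[K] C) (Field.toIsField _) (RingHom.ker φ) hflat hsm
  have aux : ∀ (q : Ideal C) [q.IsPrime], q = m → Algebra.IsSmoothAt K q →
      Algebra.IsSmoothAt K m := by
    rintro q _ rfl hq
    exact hq
  exact aux _ hunder key

/-- A finite type algebra over a field which is geometrically regular is smooth. -/
theorem smooth_of_isGeometricallyRegular (K C : Type u) [Field K] [CommRing C]
    [Algebra K C] [Algebra.FiniteType K C] (h : CAlg.IsGeometricallyRegular K C) :
    Algebra.Smooth K C := by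
  have hfp : Algebra.FinitePresentation K C :=
    Algebra.FinitePresentation.of_finiteType.mp inferInstance
  refine ⟨Algebra.smoothLocus_eq_univ_iff.mp (Set.eq_univ_iff_forall.mpr fun q ↦ ?_), hfp⟩
  obtain ⟨m, hm, hqm⟩ := Ideal.exists_le_maximal q.asIdeal q.2.ne_top
  have hmem : (⟨m, hm.isPrime⟩ : PrimeSpectrum C) ∈ Algebra.smoothLocus K C :=
    isSmoothAt_maximal_of_isGeometricallyRegular K C h m
  have hspec : q ⤳ ⟨m, hm.isPrime⟩ := (PrimeSpectrum.le_iff_specializes _ _).mp hqm
  exact hspec.mem_open Algebra.isOpen_smoothLocus hmem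

end Groth.Agent.Lib.Helper24
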