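import Groth.Agent.Lib.Helper24.CMFieldBaseChange
import Groth.Agent.Lib.Helper55.PullbackChart
import Mathlib

/-!
# Cohen–Macaulay local rings of fibres and base change (helper24)

* `nonempty_stalk_ringEquiv_localization`: the stalk at the image of `𝔭` under an open immersion
  `Spec R ⟶ W` is `R_𝔭`.
* `isCohenMacaulayLocalRing_stalk_pullback_field_iff` / `..._of_isPullback_field`: for a locally
  Noetherian scheme `Z` over a field `k` and a field extension `K/k` (with `K/k` essentially of
  finite type, or `Z` locally of finite type over `k`), a local ring of `Z_K` is CM iff the local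
  ring of `Z` at the image point is.
* `isCohenMacaulayLocalRing_fibre_stalk_iff_of_isPullback`: the same for the fibres of a morphism
  and of its base change.
-/

set_option autoImplicit false
universe u
open AlgebraicGeometry CategoryTheory CategoryTheory.Limits TensorProduct

namespace Groth.Agent.Lib.Helper24

open Groth.Agent.Lib.Helper55 Groth.Agent.Lib.Helper29

set_option backward.isDefEq.respectTransparency.types false in
/-- The stalk at the image of `𝔭` under an open immersion `Spec R ⟶ W` is `R_𝔭`. -/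
theorem nonempty_stalk_ringEquiv_localization {R : Type u} [CommRing R] {W : Scheme.{u}}
    (j : Spec (CommRingCat.of R) ⟶ W) [IsOpenImmersion j] (𝔭 : PrimeSpectrum R) :
    Nonempty (↑(W.presheaf.stalk (j 𝔭)) ≃+* Localization.AtPrime 𝔭.asIdeal) := by
  let e1 : ↑(W.presheaf.stalk (j 𝔭)) ≃+* ↑((Spec (CommRingCat.of R)).presheaf.stalk 𝔭) :=
    (asIso (j.stalkMap 𝔭)).commRingCatIsoToRingEquiv
  have h : IsLocalization.AtPrime ((Spec.structureSheaf R).presheaf.stalk 𝔭) 𝔭.asIdeal :=
    StructureSheaf.IsLocalization.to_stalk R 𝔭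
  let e2 := IsLocalization.algEquiv 𝔭.asIdeal.primeCompl
    ((Spec.structureSheaf R).presheaf.stalk 𝔭) (Localization.AtPrime 𝔭.asIdeal)
  exact ⟨e1.trans e2.toRingEquiv⟩

/-- CM-ness of local rings is invariant under ring isomorphisms. -/
theorem isCohenMacaulayLocalRing_iff_of_ringEquiv {F G : Type u} [CommRing F] [CommRing G]
    (e : F ≃+* G) : LocCoh.IsCohenMacaulayLocalRing F ↔ LocCoh.IsCohenMacaulayLocalRing G :=
  ⟨isCohenMacaulayLocalRing_of_ringEquiv e, isCohenMacaulayLocalRing_of_ringEquiv e.symm⟩

section scheme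

variable {k : Type u} [Field k] (K : Type u) [Field K] [Algebra k K] {Z : Scheme.{u}}
  (q : Z ⟶ Spec (CommRingCat.of k)) [IsLocallyNoetherian Z]

/-- Invariance of CM-ness of local rings under extension of the base field. -/
theorem isCohenMacaulayLocalRing_stalk_pullback_field_iff
    (hKq : Algebra.EssFiniteType k K ∨ LocallyOfFiniteType q)
    (z : ↥(pullback q (Spec.map (CommRingCat.ofHom (algebraMap k K))))) :
    LocCoh.IsCohenMacaulayLocalRing
        ((pullback q (Spec.map (CommRingCat.ofHom (algebraMap k K)))).presheaf.stalk z) ↔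
      LocCoh.IsCohenMacaulayLocalRing
        (Z.presheaf.stalk (pullback.fst q (Spec.map (CommRingCat.ofHom (algebraMap k K))) z)) := by
  let g := Spec.map (CommRingCat.ofHom (algebraMap k K))
  change LocCoh.IsCohenMacaulayLocalRing ((pullback q g).presheaf.stalk z) ↔
    LocCoh.IsCohenMacaulayLocalRing (Z.presheaf.stalk (pullback.fst q g z))
  obtain ⟨U, hU, hxU, -⟩ :=
    exists_isAffineOpen_mem_and_subset (x := pullback.fst q g z) (U := ⊤) trivial
  let φA : CommRingCat.of k ⟶ Γ(Z, U) := Spec.preimage (hU.fromSpec ≫ q)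
  let _ : Algebra k Γ(Z, U) := φA.hom.toAlgebra
  have ha : hU.fromSpec ≫ q = Spec.map (CommRingCat.ofHom (algebraMap k Γ(Z, U))) :=
    (Spec.map_preimage _).symm
  have hb : 𝟙 (Spec (CommRingCat.of K)) ≫ g = Spec.map (CommRingCat.ofHom (algebraMap k K)) :=
    Category.id_comp _
  have hNA : IsNoetherianRing Γ(Z, U) := IsLocallyNoetherian.component_noetherian ⟨U, hU⟩
  have hftA : LocallyOfFiniteType q → Algebra.FiniteType k Γ(Z, U) := by
    intro h
    have h1 : LocallyOfFiniteType (hU.fromSpec ≫ q) := inferInstance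
    rw [ha, HasRingHomProperty.Spec_iff (P := @LocallyOfFiniteType)] at h1
    exact h1
  have hNC : IsNoetherianRing (Γ(Z, U) ⊗[k] K) := by
    rcases hKq with h | h
    · exact isNoetherianRing_tensor_of_essFiniteType k K _
    · have := hftA h
      exact isNoetherianRing_tensor_of_essFiniteType_left k K _
  set c := pullbackChart q g hU.fromSpec (𝟙 (Spec (CommRingCat.of K))) ha hb with hc
  have hzc : z ∈ Set.range c := by
    rw [hc, range_pullbackChart, hU.range_fromSpec]
    refine ⟨hxU, ?_⟩
    simp
  obtain ⟨𝔓, rfl⟩ := hzc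
  have h𝔓 : (𝔓 : PrimeSpectrum (Γ(Z, U) ⊗[k] K)).asIdeal.IsPrime := 𝔓.2
  have hfst : pullback.fst q g (c 𝔓) =
      hU.fromSpec (Spec.map (CommRingCat.ofHom (Algebra.TensorProduct.includeLeftRingHom :
        Γ(Z, U) →+* Γ(Z, U) ⊗[k] K)) 𝔓) := by
    have := congr(($(pullbackChart_fst q g hU.fromSpec (𝟙 (Spec (CommRingCat.of K))) ha hb)) 𝔓)
    exact this
  obtain ⟨e1⟩ := nonempty_stalk_ringEquiv_localization c 𝔓
  obtain ⟨e2⟩ := nonempty_stalk_ringEquiv_localization hU.fromSpec
    (Spec.map (CommRingCat.ofHom (Algebra.TensorProduct.includeLeftRingHom :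
        Γ(Z, U) →+* Γ(Z, U) ⊗[k] K)) 𝔓)
  have hiff : LocCoh.IsCohenMacaulayLocalRing (Localization.AtPrime 𝔓.asIdeal) ↔
      LocCoh.IsCohenMacaulayLocalRing (Localization.AtPrime (𝔓.asIdeal.under Γ(Z, U))) := by
    rcases hKq with h | h
    · exact isCohenMacaulayLocalRing_tensor_field_iff_of_essFiniteType k K _ 𝔓.asIdeal
    · have := hftA h
      exact isCohenMacaulayLocalRing_tensor_field_iff_of_essFiniteType_left k K _ 𝔓.asIdeal
  rw [hfst, isCohenMacaulayLocalRing_iff_of_ringEquiv e1,
    isCohenMacaulayLocalRing_iff_of_ringEquiv e2]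
  exact hiff

/-- Invariance of CM-ness of local rings under extension of the base field, for an arbitrary
cartesian square. -/
theorem isCohenMacaulayLocalRing_stalk_iff_of_isPullback_field {P : Scheme.{u}} (p₁ : P ⟶ Z)
    (p₂ : P ⟶ Spec (CommRingCat.of K))
    (h : IsPullback p₁ p₂ q (Spec.map (CommRingCat.ofHom (algebraMap k K))))
    (hKq : Algebra.EssFiniteType k K ∨ LocallyOfFiniteType q) (z : P) :
    LocCoh.IsCohenMacaulayLocalRing (P.presheaf.stalk z) ↔
      LocCoh.IsCohenMacaulayLocalRing (Z.presheaf.stalk (p₁ z)) := by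
  have h3 : pullback.fst q (Spec.map (CommRingCat.ofHom (algebraMap k K))) (h.isoPullback.hom z) =
      p₁ z := by
    have := congr(($(h.isoPullback_hom_fst)) z)
    exact this
  let e : ↑((pullback q (Spec.map (CommRingCat.ofHom (algebraMap k K)))).presheaf.stalk
      (h.isoPullback.hom z)) ≃+* ↑(P.presheaf.stalk z) :=
    (asIso (h.isoPullback.hom.stalkMap z)).commRingCatIsoToRingEquiv
  rw [← h3, ← isCohenMacaulayLocalRing_iff_of_ringEquiv e]
  exact isCohenMacaulayLocalRing_stalk_pullback_field_iff K q hKq _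

end scheme

section fibre

variable {X Y X' Y' : Scheme.{u}} {f : X ⟶ Y} {f' : X' ⟶ Y'} {g' : X' ⟶ X} {g : Y' ⟶ Y}

/-- Transport of a property of the local ring of a fibre along an equality of base points. -/
theorem fibre_stalk_prop_congr (f : X ⟶ Y) (P : CommRingCat.{u} → Prop) (s : Y) (x : X)
    (hx : f x = s) (z : ↥(f.fiber s)) (hz : f.fiberι s z = x) :
    P ((f.fiber s).presheaf.stalk z) ↔ P ((f.fiber (f x)).presheaf.stalk (f.asFiber x)) := by
  subst hx
  have : z = f.asFiber x := by
    apply (f.fiberι (f x)).isEmbedding.injective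
    rw [hz, f.fiberι_asFiber]
  rw [this]

set_option backward.isDefEq.respectTransparency.types false in
/-- **CM-ness of the local rings of the fibres is invariant under base change** (the base change
map being locally of finite type, or the morphism itself being locally of finite type). -/
theorem isCohenMacaulayLocalRing_fibre_stalk_iff_of_isPullback (hc : IsPullback g' f' f g)
    (x' : X') (hN : IsLocallyNoetherian (f.fiber (g (f' x'))))
    (hgf : LocallyOfFiniteType g ∨ LocallyOfFiniteType f) :
    LocCoh.IsCohenMacaulayLocalRing ((f'.fiber (f' x')).presheaf.stalk (f'.asFiber x')) ↔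
      LocCoh.IsCohenMacaulayLocalRing
        ((f.fiber (f (g' x'))).presheaf.stalk (f.asFiber (g' x'))) := by
  have hpb := isPullback_fiberToSpecResidueField_of_isPullback hc (f' x')
  let _ : Algebra ↑(Y.residueField (g (f' x'))) ↑(Y'.residueField (f' x')) :=
    (g.residueFieldMap (f' x')).hom.toAlgebra
  have hKq : Algebra.EssFiniteType ↑(Y.residueField (g (f' x'))) ↑(Y'.residueField (f' x')) ∨
      LocallyOfFiniteType (f.fiberToSpecResidueField (g (f' x'))) := by
    rcases hgf with h | h
    · left
      exact RingHom.EssFiniteType.residueFieldMap (LocallyOfFiniteType.stalkMap g (f' x'))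
    · right
      exact MorphismProperty.pullback_snd (P := @LocallyOfFiniteType) _ _ h
  have h1 := isCohenMacaulayLocalRing_stalk_iff_of_isPullback_field
    (k := ↑(Y.residueField (g (f' x')))) (↑(Y'.residueField (f' x')))
    (f.fiberToSpecResidueField (g (f' x'))) _ _ hpb hKq (f'.asFiber x')
  refine Iff.trans h1 ?_
  have hx : f (g' x') = g (f' x') := by
    have := congr(($(hc.w)) x')
    exact this
  refine fibre_stalk_prop_congr f (fun R => LocCoh.IsCohenMacaulayLocalRing R)
    (g (f' x')) (g' x') hx _ ?_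
  have h2 : pullback.map f' (Y'.fromSpecResidueField (f' x')) f
      (Y.fromSpecResidueField (g (f' x'))) g' (Spec.map (g.residueFieldMap (f' x'))) g
      hc.w.symm (by simp) ≫ f.fiberι (g (f' x')) = f'.fiberι (f' x') ≫ g' :=
    pullback.lift_fst _ _ _
  have := congr(($h2) (f'.asFiber x'))
  rw [Scheme.Hom.comp_apply, Scheme.Hom.comp_apply, f'.fiberι_asFiber] at this
  exact this

end fibre

end Groth.Agent.Lib.Helper24
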