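import Mathlib
import Groth.Agent.Lib.Helper24.EtaleAtStalk
import Groth.Agent.Lib.Helper24.SupportBaseChange

set_option autoImplicit false
universe u
open AlgebraicGeometry CategoryTheory TensorProduct

namespace Groth.Agent.Lib.Helper24

variable {X Y : Scheme.{u}}

/-- The stalk map of `f` at `x` is formally unramified iff the corresponding prime lies in the
unramified locus of `Γ(Y, U) → Γ(X, V)`, for affine opens `x ∈ V ⊆ f⁻¹ U`. -/
lemma formallyUnramified_stalkMap_iff {f : X ⟶ Y} {x : X} (U : Y.Opens)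
      (hU : IsAffineOpen U) (V : X.Opens) (hV : IsAffineOpen V) (hVU : V ≤ f ⁻¹ᵁ U)
      (hx : x ∈ V) :
    letI := (f.appLE U V hVU).hom.toAlgebra
    (f.stalkMap x).hom.FormallyUnramified ↔
      hV.primeIdealOf ⟨x, hx⟩ ∈ Algebra.unramifiedLocus Γ(Y, U) Γ(X, V) := by
  let := (f.appLE U V hVU).hom.toAlgebra
  let p := (hU.primeIdealOf ⟨f x, hVU hx⟩).asIdeal
  let q := (hV.primeIdealOf ⟨x, hx⟩).asIdeal
  have : q.LiesOver p :=
    ⟨congr($(IsAffineOpen.comap_primeIdealOf_appLE U hU V hV hVU hx).1).symm⟩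
  let := Localization.AtPrime.algebraOfLiesOver p q
  trans Algebra.FormallyUnramified (Localization.AtPrime p) (Localization.AtPrime q)
  · rw [← RingHom.formallyUnramified_algebraMap]
    exact RingHom.FormallyUnramified.respectsIso.arrow_mk_iso_iff
      (IsAffineOpen.arrowStalkMapIso f U hU V hV hVU hx)
  · refine ⟨fun _ ↦ ?_, fun h ↦ ?_⟩
    · have : Algebra.FormallyUnramified Γ(Y, U) (Localization.AtPrime p) :=
        .of_isLocalization p.primeCompl
      exact Algebra.FormallyUnramified.comp Γ(Y, U) (Localization.AtPrime p) _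
    · have : Algebra.FormallyUnramified Γ(Y, U) (Localization.AtPrime q) := h
      exact .of_restrictScalars Γ(Y, U) _ _


/-- The unramified locus of a morphism locally of finite type is open. -/
theorem isOpen_setOf_formallyUnramified_stalkMap (f : X ⟶ Y) [LocallyOfFiniteType f] :
    IsOpen {x | (f.stalkMap x).hom.FormallyUnramified} := by
  refine isOpen_iff_forall_mem_open.mpr fun x hx ↦ ?_
  obtain ⟨_, ⟨U, hU, rfl⟩, hxU, -⟩ :=
    Y.isBasis_affineOpens.exists_subset_of_mem_open (Set.mem_univ (f x)) isOpen_univ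
  obtain ⟨_, ⟨V, hV, rfl⟩, hxV, hVU⟩ :=
    X.isBasis_affineOpens.exists_subset_of_mem_open hxU (U.2.preimage f.continuous)
  have := f.finiteType_appLE hU hV hVU
  algebraize [(f.appLE U V hVU).hom]
  let Z : (Spec Γ(X, V)).Opens :=
    ⟨Algebra.unramifiedLocus Γ(Y, U) Γ(X, V), Algebra.isOpen_unramifiedLocus⟩
  let W : X.Opens := (Scheme.Opens.ι V) ''ᵁ (hV.isoSpec.hom ⁻¹ᵁ Z)
  refine ⟨W, ?_, W.2, ?_⟩
  · rintro _ ⟨y, hy, rfl⟩
    exact (formallyUnramified_stalkMap_iff U hU V hV hVU y.2).mpr hy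
  · exact ⟨⟨x, hxV⟩, (formallyUnramified_stalkMap_iff U hU V hV hVU hxV).mp hx, rfl⟩

/-- The unramified locus of a morphism locally of finite type, as an open subscheme. -/
def unramifiedLocus (f : X ⟶ Y) [LocallyOfFiniteType f] : X.Opens :=
  ⟨{x | (f.stalkMap x).hom.FormallyUnramified}, isOpen_setOf_formallyUnramified_stalkMap f⟩

theorem mem_unramifiedLocus {f : X ⟶ Y} [LocallyOfFiniteType f] {x : X} :
    x ∈ unramifiedLocus f ↔ (f.stalkMap x).hom.FormallyUnramified := Iff.rfl

/-- `f` restricted to an open `U` is formally unramified iff all stalk maps at points of `U`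
are. -/
theorem formallyUnramified_ι_comp_iff (f : X ⟶ Y) (U : X.Opens) :
    FormallyUnramified (U.ι ≫ f) ↔ ∀ x ∈ U, (f.stalkMap x).hom.FormallyUnramified := by
  constructor
  · intro h x hx
    obtain ⟨x', rfl⟩ : ∃ x' : U.toScheme, U.ι x' = x := ⟨⟨x, hx⟩, rfl⟩
    exact (stalkMap_ι_comp_iff RingHom.FormallyUnramified.respectsIso f U x').mp
      (FormallyUnramified.stalkMap _ x')
  · intro h
    refine HasRingHomProperty.of_stalkMap RingHom.FormallyUnramified.ofLocalizationPrime
      fun x' ↦ ?_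
    exact (stalkMap_ι_comp_iff RingHom.FormallyUnramified.respectsIso f U x').mpr
      (h _ x'.2)

theorem formallyUnramified_unramifiedLocus_ι_comp (f : X ⟶ Y) [LocallyOfFiniteType f] :
    FormallyUnramified ((unramifiedLocus f).ι ≫ f) :=
  (formallyUnramified_ι_comp_iff f _).mpr fun _ hx ↦ hx

/-- `f` is formally unramified on a neighbourhood of `x` iff its stalk map at `x` is formally
unramified (`f` locally of finite type). -/
theorem exists_opens_formallyUnramified_iff (f : X ⟶ Y) [LocallyOfFiniteType f] (x : X) :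
    (∃ U : X.Opens, x ∈ U ∧ FormallyUnramified (U.ι ≫ f)) ↔
      (f.stalkMap x).hom.FormallyUnramified :=
  ⟨fun ⟨U, hxU, hU⟩ ↦ (formallyUnramified_ι_comp_iff f U).mp hU x hxU,
    fun h ↦ ⟨unramifiedLocus f, h, formallyUnramified_unramifiedLocus_ι_comp f⟩⟩


set_option backward.isDefEq.respectTransparency.types false in
/-- The stalk map being formally unramified is invariant under base change: for a pullback
square with `f` locally of finite type, `snd` is unramified at `p` iff `f` is unramified at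
`fst p`. -/
theorem formallyUnramified_stalkMap_iff_of_isPullback {P X S T : Scheme.{u}}
    {fst : P ⟶ X} {snd : P ⟶ T} {f : X ⟶ S} {g : T ⟶ S} (H : IsPullback fst snd f g)
    [LocallyOfFiniteType f] (p : P) :
    (snd.stalkMap p).hom.FormallyUnramified ↔ (f.stalkMap (fst p)).hom.FormallyUnramified := by
  have hw : g (snd p) = f (fst p) := by
    rw [← Scheme.Hom.comp_apply, ← Scheme.Hom.comp_apply, H.w]
  obtain ⟨_, ⟨US, hUS, rfl⟩, hxUS, -⟩ :=
    S.isBasis_affineOpens.exists_subset_of_mem_open (Set.mem_univ (f (fst p))) isOpen_univ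
  obtain ⟨_, ⟨UX, hUX, rfl⟩, hxUX, hUSX⟩ :=
    X.isBasis_affineOpens.exists_subset_of_mem_open hxUS (US.2.preimage f.continuous)
  obtain ⟨_, ⟨UT, hUT, rfl⟩, hxUT, hUST⟩ :=
    T.isBasis_affineOpens.exists_subset_of_mem_open (show snd p ∈ g ⁻¹ᵁ US from (show g (snd p) ∈ US from hw.symm ▸ hxUS))
      (US.2.preimage g.continuous)
  let UY : P.Opens := fst ⁻¹ᵁ UX ⊓ snd ⁻¹ᵁ UT
  have hUY : UY = fst ⁻¹ᵁ UX ⊓ snd ⁻¹ᵁ UT := rfl
  have hpUY : p ∈ UY := ⟨hxUX, hxUT⟩
  have hUY' : IsAffineOpen UY := by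
    have : IsAffine _ := hUS
    have : IsAffine _ := hUT
    have : IsAffine _ := hUX
    exact .of_isIso (Scheme.Hom.isPullback_resLE H hUST hUSX hUY).isoPullback.hom
  have hpo := (AlgebraicGeometry.isIso_pushoutSection_iff H hUST hUSX hUY).mp
    (AlgebraicGeometry.isIso_pushoutSection_of_isAffineOpen H hUST hUSX hUY hUS hUT hUX)
  have hft := f.finiteType_appLE hUS hUX hUSX
  let _ : Algebra Γ(S, US) Γ(X, UX) := (f.appLE US UX hUSX).hom.toAlgebra
  let _ : Algebra Γ(S, US) Γ(T, UT) := (g.appLE US UT hUST).hom.toAlgebra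
  let _ : Algebra Γ(X, UX) Γ(P, UY) := (fst.appLE UX UY (by simp [UY])).hom.toAlgebra
  let _ : Algebra Γ(T, UT) Γ(P, UY) := (snd.appLE UT UY (by simp [UY])).hom.toAlgebra
  let _ : Algebra Γ(S, US) Γ(P, UY) :=
    ((fst.appLE UX UY (by simp [UY])).hom.comp (f.appLE US UX hUSX).hom).toAlgebra
  have : IsScalarTower Γ(S, US) Γ(X, UX) Γ(P, UY) := .of_algebraMap_eq' rfl
  have : IsScalarTower Γ(S, US) Γ(T, UT) Γ(P, UY) := .of_algebraMap_eq' <| by
    simp only [RingHom.algebraMap_toAlgebra, ← CommRingCat.hom_comp,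
      Scheme.Hom.appLE_comp_appLE, H.w]
  have hft' : Algebra.FiniteType Γ(S, US) Γ(X, UX) := hft
  have hpo' : Algebra.IsPushout Γ(S, US) Γ(T, UT) Γ(X, UX) Γ(P, UY) :=
    (CommRingCat.isPushout_iff_isPushout.mp hpo).symm
  rw [formallyUnramified_stalkMap_iff UT hUT UY hUY' (by simp [UY]) hpUY,
    formallyUnramified_stalkMap_iff US hUS UX hUX hUSX hxUX,
    mem_unramifiedLocus_iff_of_isPushout (R := Γ(S, US)) (A := Γ(X, UX))]
  have := IsAffineOpen.comap_primeIdealOf_appLE UX hUX UY hUY' (f := fst) (by simp [UY]) hpUY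
  rw [← this]
  rfl


/-- Being formally unramified on a neighbourhood of a point is invariant under base change. -/
theorem exists_opens_formallyUnramified_iff_of_isPullback {P X S T : Scheme.{u}}
    {fst : P ⟶ X} {snd : P ⟶ T} {f : X ⟶ S} {g : T ⟶ S} (H : IsPullback fst snd f g)
    [LocallyOfFiniteType f] (p : P) :
    (∃ U' : P.Opens, p ∈ U' ∧ FormallyUnramified (U'.ι ≫ snd)) ↔
      (∃ U : X.Opens, fst p ∈ U ∧ FormallyUnramified (U.ι ≫ f)) := by
  have : LocallyOfFiniteType snd := MorphismProperty.of_isPullback H ‹_›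
  rw [exists_opens_formallyUnramified_iff, exists_opens_formallyUnramified_iff,
    formallyUnramified_stalkMap_iff_of_isPullback H]

end Groth.Agent.Lib.Helper24
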