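import Mathlib
set_option autoImplicit false
universe u
open TensorProduct CategoryTheory CategoryTheory.Limits AlgebraicGeometry

namespace Groth.Agent.Lib.Helper24

/-- Points of the spectrum of a tensor product: a compatible pair of primes lifts. -/
theorem exists_comap_tensorProduct_eq (A₀ A₁ B₀ : Type u) [CommRing A₀] [CommRing A₁] [CommRing B₀]
    [Algebra A₀ A₁] [Algebra A₀ B₀] (P₁ : PrimeSpectrum A₁) (q₀ : PrimeSpectrum B₀)
    (h : PrimeSpectrum.comap (algebraMap A₀ A₁) P₁ = PrimeSpectrum.comap (algebraMap A₀ B₀) q₀) :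
    ∃ Q : PrimeSpectrum (A₁ ⊗[A₀] B₀),
      PrimeSpectrum.comap (algebraMap A₁ (A₁ ⊗[A₀] B₀)) Q = P₁ := by
  obtain ⟨z, hz1, hz2⟩ := Scheme.Pullback.exists_preimage_pullback
    (f := Spec.map (CommRingCat.ofHom (algebraMap A₀ A₁)))
    (g := Spec.map (CommRingCat.ofHom (algebraMap A₀ B₀))) P₁ q₀ h
  refine ⟨(pullbackSpecIso A₀ A₁ B₀).hom z, ?_⟩
  have h1 := pullbackSpecIso_hom_fst' A₀ A₁ B₀
  have h2 := congrArg (fun φ => φ.base z) h1
  simp only [Scheme.Hom.comp_base, TopCat.comp_app] at h2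
  rw [← hz1]
  exact h2

/-- Surjectivity descends along a faithfully flat base change. -/
theorem surjective_algebraMap_of_faithfullyFlat_of_surjective_includeLeft
    (A₁ A B₁ : Type*) [CommRing A₁] [CommRing A] [CommRing B₁] [Algebra A₁ A] [Algebra A₁ B₁]
    [Module.FaithfullyFlat A₁ B₁]
    (h : Function.Surjective (Algebra.TensorProduct.includeLeft : B₁ →ₐ[A₁] B₁ ⊗[A₁] A)) :
    Function.Surjective (algebraMap A₁ A) := by
  have h1 : Function.Surjective ((Algebra.linearMap A₁ A).lTensor B₁) := by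
    have : ⇑((Algebra.linearMap A₁ A).lTensor B₁) =
        ⇑(Algebra.TensorProduct.includeLeft : B₁ →ₐ[A₁] B₁ ⊗[A₁] A) ∘
          ⇑(TensorProduct.rid A₁ B₁) := by
      ext x
      induction x using TensorProduct.induction_on with
      | zero => simp
      | tmul b a =>
        simp only [LinearMap.lTensor_tmul, Algebra.linearMap_apply, Function.comp_apply,
          TensorProduct.rid_tmul, Algebra.TensorProduct.includeLeft_apply]
        rw [Algebra.algebraMap_eq_smul_one, TensorProduct.tmul_smul, TensorProduct.smul_tmul']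
      | add x y hx hy => simp only [map_add, Function.comp_apply] at hx hy ⊢; rw [hx, hy]
    rw [this]
    exact h.comp (TensorProduct.rid A₁ B₁).surjective
  exact (Module.FaithfullyFlat.lTensor_surjective_iff_surjective A₁ B₁ _).mp h1


/-- Enlargement step: if `A₀ ≤ A₁` are subalgebras of `A`, `B₀` is a flat `A₀`-algebra such that every
prime of `A₁` restricts to a prime of `A₀` in the image of `Spec B₀`, and `A₁ ⊗ B₀ → A ⊗ B₀` is
surjective, then `A₁ = ⊤`. -/
theorem eq_top_of_surjective_tensor_map {R : Type*} {A : Type u} [CommRing R] [CommRing A]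
    [Algebra R A] (A₀ A₁ : Subalgebra R A) (h01 : A₀ ≤ A₁) (B₀ : Type u) [CommRing B₀]
    [Algebra A₀ B₀] [Module.Flat A₀ B₀]
    (hprime : ∀ P₁ : PrimeSpectrum A₁, ∃ q₀ : PrimeSpectrum B₀,
      PrimeSpectrum.comap (Subalgebra.inclusion h01).toRingHom P₁ =
        PrimeSpectrum.comap (algebraMap A₀ B₀) q₀)
    (hsurj : ∀ x : A ⊗[A₀] B₀,
      x ∈ Subring.closure {y | ∃ (a : A₁) (β : B₀), y = (a : A) ⊗ₜ[A₀] β}) : A₁ = ⊤ := by
  let alg01 : Algebra A₀ A₁ := (Subalgebra.inclusion h01).toRingHom.toAlgebra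
  have tower : IsScalarTower A₀ A₁ A := IsScalarTower.of_algebraMap_eq (fun x => rfl)
  have hflat : Module.Flat A₁ (A₁ ⊗[A₀] B₀) := inferInstance
  have hff : Module.FaithfullyFlat A₁ (A₁ ⊗[A₀] B₀) := by
    refine Module.FaithfullyFlat.of_comap_surjective (fun P₁ => ?_)
    obtain ⟨q₀, hq₀⟩ := hprime P₁
    exact exists_comap_tensorProduct_eq A₀ A₁ B₀ P₁ q₀ hq₀
  have key : Function.Surjective (algebraMap A₁ A) := by
    apply surjective_algebraMap_of_faithfullyFlat_of_surjective_includeLeft A₁ A (A₁ ⊗[A₀] B₀)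
    -- transport along `comm` and `cancelBaseChange`
    let E : (A₁ ⊗[A₀] B₀) ⊗[A₁] A ≃ₐ[A₁] A ⊗[A₀] B₀ :=
      (Algebra.TensorProduct.comm A₁ (A₁ ⊗[A₀] B₀) A).trans
        ((Algebra.TensorProduct.cancelBaseChange A₀ A₁ A A B₀).restrictScalars A₁)
    let φ : A₁ ⊗[A₀] B₀ →+* A ⊗[A₀] B₀ :=
      E.toAlgHom.toRingHom.comp
        (Algebra.TensorProduct.includeLeft : A₁ ⊗[A₀] B₀ →ₐ[A₁] (A₁ ⊗[A₀] B₀) ⊗[A₁] A).toRingHom
    have hφ : ∀ (a : A₁) (β : B₀), φ (a ⊗ₜ[A₀] β) = (a : A) ⊗ₜ[A₀] β := by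
      intro a β
      change (Algebra.TensorProduct.cancelBaseChange (↥A₀) (↥A₁) A A B₀)
        ((Algebra.TensorProduct.comm (↥A₁) (↥A₁ ⊗[↥A₀] B₀) A)
          ((a ⊗ₜ[↥A₀] β) ⊗ₜ[↥A₁] (1 : A))) = _
      rw [Algebra.TensorProduct.comm_tmul, Algebra.TensorProduct.cancelBaseChange_tmul,
        Algebra.smul_def, mul_one]
      rfl
    have hle : Subring.closure {y | ∃ (a : A₁) (β : B₀), y = (a : A) ⊗ₜ[A₀] β} ≤ φ.range := by
      rw [Subring.closure_le]
      rintro _ ⟨a, β, rfl⟩
      exact ⟨a ⊗ₜ[A₀] β, hφ a β⟩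
    intro y
    obtain ⟨z, hz⟩ := hle (hsurj (E y))
    exact ⟨z, E.injective hz⟩
  rw [eq_top_iff]
  intro a _
  obtain ⟨a₁, rfl⟩ := key a
  exact a₁.2


/-- **Finite type descends along smooth surjective maps on the source.** If `A → B` is smooth and
surjective on spectra, and `B` is of finite type over `R`, then `A` is of finite type over `R`. -/
theorem finiteType_of_smooth_of_surjective_comap (R : Type*) (A B : Type u) [CommRing R]
    [CommRing A] [CommRing B] [Algebra R A] [Algebra A B] [Algebra R B] [IsScalarTower R A B]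
    [Algebra.Smooth A B] (hsurj : Function.Surjective (PrimeSpectrum.comap (algebraMap A B)))
    [Algebra.FiniteType R B] : Algebra.FiniteType R A := by
  classical
  obtain ⟨A₀, B₀, _, _, hA₀, hsm, ⟨e⟩⟩ := Algebra.Smooth.exists_subalgebra_fg R A B
  have hflat : Module.Flat A₀ B₀ := inferInstance
  have hfp : Algebra.FinitePresentation A₀ B₀ := inferInstance
  have hopen : IsOpen (Set.range (PrimeSpectrum.comap (algebraMap A₀ B₀))) :=
    (PrimeSpectrum.isOpenMap_comap_of_hasGoingDown_of_finitePresentation).isOpen_range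
  let J₀ : Ideal A₀ :=
    PrimeSpectrum.vanishingIdeal (Set.range (PrimeSpectrum.comap (algebraMap A₀ B₀)))ᶜ
  have hJ₀ : PrimeSpectrum.zeroLocus (J₀ : Set A₀) =
      (Set.range (PrimeSpectrum.comap (algebraMap A₀ B₀)))ᶜ := by
    rw [PrimeSpectrum.zeroLocus_vanishingIdeal_eq_closure, hopen.isClosed_compl.closure_eq]
  -- primes of `A` restrict into the image of `Spec B₀`
  have hA : ∀ P : PrimeSpectrum A, PrimeSpectrum.comap (algebraMap A₀ A) P ∈
      Set.range (PrimeSpectrum.comap (algebraMap A₀ B₀)) := by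
    intro P
    obtain ⟨Q, rfl⟩ := hsurj P
    refine ⟨PrimeSpectrum.comap
      (Algebra.TensorProduct.includeRight : B₀ →ₐ[A₀] A ⊗[A₀] B₀).toRingHom
        (PrimeSpectrum.comap e.symm.toAlgHom.toRingHom Q), ?_⟩
    ext a₀
    simp only [PrimeSpectrum.comap_asIdeal, Ideal.mem_comap]
    have : e.symm ((Algebra.TensorProduct.includeRight : B₀ →ₐ[A₀] A ⊗[A₀] B₀)
        (algebraMap A₀ B₀ a₀)) = algebraMap A B (algebraMap A₀ A a₀) := by
      rw [AlgHom.commutes, ← e.symm.commutes]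
      congr 1
    exact (congrArg (· ∈ Q.asIdeal) this).to_iff
  have hJtop : J₀.map (algebraMap A₀ A) = ⊤ := by
    by_contra hne
    obtain ⟨P, hPmax, hle⟩ := Ideal.exists_le_maximal _ hne
    have hP := hA ⟨P, hPmax.isPrime⟩
    have hmem : PrimeSpectrum.comap (algebraMap A₀ A) ⟨P, hPmax.isPrime⟩ ∈
        PrimeSpectrum.zeroLocus (J₀ : Set A₀) := fun j hj => hle (Ideal.mem_map_of_mem _ hj)
    rw [hJ₀] at hmem
    exact hmem hP
  have h1 : (1 : A) ∈ Submodule.span A ((algebraMap A₀ A) '' (J₀ : Set A₀)) := by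
    change (1 : A) ∈ J₀.map (algebraMap A₀ A)
    rw [hJtop]; trivial
  obtain ⟨c, t, ht, -, hsum⟩ := Submodule.mem_span_iff_exists_finset_subset.mp h1
  obtain ⟨s, hs⟩ := (Algebra.FiniteType.out : (⊤ : Subalgebra R B).FG)
  choose S hS using fun b : B => TensorProduct.exists_finset (e b)
  let T₁ : Finset A := s.biUnion (fun b => (S b).image Prod.fst)
  let T₂ : Finset A := t.image c
  let A₁ : Subalgebra R A := A₀ ⊔ Algebra.adjoin R (↑(T₁ ∪ T₂) : Set A)
  have h01 : A₀ ≤ A₁ := le_sup_left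
  have hT : ∀ x ∈ T₁ ∪ T₂, x ∈ A₁ := fun x hx =>
    (le_sup_right : Algebra.adjoin R (↑(T₁ ∪ T₂) : Set A) ≤ A₁) (Algebra.subset_adjoin hx)
  have hA₁fg : A₁.FG := hA₀.sup (Subalgebra.fg_adjoin_finset _)
  have htop : A₁ = ⊤ := by
    apply eq_top_of_surjective_tensor_map A₀ A₁ h01 B₀
    · intro P₁
      by_contra hcon
      have hmem : PrimeSpectrum.comap (Subalgebra.inclusion h01).toRingHom P₁ ∈
          PrimeSpectrum.zeroLocus (J₀ : Set A₀) := by
        rw [hJ₀]
        rintro ⟨q₀, hq₀⟩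
        exact hcon ⟨q₀, hq₀.symm⟩
      have hj : ∀ j ∈ J₀, Subalgebra.inclusion h01 j ∈ P₁.asIdeal := fun j hj => hmem hj
      have hc : ∀ a ∈ t, c a ∈ A₁ := fun a ha =>
        hT _ (Finset.mem_union_right _ (Finset.mem_image_of_mem c ha))
      have ha : ∀ a ∈ t, ∃ z : A₁, z ∈ P₁.asIdeal ∧ (z : A) = a := by
        intro a ha
        obtain ⟨j, hjJ, rfl⟩ := ht ha
        exact ⟨Subalgebra.inclusion h01 j, hj j hjJ, rfl⟩
      choose! z hz1 hz2 using ha
      have hone : (∑ a ∈ t.attach, (⟨c a.1, hc a.1 a.2⟩ : A₁) * z a.1) = 1 := by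
        apply Subtype.ext
        rw [AddSubmonoidClass.coe_finsetSum]
        simp only [MulMemClass.coe_mul, OneMemClass.coe_one]
        rw [← hsum, ← Finset.sum_attach t]
        refine Finset.sum_congr rfl (fun a _ => ?_)
        rw [hz2 a.1 a.2, smul_eq_mul]
      have : (1 : A₁) ∈ P₁.asIdeal := by
        rw [← hone]
        exact Ideal.sum_mem _ (fun a _ => Ideal.mul_mem_left _ _ (hz1 a.1 a.2))
      exact P₁.isPrime.ne_top ((Ideal.eq_top_iff_one _).mpr this)
    · intro x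
      set C := Subring.closure {y : A ⊗[A₀] B₀ | ∃ (a : A₁) (β : B₀), y = (a : A) ⊗ₜ[A₀] β}
        with hC
      have hgen : ∀ (a : A) (β : B₀), a ∈ A₁ → a ⊗ₜ[A₀] β ∈ C := fun a β ha =>
        Subring.subset_closure ⟨⟨a, ha⟩, β, rfl⟩
      have hall : ∀ b : B, e b ∈ C := by
        intro b
        have hb : b ∈ Algebra.adjoin R (s : Set B) := by rw [hs]; trivial
        induction hb using Algebra.adjoin_induction with
        | mem b hb =>
          rw [hS b]
          refine Subring.sum_mem _ (fun i hi => hgen _ _ (hT _ (Finset.mem_union_left _ ?_)))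
          exact Finset.mem_biUnion.mpr ⟨b, hb, Finset.mem_image_of_mem _ hi⟩
        | algebraMap r =>
          rw [IsScalarTower.algebraMap_apply R A B, e.commutes,
            Algebra.TensorProduct.algebraMap_apply]
          exact hgen _ _ (A₁.algebraMap_mem r)
        | add x y _ _ hx hy => rw [map_add]; exact C.add_mem hx hy
        | mul x y _ _ hx hy => rw [map_mul]; exact C.mul_mem hx hy
      have := hall (e.symm x)
      rwa [e.apply_symm_apply] at this
  exact ⟨htop ▸ hA₁fg⟩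

end Groth.Agent.Lib.Helper24
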