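import Mathlib
import Groth.Agent.Lib.Helper24.SmoothSourceDescent
set_option autoImplicit false
universe u
open CategoryTheory CategoryTheory.Limits AlgebraicGeometry TopologicalSpace

namespace Groth.Agent.Lib.Helper24

/-- Affine charts for an open surjective morphism: around any point of the target there are affine
opens `V ⊆ X`, `W ⊆ f⁻¹ V` with `Spec Γ(W) → Spec Γ(V)` surjective. -/
theorem exists_affine_chart_surjective {X' X : Scheme.{u}} (f : X' ⟶ X) [UniversallyOpen f]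
    [Surjective f] (x : X) (V₀ : X.Opens) (hV₀ : IsAffineOpen V₀) (hx : x ∈ V₀) :
    ∃ (V : X.Opens) (W : X'.Opens) (_ : IsAffineOpen V) (_ : IsAffineOpen W) (_ : x ∈ V)
      (_ : V ≤ V₀) (e : W ≤ f ⁻¹ᵁ V),
      Function.Surjective (PrimeSpectrum.comap (f.appLE V W e).hom) := by
  obtain ⟨x', rfl⟩ := f.surjective x
  obtain ⟨_, ⟨W₀, hW₀ : IsAffineOpen W₀, rfl⟩, hx'W₀, hW₀V₀⟩ :=
    X'.isBasis_affineOpens.exists_subset_of_mem_open (show x' ∈ f ⁻¹ᵁ V₀ from hx) (f ⁻¹ᵁ V₀).2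
  have hW₀V₀' : W₀ ≤ f ⁻¹ᵁ V₀ := hW₀V₀
  let O : X.Opens := ⟨f '' W₀, f.isOpenMap _ W₀.2⟩
  have hxO : f x' ∈ O := ⟨x', hx'W₀, rfl⟩
  obtain ⟨a, haO, hxa⟩ := hV₀.exists_basicOpen_le (V := O) ⟨f x', hxO⟩ hx
  have hW : X'.basicOpen (f.appLE V₀ W₀ hW₀V₀' a) = W₀ ⊓ f ⁻¹ᵁ (X.basicOpen a) :=
    Scheme.basicOpen_appLE f W₀ V₀ hW₀V₀' a
  have e : X'.basicOpen (f.appLE V₀ W₀ hW₀V₀' a) ≤ f ⁻¹ᵁ (X.basicOpen a) := by
    rw [hW]; exact inf_le_right
  have hV : IsAffineOpen (X.basicOpen a) := hV₀.basicOpen a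
  have hWa : IsAffineOpen (X'.basicOpen (f.appLE V₀ W₀ hW₀V₀' a)) := hW₀.basicOpen _
  refine ⟨X.basicOpen a, X'.basicOpen (f.appLE V₀ W₀ hW₀V₀' a), hV, hWa, hxa,
    X.basicOpen_le a, e, ?_⟩
  intro P'
  obtain ⟨P, rfl⟩ : ∃ P : ↥(Spec Γ(X, X.basicOpen a)), P = P' := ⟨P', rfl⟩
  have hv : hV.fromSpec P ∈ X.basicOpen a := by
    have : hV.fromSpec P ∈ Set.range hV.fromSpec := ⟨P, rfl⟩
    rw [hV.range_fromSpec] at this
    exact this
  obtain ⟨w, hwW₀, hwv⟩ := haO hv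
  have hwW : w ∈ X'.basicOpen (f.appLE V₀ W₀ hW₀V₀' a) := by
    rw [hW]
    exact ⟨hwW₀, by change f w ∈ X.basicOpen a; rw [hwv]; exact hv⟩
  refine ⟨hWa.primeIdealOf ⟨w, hwW⟩, ?_⟩
  have h1 := IsAffineOpen.comap_primeIdealOf_appLE (f := f) (X.basicOpen a) hV _ hWa e hwW
  rw [h1]
  apply hV.fromSpec.isOpenEmbedding.injective
  rw [hV.fromSpec_primeIdealOf]
  exact hwv

/-- Being locally of finite type is smooth-local on the source. -/
theorem locallyOfFiniteType_of_smooth_surjective_comp {X' X Y : Scheme.{u}} (f : X' ⟶ X)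
    (g : X ⟶ Y) [Smooth f] [Surjective f] [LocallyOfFiniteType (f ≫ g)] :
    LocallyOfFiniteType g := by
  rw [HasRingHomProperty.iff_exists_appLE (P := @LocallyOfFiniteType)
    (RingHom.finiteType_stableUnderComposition.stableUnderCompositionWithLocalizationAway
      RingHom.finiteType_holdsForLocalizationAway).left]
  intro x
  obtain ⟨_, ⟨U, hU : IsAffineOpen U, rfl⟩, hgxU, -⟩ :=
    Y.isBasis_affineOpens.exists_subset_of_mem_open (Set.mem_univ (g x)) isOpen_univ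
  obtain ⟨_, ⟨V₀, hV₀ : IsAffineOpen V₀, rfl⟩, hxV₀, hV₀U⟩ :=
    X.isBasis_affineOpens.exists_subset_of_mem_open (show x ∈ g ⁻¹ᵁ U from hgxU) (g ⁻¹ᵁ U).2
  have hV₀U' : V₀ ≤ g ⁻¹ᵁ U := hV₀U
  obtain ⟨V, W, hV, hW, hxV, hVV₀, e, hsurj⟩ := exists_affine_chart_surjective f x V₀ hV₀ hxV₀
  have e₁ : V ≤ g ⁻¹ᵁ U := hVV₀.trans hV₀U'
  refine ⟨⟨U, hU⟩, ⟨V, hV⟩, hxV, e₁, ?_⟩
  have hcomp := Scheme.Hom.appLE_comp_appLE f g U V W e₁ e
  have hsm : (f.appLE V W e).hom.Smooth := f.smooth_appLE hV hW e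
  have hft : ((f ≫ g).appLE U W (e.trans ((Opens.map f.base).map (homOfLE e₁)).le)).hom.FiniteType :=
    (f ≫ g).finiteType_appLE hU hW _
  rw [← hcomp] at hft
  algebraize [(g.appLE U V e₁).hom, (f.appLE V W e).hom,
    ((f.appLE V W e).hom.comp (g.appLE U V e₁).hom)]
  have : Algebra.FiniteType Γ(Y, U) Γ(X', W) := hft
  exact finiteType_of_smooth_of_surjective_comap Γ(Y, U) Γ(X, V) Γ(X', W) hsurj


open TensorProduct in
/-- Formal unramifiedness descends along a formally étale faithfully flat map on the source. -/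
theorem formallyUnramified_of_formallyEtale_of_faithfullyFlat (R A B : Type*) [CommRing R]
    [CommRing A] [CommRing B] [Algebra R A] [Algebra A B] [Algebra R B] [IsScalarTower R A B]
    [Algebra.FormallyEtale A B] [Module.FaithfullyFlat A B] [Algebra.FormallyUnramified R B] :
    Algebra.FormallyUnramified R A := by
  have e := KaehlerDifferential.tensorKaehlerEquivOfFormallyEtale R A B
  have h1 : Subsingleton Ω[B⁄R] := Algebra.FormallyUnramified.subsingleton_kaehlerDifferential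
  have h2 : Subsingleton (B ⊗[A] Ω[A⁄R]) := e.toEquiv.subsingleton
  exact ⟨Module.FaithfullyFlat.lTensor_reflects_triviality A B Ω[A⁄R]⟩

/-- Being formally unramified is étale-local on the source. -/
theorem formallyUnramified_of_etale_surjective_comp {X' X Y : Scheme.{u}} (f : X' ⟶ X)
    (g : X ⟶ Y) [Etale f] [Surjective f] [FormallyUnramified (f ≫ g)] :
    FormallyUnramified g := by
  rw [HasRingHomProperty.iff_exists_appLE (P := @FormallyUnramified)
    (RingHom.FormallyUnramified.stableUnderComposition.stableUnderCompositionWithLocalizationAway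
      RingHom.FormallyUnramified.holdsForLocalizationAway).1]
  intro x
  obtain ⟨_, ⟨U, hU : IsAffineOpen U, rfl⟩, hgxU, -⟩ :=
    Y.isBasis_affineOpens.exists_subset_of_mem_open (Set.mem_univ (g x)) isOpen_univ
  obtain ⟨_, ⟨V₀, hV₀ : IsAffineOpen V₀, rfl⟩, hxV₀, hV₀U⟩ :=
    X.isBasis_affineOpens.exists_subset_of_mem_open (show x ∈ g ⁻¹ᵁ U from hgxU) (g ⁻¹ᵁ U).2
  have hV₀U' : V₀ ≤ g ⁻¹ᵁ U := hV₀U
  obtain ⟨V, W, hV, hW, hxV, hVV₀, e, hsurj⟩ := exists_affine_chart_surjective f x V₀ hV₀ hxV₀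
  have e₁ : V ≤ g ⁻¹ᵁ U := hVV₀.trans hV₀U'
  refine ⟨⟨U, hU⟩, ⟨V, hV⟩, hxV, e₁, ?_⟩
  have hcomp := Scheme.Hom.appLE_comp_appLE f g U V W e₁ e
  have het : (f.appLE V W e).hom.Etale := f.etale_appLE hV hW e
  have hun : ((f ≫ g).appLE U W
      (e.trans ((Opens.map f.base).map (homOfLE e₁)).le)).hom.FormallyUnramified :=
    HasRingHomProperty.appLE (P := @FormallyUnramified) _ inferInstance ⟨U, hU⟩ ⟨W, hW⟩ _
  rw [← hcomp] at hun
  algebraize [(g.appLE U V e₁).hom, (f.appLE V W e).hom,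
    ((f.appLE V W e).hom.comp (g.appLE U V e₁).hom)]
  have : Algebra.FormallyUnramified Γ(Y, U) Γ(X', W) := hun
  have : Module.Flat Γ(X, V) Γ(X', W) := inferInstance
  have : Module.FaithfullyFlat Γ(X, V) Γ(X', W) := Module.FaithfullyFlat.of_comap_surjective hsurj
  exact formallyUnramified_of_formallyEtale_of_faithfullyFlat Γ(Y, U) Γ(X, V) Γ(X', W)

/-- Being locally quasi-finite (and locally of finite type) is étale-local on the source. -/
theorem locallyQuasiFinite_of_smooth_surjective_comp {X' X Y : Scheme.{u}} (f : X' ⟶ X)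
    (g : X ⟶ Y) [Smooth f] [Surjective f] [LocallyOfFiniteType (f ≫ g)]
    [LocallyQuasiFinite (f ≫ g)] : LocallyQuasiFinite g := by
  have hlft : LocallyOfFiniteType g := locallyOfFiniteType_of_smooth_surjective_comp f g
  rw [locallyQuasiFinite_iff_isDiscrete_preimage_singleton]
  intro y
  rw [isDiscrete_iff_forall_mem_exists_isOpen]
  intro x hx
  obtain ⟨x', rfl⟩ := f.surjective x
  have hd := (f ≫ g).isDiscrete_preimage_singleton y
  rw [isDiscrete_iff_forall_mem_exists_isOpen] at hd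
  obtain ⟨u', hu'o, hu'⟩ := hd x' (by simpa using hx)
  refine ⟨f '' u', f.isOpenMap _ hu'o, ?_⟩
  ext z
  simp only [Set.mem_inter_iff, Set.mem_image, Set.mem_preimage, Set.mem_singleton_iff]
  constructor
  · rintro ⟨⟨z', hz'u, rfl⟩, hz⟩
    have : z' ∈ u' ∩ (f ≫ g) ⁻¹' {y} := ⟨hz'u, by simpa using hz⟩
    rw [hu'] at this
    rw [this]
  · rintro rfl
    have : x' ∈ u' ∩ (f ≫ g) ⁻¹' {y} := by rw [hu']; rfl
    exact ⟨⟨x', this.1, rfl⟩, hx⟩

end Groth.Agent.Lib.Helper24
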