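import Mathlib

/-!
# Points with finite separable residue field on smooth algebras over a field (helper24)

* `infinite_of_isSepClosed`: separably closed fields are infinite.
* `finite_separable_residueField_of_ker`
* `exists_mem_finite_separable_mvPolynomial`: nonempty opens of affine space over `k` contain
  points with finite separable residue field.
* `finite_separable_residueField_of_unramified`
* `exists_prime_finite_separable_of_smooth`: a nonzero smooth `k`-algebra has a prime with finite
  separable residue field.
-/

set_option autoImplicit false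
universe u

namespace Groth.Agent.Lib.Helper24

open Polynomial in
/-- A separably closed field is infinite. -/
theorem infinite_of_isSepClosed (K : Type*) [Field K] [IsSepClosed K] : Infinite K := by
  apply Infinite.of_not_fintype
  intro hfin
  set n := Fintype.card K
  set f := (X : K[X]) ^ (n + 1) - 1
  have hfsep : Separable f := separable_X_pow_sub_C 1 (by simp [n]) one_ne_zero
  apply Nat.not_succ_le_self (Fintype.card K)
  have hroot : n.succ = Fintype.card (f.rootSet K) := by
    rw [card_rootSet_eq_natDegree hfsep (IsSepClosed.splits_domain (f := RingHom.id K) f hfsep)]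
    unfold f
    rw [← C_1, natDegree_X_pow_sub_C]
  rw [hroot]
  exact Fintype.card_le_of_injective _ Subtype.coe_injective

/-- A prime `w` of a finite type `k`-algebra admitting a `k`-algebra map to a separable algebraic
field extension with kernel `w` has finite separable residue field. -/
theorem finite_separable_residueField_of_ker {k P K : Type u} [Field k] [CommRing P] [Algebra k P]
    [Algebra.FiniteType k P] [Field K] [Algebra k K] [Algebra.IsSeparable k K]
    (φ : P →ₐ[k] K) (w : Ideal P) [w.IsPrime] (hw : w = RingHom.ker φ) :
    FiniteDimensional k w.ResidueField ∧ Algebra.IsSeparable k w.ResidueField := by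
  subst hw
  set w := RingHom.ker φ
  have hinj : Function.Injective (Ideal.kerLiftAlg φ) := Ideal.kerLiftAlg_injective φ
  have halg : Algebra.IsAlgebraic k K := inferInstance
  have hint : Algebra.IsIntegral k (P ⧸ w) :=
    Algebra.IsIntegral.of_injective (Ideal.kerLiftAlg φ) hinj
  have hfin : Module.Finite k (P ⧸ w) := Algebra.IsIntegral.finite
  have hfield : IsField (P ⧸ w) := isField_of_isIntegral_of_isField' (Field.toIsField k)
  have hmax : w.IsMaximal := Ideal.Quotient.maximal_of_isField _ hfield
  have hbij : Function.Bijective (algebraMap (P ⧸ w) w.ResidueField) :=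
    Ideal.bijective_algebraMap_quotient_residueField w
  let e : (P ⧸ w) ≃ₐ[k] w.ResidueField :=
    AlgEquiv.ofBijective (IsScalarTower.toAlgHom k (P ⧸ w) w.ResidueField) hbij
  refine ⟨Module.Finite.of_surjective e.toLinearMap e.surjective, ?_⟩
  let ψ : w.ResidueField →ₐ[k] K := (Ideal.kerLiftAlg φ).comp e.symm.toAlgHom
  exact Algebra.IsSeparable.of_algHom k K ψ

/-- Every nonempty open subset of affine space over a field contains a point whose residue field is
finite separable over the base field. -/
theorem exists_mem_finite_separable_mvPolynomial (k : Type u) [Field k] (n : ℕ)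
    (W : Set (PrimeSpectrum (MvPolynomial (Fin n) k))) (hW : IsOpen W) (hne : W.Nonempty) :
    ∃ w ∈ W, FiniteDimensional k w.asIdeal.ResidueField ∧
      Algebra.IsSeparable k w.asIdeal.ResidueField := by
  obtain ⟨w0, hw0⟩ := hne
  obtain ⟨_, ⟨_, ⟨g, rfl⟩, rfl⟩, hg0, hgW⟩ :=
    PrimeSpectrum.isBasis_basic_opens.exists_subset_of_mem_open hw0 hW
  have hg : g ≠ 0 := by
    rintro rfl
    simp at hg0
  let K := SeparableClosure k
  have : Infinite K := infinite_of_isSepClosed K
  have hgK : MvPolynomial.map (algebraMap k K) g ≠ 0 := by
    intro h
    apply hg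
    apply MvPolynomial.map_injective _ (algebraMap k K).injective
    rw [h, map_zero]
  obtain ⟨a, ha⟩ : ∃ a : Fin n → K, MvPolynomial.eval a (MvPolynomial.map (algebraMap k K) g) ≠ 0 := by
    by_contra hcon
    push Not at hcon
    apply hgK
    apply MvPolynomial.funext
    intro x
    rw [hcon x, map_zero]
  let φ : MvPolynomial (Fin n) k →ₐ[k] K := MvPolynomial.aeval a
  have hφg : φ g ≠ 0 := by
    have : φ g = MvPolynomial.eval a (MvPolynomial.map (algebraMap k K) g) := by
      simp only [φ, MvPolynomial.aeval_def, MvPolynomial.eval_map]
    rw [this]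
    exact ha
  have hprime : (RingHom.ker φ).IsPrime := RingHom.ker_isPrime φ
  refine ⟨⟨RingHom.ker φ, hprime⟩, hgW ?_, ?_⟩
  · change g ∉ RingHom.ker φ
    rwa [RingHom.mem_ker]
  · exact finite_separable_residueField_of_ker φ (RingHom.ker φ) rfl


/-- If `B` is unramified (and essentially of finite type) over `P`, a prime `q` of `B` has finite
separable residue field over `k` as soon as its contraction to `P` does. -/
theorem finite_separable_residueField_of_unramified {k P B : Type u} [Field k] [CommRing P]
    [Algebra k P] [CommRing B] [Algebra P B] [Algebra k B] [IsScalarTower k P B]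
    [Algebra.EssFiniteType P B] [Algebra.FormallyUnramified P B]
    (q : Ideal B) [q.IsPrime] (p : Ideal P) [p.IsPrime] [q.LiesOver p]
    (hp : FiniteDimensional k p.ResidueField ∧ Algebra.IsSeparable k p.ResidueField) :
    FiniteDimensional k q.ResidueField ∧ Algebra.IsSeparable k q.ResidueField := by
  obtain ⟨hp1, hp2⟩ := hp
  let _ := Localization.AtPrime.algebraOfLiesOver p q
  have h1 : Algebra.IsSeparable p.ResidueField q.ResidueField := inferInstance
  have h2 : Module.Finite p.ResidueField q.ResidueField := inferInstance
  have h3 : IsScalarTower k p.ResidueField q.ResidueField := inferInstance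
  exact ⟨Module.Finite.trans p.ResidueField q.ResidueField,
    Algebra.IsSeparable.trans k p.ResidueField q.ResidueField⟩

/-- A nonzero smooth algebra over a field has a prime with finite separable residue field. -/
theorem exists_prime_finite_separable_of_smooth (k : Type u) [Field k] (A : Type u) [CommRing A]
    [Algebra k A] [Algebra.Smooth k A] [Nontrivial A] :
    ∃ q : PrimeSpectrum A, FiniteDimensional k q.asIdeal.ResidueField ∧
      Algebra.IsSeparable k q.asIdeal.ResidueField := by
  obtain ⟨q0, hq0⟩ := Ideal.exists_maximal A
  have : q0.IsPrime := hq0.isPrime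
  obtain ⟨f, hfq, n, _, _, _⟩ :=
    Algebra.IsSmoothAt.exists_isStandardEtale_mvPolynomial (R := k) (p := q0)
  let P := MvPolynomial (Fin n) k
  let B := Localization.Away f
  have hB : Nontrivial B := by
    have hdisj : Disjoint (Submonoid.powers f : Set A) (q0 : Set A) :=
      (Ideal.disjoint_powers_iff_notMem_of_isPrime _).mpr hfq
    refine (IsLocalization.toLocalizationMap (Submonoid.powers f) B).nontrivial ?_
    intro h0
    exact Set.disjoint_left.mp hdisj h0 (Ideal.zero_mem _)
  have hopen : IsOpenMap (PrimeSpectrum.comap (algebraMap P B)) :=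
    PrimeSpectrum.isOpenMap_comap_of_hasGoingDown_of_finitePresentation
  have hV : IsOpen (Set.range (PrimeSpectrum.comap (algebraMap P B))) := hopen.isOpen_range
  have hVne : (Set.range (PrimeSpectrum.comap (algebraMap P B))).Nonempty :=
    Set.range_nonempty _
  obtain ⟨w, ⟨q1, rfl⟩, hw⟩ := exists_mem_finite_separable_mvPolynomial k n _ hV hVne
  have hlo : q1.asIdeal.LiesOver (PrimeSpectrum.comap (algebraMap P B) q1).asIdeal := ⟨rfl⟩
  have h1 := finite_separable_residueField_of_unramified (k := k) (P := P) (B := B) q1.asIdeal
    (PrimeSpectrum.comap (algebraMap P B) q1).asIdeal hw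
  obtain ⟨h1a, h1b⟩ := h1
  let q : PrimeSpectrum A := PrimeSpectrum.comap (algebraMap A B) q1
  let ψ : q.asIdeal.ResidueField →ₐ[k] q1.asIdeal.ResidueField :=
    Ideal.ResidueField.mapₐ q.asIdeal q1.asIdeal (IsScalarTower.toAlgHom k A B) rfl
  refine ⟨q, ?_, ?_⟩
  · exact Module.Finite.of_injective ψ.toLinearMap ψ.injective
  · exact Algebra.IsSeparable.of_algHom k q1.asIdeal.ResidueField ψ

end Groth.Agent.Lib.Helper24
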