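import Mathlib
import Groth.Prelude.Def_ega3
import Groth.Agent.Lib.Helper49.FiberStalk
import Groth.Agent.Lib.Helper24.UnramifiedLocus

/-!
# Fibrewise criterion for closed immersions (helper24)

* `ker_le_smul_ker_of_flat`, `injective_of_flat_of_ker_le_map`: a surjection `A → B` of `R`-algebras
  with `B` flat over `R`, finitely generated kernel contained in `J·A ⊆ rad A` is injective.
* `fiberMapOver_fiberι`, `fiberMapOver_snd`, `isPullback_fiberMapOver`, `fiberMapOver_comp`:
  basic API for `CohIII.fiberMapOver`.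
* `ker_stalkMap_le_map_of_injective_fibre`, `stalkMap_injective_of_ker_le_map`,
  `ker_stalkMap_SpecMap_fg`.
* `exists_affine_closedImmersion_etale_of_formallyUnramified_stalk`: affine form of the local
  structure of unramified morphisms.
-/

set_option autoImplicit false
universe u
open AlgebraicGeometry CategoryTheory Limits

namespace Groth.Agent.Lib.Helper24


/-- If `φ : A → B` is a surjective `R`-algebra map, `B` is `R`-flat and `ker φ ≤ J·A`, then
`ker φ ≤ (J·A)·ker φ`. -/
theorem ker_le_smul_ker_of_flat {R A B : Type*} [CommRing R] [CommRing A] [CommRing B]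
    [Algebra R A] [Algebra R B] [Module.Flat R B] (φ : A →ₐ[R] B) (hφ : Function.Surjective φ)
    (J : Ideal R) (hker : RingHom.ker φ ≤ J.map (algebraMap R A)) :
    RingHom.ker φ ≤ J.map (algebraMap R A) * RingHom.ker φ := by
  intro a ha
  have ha' := hker ha
  rw [Ideal.map, Ideal.span, Submodule.mem_span_image_iff_exists_fun] at ha'
  obtain ⟨t, ht, c, hc⟩ := ha'
  -- `a = ∑ i, c i • algebraMap (i : R)`
  have h0 : ∑ i : t, (i : R) • φ (c i) = 0 := by
    have : φ a = 0 := ha
    rw [← hc, map_sum] at this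
    rw [← this]
    refine Finset.sum_congr rfl fun i _ => ?_
    rw [smul_eq_mul, map_mul, AlgHom.commutes, Algebra.smul_def, mul_comm]
  obtain ⟨k, coef, y, hy1, hy2⟩ := Module.Flat.isTrivialRelation_of_sum_smul_eq_zero (R := R) (M := B)
    (f := fun i : t => (i : R)) (x := fun i : t => φ (c i)) h0
  choose y' hy' using fun j => hφ (y j)
  let κ : t → A := fun i => c i - ∑ j, coef i j • y' j
  have hκ : ∀ i, κ i ∈ RingHom.ker φ := by
    intro i
    change φ (κ i) = 0
    simp only [κ, map_sub, map_sum, map_smul, hy', ← hy1 i, sub_self]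
  have hsum : a = ∑ i : t, algebraMap R A (i : R) * κ i := by
    have h1 : ∑ i : t, algebraMap R A (i : R) * κ i =
        ∑ i : t, c i • algebraMap R A (i : R) - ∑ i : t, ∑ j, ((i : R) * coef i j) • y' j := by
      rw [← Finset.sum_sub_distrib]
      refine Finset.sum_congr rfl fun i _ => ?_
      simp only [κ, mul_sub, Finset.mul_sum, smul_eq_mul]
      congr 1
      · ring
      · refine Finset.sum_congr rfl fun j _ => ?_
        rw [mul_smul, Algebra.smul_def (i : R), Algebra.smul_def (coef i j)]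
    rw [h1, hc, Finset.sum_comm]
    have h2 : ∑ j, ∑ i : t, ((i : R) * coef i j) • y' j = 0 := by
      refine Finset.sum_eq_zero fun j _ => ?_
      rw [← Finset.sum_smul, hy2 j, zero_smul]
    rw [h2, sub_zero]
  rw [hsum]
  refine Ideal.sum_mem _ fun i _ => ?_
  exact Ideal.mul_mem_mul (Ideal.mem_map_of_mem _ (ht i.2)) (hκ i)

/-- Nakayama consequence: a surjective `R`-algebra map `φ : A → B` of rings with `A` local, `B` flat
over `R`, `ker φ` finitely generated and contained in `J·A` for an ideal `J` with `J·A` inside the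
maximal ideal is injective. -/
theorem injective_of_flat_of_ker_le_map {R A B : Type*} [CommRing R] [CommRing A] [CommRing B]
    [Algebra R A] [Algebra R B] [Module.Flat R B] [IsLocalRing A] (φ : A →ₐ[R] B)
    (hφ : Function.Surjective φ) (J : Ideal R)
    (hJ : J.map (algebraMap R A) ≤ IsLocalRing.maximalIdeal A)
    (hfg : (RingHom.ker φ).FG)
    (hker : RingHom.ker φ ≤ J.map (algebraMap R A)) :
    Function.Injective φ := by
  have h1 := ker_le_smul_ker_of_flat φ hφ J hker
  have h2 : RingHom.ker φ = ⊥ := by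
    refine Submodule.eq_bot_of_le_smul_of_le_jacobson_bot (J.map (algebraMap R A)) _ hfg ?_ ?_
    · exact h1
    · rw [IsLocalRing.jacobson_eq_maximalIdeal ⊥ bot_ne_top]
      exact hJ
  exact (RingHom.injective_iff_ker_eq_bot (φ : A →+* B)).mpr h2



section FiberMapOver

variable {X Y Z : Scheme.{u}}

theorem fiberMapOver_fiberι (f : X ⟶ Y) (g : X ⟶ Z) (h : Y ⟶ Z) (w : f ≫ h = g) (z : Z) :
    CohIII.fiberMapOver f g h w z ≫ h.fiberι z = g.fiberι z ≫ f := by
  simp only [CohIII.fiberMapOver, Scheme.Hom.fiberι, pullback.map]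
  exact Limits.pullback.lift_fst _ _ _

theorem fiberMapOver_snd (f : X ⟶ Y) (g : X ⟶ Z) (h : Y ⟶ Z) (w : f ≫ h = g) (z : Z) :
    CohIII.fiberMapOver f g h w z ≫ h.fiberToSpecResidueField z =
      g.fiberToSpecResidueField z := by
  simp only [CohIII.fiberMapOver, pullback.map, Category.comp_id, Scheme.Hom.fiberToSpecResidueField]
  exact Limits.pullback.lift_snd _ _ _

theorem isPullback_fiberMapOver (f : X ⟶ Y) (g : X ⟶ Z) (h : Y ⟶ Z) (w : f ≫ h = g) (z : Z) :
    IsPullback (g.fiberι z) (CohIII.fiberMapOver f g h w z) f (h.fiberι z) := by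
  refine IsPullback.of_bot (h₃₁ := Z.fromSpecResidueField z)
    (v₂₁ := h.fiberToSpecResidueField z) (v₂₂ := h) ?_ ?_
    (IsPullback.of_hasPullback h (Z.fromSpecResidueField z))
  · rw [fiberMapOver_snd, w]
    exact IsPullback.of_hasPullback g (Z.fromSpecResidueField z)
  · exact (fiberMapOver_fiberι f g h w z).symm

theorem fiberMapOver_comp {W : Scheme.{u}} (f₁ : X ⟶ Y) (f₂ : Y ⟶ W) (g₁ : X ⟶ Z) (g₂ : Y ⟶ Z)
    (g₃ : W ⟶ Z) (w₁ : f₁ ≫ g₂ = g₁) (w₂ : f₂ ≫ g₃ = g₂) (w₃ : (f₁ ≫ f₂) ≫ g₃ = g₁) (z : Z) :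
    CohIII.fiberMapOver f₁ g₁ g₂ w₁ z ≫ CohIII.fiberMapOver f₂ g₂ g₃ w₂ z =
      CohIII.fiberMapOver (f₁ ≫ f₂) g₁ g₃ w₃ z := by
  have e1 : (CohIII.fiberMapOver f₁ g₁ g₂ w₁ z ≫ CohIII.fiberMapOver f₂ g₂ g₃ w₂ z) ≫
      g₃.fiberι z = CohIII.fiberMapOver (f₁ ≫ f₂) g₁ g₃ w₃ z ≫ g₃.fiberι z := by
    rw [Category.assoc, fiberMapOver_fiberι, ← Category.assoc, fiberMapOver_fiberι,
      Category.assoc, fiberMapOver_fiberι]
  have e2 : (CohIII.fiberMapOver f₁ g₁ g₂ w₁ z ≫ CohIII.fiberMapOver f₂ g₂ g₃ w₂ z) ≫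
      g₃.fiberToSpecResidueField z =
      CohIII.fiberMapOver (f₁ ≫ f₂) g₁ g₃ w₃ z ≫ g₃.fiberToSpecResidueField z := by
    rw [Category.assoc, fiberMapOver_snd, fiberMapOver_snd, fiberMapOver_snd]
  exact pullback.hom_ext e1 e2

theorem fiberMapOver_congr {f f' : X ⟶ Y} (e : f = f') (g : X ⟶ Z) (h : Y ⟶ Z) (w : f ≫ h = g)
    (w' : f' ≫ h = g) (z : Z) :
    CohIII.fiberMapOver f g h w z = CohIII.fiberMapOver f' g h w' z := by
  subst e
  rfl

end FiberMapOver

/-- If the fibre map `i_s` of `i : Z ⟶ E` over `S` has injective stalk map at `z'`, then the kernel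
of the stalk map of `i` at the image `z` of `z'` is contained in `m_s 𝒪_{E, i z}`. -/
theorem ker_stalkMap_le_map_of_injective_fibre {Z E S : Scheme.{u}} (i : Z ⟶ E) (tE : E ⟶ S)
    (s : S) (z' : ↥((i ≫ tE).fiber s))
    (hinj : Function.Injective ((CohIII.fiberMapOver i (i ≫ tE) tE rfl s).stalkMap z').hom) :
    RingHom.ker (i.stalkMap (((i ≫ tE).fiberι s) z')).hom ≤
      Ideal.map (tE.stalkMap (i (((i ≫ tE).fiberι s) z'))).hom
        (IsLocalRing.maximalIdeal (S.presheaf.stalk (tE (i (((i ≫ tE).fiberι s) z'))))) := by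
  let Q : (((i ≫ tE).fiber s) ⟶ E) → Prop := fun u =>
    RingHom.ker (u.stalkMap z').hom ≤ Ideal.map (tE.stalkMap (u z')).hom
      (IsLocalRing.maximalIdeal (S.presheaf.stalk (tE (u z'))))
  have hQ1 : Q (CohIII.fiberMapOver i (i ≫ tE) tE rfl s ≫ tE.fiberι s) := by
    intro a ha
    have h1 : (CohIII.fiberMapOver i (i ≫ tE) tE rfl s ≫ tE.fiberι s).stalkMap z' =
        (tE.fiberι s).stalkMap (CohIII.fiberMapOver i (i ≫ tE) tE rfl s z') ≫
          (CohIII.fiberMapOver i (i ≫ tE) tE rfl s).stalkMap z' :=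
      Scheme.Hom.stalkMap_comp _ _ _
    rw [RingHom.mem_ker, h1] at ha
    have h2 : ((tE.fiberι s).stalkMap (CohIII.fiberMapOver i (i ≫ tE) tE rfl s z')).hom a = 0 := by
      apply hinj
      rw [map_zero]
      exact ha
    exact Groth.Agent.Lib.Helper49.ker_le_map tE s (CohIII.fiberMapOver i (i ≫ tE) tE rfl s z') h2
  have hQ2 : Q ((i ≫ tE).fiberι s ≫ i) := fiberMapOver_fiberι i (i ≫ tE) tE rfl s ▸ hQ1
  intro a ha
  apply hQ2
  have h1 : ((i ≫ tE).fiberι s ≫ i).stalkMap z' =
      i.stalkMap (((i ≫ tE).fiberι s) z') ≫ ((i ≫ tE).fiberι s).stalkMap z' :=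
    Scheme.Hom.stalkMap_comp _ _ _
  have ha' : (i.stalkMap (((i ≫ tE).fiberι s) z')).hom a = 0 := ha
  have h2 : (((i ≫ tE).fiberι s ≫ i).stalkMap z').hom a = 0 := by
    have h3 : (((i ≫ tE).fiberι s ≫ i).stalkMap z').hom a =
        (i.stalkMap (((i ≫ tE).fiberι s) z') ≫ ((i ≫ tE).fiberι s).stalkMap z').hom a :=
      congrArg (fun φ => φ.hom a) h1
    refine h3.trans ?_
    change (((i ≫ tE).fiberι s).stalkMap z').hom
      ((i.stalkMap (((i ≫ tE).fiberι s) z')).hom a) = 0
    rw [ha', map_zero]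
  exact h2



/-- Stalk-level version. -/
theorem stalkMap_injective_of_ker_le_map {Z E S : Scheme.{u}} (i : Z ⟶ E) (tE : E ⟶ S) (z : Z)
    (hsurj : Function.Surjective (i.stalkMap z).hom)
    (hfg : (RingHom.ker (i.stalkMap z).hom).FG)
    (hflat : ((i ≫ tE).stalkMap z).hom.Flat)
    (hker : RingHom.ker (i.stalkMap z).hom ≤ Ideal.map (tE.stalkMap (i z)).hom
      (IsLocalRing.maximalIdeal (S.presheaf.stalk (tE (i z))))) :
    Function.Injective (i.stalkMap z).hom := by
  let _ : Algebra (S.presheaf.stalk (tE (i z))) (E.presheaf.stalk (i z)) :=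
    (tE.stalkMap (i z)).hom.toAlgebra
  let _ : Algebra (S.presheaf.stalk (tE (i z))) (Z.presheaf.stalk z) :=
    ((i ≫ tE).stalkMap z).hom.toAlgebra
  have : Module.Flat (S.presheaf.stalk (tE (i z))) (Z.presheaf.stalk z) := hflat
  let φ : E.presheaf.stalk (i z) →ₐ[S.presheaf.stalk (tE (i z))] Z.presheaf.stalk z :=
    { (i.stalkMap z).hom with
      commutes' := fun r => by
        change (i.stalkMap z).hom ((tE.stalkMap (i z)).hom r) = ((i ≫ tE).stalkMap z).hom r
        rw [Scheme.Hom.stalkMap_comp]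
        rfl }
  have hJ : (IsLocalRing.maximalIdeal (S.presheaf.stalk (tE (i z)))).map
      (algebraMap (S.presheaf.stalk (tE (i z))) (E.presheaf.stalk (i z))) ≤
      IsLocalRing.maximalIdeal (E.presheaf.stalk (i z)) :=
    ((IsLocalRing.local_hom_TFAE (tE.stalkMap (i z)).hom).out 0 2).mp
      (inferInstance : IsLocalHom (tE.stalkMap (i z)).hom)
  exact injective_of_flat_of_ker_le_map φ hsurj _ hJ hfg hker

/-- The kernel of the stalk map of `Spec.map ψ` for a surjective `ψ` with finitely generated kernel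
is finitely generated. -/
theorem ker_stalkMap_SpecMap_fg {P R : CommRingCat.{u}} (ψ : P ⟶ R)
    (hψ : Function.Surjective ψ.hom) (hfg : (RingHom.ker ψ.hom).FG) (z : PrimeSpectrum R) :
    (RingHom.ker ((Spec.map ψ).stalkMap z).hom).FG := by
  let e := Scheme.arrowStalkMapSpecIso ψ z
  let φ' := Localization.localRingHom (PrimeSpectrum.comap ψ.hom z).asIdeal z.asIdeal ψ.hom rfl
  have hT : Submonoid.map ψ.hom (PrimeSpectrum.comap ψ.hom z).asIdeal.primeCompl =
      z.asIdeal.primeCompl := by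
    ext b
    constructor
    · rintro ⟨a, ha, rfl⟩
      exact ha
    · intro hb
      obtain ⟨a, rfl⟩ := hψ b
      exact ⟨a, hb, rfl⟩
  have h1 : RingHom.ker φ' = (RingHom.ker ψ.hom).map
      (algebraMap P (Localization.AtPrime (PrimeSpectrum.comap ψ.hom z).asIdeal)) :=
    IsLocalization.ker_map (Localization.AtPrime z.asIdeal) ψ.hom hT
  have h2 : (RingHom.ker φ').FG := h1 ▸ hfg.map _
  have hw : e.hom.left ≫ CommRingCat.ofHom φ' = (Spec.map ψ).stalkMap z ≫ e.hom.right :=
    e.hom.w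
  have hl : IsIso e.hom.left := inferInstance
  have hr : IsIso e.hom.right := inferInstance
  have h3 : RingHom.ker ((Spec.map ψ).stalkMap z).hom =
      (RingHom.ker φ').map (inv e.hom.left).hom := by
    ext a
    constructor
    · intro ha
      have : φ' (e.hom.left.hom a) = 0 := by
        have := congrArg (fun θ => θ.hom a) hw
        simp only [CommRingCat.hom_comp, RingHom.comp_apply, CommRingCat.hom_ofHom] at this
        rw [this, (RingHom.mem_ker).mp ha, map_zero]
      have h4 := Ideal.mem_map_of_mem (inv e.hom.left).hom ((RingHom.mem_ker).mpr this)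
      have h5 : (inv e.hom.left).hom (e.hom.left.hom a) = a := by
        rw [← RingHom.comp_apply, ← CommRingCat.hom_comp, IsIso.hom_inv_id]
        rfl
      rwa [h5] at h4
    · intro ha
      have hle : (RingHom.ker φ').map (inv e.hom.left).hom ≤
          RingHom.ker ((Spec.map ψ).stalkMap z).hom := by
        rw [Ideal.map_le_iff_le_comap]
        intro b hb
        rw [Ideal.mem_comap, RingHom.mem_ker]
        have h6 : Function.Injective e.hom.right.hom :=
          ((ConcreteCategory.isIso_iff_bijective e.hom.right).mp hr).1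
        apply h6
        rw [map_zero]
        have := congrArg (fun θ => θ.hom ((inv e.hom.left).hom b)) hw
        simp only [CommRingCat.hom_comp, RingHom.comp_apply, CommRingCat.hom_ofHom] at this
        rw [← this]
        have h5 : e.hom.left.hom ((inv e.hom.left).hom b) = b := by
          rw [← RingHom.comp_apply, ← CommRingCat.hom_comp, IsIso.inv_hom_id]
          rfl
        rw [h5]
        exact hb
      exact hle ha
  rw [h3]
  exact h2.map _


set_option backward.isDefEq.respectTransparency.types false in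
/-- Local structure of unramified morphisms (affine form): if `f` is locally of finite type and unramified at `x`,
then an affine open neighbourhood of `x` is a closed subscheme of a scheme étale over `Y`. -/
theorem exists_affine_closedImmersion_etale_of_formallyUnramified_stalk {X Y : Scheme.{u}} (f : X ⟶ Y)
    [LocallyOfFiniteType f] (x : X) (hx : (f.stalkMap x).hom.FormallyUnramified) :
    ∃ (R P : CommRingCat.{u}) (ψ : P ⟶ R) (j : Spec R ⟶ X) (_ : IsOpenImmersion j)
      (p : Spec P ⟶ Y),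
      x ∈ Set.range j ∧ Function.Surjective ψ.hom ∧ Etale p ∧ Spec.map ψ ≫ p = j ≫ f := by
  obtain ⟨_, ⟨U, hU, rfl⟩, hxU, -⟩ :=
    Y.isBasis_affineOpens.exists_subset_of_mem_open (Set.mem_univ (f x)) isOpen_univ
  obtain ⟨_, ⟨W, hW, rfl⟩, hxW, hWU⟩ :=
    X.isBasis_affineOpens.exists_subset_of_mem_open hxU (U.2.preimage f.continuous)
  have hft := f.finiteType_appLE hU hW hWU
  algebraize [(f.appLE U W hWU).hom]
  let q := (hW.primeIdealOf ⟨x, hxW⟩).asIdeal
  have hq : Algebra.IsUnramifiedAt Γ(Y, U) q :=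
    (formallyUnramified_stalkMap_iff U hU W hW hWU hxW).mp hx
  obtain ⟨h, hhq, P, φ, hφ⟩ :=
    Algebra.IsUnramifiedAt.exists_hasStandardEtaleSurjectionOn (R := Γ(Y, U)) q
  let V := X.basicOpen h
  have hV : IsAffineOpen V := hW.basicOpen h
  have hVW : V ≤ W := X.basicOpen_le h
  have hVU : V ≤ f ⁻¹ᵁ U := hVW.trans hWU
  have hloc : IsLocalization.Away h Γ(X, V) := hW.isLocalization_basicOpen h
  let e : Localization.Away h ≃ₐ[Γ(X, W)] Γ(X, V) := IsLocalization.algEquiv (.powers h) _ _
  let ψ : P.Ring →+* Γ(X, V) := (e : Localization.Away h →+* Γ(X, V)).comp φ.toRingHom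
  have hψ : Function.Surjective ψ := e.surjective.comp hφ
  have hcomp : ψ.comp (algebraMap Γ(Y, U) P.Ring) = (f.appLE U V hVU).hom := by
    ext a
    have h1 : φ (algebraMap Γ(Y, U) P.Ring a) = algebraMap Γ(Y, U) (Localization.Away h) a :=
      φ.commutes a
    have h2 : algebraMap Γ(Y, U) (Localization.Away h) a =
        algebraMap Γ(X, W) (Localization.Away h) (algebraMap Γ(Y, U) Γ(X, W) a) :=
      IsScalarTower.algebraMap_apply _ _ _ a
    have h3 : e (algebraMap Γ(X, W) (Localization.Away h) (algebraMap Γ(Y, U) Γ(X, W) a)) =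
        algebraMap Γ(X, W) Γ(X, V) (algebraMap Γ(Y, U) Γ(X, W) a) := e.commutes _
    change e (φ (algebraMap Γ(Y, U) P.Ring a)) = _
    rw [h1, h2, h3]
    change (X.presheaf.map (homOfLE hVW).op).hom ((f.appLE U W hWU).hom a) = _
    rw [← Scheme.Hom.appLE_map f hWU (homOfLE hVW).op]
    rfl
  have hxV : x ∈ V := by
    have h1 : hW.fromSpec (hW.primeIdealOf ⟨x, hxW⟩) = x := hW.fromSpec_primeIdealOf ⟨x, hxW⟩
    have h2 : hW.primeIdealOf ⟨x, hxW⟩ ∈ hW.fromSpec ⁻¹ᵁ X.basicOpen h := by
      rw [hW.fromSpec_preimage_basicOpen]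
      exact hhq
    have h3 : hW.fromSpec (hW.primeIdealOf ⟨x, hxW⟩) ∈ X.basicOpen h := h2
    rwa [h1] at h3
  refine ⟨Γ(X, V), .of P.Ring, CommRingCat.ofHom ψ, hV.fromSpec, inferInstance,
    Spec.map (CommRingCat.ofHom (algebraMap Γ(Y, U) P.Ring)) ≫ hU.fromSpec, ?_, ?_, ?_, ?_⟩
  · rw [hV.range_fromSpec]
    exact hxV
  · exact hψ
  · have : Etale (Spec.map (CommRingCat.ofHom (algebraMap Γ(Y, U) P.Ring))) := by
      rw [HasRingHomProperty.Spec_iff (P := @Etale)]
      exact RingHom.etale_algebraMap.mpr inferInstance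
    infer_instance
  · rw [← Spec.map_comp_assoc, ← IsAffineOpen.SpecMap_appLE_fromSpec f hU hV hVU]
    congr 2
    ext a
    exact congrFun (congrArg DFunLike.coe hcomp) a


end Groth.Agent.Lib.Helper24
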