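import Mathlib
import Groth.Agent.S2116
import Groth.Agent.Lib.Helper14.SmoothFibre
import Groth.Agent.Lib.Helper24.SmoothNormalStalk

/-!
# Smoothness at rational points with regular local ring (helper24)

* `isRegularLocalRing_stalk_of_mem_smoothLocus`: smooth at a point over a field ⇒ regular stalk.
* `isSmoothAt_of_isRegularLocalRing_of_algHom`: ring-level: regular local ring at a rational point
  ⇒ smooth at that point.
* `mem_smoothLocus_of_isRegularLocalRing_of_section`: scheme-level version.
-/

set_option autoImplicit false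
universe u
open AlgebraicGeometry CategoryTheory Limits

namespace Groth.Agent.Lib.Helper24


/-- If `Z` is locally of finite presentation over a field and smooth at `z`, then the local ring at
`z` is regular. -/
theorem isRegularLocalRing_stalk_of_mem_smoothLocus (k : Type u) [Field k] {Z : Scheme.{u}}
    (b : Z ⟶ Spec (CommRingCat.of k)) [LocallyOfFinitePresentation b] (z : Z)
    (hz : z ∈ b.smoothLocus) : IsRegularLocalRing (Z.presheaf.stalk z) := by
  obtain ⟨U, hzU, hU⟩ := (Groth.Agent.Lib.Helper14.exists_smooth_nhd_iff_mem_smoothLocus b z).mpr hz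
  let _ : U.toScheme.Over (Spec (CommRingCat.of k)) := ⟨U.ι ≫ b⟩
  have : Smooth (U.toScheme ↘ Spec (CommRingCat.of k)) := hU
  let zU : U.toScheme := ⟨z, hzU⟩
  have h1 : IsRegularLocalRing (U.toScheme.presheaf.stalk zU) :=
    Groth.Agent.S1535.result k U.toScheme zU
  have e := asIso (U.ι.stalkMap zU)
  exact IsRegularLocalRing.of_ringEquiv e.commRingCatIsoToRingEquiv.symm



/-- A finite type algebra over a field `K` is smooth at a `K`-rational point whose local ring is
regular. -/
theorem isSmoothAt_of_isRegularLocalRing_of_algHom (K C : Type u) [Field K] [CommRing C]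
    [Algebra K C] [Algebra.FiniteType K C] (s : C →ₐ[K] K) (q : Ideal C) [q.IsPrime]
    (hq : q = RingHom.ker s) [IsRegularLocalRing (Localization.AtPrime q)] :
    Algebra.IsSmoothAt K q := by
  have hssurj : Function.Surjective s := fun a => ⟨algebraMap K C a, s.commutes a⟩
  have hmax : q.IsMaximal := hq ▸ RingHom.ker_isMaximal_of_surjective _ hssurj
  have hb1 : Function.Bijective (algebraMap K (C ⧸ q)) := by
    constructor
    · exact (algebraMap K (C ⧸ q)).injective
    · intro x
      obtain ⟨y, rfl⟩ := Ideal.Quotient.mk_surjective x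
      refine ⟨s y, ?_⟩
      rw [IsScalarTower.algebraMap_apply K C (C ⧸ q), Ideal.Quotient.algebraMap_eq,
        Ideal.Quotient.eq, hq, RingHom.mem_ker, map_sub, AlgHom.commutes, Algebra.algebraMap_self,
        RingHom.id_apply, sub_self]
  have hb2 : Function.Bijective (algebraMap (C ⧸ q) q.ResidueField) :=
    Ideal.bijective_algebraMap_quotient_residueField q
  have hb : Function.Bijective (algebraMap K q.ResidueField) := by
    rw [IsScalarTower.algebraMap_eq K (C ⧸ q) q.ResidueField]
    exact hb2.comp hb1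
  have hfs : Algebra.FormallySmooth K q.ResidueField :=
    Groth.Agent.S2116.formallySmooth_of_bijective _ _ hb
  exact Groth.Agent.S2116.formallySmooth_of_isRegularLocalRing K C q



/-- If `Z` is locally of finite presentation over a field `K`, `σ` is a `K`-rational point of `Z`
and the local ring of `Z` at this point is regular, then `Z` is smooth over `K` at this point. -/
theorem mem_smoothLocus_of_isRegularLocalRing_of_section (K : Type u) [Field K] {Z : Scheme.{u}}
    (b : Z ⟶ Spec (CommRingCat.of K)) [LocallyOfFinitePresentation b]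
    (σ : Spec (CommRingCat.of K) ⟶ Z) (hσ : σ ≫ b = 𝟙 _) (pt : Spec (CommRingCat.of K))
    (hreg : IsRegularLocalRing (Z.presheaf.stalk (σ pt))) : σ pt ∈ b.smoothLocus := by
  obtain ⟨_, ⟨V, hV, rfl⟩, hzV, -⟩ :=
    Z.isBasis_affineOpens.exists_subset_of_mem_open (Set.mem_univ (σ pt)) isOpen_univ
  have hT : IsAffineOpen (⊤ : (Spec (CommRingCat.of K)).Opens) := isAffineOpen_top _
  have hVT : V ≤ b ⁻¹ᵁ ⊤ := fun _ _ => trivial
  rw [Scheme.Hom.mem_smoothLocus, formallySmooth_stalkMap_iff ⊤ hT V hV hVT hzV]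
  have hsub : Subsingleton (Spec (CommRingCat.of K)) :=
    (inferInstance : Subsingleton (PrimeSpectrum K))
  have hTσ : (⊤ : (Spec (CommRingCat.of K)).Opens) ≤ σ ⁻¹ᵁ V := by
    intro p _
    have : p = pt := Subsingleton.elim _ _
    subst this
    exact hzV
  let e := Scheme.ΓSpecIso (CommRingCat.of K)
  have hft := b.finiteType_appLE hT hV hVT
  algebraize [(b.appLE ⊤ V hVT).hom]
  let _ : Algebra K Γ(Spec (CommRingCat.of K), ⊤) := e.inv.hom.toAlgebra
  let _ : Algebra K Γ(Z, V) := ((b.appLE ⊤ V hVT).hom.comp e.inv.hom).toAlgebra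
  have : IsScalarTower K Γ(Spec (CommRingCat.of K), ⊤) Γ(Z, V) := .of_algebraMap_eq' rfl
  have hbij : Function.Bijective (algebraMap K Γ(Spec (CommRingCat.of K), ⊤)) :=
    (ConcreteCategory.isIso_iff_bijective e.inv).mp inferInstance
  let eK : K ≃ₐ[K] Γ(Spec (CommRingCat.of K), ⊤) :=
    AlgEquiv.ofBijective (Algebra.ofId K _) hbij
  have hunr : Algebra.FormallyUnramified K Γ(Spec (CommRingCat.of K), ⊤) := .of_equiv eK
  have hft0 : Algebra.FiniteType K Γ(Spec (CommRingCat.of K), ⊤) :=
    .of_surjective (Algebra.ofId K _) hbij.2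
  have hftC : Algebra.FiniteType K Γ(Z, V) :=
    Algebra.FiniteType.trans hft0 inferInstance
  -- the retraction
  have hcomp : (b.appLE ⊤ V hVT) ≫ (σ.appLE V ⊤ hTσ) = 𝟙 _ := by
    rw [Scheme.Hom.appLE_comp_appLE]
    have : ∀ (u : Spec (CommRingCat.of K) ⟶ Spec (CommRingCat.of K)) (hu : u = 𝟙 _)
        (h : (⊤ : (Spec (CommRingCat.of K)).Opens) ≤ u ⁻¹ᵁ ⊤), u.appLE ⊤ ⊤ h = 𝟙 _ := by
      rintro _ rfl h
      simp only [Scheme.Hom.appLE, Scheme.Hom.id_app]
      exact (Spec (CommRingCat.of K)).presheaf.map_id _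
    exact this _ hσ _
  let s : Γ(Z, V) →ₐ[K] K :=
    { (e.hom.hom.comp (σ.appLE V ⊤ hTσ).hom) with
      commutes' := fun a => by
        change e.hom.hom ((σ.appLE V ⊤ hTσ).hom ((b.appLE ⊤ V hVT).hom (e.inv.hom a))) = a
        have h1 := congrArg (fun φ => φ.hom (e.inv.hom a)) hcomp
        simp only [CommRingCat.hom_comp, RingHom.comp_apply, CommRingCat.hom_id,
          RingHom.id_apply] at h1
        rw [h1, ← RingHom.comp_apply, ← CommRingCat.hom_comp, e.inv_hom_id]
        rfl }
  have hq : (hV.primeIdealOf ⟨σ pt, hzV⟩).asIdeal = RingHom.ker s := by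
    have h1 := IsAffineOpen.comap_primeIdealOf_appLE V hV ⊤ hT hTσ (x := pt) trivial
    have hbot : (hT.primeIdealOf ⟨pt, trivial⟩).asIdeal = ⊥ := by
      rw [eq_bot_iff]
      intro x hx
      by_contra hne
      have hne' : e.hom.hom x ≠ 0 := by
        intro h0
        apply hne
        have := congrArg e.inv.hom h0
        rwa [← RingHom.comp_apply, ← CommRingCat.hom_comp, e.hom_inv_id, map_zero] at this
      have hmem : x * e.inv.hom (e.hom.hom x)⁻¹ ∈ (hT.primeIdealOf ⟨pt, trivial⟩).asIdeal :=
        Ideal.mul_mem_right _ _ hx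
      have h1' : x * e.inv.hom (e.hom.hom x)⁻¹ = 1 := by
        have : e.hom.hom (x * e.inv.hom (e.hom.hom x)⁻¹) = e.hom.hom 1 := by
          rw [map_mul, ← RingHom.comp_apply e.hom.hom, ← CommRingCat.hom_comp, e.inv_hom_id,
            map_one]
          change e.hom.hom x * (e.hom.hom x)⁻¹ = 1
          exact mul_inv_cancel₀ hne'
        have := congrArg e.inv.hom this
        rwa [← RingHom.comp_apply, ← CommRingCat.hom_comp, e.hom_inv_id,
          ← RingHom.comp_apply, ← CommRingCat.hom_comp, e.hom_inv_id] at this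
      rw [h1'] at hmem
      exact (hT.primeIdealOf ⟨pt, trivial⟩).2.ne_top ((Ideal.eq_top_iff_one _).mpr hmem)
    rw [← h1]
    ext c
    rw [PrimeSpectrum.comap_asIdeal, Ideal.mem_comap, hbot, Ideal.mem_bot, RingHom.mem_ker]
    change _ ↔ e.hom.hom ((σ.appLE V ⊤ hTσ).hom c) = 0
    constructor
    · intro h; rw [h, map_zero]
    · intro h
      have := congrArg e.inv.hom h
      rwa [← RingHom.comp_apply, ← CommRingCat.hom_comp, e.hom_inv_id, map_zero] at this
  obtain ⟨e2⟩ := stalk_ringEquiv_atPrime hV (σ pt) hzV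
  have hregq : IsRegularLocalRing (Localization.AtPrime (hV.primeIdealOf ⟨σ pt, hzV⟩).asIdeal) :=
    IsRegularLocalRing.of_ringEquiv e2
  have hsm : Algebra.FormallySmooth K
      (Localization.AtPrime (hV.primeIdealOf ⟨σ pt, hzV⟩).asIdeal) :=
    isSmoothAt_of_isRegularLocalRing_of_algHom K Γ(Z, V) s _ hq
  exact Algebra.FormallySmooth.of_restrictScalars K Γ(Spec (CommRingCat.of K), ⊤)
    (Localization.AtPrime (hV.primeIdealOf ⟨σ pt, hzV⟩).asIdeal)


end Groth.Agent.Lib.Helper24
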