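import Mathlib
import Groth.Agent.Lib.Helper54.Reduced
set_option autoImplicit false
universe u
open TensorProduct

namespace Groth.Agent.Lib.Helper24

/-- Local rings of an étale algebra over the local rings of a base with reduced local ring are reduced. -/
theorem isReduced_localization_of_etale (A B : Type u) [CommRing A] [CommRing B] [Algebra A B]
    [Algebra.Etale A B] (p : Ideal A) [p.IsPrime] (q : Ideal B) [q.IsPrime]
    (hpq : q.comap (algebraMap A B) = p)
    (R S : Type u) [CommRing R] [CommRing S] [Algebra A R] [IsLocalization.AtPrime R p]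
    [Algebra B S] [IsLocalization.AtPrime S q] [IsReduced R] : IsReduced S := by
  have hT : IsReduced (R ⊗[A] B) := Groth.Agent.Lib.Helper54.isReduced_of_etale R (R ⊗[A] B)
  have hloc : IsLocalizedModule p.primeCompl (TensorProduct.mk A R B 1) :=
    (isLocalizedModule_iff_isBaseChange p.primeCompl R _).mpr (TensorProduct.isBaseChange A B R)
  -- key: an element of `B` whose image in `S` is nilpotent has zero image
  have key : ∀ b : B, IsNilpotent (algebraMap B S b) → algebraMap B S b = 0 := by
    rintro b ⟨n, hn⟩
    rw [← map_pow, IsLocalization.map_eq_zero_iff q.primeCompl] at hn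
    obtain ⟨⟨t, ht⟩, htb⟩ := hn
    have hc : (t * b) ^ (n + 1) = 0 := by
      have : (t * b) ^ (n + 1) = t ^ n * b * (t * b ^ n) := by ring
      rw [this, htb, mul_zero]
    have h1 : (TensorProduct.mk A R B 1) (t * b) = 0 := by
      have hnil : IsNilpotent ((1 : R) ⊗ₜ[A] (t * b)) := ⟨n + 1, by
        rw [Algebra.TensorProduct.tmul_pow, one_pow, hc, tmul_zero]⟩
      exact hnil.eq_zero
    obtain ⟨⟨a, ha⟩, hab⟩ := (IsLocalizedModule.eq_zero_iff p.primeCompl _).mp h1
    have haq : algebraMap A B a ∉ q := by
      intro hmem
      apply ha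
      rw [← hpq]
      exact hmem
    rw [IsLocalization.map_eq_zero_iff q.primeCompl]
    refine ⟨⟨algebraMap A B a * t, q.primeCompl.mul_mem haq ht⟩, ?_⟩
    change algebraMap A B a * t * b = 0
    have : a • (t * b) = 0 := hab
    rw [Algebra.smul_def] at this
    rw [mul_assoc]; exact this
  refine ⟨fun s hs => ?_⟩
  obtain ⟨b, t, rfl⟩ := IsLocalization.exists_mk'_eq q.primeCompl s
  have hb : IsNilpotent (algebraMap B S b) := by
    have : algebraMap B S b = IsLocalization.mk' S b t * algebraMap B S t := by
      rw [IsLocalization.mk'_spec]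
    rw [this]
    exact (Commute.all _ _).isNilpotent_mul_right hs
  have := key b hb
  rw [IsLocalization.mk'_eq_zero_iff]
  rw [IsLocalization.map_eq_zero_iff q.primeCompl] at this
  exact this

end Groth.Agent.Lib.Helper24
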