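import Mathlib

set_option autoImplicit false
universe u
open TensorProduct

namespace Groth.Agent.Lib.Helper24

/-- If `C` is flat over `A` and faithfully flat over `B` (with `A → B → C`), then `B` is flat
over `A`. -/
theorem flat_of_flat_of_faithfullyFlat (A B C : Type*) [CommRing A] [CommRing B] [CommRing C]
    [Algebra A B] [Algebra B C] [Algebra A C] [IsScalarTower A B C] [Module.Flat A C]
    [Module.FaithfullyFlat B C] : Module.Flat A B := by
  rw [Module.Flat.iff_lTensor_preserves_injective_linearMap]
  intro N P _ _ _ _ f hf
  have h1 : Function.Injective (f.baseChange B) ↔ Function.Injective (LinearMap.lTensor B f) :=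
    Iff.rfl
  rw [← h1, ← Module.FaithfullyFlat.lTensor_injective_iff_injective B C]
  let eN := AlgebraTensorModule.cancelBaseChange A B C C N
  let eP := AlgebraTensorModule.cancelBaseChange A B C C P
  have key : ∀ z, eP (LinearMap.lTensor C (f.baseChange B) z) = LinearMap.lTensor C f (eN z) := by
    intro z
    induction z using TensorProduct.induction_on with
    | zero => simp
    | add x y hx hy => simp only [map_add, hx, hy]
    | tmul c w =>
      induction w using TensorProduct.induction_on with
      | zero => simp
      | add x y hx hy => simp only [tmul_add, map_add, hx, hy]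
      | tmul b n => simp [eN, eP]
  have hinj : Function.Injective (LinearMap.lTensor C f) :=
    Module.Flat.lTensor_preserves_injective_linearMap f hf
  intro z z' hzz'
  apply eN.injective
  apply hinj
  rw [← key, ← key, hzz']


open AlgebraicGeometry CategoryTheory

/-- Flatness of a stalk map descends along a commutative square whose other three stalk maps are
flat (the one on the source side being automatically faithfully flat, as a flat local
homomorphism). -/
theorem flat_stalkMap_of_commSq {P X Y Y' : Scheme.{u}} {fst : P ⟶ X} {snd : P ⟶ Y'}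
    {f : X ⟶ Y} {g : Y' ⟶ Y} (w : fst ≫ f = snd ≫ g) (p : P)
    (h1 : (fst.stalkMap p).hom.Flat) (h2 : (snd.stalkMap p).hom.Flat)
    (h3 : (g.stalkMap (snd p)).hom.Flat) :
    (f.stalkMap (fst p)).hom.Flat := by
  have h23 : ((snd ≫ g).stalkMap p).hom.Flat := by
    have := RingHom.Flat.comp h3 h2
    rw [← CommRingCat.hom_comp, ← Scheme.Hom.stalkMap_comp] at this
    exact this
  have h4 : ((fst ≫ f).stalkMap p).hom.Flat := by
    rw [Scheme.Hom.stalkMap_congr_hom _ _ w, CommRingCat.hom_comp,
      RingHom.Flat.respectsIso.cancel_left_isIso]
    exact h23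
  have h5 : ((fst.stalkMap p).hom.comp (f.stalkMap (fst p)).hom).Flat := by
    rw [← CommRingCat.hom_comp, ← Scheme.Hom.stalkMap_comp]
    exact h4
  algebraize [(f.stalkMap (fst p)).hom, (fst.stalkMap p).hom,
    (fst.stalkMap p).hom.comp (f.stalkMap (fst p)).hom]
  have : IsLocalHom (algebraMap (X.presheaf.stalk (fst p)) (P.presheaf.stalk p)) :=
    inferInstanceAs (IsLocalHom (fst.stalkMap p).hom)
  have : Module.FaithfullyFlat (X.presheaf.stalk (fst p)) (P.presheaf.stalk p) :=
    .of_flat_of_isLocalHom
  exact flat_of_flat_of_faithfullyFlat _ (X.presheaf.stalk (fst p)) (P.presheaf.stalk p)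

end Groth.Agent.Lib.Helper24
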