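import Groth.Prelude.Def_EGA43
import Mathlib.AlgebraicGeometry.PullbackCarrier
import Mathlib.AlgebraicGeometry.Morphisms.UnderlyingMap
import Mathlib.AlgebraicGeometry.Morphisms.UniversallyClosed

/-!
# Openness and universal openness at a point (EGA IV 14.1–14.3): formal properties

Shared library of helper24.  Everything lives in `Groth.Agent.Lib.Helper24`.
-/

set_option autoImplicit false

namespace Groth.Agent.Lib.Helper24

open CategoryTheory AlgebraicGeometry Limits EGA43

universe u

section Top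

variable {α β γ : Type*} [TopologicalSpace α] [TopologicalSpace β] [TopologicalSpace γ]

theorem isOpenAt_comp {f : α → β} {g : β → γ} {x : α} (hf : IsOpenAt f x)
    (hg : IsOpenAt g (f x)) : IsOpenAt (g ∘ f) x := by
  intro U hU
  rw [Set.image_comp]
  exact hg _ (hf U hU)

theorem isOpenAt_of_comp {f : α → β} {g : β → γ} (hf : Continuous f) {x : α}
    (h : IsOpenAt (g ∘ f) x) : IsOpenAt g (f x) := by
  intro U hU
  have h1 : f ⁻¹' U ∈ nhds x := hf.continuousAt hU
  refine Filter.mem_of_superset (h _ h1) ?_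
  rintro _ ⟨z, hz, rfl⟩
  exact ⟨f z, hz, rfl⟩

theorem isOpenAt_of_isOpenMap {f : α → β} (hf : IsOpenMap f) (x : α) : IsOpenAt f x :=
  fun U hU => hf.image_mem_nhds hU

end Top

section Scheme

/-- Points of a pullback square surject onto compatible pairs of points. -/
theorem exists_preimage_of_isPullback {P X Y S : Scheme.{u}} {fst : P ⟶ X} {snd : P ⟶ Y}
    {f : X ⟶ S} {g : Y ⟶ S} (sq : IsPullback fst snd f g) (x : X) (y : Y)
    (h : f.base x = g.base y) : ∃ p : P, fst.base p = x ∧ snd.base p = y := by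
  obtain ⟨z, hz1, hz2⟩ := Scheme.Pullback.exists_preimage_pullback (f := f) (g := g) x y h
  refine ⟨sq.isoPullback.inv.base z, ?_, ?_⟩
  · rw [← hz1, ← Scheme.Hom.comp_apply, sq.isoPullback_inv_fst]
  · rw [← hz2, ← Scheme.Hom.comp_apply, sq.isoPullback_inv_snd]

/-- Universal openness at a point can be tested on arbitrary pullback squares. -/
theorem isOpenAt_snd_of_isUnivOpenAt {X Y : Scheme.{u}} {f : X ⟶ Y} {x : X}
    (hf : IsUnivOpenAt f x) {P Y' : Scheme.{u}} {fst : P ⟶ X} {snd : P ⟶ Y'} {g : Y' ⟶ Y}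
    (sq : IsPullback fst snd f g) (p : P) (hp : fst.base p = x) : IsOpenAt snd.base p := by
  have h1 : IsOpenAt sq.isoPullback.hom.base p :=
    isOpenAt_of_isOpenMap sq.isoPullback.hom.isOpenEmbedding.isOpenMap p
  have h2 : IsOpenAt (pullback.snd f g).base (sq.isoPullback.hom.base p) := by
    refine hf Y' g _ ?_
    rw [← Scheme.Hom.comp_apply, sq.isoPullback_hom_fst, hp]
  have := isOpenAt_comp h1 h2
  have e : (pullback.snd f g).base ∘ sq.isoPullback.hom.base = snd.base := by
    ext q
    simp only [Function.comp_apply]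
    rw [← Scheme.Hom.comp_apply, sq.isoPullback_hom_snd]
  rwa [e] at this

/-- Universal openness at a point is stable under base change. -/
theorem isUnivOpenAt_of_isPullback {X Y : Scheme.{u}} {f : X ⟶ Y} {x : X}
    (hf : IsUnivOpenAt f x) {P Y' : Scheme.{u}} {fst : P ⟶ X} {snd : P ⟶ Y'} {g : Y' ⟶ Y}
    (sq : IsPullback fst snd f g) (p : P) (hp : fst.base p = x) : IsUnivOpenAt snd p := by
  intro Y'' g' q hq
  have sq' : IsPullback (pullback.fst snd g' ≫ fst) (pullback.snd snd g') f (g' ≫ g) :=
    (IsPullback.of_hasPullback snd g').paste_horiz sq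
  refine isOpenAt_snd_of_isUnivOpenAt hf sq' q ?_
  rw [Scheme.Hom.comp_apply, hq, hp]

end Scheme

end Groth.Agent.Lib.Helper24
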