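import Groth.Agent.Lib.Helper49.FiberStalk
import Groth.Prelude.Def_EGA4b
import Mathlib

/-!
# The local ring of a fibre as a quotient of the local ring of the total space (helper24)

`nonempty_fibre_stalk_ringEquiv_fibRing f x`: the local ring of the fibre `f.fiber (f x)` at the
point `f.asFiber x` is isomorphic to `O_{X,x} / m_{f x} O_{X,x}` (`EGA4.FibRing` for the algebra
structure given by the stalk map).  Built on `Groth.Agent.Lib.Helper49.FiberStalk`.
-/

set_option autoImplicit false
universe u
open AlgebraicGeometry CategoryTheory CategoryTheory.Limits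

namespace Groth.Agent.Lib.Helper24

variable {X Y : Scheme.{u}}

/-- Transport of the closed-fibre ring of a stalk map along an equality of points. -/
theorem nonempty_fibQuot_ringEquiv_of_eq (f : X ⟶ Y) {x₀ x : X} (h : x₀ = x) :
    Nonempty ((↑(X.presheaf.stalk x₀) ⧸
        (IsLocalRing.maximalIdeal ↑(Y.presheaf.stalk (f x₀))).map (f.stalkMap x₀).hom) ≃+*
      (↑(X.presheaf.stalk x) ⧸
        (IsLocalRing.maximalIdeal ↑(Y.presheaf.stalk (f x))).map (f.stalkMap x).hom)) := by
  subst h
  exact ⟨RingEquiv.refl _⟩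

/-- The local ring of the fibre at a point `z` is the quotient of the local ring of `X` at the image
point by the extension of the maximal ideal of the base. -/
theorem nonempty_fibre_stalk_ringEquiv_quotient' (f : X ⟶ Y) (s : Y) (z : ↥(f.fiber s)) :
    Nonempty (↑((f.fiber s).presheaf.stalk z) ≃+*
      (↑(X.presheaf.stalk (f.fiberι s z)) ⧸
        (IsLocalRing.maximalIdeal ↑(Y.presheaf.stalk (f (f.fiberι s z)))).map
          (f.stalkMap (f.fiberι s z)).hom)) := by
  have hsurj : Function.Surjective ((f.fiberι s).stalkMap z).hom :=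
    (f.fiberι s).stalkMap_surjective z
  have hker : RingHom.ker ((f.fiberι s).stalkMap z).hom =
      (IsLocalRing.maximalIdeal ↑(Y.presheaf.stalk (f (f.fiberι s z)))).map
        (f.stalkMap (f.fiberι s z)).hom :=
    le_antisymm (Groth.Agent.Lib.Helper49.ker_le_map f s z)
      (Groth.Agent.Lib.Helper49.map_le_ker f s z)
  exact ⟨(RingHom.quotientKerEquivOfSurjective hsurj).symm.trans (Ideal.quotEquivOfEq hker)⟩

/-- The local ring of the fibre through `x` at `x` is `O_{X,x} / m_{f x} O_{X,x}`. -/
theorem nonempty_fibre_stalk_ringEquiv_quotient (f : X ⟶ Y) (x : X) :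
    Nonempty (↑((f.fiber (f x)).presheaf.stalk (f.asFiber x)) ≃+*
      (↑(X.presheaf.stalk x) ⧸
        (IsLocalRing.maximalIdeal ↑(Y.presheaf.stalk (f x))).map (f.stalkMap x).hom)) := by
  obtain ⟨e1⟩ := nonempty_fibre_stalk_ringEquiv_quotient' f (f x) (f.asFiber x)
  obtain ⟨e2⟩ := nonempty_fibQuot_ringEquiv_of_eq f (f.fiberι_asFiber x)
  exact ⟨e1.trans e2⟩

/-- The local ring of the fibre through `x` at `x` is `EGA4.FibRing O_{Y,f x} O_{X,x}`. -/
theorem nonempty_fibre_stalk_ringEquiv_fibRing (f : X ⟶ Y) (x : X) :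
    letI := (f.stalkMap x).hom.toAlgebra
    Nonempty (↑((f.fiber (f x)).presheaf.stalk (f.asFiber x)) ≃+*
      EGA4.FibRing ↑(Y.presheaf.stalk (f x)) ↑(X.presheaf.stalk x)) :=
  nonempty_fibre_stalk_ringEquiv_quotient f x

end Groth.Agent.Lib.Helper24
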