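import Mathlib
import Groth.Prelude.Def_CAlg

/-!
# The type of a local ring along a flat local homomorphism (helper24)

For a flat local homomorphism `A → B` of Noetherian local rings with closed fibre `F = B / m_A B`:
`length_B Hom_B(κ_B, B) = length_A Hom_A(κ_A, A) * length_F Hom_F(κ_F, F)`.
-/

set_option autoImplicit false
universe u v

namespace Groth.Agent.Lib.Helper24

open IsLocalRing TensorProduct

section General

variable {R : Type u} [CommRing R]

lemma liftQ_toSpanSingleton_one (I : Ideal R) {M : Type v} [AddCommGroup M] [Module R M] (x : M)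
    (h : I ≤ LinearMap.ker (LinearMap.toSpanSingleton R M x)) :
    Submodule.liftQ I (LinearMap.toSpanSingleton R M x) h (1 : R ⧸ I) = x := by
  change Submodule.liftQ I (LinearMap.toSpanSingleton R M x) h (Submodule.Quotient.mk 1) = x
  rw [Submodule.liftQ_apply, LinearMap.toSpanSingleton_apply, one_smul]

/-- Evaluation at `1`: `Hom(R/I, M) ≃ M[I]`. -/
noncomputable def homQuotEquivTorsionBySet (I : Ideal R) (M : Type v) [AddCommGroup M]
    [Module R M] : (R ⧸ I →ₗ[R] M) ≃ₗ[R] Submodule.torsionBySet R M (I : Set R) :=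
  LinearEquiv.ofBijective
    ((LinearMap.applyₗ (1 : R ⧸ I)).codRestrict (Submodule.torsionBySet R M (I : Set R))
      (fun φ => by
        rw [Submodule.mem_torsionBySet_iff]
        rintro ⟨a, ha⟩
        change a • φ 1 = 0
        rw [← map_smul]
        have h0 : a • (1 : R ⧸ I) = 0 := by
          change (Ideal.Quotient.mk I (a * 1) : R ⧸ I) = 0
          rw [mul_one]
          exact Ideal.Quotient.eq_zero_iff_mem.mpr ha
        rw [h0, map_zero]))
    ⟨by
      intro φ ψ h
      apply Submodule.linearMap_qext
      ext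
      exact congrArg Subtype.val h,
    by
      rintro ⟨x, hx⟩
      have hk : I ≤ LinearMap.ker (LinearMap.toSpanSingleton R M x) := by
        intro a ha
        rw [LinearMap.mem_ker, LinearMap.toSpanSingleton_apply]
        exact (Submodule.mem_torsionBySet_iff _ _).mp hx ⟨a, ha⟩
      refine ⟨Submodule.liftQ I (LinearMap.toSpanSingleton R M x) hk, ?_⟩
      apply Subtype.ext
      exact liftQ_toSpanSingleton_one I x hk⟩

/-- `Hom(M, ∏ N) ≃ ∏ Hom(M, N)`. -/
noncomputable def homPiEquiv (ι : Type*) (M : Type*) (N : Type*) [AddCommGroup M] [Module R M]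
    [AddCommGroup N] [Module R N] : (M →ₗ[R] (ι → N)) ≃ₗ[R] (ι → (M →ₗ[R] N)) where
  toFun f i := LinearMap.proj i ∘ₗ f
  invFun g := LinearMap.pi g
  map_add' f g := by ext; rfl
  map_smul' r f := by ext; rfl
  left_inv f := by ext; rfl
  right_inv g := by ext; rfl

/-- For ideals `I ≤ J`: `Hom(R/J, Hom(R/I, X)) ≃ Hom(R/J, X)` (evaluation at `1`). -/
noncomputable def homQuotHomQuotEquiv {I J : Ideal R} (hIJ : I ≤ J) (X : Type v) [AddCommGroup X]
    [Module R X] : (R ⧸ J →ₗ[R] (R ⧸ I →ₗ[R] X)) ≃ₗ[R] (R ⧸ J →ₗ[R] X) :=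
  LinearEquiv.ofBijective (LinearMap.compRight R (LinearMap.applyₗ (1 : R ⧸ I)))
    ⟨by
      intro ψ ψ' h
      apply LinearMap.ext
      intro x
      apply Submodule.linearMap_qext
      ext
      exact LinearMap.congr_fun h x,
    by
      intro φ
      have hker : ∀ x : R ⧸ J, I ≤ LinearMap.ker (LinearMap.toSpanSingleton R X (φ x)) := by
        intro x a ha
        rw [LinearMap.mem_ker, LinearMap.toSpanSingleton_apply, ← map_smul]
        obtain ⟨y, rfl⟩ := Ideal.Quotient.mk_surjective x
        have h0 : a • (Ideal.Quotient.mk J y) = 0 := by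
          change (Ideal.Quotient.mk J (a * y) : R ⧸ J) = 0
          exact Ideal.Quotient.eq_zero_iff_mem.mpr (J.mul_mem_right _ (hIJ ha))
        rw [h0, map_zero]
      refine ⟨{ toFun := fun x => Submodule.liftQ I (LinearMap.toSpanSingleton R X (φ x)) (hker x)
                map_add' := fun x y => ?_
                map_smul' := fun r x => ?_ }, ?_⟩
      · apply Submodule.linearMap_qext
        ext
        simp only [LinearMap.coe_comp, Function.comp_apply, Submodule.mkQ_apply,
          LinearMap.add_apply]
        change Submodule.liftQ I (LinearMap.toSpanSingleton R X (φ (x + y))) (hker _) (1 : R ⧸ I) =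
          Submodule.liftQ I (LinearMap.toSpanSingleton R X (φ x)) (hker _) (1 : R ⧸ I) +
          Submodule.liftQ I (LinearMap.toSpanSingleton R X (φ y)) (hker _) (1 : R ⧸ I)
        rw [liftQ_toSpanSingleton_one, liftQ_toSpanSingleton_one, liftQ_toSpanSingleton_one,
          map_add]
      · apply Submodule.linearMap_qext
        ext
        simp only [LinearMap.coe_comp, Function.comp_apply, Submodule.mkQ_apply,
          LinearMap.smul_apply, RingHom.id_apply]
        change Submodule.liftQ I (LinearMap.toSpanSingleton R X (φ (r • x))) (hker _) (1 : R ⧸ I) =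
          r • Submodule.liftQ I (LinearMap.toSpanSingleton R X (φ x)) (hker _) (1 : R ⧸ I)
        rw [liftQ_toSpanSingleton_one, liftQ_toSpanSingleton_one, map_smul]
      · apply LinearMap.ext
        intro x
        exact liftQ_toSpanSingleton_one I (φ x) (hker x)⟩

end General

section Local

/-- A finite module over a local ring killed by the maximal ideal is a finite power of the residue
field. -/
theorem exists_linearEquiv_fin_residueField {A : Type u} [CommRing A] [IsLocalRing A] (V : Type v)
    [AddCommGroup V] [Module A V] [Module.Finite A V]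
    (h : ∀ a ∈ maximalIdeal A, ∀ v : V, a • v = 0) :
    ∃ n : ℕ, Nonempty (V ≃ₗ[A] (Fin n → ResidueField A)) := by
  have ht : Module.IsTorsionBySet A V (maximalIdeal A : Set A) := fun v a => h a a.2 v
  let _ : Module (A ⧸ maximalIdeal A) V := ht.module
  have : IsScalarTower A (A ⧸ maximalIdeal A) V := ht.isScalarTower
  let _ : Field (A ⧸ maximalIdeal A) := Ideal.Quotient.field _
  have : Module.Finite (A ⧸ maximalIdeal A) V := Module.Finite.of_restrictScalars_finite A _ _
  let b := Module.finBasis (A ⧸ maximalIdeal A) V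
  exact ⟨_, ⟨b.equivFun.restrictScalars A⟩⟩

/-- The socle of a quotient `B/I` computed over `B` or over `B/I` has the same length. -/
theorem length_hom_residueField_quotient (B : Type u) [CommRing B] [IsLocalRing B] (I : Ideal B)
    [IsLocalRing (B ⧸ I)] :
    Module.length B (ResidueField B →ₗ[B] (B ⧸ I)) =
      Module.length (B ⧸ I) (ResidueField (B ⧸ I) →ₗ[B ⧸ I] (B ⧸ I)) := by
  have h1 : Module.length B (ResidueField B →ₗ[B] (B ⧸ I)) =
      Module.length B (Submodule.torsionBySet B (B ⧸ I) (maximalIdeal B : Set B)) :=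
    (homQuotEquivTorsionBySet (maximalIdeal B) (B ⧸ I)).length_eq
  have h2 : Module.length (B ⧸ I) (ResidueField (B ⧸ I) →ₗ[B ⧸ I] (B ⧸ I)) =
      Module.length (B ⧸ I) (Submodule.torsionBySet (B ⧸ I) (B ⧸ I)
        (maximalIdeal (B ⧸ I) : Set (B ⧸ I))) :=
    (homQuotEquivTorsionBySet (maximalIdeal (B ⧸ I)) (B ⧸ I)).length_eq
  rw [h1, h2, ← Module.length_eq_of_surjective (S := B) (R := B ⧸ I) Ideal.Quotient.mk_surjective]
  have hEq : (Submodule.torsionBySet (B ⧸ I) (B ⧸ I)
      (maximalIdeal (B ⧸ I) : Set (B ⧸ I))).restrictScalars B =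
      Submodule.torsionBySet B (B ⧸ I) (maximalIdeal B : Set B) := by
    ext x
    rw [Submodule.restrictScalars_mem, Submodule.mem_torsionBySet_iff,
      Submodule.mem_torsionBySet_iff]
    constructor
    · rintro h ⟨b, hb⟩
      have hb' : Ideal.Quotient.mk I b ∈ maximalIdeal (B ⧸ I) := by
        rw [← IsLocalRing.map_maximalIdeal_of_surjective (Ideal.Quotient.mk I)
          Ideal.Quotient.mk_surjective]
        exact Ideal.mem_map_of_mem _ hb
      exact h ⟨_, hb'⟩
    · rintro h ⟨f, hf⟩
      rw [← IsLocalRing.map_maximalIdeal_of_surjective (Ideal.Quotient.mk I)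
        Ideal.Quotient.mk_surjective, SetLike.mem_coe,
        Ideal.mem_map_iff_of_surjective _ Ideal.Quotient.mk_surjective] at hf
      obtain ⟨b, hb, rfl⟩ := hf
      exact h ⟨b, hb⟩
  exact ((LinearEquiv.ofEq _ _ hEq.symm).trans
    ((Submodule.restrictScalarsEquiv B (B ⧸ I) (B ⧸ I) _).restrictScalars B)).length_eq

end Local

section Flat

variable (A B : Type u) [CommRing A] [CommRing B] [IsLocalRing A] [IsLocalRing B]
  [IsNoetherianRing A] [Algebra A B] [IsLocalHom (algebraMap A B)] [Module.Flat A B]

/-- The closed fibre hom-module `Hom_B(B/m_A B, B)` is a finite power of the closed fibre, with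
exponent the type of `A`. -/
theorem exists_hom_fibre_equiv :
    ∃ n : ℕ, Module.length A (ResidueField A →ₗ[A] A) = n ∧
      Nonempty (((B ⧸ (maximalIdeal A).map (algebraMap A B)) →ₗ[B] B) ≃ₗ[B]
        (Fin n → (B ⧸ (maximalIdeal A).map (algebraMap A B)))) := by
  have hfp : Module.FinitePresentation A (ResidueField A) := Module.finitePresentation_of_finite A _
  let e_b0 : B ⊗[A] (ResidueField A →ₗ[A] A) ≃ₗ[B]
      (B ⊗[A] ResidueField A →ₗ[B] B ⊗[A] A) :=
    (Module.FinitePresentation.isBaseChange_map A (ResidueField A) A B).equiv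
  let e1 : B ⊗[A] ResidueField A ≃ₗ[B] (B ⧸ (maximalIdeal A).map (algebraMap A B)) :=
    (Algebra.TensorProduct.quotIdealMapEquivTensorQuot B (maximalIdeal A)).symm.toLinearEquiv
  let e2 : B ⊗[A] A ≃ₗ[B] B := AlgebraTensorModule.rid A B B
  have hV : ∀ a ∈ maximalIdeal A, ∀ φ : ResidueField A →ₗ[A] A, a • φ = 0 := by
    intro a ha φ
    ext x
    rw [LinearMap.smul_apply, ← map_smul, LinearMap.zero_apply]
    obtain ⟨y, rfl⟩ := IsLocalRing.residue_surjective x
    have h0 : a • residue A y = 0 := by
      rw [Algebra.smul_def, IsLocalRing.ResidueField.algebraMap_eq,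
        (residue_eq_zero_iff a).mpr ha, zero_mul]
    rw [h0, map_zero]
  have hfin : Module.Finite A (ResidueField A →ₗ[A] A) := by
    have : IsNoetherian A (Submodule.torsionBySet A A (maximalIdeal A : Set A)) :=
      isNoetherian_submodule' _
    exact Module.Finite.equiv (homQuotEquivTorsionBySet (maximalIdeal A) A).symm
  obtain ⟨n, ⟨e_c⟩⟩ := exists_linearEquiv_fin_residueField (ResidueField A →ₗ[A] A) hV
  refine ⟨n, ?_, ⟨?_⟩⟩
  · rw [e_c.length_eq, Module.length_pi_of_fintype]
    have hs : IsSimpleModule A (ResidueField A) := by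
      change IsSimpleModule A (A ⧸ maximalIdeal A)
      rw [isSimpleModule_iff_isCoatom]
      exact (Ideal.isMaximal_def.mp inferInstance)
    simp [Module.length_eq_one]
  · exact ((LinearEquiv.arrowCongr e1 e2).symm.trans e_b0.symm).trans
      ((AlgebraTensorModule.congr (LinearEquiv.refl B B) e_c).trans
        ((TensorProduct.piRight A B B (fun _ : Fin n => ResidueField A)).trans
          (LinearEquiv.piCongrRight (fun _ => e1))))

/-- **Type formula**: for a flat local homomorphism `A → B` with closed fibre `F = B/m_A B`,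
`r(B) = r(A) * r(F)` where `r(R) = length_R Hom_R(κ_R, R)`. -/
theorem length_hom_residueField_of_flat
    [IsLocalRing (B ⧸ (maximalIdeal A).map (algebraMap A B))] :
    Module.length B (ResidueField B →ₗ[B] B) =
      Module.length A (ResidueField A →ₗ[A] A) *
        Module.length (B ⧸ (maximalIdeal A).map (algebraMap A B))
          (ResidueField (B ⧸ (maximalIdeal A).map (algebraMap A B)) →ₗ[B ⧸ (maximalIdeal A).map
            (algebraMap A B)] (B ⧸ (maximalIdeal A).map (algebraMap A B))) := by
  have hIle : (maximalIdeal A).map (algebraMap A B) ≤ maximalIdeal B :=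
    map_maximalIdeal_le (algebraMap A B)
  obtain ⟨n, hn, ⟨eN⟩⟩ := exists_hom_fibre_equiv A B
  have h_a : Module.length B
      (ResidueField B →ₗ[B] ((B ⧸ (maximalIdeal A).map (algebraMap A B)) →ₗ[B] B)) =
      Module.length B (ResidueField B →ₗ[B] B) :=
    (homQuotHomQuotEquiv (R := B) (I := (maximalIdeal A).map (algebraMap A B))
      (J := maximalIdeal B) hIle B).length_eq
  have h_b : Module.length B
      (ResidueField B →ₗ[B] ((B ⧸ (maximalIdeal A).map (algebraMap A B)) →ₗ[B] B)) =
      Module.length B
        (ResidueField B →ₗ[B] (Fin n → (B ⧸ (maximalIdeal A).map (algebraMap A B)))) :=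
    (LinearEquiv.congrRight eN).length_eq
  have h_c : Module.length B
        (ResidueField B →ₗ[B] (Fin n → (B ⧸ (maximalIdeal A).map (algebraMap A B)))) =
      Module.length B
        (Fin n → (ResidueField B →ₗ[B] (B ⧸ (maximalIdeal A).map (algebraMap A B)))) :=
    (homPiEquiv (Fin n) (ResidueField B) (B ⧸ (maximalIdeal A).map (algebraMap A B))).length_eq
  rw [hn, ← length_hom_residueField_quotient B ((maximalIdeal A).map (algebraMap A B)),
    ← h_a, h_b, h_c, Module.length_pi_of_fintype]
  simp

end Flat

end Groth.Agent.Lib.Helper24
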