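import Groth.Agent.Lib.Helper24.GorenEquiv
import Groth.Agent.Lib.Helper24.GorenArtin
import Groth.Agent.Lib.Helper24.GorenType
import Groth.Agent.Lib.Helper2.GorensteinQuotient
import Groth.Agent.Lib.Helper29.FlatAscent
import Groth.Agent.Lib.Helper29.EquidimCatenary
import Groth.Agent.Lib.Helper29.DepthFlat2
import Groth.Agent.Lib.Helper93.DepthFlat
import Groth.Agent.Lib.Helper60.BC

/-!
# Gorenstein-ness along flat local homomorphisms (helper24)

`isGorensteinLocalRing_iff_of_flat_local`: for a flat local homomorphism `A → B` of Noetherian local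
rings, `B` is Gorenstein iff `A` and the closed fibre `B / m_A B` are.
-/

set_option autoImplicit false
universe u

namespace Groth.Agent.Lib.Helper24

open IsLocalRing Groth.Agent.Lib.Helper29
open scoped Pointwise

lemma enat_mul_eq_one {a b : ℕ∞} (h : a * b = 1) : a = 1 ∧ b = 1 := by
  have ha0 : a ≠ 0 := by rintro rfl; rw [zero_mul] at h; exact zero_ne_one h
  have hb0 : b ≠ 0 := by rintro rfl; rw [mul_zero] at h; exact zero_ne_one h
  have hat : a ≠ ⊤ := by
    rintro rfl
    rw [ENat.top_mul hb0] at h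
    exact ENat.top_ne_one h
  have hbt : b ≠ ⊤ := by
    rintro rfl
    rw [ENat.mul_top ha0] at h
    exact ENat.top_ne_one h
  lift a to ℕ using hat
  lift b to ℕ using hbt
  have h' : a * b = 1 := by exact_mod_cast h
  obtain ⟨h1, h2⟩ := mul_eq_one.mp h'
  exact ⟨by exact_mod_cast h1, by exact_mod_cast h2⟩

section Base

variable (A B : Type u) [CommRing A] [CommRing B] [IsLocalRing A] [IsLocalRing B]
  [IsNoetherianRing A] [IsNoetherianRing B] [Algebra A B] [Module.Flat A B]
  [IsLocalHom (algebraMap A B)]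

/-- The depth-zero case. -/
theorem isGorensteinLocalRing_iff_of_flat_local_of_depth_zero
    (hA : LocCoh.depth A A = 0)
    (hF : LocCoh.depth (EGA4.FibRing A B) (EGA4.FibRing A B) = 0) :
    LocCoh.IsGorensteinLocalRing B ↔
      LocCoh.IsGorensteinLocalRing A ∧ LocCoh.IsGorensteinLocalRing (EGA4.FibRing A B) := by
  have hdim : ringKrullDim B = ringKrullDim A + ringKrullDim (EGA4.FibRing A B) :=
    ringKrullDim_eq_add_of_flat A B
  have hdepB : LocCoh.depth B B = 0 := by
    rw [depth_self_eq_add_of_flat A B, hA, hF, add_zero]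
  have htype := length_hom_residueField_of_flat A B
  constructor
  · intro hB
    have hdB : ringKrullDim B = 0 :=
      ringKrullDim_eq_zero_of_gorenstein_of_depth_eq_zero B hB hdepB
    rw [hdB] at hdim
    obtain ⟨hdA, hdF⟩ := (add_eq_zero_iff_of_nonneg ringKrullDim_nonneg_of_nontrivial
      ringKrullDim_nonneg_of_nontrivial).mp hdim.symm
    have hrB := (isGorensteinLocalRing_iff_length_hom_of_dim_zero B hdB).mp hB
    rw [htype] at hrB
    obtain ⟨h1, h2⟩ := enat_mul_eq_one hrB
    exact ⟨(isGorensteinLocalRing_iff_length_hom_of_dim_zero A hdA).mpr h1,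
      (isGorensteinLocalRing_iff_length_hom_of_dim_zero (EGA4.FibRing A B) hdF).mpr h2⟩
  · rintro ⟨hGA, hGF⟩
    have hdA := ringKrullDim_eq_zero_of_gorenstein_of_depth_eq_zero A hGA hA
    have hdF := ringKrullDim_eq_zero_of_gorenstein_of_depth_eq_zero (EGA4.FibRing A B) hGF hF
    have hdB : ringKrullDim B = 0 := by rw [hdim, hdA, hdF, add_zero]
    rw [isGorensteinLocalRing_iff_length_hom_of_dim_zero B hdB, htype,
      (isGorensteinLocalRing_iff_length_hom_of_dim_zero A hdA).mp hGA,
      (isGorensteinLocalRing_iff_length_hom_of_dim_zero (EGA4.FibRing A B) hdF).mp hGF, one_mul]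

end Base

section Quot

variable (B : Type u) [CommRing B]

theorem smul_top_eq_span_singleton (y : B) :
    (y • (⊤ : Submodule B B)) = Ideal.span {y} := by
  rw [← Submodule.ideal_span_singleton_smul, smul_eq_mul, Ideal.mul_top]

variable [IsLocalRing B]

theorem isLocalRing_quotient_span_singleton {y : B} (hy : y ∈ maximalIdeal B) :
    IsLocalRing (B ⧸ Ideal.span {y}) := by
  have hne : Ideal.span {y} ≠ ⊤ := by
    intro h
    have h1 : Ideal.span {y} ≤ maximalIdeal B := (Ideal.span_singleton_le_iff_mem _).mpr hy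
    rw [h] at h1
    exact (maximalIdeal.isMaximal B).ne_top (top_le_iff.mp h1)
  have : Nontrivial (B ⧸ Ideal.span {y}) := Ideal.Quotient.nontrivial_iff.mpr hne
  exact IsLocalRing.of_surjective' (Ideal.Quotient.mk (Ideal.span {y})) Ideal.Quotient.mk_surjective

variable [IsNoetherianRing B]

/-- Quotient by a regular element of the maximal ideal: Gorenstein-ness is preserved and reflected,
and the depth drops by one. -/
theorem gor_and_depth_quotient_regular {y : B} (hy : y ∈ maximalIdeal B) (hreg : IsSMulRegular B y)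
    [IsLocalRing (B ⧸ Ideal.span {y})] :
    (LocCoh.IsGorensteinLocalRing B ↔ LocCoh.IsGorensteinLocalRing (B ⧸ Ideal.span {y})) ∧
      LocCoh.depth (B ⧸ Ideal.span {y}) (B ⧸ Ideal.span {y}) + 1 = LocCoh.depth B B := by
  refine ⟨Groth.Agent.Lib.Helper2.Rees.isGorensteinLocalRing_iff_quotient B y hy hreg, ?_⟩
  rw [depth_self_eq_depth_of_surjective (R := B) (R' := B ⧸ Ideal.span {y})
    Ideal.Quotient.mk_surjective, ← depth_quotSMulTop_add_one B B hy hreg]
  congr 1
  exact idealDepth_congr _ (Submodule.quotEquivOfEq _ _ (smul_top_eq_span_singleton B y)).symm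

end Quot

section Steps

variable (A B : Type u) [CommRing A] [CommRing B] [IsLocalRing A] [IsLocalRing B]
  [IsNoetherianRing A] [IsNoetherianRing B] [Algebra A B] [Module.Flat A B]
  [IsLocalHom (algebraMap A B)]

/-- Reduction step on the base: quotient by an `A`-regular element `x ∈ m_A`. -/
theorem step_base {x : A} (hx : x ∈ maximalIdeal A) (hreg : IsSMulRegular A x)
    [IsLocalRing (A ⧸ Ideal.span {x})]
    [IsLocalRing (B ⧸ (Ideal.span {x}).map (algebraMap A B))] :
    (LocCoh.IsGorensteinLocalRing A ↔ LocCoh.IsGorensteinLocalRing (A ⧸ Ideal.span {x})) ∧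
    (LocCoh.IsGorensteinLocalRing B ↔
      LocCoh.IsGorensteinLocalRing (B ⧸ (Ideal.span {x}).map (algebraMap A B))) ∧
    (LocCoh.IsGorensteinLocalRing (EGA4.FibRing A B) ↔
      LocCoh.IsGorensteinLocalRing (EGA4.FibRing (A ⧸ Ideal.span {x})
        (B ⧸ (Ideal.span {x}).map (algebraMap A B)))) ∧
    LocCoh.depth (B ⧸ (Ideal.span {x}).map (algebraMap A B))
      (B ⧸ (Ideal.span {x}).map (algebraMap A B)) + 1 = LocCoh.depth B B := by
  have hspan : (Ideal.span {x}).map (algebraMap A B) = Ideal.span {algebraMap A B x} := by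
    rw [Ideal.map_span, Set.image_singleton]
  have hy : algebraMap A B x ∈ maximalIdeal B :=
    (map_maximalIdeal_le (algebraMap A B)) (Ideal.mem_map_of_mem _ hx)
  have hregB : IsSMulRegular B (algebraMap A B x) := hreg.of_flat
  have hloc : IsLocalRing (B ⧸ Ideal.span {algebraMap A B x}) :=
    isLocalRing_quotient_span_singleton B hy
  obtain ⟨h1, h2⟩ := gor_and_depth_quotient_regular B hy hregB
  refine ⟨Groth.Agent.Lib.Helper2.Rees.isGorensteinLocalRing_iff_quotient A x hx hreg, ?_, ?_, ?_⟩
  · exact h1.trans (isGorensteinLocalRing_quotient_congr hspan.symm)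
  · have hle : (Ideal.span {x}).map (algebraMap A B) ≤ (maximalIdeal A).map (algebraMap A B) :=
      Ideal.map_mono ((Ideal.span_singleton_le_iff_mem _).mpr hx)
    refine Iff.trans ?_ (isGorensteinLocalRing_quotient_congr
      (map_maximalIdeal_quotient_map A B (Ideal.span {x})).symm)
    exact (isGorensteinLocalRing_iff_of_ringEquiv (DoubleQuot.quotQuotEquivQuotOfLE hle)).symm
  · have key : ∀ (I J : Ideal B) (h : I = J) [IsLocalRing (B ⧸ I)] [IsLocalRing (B ⧸ J)],
        LocCoh.depth (B ⧸ I) (B ⧸ I) = LocCoh.depth (B ⧸ J) (B ⧸ J) := by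
      intro I J h _ _
      subst h
      rfl
    rw [key _ _ hspan]
    exact h2

/-- Reduction step on the fibre: quotient by an element `y ∈ m_B` regular on the closed fibre. -/
theorem step_fibre {y : B} (hy : y ∈ maximalIdeal B)
    (hregF : IsSMulRegular (EGA4.FibRing A B) (Ideal.Quotient.mk (EGA4.mB A B) y))
    [IsLocalRing (B ⧸ Ideal.span {y})] [IsLocalHom (algebraMap A (B ⧸ Ideal.span {y}))] :
    Module.Flat A (B ⧸ Ideal.span {y}) ∧
    (LocCoh.IsGorensteinLocalRing B ↔ LocCoh.IsGorensteinLocalRing (B ⧸ Ideal.span {y})) ∧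
    (LocCoh.IsGorensteinLocalRing (EGA4.FibRing A B) ↔
      LocCoh.IsGorensteinLocalRing (EGA4.FibRing A (B ⧸ Ideal.span {y}))) ∧
    LocCoh.depth (B ⧸ Ideal.span {y}) (B ⧸ Ideal.span {y}) + 1 = LocCoh.depth B B := by
  -- regularity on the fibre as a `B`-module
  have heq : (EGA4.mB A B) • (⊤ : Submodule B B) = EGA4.mB A B := by
    rw [smul_eq_mul, Ideal.mul_top]
  have hy' : IsSMulRegular (B ⧸ (EGA4.mB A B) • (⊤ : Submodule B B)) y := by
    rw [(Submodule.quotEquivOfEq _ _ heq).isSMulRegular_congr y]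
    intro z1 z2 h
    apply hregF
    simpa [Algebra.smul_def] using h
  obtain ⟨hregB, hflat⟩ :=
    Groth.Agent.Lib.Helper93.DepthFlat.isSMulRegular_and_flat_of_regular_fibre (R := A) (S := B) B hy'
  obtain ⟨h1, h2⟩ := gor_and_depth_quotient_regular B hy hregB
  -- the image of `y` in the fibre
  have hyF : Ideal.Quotient.mk (EGA4.mB A B) y ∈ maximalIdeal (EGA4.FibRing A B) := by
    rw [← IsLocalRing.map_maximalIdeal_of_surjective (Ideal.Quotient.mk (EGA4.mB A B))
      Ideal.Quotient.mk_surjective]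
    exact Ideal.mem_map_of_mem _ hy
  have hlocF : IsLocalRing (EGA4.FibRing A B ⧸ Ideal.span {Ideal.Quotient.mk (EGA4.mB A B) y}) :=
    isLocalRing_quotient_span_singleton _ hyF
  obtain ⟨h3, -⟩ := gor_and_depth_quotient_regular (EGA4.FibRing A B) hyF hregF
  refine ⟨?_, h1, ?_, h2⟩
  · exact Module.Flat.of_linearEquiv
      ((Submodule.quotEquivOfEq _ _ (smul_top_eq_span_singleton B y)).restrictScalars A).symm
  · refine h3.trans ?_
    have hmap1 : (Ideal.span {y}).map (Ideal.Quotient.mk (EGA4.mB A B)) =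
        Ideal.span {Ideal.Quotient.mk (EGA4.mB A B) y} := by
      rw [Ideal.map_span, Set.image_singleton]
    have hmap2 : (EGA4.mB A B).map (Ideal.Quotient.mk (Ideal.span {y})) =
        EGA4.mB A (B ⧸ Ideal.span {y}) := by
      change ((maximalIdeal A).map (algebraMap A B)).map (Ideal.Quotient.mk (Ideal.span {y})) =
        (maximalIdeal A).map (algebraMap A (B ⧸ Ideal.span {y}))
      rw [Ideal.map_map]
      rfl
    refine (isGorensteinLocalRing_quotient_congr hmap1.symm).trans ?_
    refine Iff.trans ?_ (isGorensteinLocalRing_quotient_congr hmap2)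
    exact isGorensteinLocalRing_iff_of_ringEquiv
      (DoubleQuot.quotQuotEquivComm (EGA4.mB A B) (Ideal.span {y}))

end Steps

section Main

lemma enat_eq_of_add_one_eq {a : ℕ∞} {n : ℕ} (h : a + 1 = ((n + 1 : ℕ) : ℕ∞)) : a = n := by
  have h2 : a + 1 = (n : ℕ∞) + 1 := by rw [h]; push_cast; rfl
  exact ENat.add_left_injective_of_ne_top ENat.one_ne_top h2

theorem isGorensteinLocalRing_iff_of_flat_local_aux (n : ℕ) :
    ∀ (A B : Type u) [CommRing A] [CommRing B] [IsLocalRing A] [IsLocalRing B]
      [IsNoetherianRing A] [IsNoetherianRing B] [Algebra A B] [Module.Flat A B]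
      [IsLocalHom (algebraMap A B)], LocCoh.depth B B = n →
      (LocCoh.IsGorensteinLocalRing B ↔
        LocCoh.IsGorensteinLocalRing A ∧ LocCoh.IsGorensteinLocalRing (EGA4.FibRing A B)) := by
  induction n with
  | zero =>
    intro A B _ _ _ _ _ _ _ _ _ hd
    have h := depth_self_eq_add_of_flat A B
    rw [hd] at h
    obtain ⟨h1, h2⟩ := add_eq_zero.mp h.symm
    exact isGorensteinLocalRing_iff_of_flat_local_of_depth_zero A B h1 h2
  | succ n ih =>
    intro A B _ _ _ _ _ _ _ _ _ hd
    have h := depth_self_eq_add_of_flat A B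
    by_cases hA : (1 : ℕ∞) ≤ LocCoh.depth A A
    · obtain ⟨x, hx, hreg⟩ :=
        Groth.Agent.Lib.Helper60.exists_isSMulRegular_of_one_le_depth (A := A) A hA
      have ha : Ideal.span {x} ≠ ⊤ := by
        intro h'
        have h1 : Ideal.span {x} ≤ maximalIdeal A := (Ideal.span_singleton_le_iff_mem _).mpr hx
        rw [h'] at h1
        exact (maximalIdeal.isMaximal A).ne_top (top_le_iff.mp h1)
      have i1 : IsLocalRing (A ⧸ Ideal.span {x}) := isLocalRing_quotient_of_ne_top A _ ha
      have i2 : IsLocalRing (B ⧸ (Ideal.span {x}).map (algebraMap A B)) :=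
        isLocalRing_quotient_map_of_ne_top A B _ ha
      have i3 : Module.Flat (A ⧸ Ideal.span {x}) (B ⧸ (Ideal.span {x}).map (algebraMap A B)) :=
        flat_quotient_map A B _
      have i4 : IsLocalHom (algebraMap (A ⧸ Ideal.span {x})
          (B ⧸ (Ideal.span {x}).map (algebraMap A B))) := isLocalHom_quotient_map A B _
      obtain ⟨g1, g2, g3, g4⟩ := step_base A B hx hreg
      rw [hd] at g4
      have hd' := enat_eq_of_add_one_eq g4
      have hih := ih (A ⧸ Ideal.span {x}) (B ⧸ (Ideal.span {x}).map (algebraMap A B)) hd'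
      rw [g2, hih, g1, g3]
    · have hA0 : LocCoh.depth A A = 0 := by
        rw [not_le] at hA
        exact Order.lt_one_iff.mp hA
      rw [hA0, zero_add, hd] at h
      have hF1 : (1 : ℕ∞) ≤ LocCoh.depth (EGA4.FibRing A B) (EGA4.FibRing A B) := by
        rw [← h]
        exact_mod_cast Nat.le_add_left 1 n
      obtain ⟨y', hy', hregF⟩ :=
        Groth.Agent.Lib.Helper60.exists_isSMulRegular_of_one_le_depth
          (A := EGA4.FibRing A B) (EGA4.FibRing A B) hF1
      obtain ⟨y, rfl⟩ := Ideal.Quotient.mk_surjective y'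
      have hy : y ∈ maximalIdeal B := by
        rw [mem_maximalIdeal, mem_nonunits_iff]
        intro hu
        exact (mem_nonunits_iff.mp ((mem_maximalIdeal _).mp hy')) (hu.map _)
      have i1 : IsLocalRing (B ⧸ Ideal.span {y}) := isLocalRing_quotient_span_singleton B hy
      have i2 : IsLocalHom (Ideal.Quotient.mk (Ideal.span {y})) :=
        IsLocalHom.of_surjective _ Ideal.Quotient.mk_surjective
      have i3 : IsLocalHom (algebraMap A (B ⧸ Ideal.span {y})) := by
        change IsLocalHom ((Ideal.Quotient.mk (Ideal.span {y})).comp (algebraMap A B))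
        infer_instance
      obtain ⟨f1, f2, f3, f4⟩ := step_fibre A B hy hregF
      rw [hd] at f4
      have hd' := enat_eq_of_add_one_eq f4
      have hih := ih A (B ⧸ Ideal.span {y}) hd'
      rw [f2, hih, f3]

variable (A B : Type u) [CommRing A] [CommRing B] [IsLocalRing A] [IsLocalRing B]
  [IsNoetherianRing A] [IsNoetherianRing B] [Algebra A B] [Module.Flat A B]
  [IsLocalHom (algebraMap A B)]

/-- **Gorenstein-ness along flat local homomorphisms**: `B` is Gorenstein iff `A` and the closed
fibre `B / m_A B` are. -/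
theorem isGorensteinLocalRing_iff_of_flat_local :
    LocCoh.IsGorensteinLocalRing B ↔
      LocCoh.IsGorensteinLocalRing A ∧ LocCoh.IsGorensteinLocalRing (EGA4.FibRing A B) := by
  obtain ⟨n, hn⟩ : ∃ n : ℕ, LocCoh.depth B B = n :=
    ⟨(LocCoh.depth B B).toNat, (ENat.natCast_toNat (depth_ne_top B B)).symm⟩
  exact isGorensteinLocalRing_iff_of_flat_local_aux n A B hn

end Main

end Groth.Agent.Lib.Helper24
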