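import Mathlib
import Groth.Agent.Lib.Helper24.GorenFlat

/-!
# Descending properties from the completion of a Noetherian local ring (helper24)

For a Noetherian local ring `A` with completion `Â ≃+* D`:
* `D` Gorenstein ⇒ `A` Gorenstein;
* `D` reduced ⇒ `A` reduced.
-/

set_option autoImplicit false
universe u

namespace Groth.Agent.Lib.Helper24

open IsLocalRing

variable (A : Type u) [CommRing A] [IsLocalRing A] [IsNoetherianRing A]

/-- If the completion of a Noetherian local ring is Gorenstein, so is the ring. -/
theorem isGorensteinLocalRing_of_adicCompletion
    (h : LocCoh.IsGorensteinLocalRing (AdicCompletion (maximalIdeal A) A)) :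
    LocCoh.IsGorensteinLocalRing A := by
  have : IsNoetherianRing (AdicCompletion (maximalIdeal A) A) := inferInstance
  exact ((isGorensteinLocalRing_iff_of_flat_local A (AdicCompletion (maximalIdeal A) A)).mp h).1

/-- If the completion of a Noetherian local ring is isomorphic to a Gorenstein ring, the ring is
Gorenstein. -/
theorem isGorensteinLocalRing_of_adicCompletion_equiv {D : Type u} [CommRing D]
    (e : AdicCompletion (maximalIdeal A) A ≃+* D) (h : LocCoh.IsGorensteinLocalRing D) :
    LocCoh.IsGorensteinLocalRing A :=
  isGorensteinLocalRing_of_adicCompletion A (isGorensteinLocalRing_of_ringEquiv e.symm h)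

/-- If the completion of a Noetherian local ring is reduced, so is the ring. -/
theorem isReduced_of_adicCompletion
    (h : IsReduced (AdicCompletion (maximalIdeal A) A)) : IsReduced A := by
  have hinj : Function.Injective (algebraMap A (AdicCompletion (maximalIdeal A) A)) :=
    AdicCompletion.of_injective (maximalIdeal A) A
  exact isReduced_of_injective (algebraMap A (AdicCompletion (maximalIdeal A) A)) hinj

theorem isReduced_of_adicCompletion_equiv {D : Type u} [CommRing D]
    (e : AdicCompletion (maximalIdeal A) A ≃+* D) (h : IsReduced D) : IsReduced A := by
  have : IsReduced (AdicCompletion (maximalIdeal A) A) :=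
    isReduced_of_injective e.toRingHom e.injective
  exact isReduced_of_adicCompletion A this

end Groth.Agent.Lib.Helper24
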