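import Groth.Agent.Lib.Helper24.FibrePropBaseChange
import Groth.Agent.Lib.Helper24.GorenFibre

/-!
# Gorenstein local rings of fibres and base change (helper24)
-/

set_option autoImplicit false
universe u
open AlgebraicGeometry CategoryTheory CategoryTheory.Limits TensorProduct

namespace Groth.Agent.Lib.Helper24

/-- Gorenstein-ness of local rings satisfies the field base change axioms. -/
theorem gorenstein_fieldBaseChangeProp :
    FieldBaseChangeProp (fun (R : Type u) [CommRing R] => LocCoh.IsGorensteinLocalRing R) where
  of_ringEquiv e h := isGorensteinLocalRing_of_ringEquiv e h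
  tensor_iff k K A _ _ _ _ _ _ _ h 𝔓 _ := by
    rcases h with h | h
    · exact isGorensteinLocalRing_tensor_field_iff_of_essFiniteType k K A 𝔓
    · exact isGorensteinLocalRing_tensor_field_iff_of_essFiniteType_left k K A 𝔓

variable {X Y X' Y' : Scheme.{u}} {f : X ⟶ Y} {f' : X' ⟶ Y'} {g' : X' ⟶ X} {g : Y' ⟶ Y}

/-- **Gorenstein-ness of the local rings of the fibres is invariant under base change** (the base
change map being locally of finite type, or the morphism itself being locally of finite type). -/
theorem isGorensteinLocalRing_fibre_stalk_iff_of_isPullback (hc : IsPullback g' f' f g)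
    (x' : X') (hN : IsLocallyNoetherian (f.fiber (g (f' x'))))
    (hgf : LocallyOfFiniteType g ∨ LocallyOfFiniteType f) :
    LocCoh.IsGorensteinLocalRing ((f'.fiber (f' x')).presheaf.stalk (f'.asFiber x')) ↔
      LocCoh.IsGorensteinLocalRing
        ((f.fiber (f (g' x'))).presheaf.stalk (f.asFiber (g' x'))) :=
  gorenstein_fieldBaseChangeProp.fibre_stalk_iff_of_isPullback hc x' hN hgf

end Groth.Agent.Lib.Helper24
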