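import Mathlib
import Groth.Agent.S12327
import Groth.Agent.S0343
import Groth.Agent.S0342

/-!
# The ring `K[[x, y]]/(xy)` (helper24)

It is a reduced Gorenstein Noetherian local ring.
-/

universe u

open MvPowerSeries

namespace Groth.Agent.Lib.Helper24

section general

variable {σ : Type*} {R : Type*} [CommRing R] [NoZeroDivisors R]

/-- `X s ∣ f * f → X s ∣ f` in a power series ring over a domain. -/
theorem X_dvd_of_X_dvd_mul_self (s : σ) (f : MvPowerSeries σ R)
    (h : (X s : MvPowerSeries σ R) ∣ f * f) : (X s : MvPowerSeries σ R) ∣ f := by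
  classical
  let g : MvPowerSeries σ R := fun m => if m s = 0 then coeff m f else 0
  have hg : ∀ m, coeff m g = if m s = 0 then coeff m f else 0 := fun m => rfl
  have h1 : (X s : MvPowerSeries σ R) ∣ f - g := by
    rw [X_dvd_iff]
    intro m hm
    rw [map_sub, hg, if_pos hm, sub_self]
  have h2 : ∀ m : σ →₀ ℕ, m s ≠ 0 → coeff m (g * g) = 0 := by
    intro m hm
    rw [coeff_mul]
    refine Finset.sum_eq_zero fun p hp => ?_
    rw [Finset.HasAntidiagonal.mem_antidiagonal] at hp
    have hs : p.1 s + p.2 s = m s := by rw [← hp]; rfl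
    by_cases h1 : p.1 s = 0
    · have h2 : p.2 s ≠ 0 := by omega
      rw [hg p.2, if_neg h2, mul_zero]
    · rw [hg p.1, if_neg h1, zero_mul]
  have h3 : (X s : MvPowerSeries σ R) ∣ g * g := by
    obtain ⟨q, hq⟩ := h1
    have hf : f = g + X s * q := by rw [← hq]; ring
    have : g * g = f * f - X s * (q * (g + f)) := by rw [hf]; ring
    rw [this]
    exact dvd_sub h (Dvd.intro _ rfl)
  have h4 : g * g = 0 := by
    ext m
    by_cases hm : m s = 0
    · rw [map_zero]; exact (X_dvd_iff.mp h3) m hm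
    · rw [map_zero]; exact h2 m hm
  have h5 : g = 0 := by
    rcases mul_self_eq_zero.mp h4 with h
    exact h
  rw [h5, sub_zero] at h1
  exact h1

/-- `X s ∣ X t * f → X s ∣ f` for `s ≠ t`. -/
theorem X_dvd_of_X_dvd_X_mul {s t : σ} (hst : s ≠ t) (f : MvPowerSeries σ R)
    (h : (X s : MvPowerSeries σ R) ∣ X t * f) : (X s : MvPowerSeries σ R) ∣ f := by
  classical
  rw [X_dvd_iff] at h ⊢
  intro m hm
  have h1 := h (Finsupp.single t 1 + m) (by
    rw [Finsupp.add_apply, Finsupp.single_apply, if_neg (Ne.symm hst), hm])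
  rw [X_def, coeff_add_monomial_mul, one_mul] at h1
  exact h1

theorem X_ne_zero' [Nontrivial R] (s : σ) : (X s : MvPowerSeries σ R) ≠ 0 := by
  classical
  intro h
  have := congrArg (coeff (Finsupp.single s 1)) h
  rw [X_def, coeff_monomial_same, map_zero] at this
  exact one_ne_zero this

end general

variable (K : Type u) [Field K]

/-- The ideal `(xy)` of `K[[x, y]]`. -/
noncomputable abbrev nodeIdeal : Ideal (MvPowerSeries (Fin 2) K) :=
  Ideal.span {(MvPowerSeries.X 0 * MvPowerSeries.X 1 : MvPowerSeries (Fin 2) K)}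

/-- The ring `K[[x, y]]/(xy)`. -/
abbrev NodeRing : Type u := MvPowerSeries (Fin 2) K ⧸ nodeIdeal K

instance : IsRegularLocalRing (MvPowerSeries (Fin 2) K) :=
  Groth.Agent.S12327.isRegularLocalRing_mvPowerSeries 2

theorem X_mul_X_mem_maximalIdeal :
    (MvPowerSeries.X 0 * MvPowerSeries.X 1 : MvPowerSeries (Fin 2) K) ∈
      IsLocalRing.maximalIdeal (MvPowerSeries (Fin 2) K) := by
  rw [IsLocalRing.mem_maximalIdeal, mem_nonunits_iff, MvPowerSeries.isUnit_iff_constantCoeff]
  simp

theorem nodeIdeal_le_maximalIdeal :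
    nodeIdeal K ≤ IsLocalRing.maximalIdeal (MvPowerSeries (Fin 2) K) := by
  rw [Ideal.span_le, Set.singleton_subset_iff]
  exact X_mul_X_mem_maximalIdeal K

instance : Nontrivial (NodeRing K) := by
  apply Ideal.Quotient.nontrivial_iff.mpr
  intro h
  have := nodeIdeal_le_maximalIdeal K
  rw [h] at this
  exact (IsLocalRing.maximalIdeal.isMaximal _).ne_top (top_le_iff.mp this)

instance : IsLocalRing (NodeRing K) :=
  IsLocalRing.of_surjective' (Ideal.Quotient.mk (nodeIdeal K)) Ideal.Quotient.mk_surjective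

theorem isGorensteinLocalRing_nodeRing : LocCoh.IsGorensteinLocalRing (NodeRing K) := by
  have h1 : LocCoh.IsGorensteinLocalRing (MvPowerSeries (Fin 2) K) := Groth.Agent.S0342.result _
  have hne : (MvPowerSeries.X 0 * MvPowerSeries.X 1 : MvPowerSeries (Fin 2) K) ≠ 0 :=
    mul_ne_zero (X_ne_zero' 0) (X_ne_zero' 1)
  have hreg : IsSMulRegular (MvPowerSeries (Fin 2) K)
      (MvPowerSeries.X 0 * MvPowerSeries.X 1 : MvPowerSeries (Fin 2) K) :=
    (isRegular_of_ne_zero hne).left.isSMulRegular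
  exact (Groth.Agent.S0343.result _ _ (X_mul_X_mem_maximalIdeal K) hreg).mp h1

instance isReduced_nodeRing : IsReduced (NodeRing K) := by
  rw [isReduced_iff_pow_one_lt 2 (by norm_num)]
  intro x hx
  obtain ⟨f, rfl⟩ := Ideal.Quotient.mk_surjective x
  rw [← map_pow, Ideal.Quotient.eq_zero_iff_mem, Ideal.mem_span_singleton, pow_two] at hx
  rw [Ideal.Quotient.eq_zero_iff_mem, Ideal.mem_span_singleton]
  have h0 : (MvPowerSeries.X 0 : MvPowerSeries (Fin 2) K) ∣ f :=
    X_dvd_of_X_dvd_mul_self 0 f (dvd_trans (Dvd.intro _ rfl) hx)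
  have h1 : (MvPowerSeries.X 1 : MvPowerSeries (Fin 2) K) ∣ f :=
    X_dvd_of_X_dvd_mul_self 1 f (dvd_trans (Dvd.intro_left _ rfl) hx)
  obtain ⟨q, rfl⟩ := h0
  have h2 : (MvPowerSeries.X 1 : MvPowerSeries (Fin 2) K) ∣ q :=
    X_dvd_of_X_dvd_X_mul (by decide) q h1
  obtain ⟨r, rfl⟩ := h2
  exact ⟨r, by ring⟩

end Groth.Agent.Lib.Helper24
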