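import Mathlib.AlgebraicGeometry.Morphisms.Smooth
import Mathlib.AlgebraicGeometry.Morphisms.LocalFlatDescent
import Mathlib.AlgebraicGeometry.Morphisms.Integral
import Mathlib.AlgebraicGeometry.Morphisms.QuasiFinite
import Mathlib.AlgebraicGeometry.Morphisms.Finite
import Mathlib.AlgebraicGeometry.Noetherian
import Mathlib.AlgebraicGeometry.PullbackCarrier

/-!
# The non-smooth set of a morphism and base change (helper24)

`nonSmoothSet f = {x | ¬ ∃ U ∋ x open, U ⟶ Y smooth}`.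
* it is the complement of Mathlib's `f.smoothLocus` (for `f` locally of finite presentation);
* it can only shrink under base change (`nonSmoothSet_subset_preimage`);
* it descends along an integral fpqc base change (`nonSmoothSet_subset_image_of_integral`).
-/

universe u

open CategoryTheory CategoryTheory.Limits AlgebraicGeometry

namespace Groth.Agent.Lib.Helper24

variable {X Y X' Y' : Scheme.{u}}

/-- The set of points at which `f` is not smooth. -/
def nonSmoothSet (f : X ⟶ Y) : Set ↥X := {x : ↥X | ¬ ∃ U : X.Opens, x ∈ U ∧ Smooth (U.ι ≫ f)}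

theorem smooth_ι_comp_of_le_smoothLocus (f : X ⟶ Y) [LocallyOfFinitePresentation f] (U : X.Opens)
    (h : U ≤ f.smoothLocus) : Smooth (U.ι ≫ f) := by
  rw [← Scheme.Hom.smoothLocus_eq_top_iff, ← Scheme.Hom.preimage_smoothLocus_eq, eq_top_iff]
  intro x _
  exact h x.2

theorem le_smoothLocus_of_smooth (f : X ⟶ Y) [LocallyOfFinitePresentation f] (U : X.Opens)
    (h : Smooth (U.ι ≫ f)) : U ≤ f.smoothLocus := by
  intro x hx
  have h1 : (U.ι ≫ f).smoothLocus = ⊤ := Scheme.Hom.smoothLocus_eq_top_iff.mpr h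
  rw [← Scheme.Hom.preimage_smoothLocus_eq] at h1
  have h2 : (⟨x, hx⟩ : U) ∈ U.ι ⁻¹ᵁ f.smoothLocus := by rw [h1]; trivial
  exact h2

theorem nonSmoothSet_eq_compl (f : X ⟶ Y) [LocallyOfFinitePresentation f] :
    nonSmoothSet f = ((f.smoothLocus : X.Opens) : Set ↥X)ᶜ := by
  ext x
  simp only [nonSmoothSet, Set.mem_setOf_eq, Set.mem_compl_iff, SetLike.mem_coe]
  refine not_congr ⟨?_, fun hx => ⟨f.smoothLocus, hx, smooth_ι_comp_of_le_smoothLocus f _ le_rfl⟩⟩
  rintro ⟨U, hxU, hU⟩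
  exact le_smoothLocus_of_smooth f U hU hxU

theorem isClosed_nonSmoothSet (f : X ⟶ Y) [LocallyOfFinitePresentation f] :
    IsClosed (nonSmoothSet f) := by
  rw [nonSmoothSet_eq_compl]
  exact f.smoothLocus.2.isClosed_compl

/-- The restriction of a cartesian square to an open of the top right corner. -/
theorem isPullback_restrict_opens {i₀ : X' ⟶ X} {q : X' ⟶ Y'} {p : X ⟶ Y} {t' : Y' ⟶ Y}
    (hi : IsPullback i₀ q p t') (U : X.Opens) :
    IsPullback (i₀ ∣_ U) ((i₀ ⁻¹ᵁ U).ι ≫ q) (U.ι ≫ p) t' :=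
  (isPullback_morphismRestrict i₀ U).paste_vert hi

/-- The non-smooth set can only shrink under base change. -/
theorem nonSmoothSet_subset_preimage {i₀ : X' ⟶ X} {q : X' ⟶ Y'} {p : X ⟶ Y} {t' : Y' ⟶ Y}
    (hi : IsPullback i₀ q p t') : nonSmoothSet q ⊆ i₀ ⁻¹' nonSmoothSet p := by
  intro x' hx' hx
  apply hx'
  simp only [nonSmoothSet, Set.mem_setOf_eq, not_not] at hx
  obtain ⟨U, hxU, hU⟩ := hx
  exact ⟨i₀ ⁻¹ᵁ U, hxU, MorphismProperty.of_isPullback (isPullback_restrict_opens hi U) hU⟩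

/-- Descent of the non-smooth set along a closed, surjective, flat, quasi-compact base change. -/
theorem nonSmoothSet_subset_image {i₀ : X' ⟶ X} {q : X' ⟶ Y'} {p : X ⟶ Y} {t' : Y' ⟶ Y}
    (hi : IsPullback i₀ q p t') [LocallyOfFinitePresentation q] [Surjective t'] [Flat t'] [QuasiCompact t']
    (hcl : IsClosedMap i₀) : nonSmoothSet p ⊆ i₀ '' nonSmoothSet q := by
  have hC : IsClosed (i₀ '' nonSmoothSet q) := hcl _ (isClosed_nonSmoothSet q)
  let U : X.Opens := ⟨(i₀ '' nonSmoothSet q)ᶜ, hC.isOpen_compl⟩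
  have hU' : i₀ ⁻¹ᵁ U ≤ q.smoothLocus := by
    intro x' hx'
    by_contra hns
    have h1 : x' ∈ nonSmoothSet q := by rw [nonSmoothSet_eq_compl]; exact hns
    exact hx' ⟨x', h1, rfl⟩
  have hsm : Smooth ((i₀ ⁻¹ᵁ U).ι ≫ q) := smooth_ι_comp_of_le_smoothLocus q _ hU'
  have hsmU : Smooth (U.ι ≫ p) :=
    MorphismProperty.of_isPullback_of_descendsAlong (P := @Smooth)
      (Q := @Surjective ⊓ @Flat ⊓ @QuasiCompact) (isPullback_restrict_opens hi U).flip
      ⟨⟨inferInstance, inferInstance⟩, inferInstance⟩ hsm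
  intro x hx
  by_contra hxC
  exact hx ⟨U, hxC, hsmU⟩

end Groth.Agent.Lib.Helper24
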