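import Mathlib
import Groth.Prelude
import Groth.Agent.Lib.Helper24.NodeRing
import Groth.Agent.Lib.Helper24.CompletionGoren
import Groth.Agent.Lib.Helper24.GorenFibreBaseChange
import Groth.Agent.Lib.Helper24.SmoothRationalPoint
import Groth.Agent.Lib.Helper24.SmoothLocusField
import Groth.Agent.Lib.Helper50.GeomReducedPerfect
import Groth.Agent.Lib.Helper50.StalkSpecializes
import Groth.Agent.Lib.Helper60.BE
import Groth.Agent.Lib.Helper85.RegularLocal

/-!
# At-worst-nodal curves are Gorenstein and geometrically reduced (helper24)
-/

set_option autoImplicit false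
universe u

open CategoryTheory CategoryTheory.Limits AlgebraicGeometry

namespace Groth.Agent.Lib.Helper24

/-- A local localization of a Gorenstein local ring is Gorenstein. -/
theorem isGorensteinLocalRing_of_isLocalization {A B : Type u} [CommRing A] [CommRing B]
    [Algebra A B] [IsLocalRing B] (M : Submonoid A) [IsLocalization M B]
    (h : LocCoh.IsGorensteinLocalRing A) : LocCoh.IsGorensteinLocalRing B := by
  have hG : LocCoh.IsGorensteinRing A :=
    ((Groth.Agent.Lib.Helper60.exists_hasInjectiveDimensionLT_self_iff A).mp
      h.exists_hasInjectiveDimensionLT).1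
  have h0 : IsLocalization.AtPrime B (IsLocalRing.maximalIdeal B) := by
    apply IsLocalization.of_le_isUnit
    intro b hb
    exact IsLocalRing.notMem_maximalIdeal.mp hb
  have h1 : IsLocalization.AtPrime B ((IsLocalRing.maximalIdeal B).comap (algebraMap A B)) :=
    IsLocalization.isLocalization_isLocalization_atPrime_isLocalization M B
      (IsLocalRing.maximalIdeal B)
  have h2 := hG.isGorensteinLocalRing_localization
    ((IsLocalRing.maximalIdeal B).comap (algebraMap A B))
  exact isGorensteinLocalRing_of_ringEquiv
    (IsLocalization.algEquiv ((IsLocalRing.maximalIdeal B).comap (algebraMap A B)).primeCompl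
      (Localization.AtPrime ((IsLocalRing.maximalIdeal B).comap (algebraMap A B))) B).toRingEquiv h2

section smooth


variable (k : Type u) [Field k] {X : Scheme.{u}} (f : X ⟶ Spec (CommRingCat.of k))
  [LocallyOfFiniteType f]

/-- At a smooth point the local ring is Gorenstein. -/
theorem isGorensteinLocalRing_stalk_of_mem_smoothLocus (x : X) (hx : x ∈ f.smoothLocus) :
    LocCoh.IsGorensteinLocalRing (X.presheaf.stalk x) := by
  have hlfp : LocallyOfFinitePresentation f := inferInstance
  have hreg : IsRegularLocalRing (X.presheaf.stalk x) :=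
    isRegularLocalRing_stalk_of_mem_smoothLocus k f x hx
  exact Groth.Agent.S0342.result _

set_option backward.isDefEq.respectTransparency.types false in
/-- At a smooth point the local ring is geometrically reduced. -/
theorem isGeometricallyReduced_stalk_of_mem_smoothLocus (x : X) (hx : x ∈ f.smoothLocus)
    (φ : k →+* X.presheaf.stalk x)
    (hφ : Spec.map (CommRingCat.ofHom φ) = X.fromSpecStalk x ≫ f) :
    letI := φ.toAlgebra
    Algebra.IsGeometricallyReduced k (X.presheaf.stalk x) := by
  have hlfp : LocallyOfFinitePresentation f := inferInstance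
  let g := Spec.map (CommRingCat.ofHom (algebraMap k (AlgebraicClosure k)))
  have hsurj : Surjective g :=
    ⟨fun _ => ⟨IsLocalRing.closedPoint (AlgebraicClosure k), Subsingleton.elim _ _⟩⟩
  have hsurj' : Surjective (pullback.fst f g) :=
    MorphismProperty.pullback_fst (P := @Surjective) _ _ hsurj
  obtain ⟨x', hx'⟩ := (pullback.fst f g).surjective x
  have hpb := IsPullback.of_hasPullback f g
  have hlfp' : LocallyOfFinitePresentation (pullback.snd f g) :=
    MorphismProperty.pullback_snd (P := @LocallyOfFinitePresentation) _ _ hlfp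
  have hx'sm : x' ∈ (pullback.snd f g).smoothLocus := by
    by_contra hcon
    have h1 : x' ∈ nonSmoothSet (pullback.snd f g) := by
      rw [nonSmoothSet_eq_compl]; exact hcon
    have h2 := nonSmoothSet_subset_preimage hpb h1
    rw [Set.mem_preimage, hx', nonSmoothSet_eq_compl] at h2
    exact h2 hx
  have hreg : IsRegularLocalRing ((pullback f g).presheaf.stalk x') :=
    isRegularLocalRing_stalk_of_mem_smoothLocus (AlgebraicClosure k) (pullback.snd f g) x' hx'sm
  have hdom : IsDomain ((pullback f g).presheaf.stalk x') :=
    Groth.Agent.Lib.Helper85.isDomain_of_isRegularLocalRing _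
  have hred : IsReduced ((pullback f g).presheaf.stalk x') := inferInstance
  exact Groth.Agent.Lib.Helper50.isGeometricallyReduced_stalk_of_perfect f x φ hφ x' hx' hred


end smooth

section node


variable (k : Type u) [Field k] {X : Scheme.{u}} (f : X ⟶ Spec (CommRingCat.of k))
  [LocallyOfFiniteType f]

set_option backward.isDefEq.respectTransparency.types false in
/-- If some point `xb` of `X_{k̄}` has completed local ring `k̄[[x,y]]/(xy)`, then the local ring of
`X` at the image of `xb` is Gorenstein and geometrically reduced. -/
theorem goren_and_geomReduced_stalk_of_node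
    (xb : ↥(pullback f (Spec.map (CommRingCat.ofHom (algebraMap k (AlgebraicClosure k))))))
    (e : AdicCompletion (IsLocalRing.maximalIdeal
        ((pullback f (Spec.map (CommRingCat.ofHom (algebraMap k (AlgebraicClosure k))))).presheaf.stalk xb))
        ((pullback f (Spec.map (CommRingCat.ofHom (algebraMap k (AlgebraicClosure k))))).presheaf.stalk xb) ≃+*
      NodeRing (AlgebraicClosure k))
    (φ : k →+* X.presheaf.stalk (pullback.fst f
      (Spec.map (CommRingCat.ofHom (algebraMap k (AlgebraicClosure k)))) xb))
    (hφ : Spec.map (CommRingCat.ofHom φ) = X.fromSpecStalk _ ≫ f) :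
    LocCoh.IsGorensteinLocalRing (X.presheaf.stalk (pullback.fst f
      (Spec.map (CommRingCat.ofHom (algebraMap k (AlgebraicClosure k)))) xb)) ∧
    (letI := φ.toAlgebra
     Algebra.IsGeometricallyReduced k (X.presheaf.stalk (pullback.fst f
      (Spec.map (CommRingCat.ofHom (algebraMap k (AlgebraicClosure k)))) xb))) := by
  have hN : IsLocallyNoetherian X := LocallyOfFiniteType.isLocallyNoetherian f
  have hlft' : LocallyOfFiniteType (pullback.snd f
      (Spec.map (CommRingCat.ofHom (algebraMap k (AlgebraicClosure k))))) :=
    MorphismProperty.pullback_snd (P := @LocallyOfFiniteType) _ _ inferInstance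
  have hN' : IsLocallyNoetherian
      (pullback f (Spec.map (CommRingCat.ofHom (algebraMap k (AlgebraicClosure k))))) :=
    LocallyOfFiniteType.isLocallyNoetherian (pullback.snd f
      (Spec.map (CommRingCat.ofHom (algebraMap k (AlgebraicClosure k)))))
  have hG : LocCoh.IsGorensteinLocalRing
      ((pullback f (Spec.map (CommRingCat.ofHom (algebraMap k (AlgebraicClosure k))))).presheaf.stalk xb) :=
    isGorensteinLocalRing_of_adicCompletion_equiv _ e (isGorensteinLocalRing_nodeRing _)
  have hR : IsReduced
      ((pullback f (Spec.map (CommRingCat.ofHom (algebraMap k (AlgebraicClosure k))))).presheaf.stalk xb) :=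
    isReduced_of_adicCompletion_equiv _ e (isReduced_nodeRing _)
  refine ⟨?_, ?_⟩
  · exact (gorenstein_fieldBaseChangeProp.stalk_pullback_field_iff (AlgebraicClosure k) f
      (Or.inr inferInstance) xb).mp hG
  · exact Groth.Agent.Lib.Helper50.isGeometricallyReduced_stalk_of_perfect f _ φ hφ xb rfl hR


end node

section gen


/-- Gorenstein-ness of the local ring passes to generizations. -/
theorem isGorensteinLocalRing_stalk_of_specializes {X : Scheme.{u}} {x x₀ : X} (h : x ⤳ x₀)
    (hG : LocCoh.IsGorensteinLocalRing (X.presheaf.stalk x₀)) :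
    LocCoh.IsGorensteinLocalRing (X.presheaf.stalk x) := by
  let _ := (X.presheaf.stalkSpecializes h).hom.toAlgebra
  obtain ⟨M, hM⟩ := Groth.Agent.Lib.Helper50.exists_isLocalization_stalkSpecializes h
  exact isGorensteinLocalRing_of_isLocalization M hG

variable (k : Type u) [Field k] {X : Scheme.{u}} (f : X ⟶ Spec (CommRingCat.of k))

/-- Geometric reducedness of the local ring passes to generizations (existential form). -/
theorem exists_isGeometricallyReduced_stalk_of_specializes {x x₀ : X} (h : x ⤳ x₀)
    (h₀ : ∃ φ : k →+* X.presheaf.stalk x₀,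
      Spec.map (CommRingCat.ofHom φ) = X.fromSpecStalk x₀ ≫ f ∧
      (letI := φ.toAlgebra; Algebra.IsGeometricallyReduced k (X.presheaf.stalk x₀))) :
    ∃ φ : k →+* X.presheaf.stalk x,
      Spec.map (CommRingCat.ofHom φ) = X.fromSpecStalk x ≫ f ∧
      (letI := φ.toAlgebra; Algebra.IsGeometricallyReduced k (X.presheaf.stalk x)) := by
  obtain ⟨φ₀, hφ₀, hgr⟩ := h₀
  refine ⟨(X.presheaf.stalkSpecializes h).hom.comp φ₀, ?_, ?_⟩
  · rw [← Scheme.SpecMap_stalkSpecializes_fromSpecStalk h, Category.assoc, ← hφ₀,
      ← Spec.map_comp]
    rfl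
  · exact Groth.Agent.Lib.Helper50.isGeometricallyReduced_stalk_of_specializes h φ₀ _ rfl hgr


end gen

end Groth.Agent.Lib.Helper24
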