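import Mathlib
import Groth.Agent.Lib.Helper24.SmoothRationalPoint

/-!
# Regular local ring + formally smooth residue field ⇒ smooth point (over a field)
-/

set_option autoImplicit false
universe u
open AlgebraicGeometry CategoryTheory Limits

namespace Groth.Agent.Lib.Helper24

/-- If `Z` is locally of finite presentation over a field `K`, the local ring of `Z` at `z` is
regular and the residue field at `z` is formally smooth over `K` (e.g. separable algebraic), then
`Z` is smooth over `K` at `z`. -/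
theorem mem_smoothLocus_of_isRegularLocalRing_of_formallySmooth_residueField (K : Type u) [Field K]
    {Z : Scheme.{u}} (b : Z ⟶ Spec (CommRingCat.of K)) [LocallyOfFinitePresentation b] (z : Z)
    (hreg : IsRegularLocalRing (Z.presheaf.stalk z))
    (hres : ((Z.residue z).hom.comp ((Z.presheaf.germ ⊤ z trivial).hom.comp
        (b.appTop.hom.comp (Scheme.ΓSpecIso (CommRingCat.of K)).inv.hom))).FormallySmooth) :
    z ∈ b.smoothLocus := by
  obtain ⟨_, ⟨V, hV, rfl⟩, hzV, -⟩ :=
    Z.isBasis_affineOpens.exists_subset_of_mem_open (Set.mem_univ z) isOpen_univ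
  have hT : IsAffineOpen (⊤ : (Spec (CommRingCat.of K)).Opens) := isAffineOpen_top _
  have hVT : V ≤ b ⁻¹ᵁ ⊤ := fun _ _ => trivial
  rw [Scheme.Hom.mem_smoothLocus, formallySmooth_stalkMap_iff ⊤ hT V hV hVT hzV]
  let e := Scheme.ΓSpecIso (CommRingCat.of K)
  have hft := b.finiteType_appLE hT hV hVT
  algebraize [(b.appLE ⊤ V hVT).hom]
  let _ : Algebra K Γ(Spec (CommRingCat.of K), ⊤) := e.inv.hom.toAlgebra
  let _ : Algebra K Γ(Z, V) := ((b.appLE ⊤ V hVT).hom.comp e.inv.hom).toAlgebra
  have : IsScalarTower K Γ(Spec (CommRingCat.of K), ⊤) Γ(Z, V) := .of_algebraMap_eq' rfl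
  have hbij : Function.Bijective (algebraMap K Γ(Spec (CommRingCat.of K), ⊤)) :=
    (ConcreteCategory.isIso_iff_bijective e.inv).mp inferInstance
  let eK : K ≃ₐ[K] Γ(Spec (CommRingCat.of K), ⊤) :=
    AlgEquiv.ofBijective (Algebra.ofId K _) hbij
  have hunr : Algebra.FormallyUnramified K Γ(Spec (CommRingCat.of K), ⊤) := .of_equiv eK
  have hft0 : Algebra.FiniteType K Γ(Spec (CommRingCat.of K), ⊤) :=
    .of_surjective (Algebra.ofId K _) hbij.2
  have hftC : Algebra.FiniteType K Γ(Z, V) :=
    Algebra.FiniteType.trans hft0 inferInstance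
  -- the stalk as a localization
  let _ : Algebra Γ(Z, V) (Z.presheaf.stalk z) := Z.presheaf.algebra_section_stalk ⟨z, hzV⟩
  have hloc : IsLocalization.AtPrime (Z.presheaf.stalk z) (hV.primeIdealOf ⟨z, hzV⟩).asIdeal :=
    hV.isLocalization_stalk ⟨z, hzV⟩
  let e3 : Localization.AtPrime (hV.primeIdealOf ⟨z, hzV⟩).asIdeal ≃ₐ[Γ(Z, V)]
      Z.presheaf.stalk z :=
    IsLocalization.algEquiv (hV.primeIdealOf ⟨z, hzV⟩).asIdeal.primeCompl _ _
  have hregq : IsRegularLocalRing (Localization.AtPrime (hV.primeIdealOf ⟨z, hzV⟩).asIdeal) :=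
    IsRegularLocalRing.of_ringEquiv e3.symm.toRingEquiv
  -- residue fields
  let τ : (hV.primeIdealOf ⟨z, hzV⟩).asIdeal.ResidueField ≃+*
      IsLocalRing.ResidueField (Z.presheaf.stalk z) :=
    IsLocalRing.ResidueField.mapEquiv e3.toRingEquiv
  have hτ : ∀ a : K, τ (algebraMap K (hV.primeIdealOf ⟨z, hzV⟩).asIdeal.ResidueField a) =
      ((Z.residue z).hom.comp ((Z.presheaf.germ ⊤ z trivial).hom.comp
        (b.appTop.hom.comp (Scheme.ΓSpecIso (CommRingCat.of K)).inv.hom))) a := by
    intro a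
    have h1 : algebraMap K (hV.primeIdealOf ⟨z, hzV⟩).asIdeal.ResidueField a =
        IsLocalRing.residue _ (algebraMap Γ(Z, V)
          (Localization.AtPrime (hV.primeIdealOf ⟨z, hzV⟩).asIdeal)
          (algebraMap K Γ(Z, V) a)) := by
      rw [IsScalarTower.algebraMap_apply K Γ(Z, V)
        (hV.primeIdealOf ⟨z, hzV⟩).asIdeal.ResidueField,
        IsScalarTower.algebraMap_apply Γ(Z, V)
          (Localization.AtPrime (hV.primeIdealOf ⟨z, hzV⟩).asIdeal)
          (hV.primeIdealOf ⟨z, hzV⟩).asIdeal.ResidueField]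
      rfl
    rw [h1]
    change IsLocalRing.residue _ (e3 (algebraMap Γ(Z, V) _ (algebraMap K Γ(Z, V) a))) = _
    rw [e3.commutes]
    change IsLocalRing.residue _ (Z.presheaf.germ V z hzV
      ((b.appLE ⊤ V hVT).hom (e.inv.hom a))) = _
    simp only [RingHom.comp_apply]
    congr 1
    rw [Scheme.Hom.appLE]
    simp only [CommRingCat.hom_comp, RingHom.comp_apply]
    exact Z.presheaf.germ_res_apply _ _ _ _
  have hfsq : Algebra.FormallySmooth K (hV.primeIdealOf ⟨z, hzV⟩).asIdeal.ResidueField := by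
    rw [← RingHom.formallySmooth_algebraMap]
    have h2 := RingHom.FormallySmooth.respectsIso.1 _ τ.symm hres
    convert h2 using 1
    ext a
    exact ((RingEquiv.symm_apply_eq τ).mpr (hτ a).symm).symm
  have hsm : Algebra.FormallySmooth K
      (Localization.AtPrime (hV.primeIdealOf ⟨z, hzV⟩).asIdeal) :=
    Groth.Agent.S2116.formallySmooth_of_isRegularLocalRing K Γ(Z, V) _
  exact Algebra.FormallySmooth.of_restrictScalars K Γ(Spec (CommRingCat.of K), ⊤)
    (Localization.AtPrime (hV.primeIdealOf ⟨z, hzV⟩).asIdeal)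

end Groth.Agent.Lib.Helper24
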