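/-
Helper library (helper24): algebraic core of EGA IV 11.10.6 — base change of a schematically
dominant family over a field to an arbitrary scheme over the field.  Reduction to helper20's
flat finitely presented case (`eq_zero_of_flat_finitePresentation_module_family`) through a
finitely generated subalgebra.
-/
import Mathlib
import Groth.Agent.Lib.Helper20.SchDomFlat

set_option autoImplicit false
universe u
open TensorProduct

namespace Groth.Agent.Lib.Helper24.SchDomField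

open Groth.Agent.Lib.Helper20.SchDenseFlat

section
variable {K A B₀ : Type u} [Field K] [CommRing A] [CommRing B₀] [Algebra K A] [Algebra K B₀]

/-- Step 1 -/
theorem exists_pow_rTensor_eq_zero
    (h : A ⊗[K] B₀) (Ph : Type u) [CommRing Ph] [Algebra (A ⊗[K] B₀) Ph] [IsLocalization.Away h Ph]
    [Algebra A Ph] [IsScalarTower A (A ⊗[K] B₀) Ph]
    {C : Type u} [AddCommGroup C] [Module A C] [Module K C] [IsScalarTower K A C]
    (ψ : A →ₗ[A] C) (a : A ⊗[K] B₀)
    (hm : (ψ 1) ⊗ₜ[A] (algebraMap (A ⊗[K] B₀) Ph a) = (0 : C ⊗[A] Ph)) :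
    ∃ k : ℕ, (ψ.restrictScalars K).rTensor B₀ (h ^ k * a) = 0 := by
  let g : (A ⊗[K] B₀) →ₗ[A ⊗[K] B₀] Ph := Algebra.linearMap (A ⊗[K] B₀) Ph
  have hg : IsLocalizedModule (Submonoid.powers h) g := inferInstance
  have hloc : IsLocalizedModule (Submonoid.powers h) (AlgebraTensorModule.rTensor A C g) :=
    inferInstance
  have hz : AlgebraTensorModule.rTensor A C g (a ⊗ₜ[A] ψ 1) = 0 := by
    have h0 : AlgebraTensorModule.rTensor A C g (a ⊗ₜ[A] ψ 1) =
        (TensorProduct.comm A C Ph) ((ψ 1) ⊗ₜ[A] (algebraMap (A ⊗[K] B₀) Ph a)) := rfl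
    rw [h0, hm, map_zero]
  obtain ⟨s, hs⟩ := (IsLocalizedModule.eq_zero_iff (Submonoid.powers h)
    (AlgebraTensorModule.rTensor A C g)).mp hz
  obtain ⟨k, hk⟩ := (Submonoid.mem_powers_iff _ _).mp s.2
  refine ⟨k, ?_⟩
  have h1 : (h ^ k * a) ⊗ₜ[A] ψ 1 = (0 : (A ⊗[K] B₀) ⊗[A] C) := by
    rw [← smul_eq_mul, ← TensorProduct.smul_tmul', hk]
    exact hs
  have h2 : (ψ 1) ⊗ₜ[A] (h ^ k * a) = (0 : C ⊗[A] (A ⊗[K] B₀)) := by
    have := congrArg (TensorProduct.comm A (A ⊗[K] B₀) C) h1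
    simpa using this
  rw [← cancelBaseChange_one_tmul, h2, map_zero]


/-- the base-changed inclusion of a subalgebra, as a linear map -/
theorem map_id_val_apply (B₁ : Subalgebra K B₀) (x : A ⊗[K] B₁) :
    Algebra.TensorProduct.map (AlgHom.id A A) B₁.val x = (B₁.val.toLinearMap.lTensor A) x := by
  induction x using TensorProduct.induction_on with
  | zero => simp
  | tmul a b => simp
  | add x y hx hy => rw [map_add, map_add, hx, hy]

/-- finitely many elements of `A ⊗ B₀` come from `A ⊗ B₁` for a finitely generated subalgebra. -/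
theorem exists_fg_subalgebra_mem_range (h a : A ⊗[K] B₀) :
    ∃ (B₁ : Subalgebra K B₀) (_ : B₁.FG) (h₁ a₁ : A ⊗[K] B₁),
      Algebra.TensorProduct.map (AlgHom.id A A) B₁.val h₁ = h ∧
      Algebra.TensorProduct.map (AlgHom.id A A) B₁.val a₁ = a := by
  classical
  obtain ⟨N', hfin, hN'⟩ := TensorProduct.exists_finite_submodule_right_of_setFinite
    ({h, a} : Set (A ⊗[K] B₀)) (Set.toFinite _)
  obtain ⟨s, hs⟩ := Module.Finite.iff_fg.mp hfin
  let B₁ : Subalgebra K B₀ := Algebra.adjoin K (s : Set B₀)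
  have hle : N' ≤ Subalgebra.toSubmodule B₁ := by
    rw [← hs]
    exact Algebra.span_le_adjoin K _
  have key : ∀ z ∈ LinearMap.range (N'.subtype.lTensor A),
      ∃ z₁ : A ⊗[K] B₁, Algebra.TensorProduct.map (AlgHom.id A A) B₁.val z₁ = z := by
    rintro _ ⟨w, rfl⟩
    refine ⟨(Submodule.inclusion hle).lTensor A w, ?_⟩
    rw [map_id_val_apply, ← LinearMap.comp_apply, ← LinearMap.lTensor_comp]
    rfl
  obtain ⟨h₁, hh₁⟩ := key h (hN' (by simp))
  obtain ⟨a₁, ha₁⟩ := key a (hN' (by simp))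
  exact ⟨B₁, Subalgebra.fg_adjoin_finset s, h₁, a₁, hh₁, ha₁⟩


/-- converse of step 1, for the standard localization. -/
theorem one_tmul_algebraMap_eq_zero {B₁ : Type u} [CommRing B₁] [Algebra K B₁]
    (h₁ a₁ : A ⊗[K] B₁)
    {C : Type u} [AddCommGroup C] [Module A C] [Module K C] [IsScalarTower K A C]
    (ψ : A →ₗ[A] C) (k : ℕ)
    (hk : (ψ.restrictScalars K).rTensor B₁ (h₁ ^ k * a₁) = 0) :
    (ψ 1) ⊗ₜ[A] (algebraMap (A ⊗[K] B₁) (Localization.Away h₁) a₁) =
      (0 : C ⊗[A] Localization.Away h₁) := by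
  have h2 : (ψ 1) ⊗ₜ[A] (h₁ ^ k * a₁) = (0 : C ⊗[A] (A ⊗[K] B₁)) := by
    apply (TensorProduct.AlgebraTensorModule.cancelBaseChange K A A C B₁).injective
    rw [cancelBaseChange_one_tmul, hk, map_zero]
  let φ : (A ⊗[K] B₁) →ₗ[A] Localization.Away h₁ :=
    (IsScalarTower.toAlgHom A (A ⊗[K] B₁) (Localization.Away h₁)).toLinearMap
  have h3 := congrArg (φ.lTensor C) h2
  rw [LinearMap.lTensor_tmul, map_zero] at h3
  have hu : IsUnit (algebraMap (A ⊗[K] B₁) (Localization.Away h₁) (h₁ ^ k)) :=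
    IsLocalization.map_units (Localization.Away h₁)
      (⟨h₁ ^ k, k, rfl⟩ : Submonoid.powers h₁)
  obtain ⟨u, hu'⟩ := hu
  have h4 := congrArg ((LinearMap.mulLeft A ((↑u⁻¹ : Localization.Away h₁))).lTensor C) h3
  rw [LinearMap.lTensor_tmul, map_zero, LinearMap.mulLeft_apply] at h4
  have h5 : (↑u⁻¹ : Localization.Away h₁) * φ (h₁ ^ k * a₁) =
      algebraMap (A ⊗[K] B₁) (Localization.Away h₁) a₁ := by
    change (↑u⁻¹ : Localization.Away h₁) *
      algebraMap (A ⊗[K] B₁) (Localization.Away h₁) (h₁ ^ k * a₁) = _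
    rw [map_mul, ← hu', ← mul_assoc, Units.inv_mul, one_mul]
  rw [h5] at h4
  exact h4


set_option maxHeartbeats 1600000 in
/-- main -/
theorem eq_zero_of_field_tensor_away
    (h : A ⊗[K] B₀) (Ph : Type u) [CommRing Ph] [Algebra (A ⊗[K] B₀) Ph] [IsLocalization.Away h Ph]
    [Algebra A Ph] [IsScalarTower A (A ⊗[K] B₀) Ph]
    {Λ : Type u} {Cl : Λ → Type u} [∀ l, AddCommGroup (Cl l)] [∀ l, Module A (Cl l)]
    (ψ : ∀ l, A →ₗ[A] Cl l) (hD : JointInj ψ) (m : Ph)
    (hm : ∀ l, (ψ l 1) ⊗ₜ[A] m = (0 : Cl l ⊗[A] Ph)) : m = 0 := by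
  classical
  let modC : ∀ l, Module K (Cl l) := fun l => Module.compHom (Cl l) (algebraMap K A)
  have towC : ∀ l, IsScalarTower K A (Cl l) := fun l =>
    IsScalarTower.of_algebraMap_smul fun _ _ => rfl
  -- Step 0: reduce to `m = algebraMap a`
  obtain ⟨⟨a, s⟩, hs⟩ := IsLocalization.surj (Submonoid.powers h) m
  have hu : IsUnit (algebraMap (A ⊗[K] B₀) Ph s) := IsLocalization.map_units Ph s
  suffices hsuff : algebraMap (A ⊗[K] B₀) Ph a = 0 by
    rw [← hs] at hsuff
    exact (hu.mul_left_eq_zero).mp hsuff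
  have hm' : ∀ l, (ψ l 1) ⊗ₜ[A] (algebraMap (A ⊗[K] B₀) Ph a) = (0 : Cl l ⊗[A] Ph) := by
    intro l
    have h1 := congrArg ((LinearMap.mulRight A (algebraMap (A ⊗[K] B₀) Ph s)).lTensor (Cl l)) (hm l)
    rw [LinearMap.lTensor_tmul, map_zero, LinearMap.mulRight_apply, hs] at h1
    exact h1
  -- Step 1
  choose k hk using fun l => exists_pow_rTensor_eq_zero h Ph (ψ l) a (hm' l)
  -- Step 2
  obtain ⟨B₁, hB₁, h₁, a₁, hh₁, ha₁⟩ := exists_fg_subalgebra_mem_range h a
  have hft : Algebra.FiniteType K B₁ := (Subalgebra.fg_iff_finiteType B₁).mp hB₁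
  -- Step 3
  have hk₁ : ∀ l, ((ψ l).restrictScalars K).rTensor B₁ (h₁ ^ k l * a₁) = 0 := by
    intro l
    have hinj : Function.Injective (B₁.val.toLinearMap.lTensor (Cl l)) :=
      Module.Flat.lTensor_preserves_injective_linearMap (M := Cl l) B₁.val.toLinearMap
        Subtype.val_injective
    apply hinj
    rw [map_zero, ← LinearMap.comp_apply, LinearMap.lTensor_comp_rTensor,
      ← LinearMap.rTensor_comp_lTensor, LinearMap.comp_apply, ← map_id_val_apply, map_mul,
      map_pow, hh₁, ha₁]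
    exact hk l
  -- Step 4
  have hm₁ : ∀ l, (ψ l 1) ⊗ₜ[A] (algebraMap (A ⊗[K] B₁) (Localization.Away h₁) a₁) =
      (0 : Cl l ⊗[A] Localization.Away h₁) :=
    fun l => one_tmul_algebraMap_eq_zero h₁ a₁ (ψ l) (k l) (hk₁ l)
  have hfpK : Algebra.FinitePresentation K B₁ := Algebra.FinitePresentation.of_finiteType.mp hft
  have hfp1 : Algebra.FinitePresentation A (A ⊗[K] B₁) := inferInstance
  have hfp2 : Algebra.FinitePresentation (A ⊗[K] B₁) (Localization.Away h₁) :=
    IsLocalization.Away.finitePresentation h₁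
  have hfp : Algebra.FinitePresentation A (Localization.Away h₁) :=
    Algebra.FinitePresentation.trans A (A ⊗[K] B₁) (Localization.Away h₁)
  have hfl1 : Module.Flat A (A ⊗[K] B₁) := inferInstance
  have hfl2 : Module.Flat (A ⊗[K] B₁) (Localization.Away h₁) :=
    IsLocalization.flat _ (Submonoid.powers h₁)
  have hfl : Module.Flat A (Localization.Away h₁) :=
    Module.Flat.trans A (A ⊗[K] B₁) (Localization.Away h₁)
  have hz := eq_zero_of_flat_finitePresentation_module_family (A := A)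
    (B := Localization.Away h₁) (M := Localization.Away h₁) ψ hD _ hm₁
  obtain ⟨⟨c, N, rfl⟩, hc⟩ := (IsLocalization.map_eq_zero_iff (Submonoid.powers h₁)
    (Localization.Away h₁) a₁).mp hz
  have hc' : h ^ N * a = 0 := by
    have := congrArg (Algebra.TensorProduct.map (AlgHom.id A A) B₁.val) hc
    rwa [map_mul, map_pow, hh₁, ha₁, map_zero] at this
  have hu2 : IsUnit (algebraMap (A ⊗[K] B₀) Ph (h ^ N)) :=
    IsLocalization.map_units Ph (⟨h ^ N, N, rfl⟩ : Submonoid.powers h)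
  have := congrArg (algebraMap (A ⊗[K] B₀) Ph) hc'
  rw [map_mul, map_zero] at this
  exact (hu2.mul_right_eq_zero).mp this


end

/-- Pushout version. -/
theorem eq_zero_of_isPushout_field_away
    {K A B₀ P : Type u} [CommRing K] (hK : IsField K) [CommRing A] [CommRing B₀] [CommRing P]
    [Algebra K A] [Algebra K B₀] [Algebra A P] [Algebra B₀ P] [Algebra K P]
    [IsScalarTower K A P] [IsScalarTower K B₀ P] [Algebra.IsPushout K A B₀ P]
    (h : P) (Ph : Type u) [CommRing Ph] [Algebra P Ph] [IsLocalization.Away h Ph]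
    [Algebra A Ph] [IsScalarTower A P Ph]
    {Λ : Type u} {Cl : Λ → Type u} [∀ l, AddCommGroup (Cl l)] [∀ l, Module A (Cl l)]
    (ψ : ∀ l, A →ₗ[A] Cl l) (hD : JointInj ψ) (m : Ph)
    (hm : ∀ l, (ψ l 1) ⊗ₜ[A] m = (0 : Cl l ⊗[A] Ph)) : m = 0 := by
  let _ : Field K := hK.toField
  let e : A ⊗[K] B₀ ≃ₐ[A] P := Algebra.IsPushout.equiv K A B₀ P
  let e' : P ≃+* A ⊗[K] B₀ := (e.symm : P ≃+* A ⊗[K] B₀)
  let alg' : Algebra (A ⊗[K] B₀) Ph := ((algebraMap P Ph).comp e'.symm.toRingHom).toAlgebra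
  have hloc : IsLocalization.Away (e' h) Ph := by
    have := IsLocalization.isLocalization_of_base_ringEquiv (Submonoid.powers h) Ph e'
    rwa [Submonoid.map_powers] at this
  have tow : IsScalarTower A (A ⊗[K] B₀) Ph := by
    refine IsScalarTower.of_algebraMap_eq fun x => ?_
    change algebraMap A Ph x = algebraMap P Ph (e (algebraMap A (A ⊗[K] B₀) x))
    rw [e.commutes, ← IsScalarTower.algebraMap_apply]
  exact eq_zero_of_field_tensor_away (e' h) Ph ψ hD m hm


end Groth.Agent.Lib.Helper24.SchDomField
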