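import Mathlib

set_option autoImplicit false
universe u
open TensorProduct

namespace Groth.Agent.Lib.Helper24.SepNilp

section

variable {K : Type u} [CommRing K] {M : Type u} [AddCommGroup M] [Module K M]
  {Λ : Type u} {Nl : Λ → Type u} [∀ l, AddCommGroup (Nl l)] [∀ l, Module K (Nl l)]
  (ψ : ∀ l, M →ₗ[K] Nl l)

/-- The family `ψ` stays jointly injective after tensoring with `Q`. -/
def TJI (Q : Type u) [AddCommGroup Q] [Module K Q] : Prop :=
  ∀ x : Q ⊗[K] M, (∀ l, (ψ l).lTensor Q x = 0) → x = 0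

variable {ψ}

theorem TJI.of_rTensor_injective {Q Q' : Type u} [AddCommGroup Q] [Module K Q] [AddCommGroup Q']
    [Module K Q'] (e : Q →ₗ[K] Q') (he : Function.Injective (e.rTensor M)) (h : TJI ψ Q') :
    TJI ψ Q := by
  intro x hx
  apply he
  rw [map_zero]
  apply h
  intro l
  rw [← LinearMap.comp_apply, LinearMap.lTensor_comp_rTensor, ← LinearMap.rTensor_comp_lTensor,
    LinearMap.comp_apply, hx l, map_zero]

theorem TJI.of_linearEquiv {Q Q' : Type u} [AddCommGroup Q] [Module K Q] [AddCommGroup Q']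
    [Module K Q'] (e : Q ≃ₗ[K] Q') (h : TJI ψ Q') : TJI ψ Q := by
  refine TJI.of_rTensor_injective e.toLinearMap ?_ h
  exact (LinearEquiv.rTensor M e).injective

theorem TJI.of_subsingleton {Q : Type u} [AddCommGroup Q] [Module K Q] [Subsingleton Q] :
    TJI ψ Q := by
  intro x _
  exact Subsingleton.elim _ _

theorem TJI.of_exact {Q' Q Q'' : Type u} [AddCommGroup Q] [Module K Q] [AddCommGroup Q']
    [Module K Q'] [AddCommGroup Q''] [Module K Q''] (f : Q' →ₗ[K] Q) (g : Q →ₗ[K] Q'')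
    (hfg : Function.Exact f g) (hg : Function.Surjective g)
    (hf : ∀ l, Function.Injective (f.rTensor (Nl l))) (h' : TJI ψ Q') (h'' : TJI ψ Q'') :
    TJI ψ Q := by
  intro x hx
  have h1 : g.rTensor M x = 0 := by
    apply h''
    intro l
    rw [← LinearMap.comp_apply, LinearMap.lTensor_comp_rTensor, ← LinearMap.rTensor_comp_lTensor,
      LinearMap.comp_apply, hx l, map_zero]
  obtain ⟨y, rfl⟩ := (rTensor_exact M hfg hg x).mp h1
  have h2 : y = 0 := by
    apply h'
    intro l
    apply hf l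
    rw [map_zero, ← LinearMap.comp_apply, LinearMap.rTensor_comp_lTensor,
      ← LinearMap.lTensor_comp_rTensor, LinearMap.comp_apply]
    exact hx l
  rw [h2, map_zero]

theorem TJI.finsupp (K' : Type u) [CommRing K'] [Algebra K K'] (ι : Type u)
    (h : TJI ψ K') : TJI ψ (ι →₀ K') := by
  classical
  intro x hx
  apply (TensorProduct.finsuppLeft K K K' M ι).injective
  rw [map_zero]
  refine Finsupp.ext fun a => ?_
  rw [TensorProduct.finsuppLeft_apply, Finsupp.zero_apply]
  apply h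
  intro l
  rw [← LinearMap.comp_apply, LinearMap.lTensor_comp_rTensor, ← LinearMap.rTensor_comp_lTensor,
    LinearMap.comp_apply, hx l, map_zero]

theorem TJI.of_free (K' : Type u) [CommRing K'] [Algebra K K'] {Q : Type u} [AddCommGroup Q]
    [Module K Q] [Module K' Q] [IsScalarTower K K' Q] [Module.Free K' Q] (h : TJI ψ K') :
    TJI ψ Q := by
  let b := Module.Free.chooseBasis K' Q
  let ι : Type u := Module.Free.ChooseBasisIndex K' Q
  exact TJI.of_linearEquiv (b.repr.restrictScalars K) (TJI.finsupp K' ι h)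

theorem TJI.jointInj (h : TJI ψ K) (m : M) (hm : ∀ l, ψ l m = 0) : m = 0 := by
  have h1 : (1 : K) ⊗ₜ[K] m = 0 := by
    apply h
    intro l
    rw [LinearMap.lTensor_tmul, hm l, tmul_zero]
  have := congrArg (TensorProduct.lid K M) h1
  simpa using this

end

section Nilp

variable {K : Type u} [CommRing K] {M : Type u} [AddCommGroup M] [Module K M]
  {Λ : Type u} {Nl : Λ → Type u} [∀ l, AddCommGroup (Nl l)] [∀ l, Module K (Nl l)]
  {ψ : ∀ l, M →ₗ[K] Nl l}

theorem TJI.pow_of_succ (J : Ideal K) (k : ℕ)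
    (hfree : Module.Free (K ⧸ J) ((K ⧸ J) ⊗[K] ↥(J ^ k)))
    [∀ l, Module.Flat K (Nl l)] (H : TJI ψ (K ⧸ J)) (h : TJI ψ ↥(J ^ (k + 1))) :
    TJI ψ ↥(J ^ k) := by
  have hle : J ^ (k + 1) ≤ J ^ k := Ideal.pow_le_pow_right (Nat.le_succ k)
  let f : ↥(J ^ (k + 1)) →ₗ[K] ↥(J ^ k) := Submodule.inclusion hle
  let g : ↥(J ^ k) →ₗ[K] (K ⧸ J) ⊗[K] ↥(J ^ k) := TensorProduct.mk K (K ⧸ J) ↥(J ^ k) 1
  have hcomp := TensorProduct.quotTensorEquivQuotSMul_comp_mk (M := ↥(J ^ k)) J
  have hg : Function.Surjective g := by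
    have h1 : Function.Surjective
        ((TensorProduct.quotTensorEquivQuotSMul ↥(J ^ k) J).toLinearMap ∘ₗ g) := by
      rw [hcomp]; exact Submodule.mkQ_surjective _
    intro y
    obtain ⟨a, ha⟩ := h1 (TensorProduct.quotTensorEquivQuotSMul ↥(J ^ k) J y)
    exact ⟨a, (TensorProduct.quotTensorEquivQuotSMul ↥(J ^ k) J).injective ha⟩
  have hker : ∀ a : ↥(J ^ k), g a = 0 ↔ a ∈ (J • ⊤ : Submodule K ↥(J ^ k)) := by
    intro a
    rw [← Submodule.Quotient.mk_eq_zero, ← Submodule.mkQ_apply, ← hcomp, LinearMap.comp_apply]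
    exact (LinearEquiv.map_eq_zero_iff _).symm
  have hmem : ∀ a : ↥(J ^ k), a ∈ (J • ⊤ : Submodule K ↥(J ^ k)) ↔ (a : K) ∈ J ^ (k + 1) := by
    intro a
    have h1 : Submodule.map (J ^ k).subtype (J • ⊤ : Submodule K ↥(J ^ k)) = J ^ (k + 1) := by
      rw [Submodule.map_smul'', Submodule.map_top, Submodule.range_subtype, smul_eq_mul,
        pow_succ']
    rw [← h1]
    constructor
    · intro ha
      exact ⟨a, ha, rfl⟩
    · rintro ⟨b, hb, hba⟩
      have : b = a := Subtype.ext hba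
      rwa [← this]
  have hfg : Function.Exact f g := by
    intro a
    rw [hker, hmem]
    constructor
    · intro ha
      exact ⟨⟨a, ha⟩, rfl⟩
    · rintro ⟨b, rfl⟩
      exact b.2
  have hfinj : Function.Injective f := Submodule.inclusion_injective hle
  refine TJI.of_exact f g hfg hg (fun l => ?_) h (TJI.of_free (K ⧸ J) H)
  exact Module.Flat.rTensor_preserves_injective_linearMap f hfinj

/-- **EGA IV 11.9.x, ring form**: `J` a nilpotent ideal of `K` with free graded pieces, `Nl` flat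
over `K`; if the family `ψ` is jointly injective modulo `J`, it is jointly injective. -/
theorem jointInj_of_nilpotent (J : Ideal K) (hJ : IsNilpotent J)
    (hfree : ∀ k : ℕ, Module.Free (K ⧸ J) ((K ⧸ J) ⊗[K] ↥(J ^ k)))
    [∀ l, Module.Flat K (Nl l)] (H : TJI ψ (K ⧸ J)) (m : M) (hm : ∀ l, ψ l m = 0) : m = 0 := by
  obtain ⟨n, hn⟩ := hJ
  have key : ∀ d k : ℕ, k + d = n → TJI ψ ↥(J ^ k) := by
    intro d
    induction d with
    | zero =>
      intro k hk
      rw [add_zero] at hk
      subst hk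
      have : Subsingleton ↥(J ^ k) := by
        rw [hn]
        exact ⟨fun a b => Subtype.ext ((Submodule.mem_bot K).mp a.2 ▸ (Submodule.mem_bot K).mp b.2 ▸ rfl)⟩
      exact TJI.of_subsingleton
    | succ d ih =>
      intro k hk
      exact TJI.pow_of_succ J k (hfree k) H (ih (k + 1) (by omega))
  have h0 : TJI ψ ↥(J ^ 0) := key n 0 (by omega)
  have h1 : TJI ψ K := by
    have e : K ≃ₗ[K] ↥(J ^ 0) := by
      rw [pow_zero, Ideal.one_eq_top]
      exact (Submodule.topEquiv (R := K) (M := K)).symm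
    exact TJI.of_linearEquiv e h0
  exact TJI.jointInj h1 m hm

end Nilp

end Groth.Agent.Lib.Helper24.SepNilp
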