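/-
Helper library (helper24): Kähler differentials of stalks of a smooth morphism.
For a chart `A₀ → B` standard smooth of relative dimension `n`, `R` formally unramified over `A₀`
(e.g. a localization), `T` formally étale over `B` (e.g. a localization) and an `R`-algebra
compatibly, `Ω[T⁄R]` is free of rank `n` over `T`.
-/
import Mathlib

set_option autoImplicit false
universe u
open TensorProduct

namespace Groth.Agent.Lib.Helper24

/-- If `R` is formally unramified over `A₀` then `Ω[T⁄A₀] → Ω[T⁄R]` is bijective. -/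
theorem kaehler_map_bijective_of_formallyUnramified
    (A₀ R T : Type u) [CommRing A₀] [CommRing R] [CommRing T]
    [Algebra A₀ R] [Algebra R T] [Algebra A₀ T] [IsScalarTower A₀ R T]
    [Algebra.FormallyUnramified A₀ R] :
    Function.Bijective (KaehlerDifferential.map A₀ R T T) := by
  refine ⟨?_, KaehlerDifferential.map_surjective A₀ R T⟩
  rw [injective_iff_map_eq_zero]
  intro x hx
  obtain ⟨y, rfl⟩ := (KaehlerDifferential.exact_mapBaseChange_map A₀ R T x).mp hx
  rw [Subsingleton.elim y 0, map_zero]

/-- Kähler differentials of a "localized chart" of a standard smooth algebra are free of the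
expected rank. -/
theorem kaehler_free_finrank_of_chart
    (A₀ B R T : Type u) [CommRing A₀] [CommRing B] [CommRing R] [CommRing T]
    [Algebra A₀ B] [Algebra A₀ R] [Algebra B T] [Algebra R T] [Algebra A₀ T]
    [IsScalarTower A₀ B T] [IsScalarTower A₀ R T]
    [Algebra.FormallyEtale B T] [Algebra.FormallyUnramified A₀ R] [Nontrivial T]
    (n : ℕ) [Algebra.IsStandardSmoothOfRelativeDimension n A₀ B] :
    Module.Free T Ω[T⁄R] ∧ Module.Finite T Ω[T⁄R] ∧ Module.finrank T Ω[T⁄R] = n := by
  have hss : Algebra.IsStandardSmooth A₀ B :=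
    Algebra.IsStandardSmoothOfRelativeDimension.isStandardSmooth n
  have hntB : Nontrivial B := (algebraMap B T).domain_nontrivial
  have hrank : Module.rank B Ω[B⁄A₀] = n :=
    Algebra.IsStandardSmoothOfRelativeDimension.rank_kaehlerDifferential n
  have hfin : Module.Finite B Ω[B⁄A₀] := inferInstance
  have hfr : Module.finrank B Ω[B⁄A₀] = n := by
    simp [Module.finrank, hrank]
  let e1 : T ⊗[B] Ω[B⁄A₀] ≃ₗ[T] Ω[T⁄A₀] :=
    KaehlerDifferential.tensorKaehlerEquivOfFormallyEtale A₀ B T
  let e2 : Ω[T⁄A₀] ≃ₗ[T] Ω[T⁄R] :=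
    LinearEquiv.ofBijective _ (kaehler_map_bijective_of_formallyUnramified A₀ R T)
  let e := e1.trans e2
  refine ⟨Module.Free.of_equiv e, Module.Finite.equiv e, ?_⟩
  rw [← e.finrank_eq, Module.finrank_baseChange, hfr]

end Groth.Agent.Lib.Helper24
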