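/-
Helper library (helper24): local facts about a smooth `k`-scheme of relative dimension `n`
at a closed point `x`: `Ω[O_{X,x}⁄k]` is free of rank `n`, `dim O_{X,x} = n`, and `O_{X,x}` is
Noetherian and formally smooth over `k`.  Also: compatibility of the `k`-algebra structures on
stalks (`Curv2.stalkAlgebra`) with a `k`-morphism.
-/
import Groth.Prelude.Def_CurvBase
import Groth.Agent.Lib.Helper24.KaehlerStalk
import Groth.Agent.H46.SmoothLocalDim

set_option autoImplicit false
universe u
open CategoryTheory CategoryTheory.Limits AlgebraicGeometry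

namespace Groth.Agent.Lib.Helper24

attribute [local instance] Curv2.stalkAlgebra

set_option backward.isDefEq.respectTransparency.types false in
theorem appLE_comp_germ_top {X S : Scheme.{u}} (p : X ⟶ S) (V : X.Opens)
    (e : V ≤ p ⁻¹ᵁ ⊤) (x : X) (hxV : x ∈ V) :
    p.appLE ⊤ V e ≫ X.presheaf.germ V x hxV = p.appTop ≫ X.presheaf.germ ⊤ x trivial := by
  rw [Scheme.Hom.appLE, Category.assoc]
  congr 1
  exact TopCat.Presheaf.germ_res X.presheaf _ x hxV

set_option backward.isDefEq.respectTransparency.types false in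
/-- Local facts at a closed point of a smooth `k`-scheme of relative dimension `n`. -/
theorem smooth_stalk_facts (k : Type u) [Field k] (X : Scheme.{u})
    [X.Over (Spec (CommRingCat.of k))] (n : ℕ)
    [SmoothOfRelativeDimension n (X ↘ Spec (CommRingCat.of k))]
    (x : X) (hx : IsClosed ({x} : Set X)) :
    (Module.Free (X.presheaf.stalk x) Ω[X.presheaf.stalk x⁄k] ∧
      Module.Finite (X.presheaf.stalk x) Ω[X.presheaf.stalk x⁄k] ∧
      Module.finrank (X.presheaf.stalk x) Ω[X.presheaf.stalk x⁄k] = n) ∧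
    ringKrullDim (X.presheaf.stalk x) = n ∧
    IsNoetherianRing (X.presheaf.stalk x) ∧
    Algebra.FormallySmooth k (X.presheaf.stalk x) ∧
    Algebra.EssFiniteType k (X.presheaf.stalk x) := by
  obtain ⟨V₀, hV₀, V, hV, hxV, e, hss⟩ :=
    SmoothOfRelativeDimension.exists_isStandardSmoothOfRelativeDimension (n := n)
      (f := (X ↘ (Spec (CommRingCat.of k)))) x
  have hV₀top : V₀ = ⊤ := by
    ext y
    simp only [TopologicalSpace.Opens.coe_top, Set.mem_univ, iff_true]
    have hgz : (X ↘ (Spec (CommRingCat.of k))) x ∈ V₀ := e hxV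
    have hsub : Subsingleton (PrimeSpectrum k) := inferInstance
    have : y = (X ↘ (Spec (CommRingCat.of k))) x := hsub.elim _ _
    rw [this]; exact hgz
  subst hV₀top
  let eR : k ≃+* Γ(Spec (CommRingCat.of k), ⊤) :=
    (Scheme.ΓSpecIso (CommRingCat.of k)).symm.commRingCatIsoToRingEquiv
  let φ : k →+* Γ(X, V) :=
    ((X ↘ (Spec (CommRingCat.of k))).appLE ⊤ V e).hom.comp eR.toRingHom
  have hφ : φ.IsStandardSmoothOfRelativeDimension n :=
    (RingHom.isStandardSmoothOfRelativeDimension_respectsIso (n := n)).2 _ eR hss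
  let algB : Algebra k Γ(X, V) := φ.toAlgebra
  let algBT : Algebra Γ(X, V) (X.presheaf.stalk x) :=
    X.presheaf.algebra_section_stalk ⟨x, hxV⟩
  have hA : Algebra.IsStandardSmoothOfRelativeDimension n k Γ(X, V) := hφ
  have tower : IsScalarTower k Γ(X, V) (X.presheaf.stalk x) := by
    have key : (X ↘ (Spec (CommRingCat.of k))).appLE ⊤ V e ≫
        X.presheaf.germ V x hxV =
        (X ↘ (Spec (CommRingCat.of k))).appTop ≫ X.presheaf.germ ⊤ x trivial :=
      appLE_comp_germ_top (X ↘ (Spec (CommRingCat.of k))) V e x hxV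
    refine IsScalarTower.of_algebraMap_eq' ?_
    ext a
    have h1 := congr($key (eR a))
    exact h1.symm
  have locT : IsLocalization.AtPrime (X.presheaf.stalk x)
      (hV.primeIdealOf ⟨x, hxV⟩).asIdeal := hV.isLocalization_stalk ⟨x, hxV⟩
  have hmax : (hV.primeIdealOf ⟨x, hxV⟩).asIdeal.IsMaximal :=
    hV.primeIdealOf_isMaximal_of_isClosed ⟨x, hxV⟩ hx
  have hht : (hV.primeIdealOf ⟨x, hxV⟩).asIdeal.height = n :=
    Groth.Agent.H46.SmoothLocalDim.height_of_isMaximal k n Γ(X, V)
      (hV.primeIdealOf ⟨x, hxV⟩).asIdeal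
  have hdim : ringKrullDim (X.presheaf.stalk x) = n := by
    rw [IsLocalization.AtPrime.ringKrullDim_eq_height (hV.primeIdealOf ⟨x, hxV⟩).asIdeal, hht]
    rfl
  have feT : Algebra.FormallyEtale Γ(X, V) (X.presheaf.stalk x) :=
    Algebra.FormallyEtale.of_isLocalization (hV.primeIdealOf ⟨x, hxV⟩).asIdeal.primeCompl
  have hkk : Algebra.FormallyUnramified k k := inferInstance
  have hfacts := Groth.Agent.Lib.Helper24.kaehler_free_finrank_of_chart
    k Γ(X, V) k (X.presheaf.stalk x) n
  have hss' : Algebra.IsStandardSmooth k Γ(X, V) :=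
    Algebra.IsStandardSmoothOfRelativeDimension.isStandardSmooth n
  have hNB : IsNoetherianRing Γ(X, V) := Algebra.FiniteType.isNoetherianRing k _
  have hNT : IsNoetherianRing (X.presheaf.stalk x) :=
    IsLocalization.isNoetherianRing (hV.primeIdealOf ⟨x, hxV⟩).asIdeal.primeCompl _ hNB
  have hfsB : Algebra.FormallySmooth k Γ(X, V) := inferInstance
  have hfsT : Algebra.FormallySmooth k (X.presheaf.stalk x) :=
    Algebra.FormallySmooth.comp k Γ(X, V) (X.presheaf.stalk x)
  have hft : Algebra.FiniteType k Γ(X, V) := inferInstance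
  have heT : Algebra.EssFiniteType Γ(X, V) (X.presheaf.stalk x) :=
    Algebra.EssFiniteType.of_isLocalization _ (hV.primeIdealOf ⟨x, hxV⟩).asIdeal.primeCompl
  have hekT : Algebra.EssFiniteType k (X.presheaf.stalk x) :=
    Algebra.EssFiniteType.comp k Γ(X, V) (X.presheaf.stalk x)
  exact ⟨hfacts, hdim, hNT, hfsT, hekT⟩

set_option backward.isDefEq.respectTransparency.types false in
/-- A `k`-morphism induces `k`-algebra maps on stalks. -/
theorem stalkMap_comp_stalkMap (k : Type u) [Field k]
    (X Y : Scheme.{u}) [X.Over (Spec (CommRingCat.of k))] [Y.Over (Spec (CommRingCat.of k))]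
    (f : X ⟶ Y) (hf : f ≫ (Y ↘ Spec (CommRingCat.of k)) = X ↘ Spec (CommRingCat.of k)) (x : X) :
    (f.stalkMap x).hom.comp (Curv2.stalkMap k Y (f.base x)) = Curv2.stalkMap k X x := by
  ext a
  simp only [Curv2.stalkMap, Coh.toGlobal, RingHom.comp_apply]
  have h1 : Y.presheaf.germ ⊤ (f.base x) trivial ≫ f.stalkMap x =
      f.app ⊤ ≫ X.presheaf.germ (f ⁻¹ᵁ ⊤) x trivial := Scheme.Hom.germ_stalkMap f ⊤ x trivial
  have h2 : (Y ↘ Spec (CommRingCat.of k)).appTop ≫ f.appTop =
      (X ↘ Spec (CommRingCat.of k)).appTop := by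
    rw [← hf, Scheme.Hom.comp_appTop]
  set b := (Scheme.ΓSpecIso (CommRingCat.of k)).inv.hom a with hb
  have h3 := congr($h1 ((Y ↘ Spec (CommRingCat.of k)).appTop.hom b))
  have h4 := congr($h2 b)
  simp only [CommRingCat.comp_apply] at h3 h4
  rw [← h4]
  exact h3

end Groth.Agent.Lib.Helper24
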