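/-
Helper library (helper24):
* `finite_residueField_of_isClosed`: residue fields at closed points of a scheme locally of finite
  type over a field `k` are finite over `k`.
* `nonempty_quot_ringEquiv_localization_tensor`: for the projection `X_Ω ⟶ X` (`Ω/k` a field
  extension) and a point `xb` over `x`, the ring `O_{X_Ω,xb} ⧸ 𝔪_x O_{X_Ω,xb}` is a local ring of
  `Ω ⊗[k] κ(x)`.
-/
import Groth.Agent.Lib.Helper50.FiberBC
import Groth.Agent.Lib.Helper24.FibreStalkQuot
import Groth.Agent.Lib.Helper24.CMFibreBaseChange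
import Groth.Agent.Lib.Helper24.SmoothStalkFacts

set_option autoImplicit false
universe u
open CategoryTheory CategoryTheory.Limits AlgebraicGeometry TensorProduct

namespace Groth.Agent.Lib.Helper24

attribute [local instance] Curv2.stalkAlgebra

set_option backward.isDefEq.respectTransparency.types false in
/-- Residue fields at closed points of a scheme locally of finite type over a field `k` are finite
over `k`. -/
theorem finite_residueField_of_isClosed (k : Type u) [Field k] (X : Scheme.{u})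
    [X.Over (Spec (CommRingCat.of k))] [LocallyOfFiniteType (X ↘ Spec (CommRingCat.of k))]
    (x : X) (hx : IsClosed ({x} : Set X)) :
    letI := Curv2.resAlgebra k X x
    Module.Finite k (X.residueField x) := by
  obtain ⟨V, hV, hxV, -⟩ := exists_isAffineOpen_mem_and_subset (x := x) (U := ⊤) trivial
  have e : V ≤ (X ↘ Spec (CommRingCat.of k)) ⁻¹ᵁ ⊤ := le_top
  let eR : k ≃+* Γ(Spec (CommRingCat.of k), ⊤) :=
    (Scheme.ΓSpecIso (CommRingCat.of k)).symm.commRingCatIsoToRingEquiv
  let φ : k →+* Γ(X, V) :=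
    ((X ↘ (Spec (CommRingCat.of k))).appLE ⊤ V e).hom.comp eR.toRingHom
  have hφ : φ.FiniteType := by
    have h1 : RingHom.FiniteType ((X ↘ (Spec (CommRingCat.of k))).appLE ⊤ V e).hom :=
      HasRingHomProperty.appLE (P := @LocallyOfFiniteType) (X ↘ (Spec (CommRingCat.of k)))
        inferInstance ⟨⊤, isAffineOpen_top _⟩ ⟨V, hV⟩ e
    exact RingHom.finiteType_respectsIso.2 _ eR h1
  let algB : Algebra k Γ(X, V) := φ.toAlgebra
  let algBT : Algebra Γ(X, V) (X.presheaf.stalk x) :=
    X.presheaf.algebra_section_stalk ⟨x, hxV⟩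
  have hft : Algebra.FiniteType k Γ(X, V) := hφ
  have tower : IsScalarTower k Γ(X, V) (X.presheaf.stalk x) := by
    have key : (X ↘ (Spec (CommRingCat.of k))).appLE ⊤ V e ≫
        X.presheaf.germ V x hxV =
        (X ↘ (Spec (CommRingCat.of k))).appTop ≫ X.presheaf.germ ⊤ x trivial :=
      appLE_comp_germ_top (X ↘ (Spec (CommRingCat.of k))) V e x hxV
    refine IsScalarTower.of_algebraMap_eq' ?_
    ext a
    have h1 := congr($key (eR a))
    exact h1.symm
  have locT : IsLocalization.AtPrime (X.presheaf.stalk x)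
      (hV.primeIdealOf ⟨x, hxV⟩).asIdeal := hV.isLocalization_stalk ⟨x, hxV⟩
  have hmax : (hV.primeIdealOf ⟨x, hxV⟩).asIdeal.IsMaximal :=
    hV.primeIdealOf_isMaximal_of_isClosed ⟨x, hxV⟩ hx
  -- the map `Γ(X, V) → κ(x)` is surjective
  have hunder : (IsLocalRing.maximalIdeal (X.presheaf.stalk x)).under Γ(X, V) =
      (hV.primeIdealOf ⟨x, hxV⟩).asIdeal :=
    IsLocalization.AtPrime.comap_maximalIdeal (X.presheaf.stalk x) _
  have hsurj : Function.Surjective
      ((IsLocalRing.residue (X.presheaf.stalk x)).comp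
        (algebraMap Γ(X, V) (X.presheaf.stalk x))) := by
    have hm' : ((IsLocalRing.maximalIdeal (X.presheaf.stalk x)).under Γ(X, V)).IsMaximal := by
      rw [hunder]; exact hmax
    have h1 := IsLocalization.surjective_quotientMap_of_maximal_of_localization
      (M := (hV.primeIdealOf ⟨x, hxV⟩).asIdeal.primeCompl)
      (S := X.presheaf.stalk x) (I := IsLocalRing.maximalIdeal (X.presheaf.stalk x))
      (J := (IsLocalRing.maximalIdeal (X.presheaf.stalk x)).under Γ(X, V)) (H := le_rfl) hm'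
    intro y
    obtain ⟨z, hz⟩ := h1 y
    obtain ⟨r, rfl⟩ := Ideal.Quotient.mk_surjective z
    exact ⟨r, hz⟩
  let g : Γ(X, V) →ₐ[k] IsLocalRing.ResidueField (X.presheaf.stalk x) :=
    (IsScalarTower.toAlgHom k (X.presheaf.stalk x)
      (IsLocalRing.ResidueField (X.presheaf.stalk x))).comp
      (IsScalarTower.toAlgHom k Γ(X, V) (X.presheaf.stalk x))
  have hg : Function.Surjective g := hsurj
  have hft' : Algebra.FiniteType k (IsLocalRing.ResidueField (X.presheaf.stalk x)) :=
    Algebra.FiniteType.of_surjective g hg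
  have hfin : Module.Finite k (IsLocalRing.ResidueField (X.presheaf.stalk x)) :=
    finite_of_finite_type_of_isJacobsonRing k _
  exact hfin

attribute [local instance] Curv2.resAlgebra

set_option backward.isDefEq.respectTransparency.types false in
/-- For the projection `X_Ω ⟶ X` and a point `xb` over `x`, the ring
`O_{X_Ω,xb} ⧸ 𝔪_x O_{X_Ω,xb}` is a local ring of `Ω ⊗[k] κ(x)`. -/
theorem nonempty_quot_ringEquiv_localization_tensor (k : Type u) [Field k] (X : Scheme.{u})
    [X.Over (Spec (CommRingCat.of k))] (Ω : Type u) [Field Ω] [Algebra k Ω]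
    (xb : ↥(Curv2.bc k X Ω)) :
    ∃ (𝔮 : Ideal (Ω ⊗[k] (X.residueField (Curv2.bcFst k X Ω xb)))) (_ : 𝔮.IsPrime),
      Nonempty ((↑((Curv2.bc k X Ω).presheaf.stalk xb) ⧸
          (IsLocalRing.maximalIdeal ↑(X.presheaf.stalk (Curv2.bcFst k X Ω xb))).map
            ((Curv2.bcFst k X Ω).stalkMap xb).hom) ≃+*
        Localization.AtPrime 𝔮) := by
  let g := Spec.map (CommRingCat.ofHom (algebraMap k Ω))
  let pr : Curv2.bc k X Ω ⟶ X := Curv2.bcFst k X Ω
  have hφ : Spec.map (CommRingCat.ofHom (algebraMap k (X.residueField (pr xb)))) =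
      X.fromSpecResidueField (pr xb) ≫ (X ↘ Spec (CommRingCat.of k)) :=
    Groth.Agent.Lib.Helper50.specMap_resMap_eq k (pr xb)
  let i1 : pr.fiber (pr xb) ≅ pullback (X.fromSpecResidueField (pr xb)) pr := pullbackSymmetry _ _
  let i2 : pullback (X.fromSpecResidueField (pr xb)) pr ≅
      pullback (X.fromSpecResidueField (pr xb) ≫ (X ↘ Spec (CommRingCat.of k))) g :=
    pullbackRightPullbackFstIso (X ↘ Spec (CommRingCat.of k)) g _
  let i3 : pullback (X.fromSpecResidueField (pr xb) ≫ (X ↘ Spec (CommRingCat.of k))) g ≅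
      pullback (Spec.map (CommRingCat.ofHom (algebraMap k (X.residueField (pr xb))))) g :=
    pullback.congrHom hφ.symm rfl
  let i4 : pullback (Spec.map (CommRingCat.ofHom (algebraMap k (X.residueField (pr xb))))) g ≅
      Spec (CommRingCat.of (X.residueField (pr xb) ⊗[k] Ω)) :=
    pullbackSpecIso k (X.residueField (pr xb)) Ω
  let c : (X.residueField (pr xb) ⊗[k] Ω) ≃+* (Ω ⊗[k] X.residueField (pr xb)) :=
    (Algebra.TensorProduct.comm k (X.residueField (pr xb)) Ω).toRingEquiv
  let i5 : Spec (CommRingCat.of (X.residueField (pr xb) ⊗[k] Ω)) ≅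
      Spec (CommRingCat.of (Ω ⊗[k] X.residueField (pr xb))) :=
    Scheme.Spec.mapIso (c.toCommRingCatIso).symm.op
  let j : Spec (CommRingCat.of (Ω ⊗[k] X.residueField (pr xb))) ⟶ pr.fiber (pr xb) :=
    (i1 ≪≫ i2 ≪≫ i3 ≪≫ i4 ≪≫ i5).inv
  have hj : IsIso j := inferInstance
  let z : ↥(pr.fiber (pr xb)) := pr.asFiber xb
  let 𝔭 : PrimeSpectrum (Ω ⊗[k] X.residueField (pr xb)) :=
    (i1 ≪≫ i2 ≪≫ i3 ≪≫ i4 ≪≫ i5).hom z
  have hz : j 𝔭 = z := by
    change ((i1 ≪≫ i2 ≪≫ i3 ≪≫ i4 ≪≫ i5).hom ≫ (i1 ≪≫ i2 ≪≫ i3 ≪≫ i4 ≪≫ i5).inv) z = z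
    rw [Iso.hom_inv_id]
    rfl
  obtain ⟨e1⟩ := nonempty_fibre_stalk_ringEquiv_quotient pr xb
  obtain ⟨e2⟩ := nonempty_stalk_ringEquiv_localization j 𝔭
  refine ⟨𝔭.asIdeal, 𝔭.2, ?_⟩
  rw [hz] at e2
  exact ⟨e1.symm.trans e2⟩

set_option backward.isDefEq.respectTransparency.types false in
/-- The projection `X_Ω ⟶ X` for an algebraic extension `Ω/k` maps closed points to closed
points. -/
theorem isClosed_singleton_bcFst (k : Type u) [Field k] (X : Scheme.{u})
    [X.Over (Spec (CommRingCat.of k))] (Ω : Type u) [Field Ω] [Algebra k Ω]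
    [Algebra.IsIntegral k Ω] (xb : ↥(Curv2.bc k X Ω)) (hxb : IsClosed ({xb} : Set ↥(Curv2.bc k X Ω))) :
    IsClosed ({Curv2.bcFst k X Ω xb} : Set X) := by
  have hint : IsIntegralHom (Spec.map (CommRingCat.ofHom (algebraMap k Ω))) := by
    rw [IsIntegralHom.SpecMap_iff]
    exact (algebraMap_isIntegral_iff).mpr inferInstance
  have hintfst : IsIntegralHom (Curv2.bcFst k X Ω) :=
    MorphismProperty.pullback_fst (P := @IsIntegralHom) _ _ hint
  have := (Curv2.bcFst k X Ω).isClosedMap _ hxb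
  rwa [Set.image_singleton] at this

end Groth.Agent.Lib.Helper24
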