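import Groth.Agent.Lib.Helper24.CMLocalFlat
import Groth.Agent.Lib.Helper24.FibreStalkQuot
import Groth.Agent.Lib.Helper24.EtaleAtStalk
import Groth.Prelude.Def_MoreMor
import Mathlib

/-!
# CM morphisms over fields and étale maps (helper24)

* `maximalIdeal_stalk_Spec_field_eq_bot`: local rings of `Spec k` (k a field) have zero maximal ideal.
* `maximalIdeal_stalk_eq_bot_of_etale_field`: the same for schemes étale over `Spec k`.
* `isCohenMacaulayLocalRing_stalk_of_etale`: CM ascends along étale morphisms.
* `flat_of_maximalIdeal_eq_bot`: any ring map out of a local ring with zero maximal ideal is flat.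
* `isCMAt_iff_of_maximalIdeal_eq_bot`: if the local ring of the base at `h u` has zero maximal ideal,
  `h` is CM at `u` iff `O_{U,u}` is CM.
-/

set_option autoImplicit false
universe u
open AlgebraicGeometry CategoryTheory CategoryTheory.Limits IsLocalRing

namespace Groth.Agent.Lib.Helper24

set_option backward.isDefEq.respectTransparency.types false in
/-- Local rings of the spectrum of a field have zero maximal ideal. -/
theorem maximalIdeal_stalk_Spec_field_eq_bot {k : Type u} [Field k] (y : PrimeSpectrum k) :
    maximalIdeal ↑((Spec (CommRingCat.of k)).presheaf.stalk y) = ⊥ := by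
  have h : IsLocalization.AtPrime ((Spec.structureSheaf k).presheaf.stalk y) y.asIdeal :=
    StructureSheaf.IsLocalization.to_stalk k y
  have hloc : IsLocalRing ↑((Spec.structureSheaf k).presheaf.stalk y) :=
    inferInstanceAs (IsLocalRing ↑((Spec (CommRingCat.of k)).presheaf.stalk y))
  have h1 := IsLocalization.AtPrime.map_eq_maximalIdeal y.asIdeal
    ((Spec.structureSheaf k).presheaf.stalk y)
  have h2 : y.asIdeal = ⊥ := Ideal.eq_bot_of_prime y.asIdeal
  rw [h2, Ideal.map_bot] at h1
  exact h1.symm

/-- Local rings of a scheme étale over a field have zero maximal ideal (they are fields). -/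
theorem maximalIdeal_stalk_eq_bot_of_etale_field {k : Type u} [Field k] {V : Scheme.{u}}
    (b : V ⟶ Spec (CommRingCat.of k)) [Etale b] (v : V) :
    maximalIdeal ↑(V.presheaf.stalk v) = ⊥ := by
  have h1 := ((formallyUnramified_stalkMap_iff_residue b v).mp
    (FormallyUnramified.stalkMap b v)).1
  rw [← h1, maximalIdeal_stalk_Spec_field_eq_bot (b v), Ideal.map_bot]

/-- Cohen–Macaulayness of local rings ascends along étale morphisms. -/
theorem isCohenMacaulayLocalRing_stalk_of_etale {U X : Scheme.{u}} (a : U ⟶ X) [Etale a] (u : U)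
    (h : LocCoh.IsCohenMacaulayLocalRing ↑(X.presheaf.stalk (a u))) :
    LocCoh.IsCohenMacaulayLocalRing ↑(U.presheaf.stalk u) := by
  have hflat : (a.stalkMap u).hom.Flat := Flat.stalkMap a u
  have hess : (a.stalkMap u).hom.EssFiniteType := LocallyOfFiniteType.stalkMap a u
  have h1 := ((formallyUnramified_stalkMap_iff_residue a u).mp
    (FormallyUnramified.stalkMap a u)).1
  algebraize [(a.stalkMap u).hom]
  have : IsLocalHom (algebraMap ↑(X.presheaf.stalk (a u)) ↑(U.presheaf.stalk u)) :=
    inferInstanceAs (IsLocalHom (a.stalkMap u).hom)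
  have hNA : IsNoetherianRing ↑(X.presheaf.stalk (a u)) := h.toIsNoetherian
  have hNB : IsNoetherianRing ↑(U.presheaf.stalk u) :=
    Algebra.EssFiniteType.isNoetherianRing ↑(X.presheaf.stalk (a u)) _
  refine (isCohenMacaulayLocalRing_iff_of_flat_local ↑(X.presheaf.stalk (a u))
    ↑(U.presheaf.stalk u)).mpr ⟨h, ?_⟩
  have hmB : EGA4.mB ↑(X.presheaf.stalk (a u)) ↑(U.presheaf.stalk u) =
      maximalIdeal ↑(U.presheaf.stalk u) := h1
  let e : ResidueField ↑(U.presheaf.stalk u) ≃+*
      EGA4.FibRing ↑(X.presheaf.stalk (a u)) ↑(U.presheaf.stalk u) :=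
    Ideal.quotEquivOfEq hmB.symm
  exact Groth.Agent.Lib.Helper29.isCohenMacaulayLocalRing_of_ringEquiv e
    (Groth.Agent.Lib.Helper73.CMFibre.isCohenMacaulayLocalRing_of_isArtinianRing _)

/-- Any ring homomorphism out of a local ring with zero maximal ideal (a field) is flat. -/
theorem flat_of_maximalIdeal_eq_bot {R B : Type u} [CommRing R] [IsLocalRing R] [CommRing B]
    (φ : R →+* B) (hm : maximalIdeal R = ⊥) : φ.Flat := by
  have hbij : Function.Bijective (residue R) := by
    refine ⟨?_, residue_surjective⟩
    rw [injective_iff_map_eq_zero]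
    intro x hx
    have : x ∈ maximalIdeal R := (residue_eq_zero_iff x).mp hx
    rw [hm] at this
    exact this
  let e : R ≃+* ResidueField R := RingEquiv.ofBijective (residue R) hbij
  let φ' : ResidueField R →+* B := φ.comp e.symm.toRingHom
  have hφ' : φ'.Flat := by
    algebraize [φ']
    exact (inferInstance : Module.Flat (ResidueField R) B)
  have he : (e : R →+* ResidueField R).Flat := RingHom.Flat.of_bijective e.bijective
  have : φ = φ'.comp (e : R →+* ResidueField R) := by
    ext x
    simp [φ']
  rw [this]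
  exact RingHom.Flat.comp he hφ'

/-- If the local ring of the base at `h u` has zero maximal ideal, `h` is Cohen–Macaulay at `u` iff
the local ring of the source at `u` is Cohen–Macaulay. -/
theorem isCMAt_iff_of_maximalIdeal_eq_bot {U V : Scheme.{u}} (h : U ⟶ V) (u : U)
    (hm : maximalIdeal ↑(V.presheaf.stalk (h u)) = ⊥) :
    MoreMor.IsCMAt h u ↔ LocCoh.IsCohenMacaulayLocalRing ↑(U.presheaf.stalk u) := by
  obtain ⟨e⟩ := nonempty_fibre_stalk_ringEquiv_quotient h u
  let e' : (↑(U.presheaf.stalk u) ⧸
      (maximalIdeal ↑(V.presheaf.stalk (h u))).map (h.stalkMap u).hom) ≃+*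
      ↑(U.presheaf.stalk u) :=
    (Ideal.quotEquivOfEq (by rw [hm, Ideal.map_bot])).trans (RingEquiv.quotientBot _)
  unfold MoreMor.IsCMAt
  rw [isCohenMacaulayLocalRing_iff_of_ringEquiv' (e.trans e')]
  exact ⟨fun h => h.2, fun h' => ⟨flat_of_maximalIdeal_eq_bot _ hm, h'⟩⟩

end Groth.Agent.Lib.Helper24
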