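import Groth.Agent.Lib.Helper24.CMFieldTensor
import Groth.Agent.Lib.Helper29.FlatAscent2

/-!
# Cohen–Macaulay local rings and extension of the base field (helper24)

Ring-level statements: for a Noetherian `k`-algebra `A`, a field extension `K/k` with `A ⊗[k] K`
Noetherian and a prime `𝔓` of `A ⊗[k] K` lying over `𝔭` in `A`:

* `isCohenMacaulayLocalRing_of_flat_descent`: general local descent of CM along flat maps.
* `isCohenMacaulayLocalRing_tensor_field_descent`: `(A ⊗ K)_𝔓` CM ⟹ `A_𝔭` CM.
* `isCohenMacaulayLocalRing_tensor_field_ascent`: `A_𝔭` CM and `κ(𝔭) ⊗[k] K` CM ⟹ `(A ⊗ K)_𝔓` CM.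
* `isCohenMacaulayLocalRing_tensor_field_iff_of_essFiniteType`, `..._iff_of_finiteType`.
-/

set_option autoImplicit false
universe u

namespace Groth.Agent.Lib.Helper24

open TensorProduct IsLocalRing Groth.Agent.Lib.Helper29

section General

variable {R S : Type u} [CommRing R] [CommRing S] [Algebra R S] [IsNoetherianRing R]
  [IsNoetherianRing S] [Module.Flat R S]

/-- Descent of Cohen–Macaulayness along a flat map, local form: if `S_q` is CM then so is `R_p`
(`q` lying over `p`). -/
theorem isCohenMacaulayLocalRing_of_flat_descent (p : Ideal R) [p.IsPrime] (q : Ideal S)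
    [q.IsPrime] [q.LiesOver p]
    (hq : LocCoh.IsCohenMacaulayLocalRing (Localization.AtPrime q)) :
    LocCoh.IsCohenMacaulayLocalRing (Localization.AtPrime p) := by
  have hnt := nontrivial_fibLoc p q
  have hloc : IsLocalRing (Localization.AtPrime q ⧸
      p.map (algebraMap R (Localization.AtPrime q))) :=
    IsLocalRing.of_surjective' (Ideal.Quotient.mk _) Ideal.Quotient.mk_surjective
  have hNp : IsNoetherianRing (Localization.AtPrime p) :=
    IsLocalization.isNoetherianRing p.primeCompl _ inferInstance
  have hNq : IsNoetherianRing (Localization.AtPrime q) :=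
    IsLocalization.isNoetherianRing q.primeCompl _ inferInstance
  obtain ⟨h1, h2⟩ := depth_and_dim_add_of_flat p q
  have h3 := hq.supportDim_eq_depth
  rw [Module.supportDim_self_eq_ringKrullDim] at h3
  have h4 := depth_le_supportDim (Localization.AtPrime p) (Localization.AtPrime p)
  have h5 := depth_le_supportDim
    (Localization.AtPrime q ⧸ p.map (algebraMap R (Localization.AtPrime q)))
    (Localization.AtPrime q ⧸ p.map (algebraMap R (Localization.AtPrime q)))
  rw [Module.supportDim_self_eq_ringKrullDim] at h4 h5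
  have h6 : ringKrullDim (Localization.AtPrime q ⧸
      p.map (algebraMap R (Localization.AtPrime q))) ≠ ⊤ := by
    have := supportDim_ne_top
      (Localization.AtPrime q ⧸ p.map (algebraMap R (Localization.AtPrime q)))
      (Localization.AtPrime q ⧸ p.map (algebraMap R (Localization.AtPrime q)))
    rwa [Module.supportDim_self_eq_ringKrullDim] at this
  have h7 := Groth.Agent.Lib.Helper73.CMFibre.arith_cancel _ _ _ _ h5 h4 h6
    (by rw [add_comm, ← h1, ← h3, h2, add_comm])
  refine { supportDim_eq_depth := ?_ }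
  rw [Module.supportDim_self_eq_ringKrullDim]
  exact h7

end General

section Field

variable (k K A : Type u) [Field k] [Field K] [Algebra k K] [CommRing A] [Algebra k A]
  [IsNoetherianRing A] [IsNoetherianRing (A ⊗[k] K)]

/-- Descent of CM along a field extension. -/
theorem isCohenMacaulayLocalRing_tensor_field_descent (𝔓 : Ideal (A ⊗[k] K)) [𝔓.IsPrime]
    (h : LocCoh.IsCohenMacaulayLocalRing (Localization.AtPrime 𝔓)) :
    LocCoh.IsCohenMacaulayLocalRing (Localization.AtPrime (𝔓.under A)) :=
  isCohenMacaulayLocalRing_of_flat_descent (𝔓.under A) 𝔓 h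

/-- Ascent of CM along a field extension, provided `κ(𝔭) ⊗[k] K` is CM. -/
theorem isCohenMacaulayLocalRing_tensor_field_ascent (𝔓 : Ideal (A ⊗[k] K)) [𝔓.IsPrime]
    (hfib : LocCoh.IsCohenMacaulayRing ((𝔓.under A).ResidueField ⊗[k] K))
    (h : LocCoh.IsCohenMacaulayLocalRing (Localization.AtPrime (𝔓.under A))) :
    LocCoh.IsCohenMacaulayLocalRing (Localization.AtPrime 𝔓) := by
  obtain ⟨q', hq', hq'q⟩ := exists_fiber_prime (𝔓.under A) 𝔓
  let eF : (𝔓.under A).Fiber (A ⊗[k] K) ≃+* (𝔓.under A).ResidueField ⊗[k] K :=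
    (Algebra.TensorProduct.cancelBaseChange k A A (𝔓.under A).ResidueField K).toRingEquiv
  have hCMF : LocCoh.IsCohenMacaulayRing ((𝔓.under A).Fiber (A ⊗[k] K)) :=
    Groth.Agent.Lib.Helper82.CMPoly.isCohenMacaulayRing_of_ringEquiv eF.symm hfib
  have h1 := hCMF.isCohenMacaulayLocalRing_localization q'
  have h2 := isCohenMacaulayLocalRing_of_ringEquiv (fiberLocalizationEquiv (𝔓.under A) q') h1
  have key : ∀ (r : Ideal (A ⊗[k] K)) (hr : r.IsPrime), r = 𝔓 →
      LocCoh.IsCohenMacaulayLocalRing (Localization.AtPrime r ⧸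
        (𝔓.under A).map (algebraMap A (Localization.AtPrime r))) →
      LocCoh.IsCohenMacaulayLocalRing (Localization.AtPrime 𝔓 ⧸
        (𝔓.under A).map (algebraMap A (Localization.AtPrime 𝔓))) := by
    rintro r hr rfl h
    exact h
  exact isCohenMacaulayLocalRing_of_flat_of_fibLoc (𝔓.under A) 𝔓 h (key _ _ hq'q h2)

/-- If `K/k` is essentially of finite type, CM-ness of local rings is invariant under the
extension of the base field. -/
theorem isCohenMacaulayLocalRing_tensor_field_iff_of_essFiniteType [Algebra.EssFiniteType k K]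
    (𝔓 : Ideal (A ⊗[k] K)) [𝔓.IsPrime] :
    LocCoh.IsCohenMacaulayLocalRing (Localization.AtPrime 𝔓) ↔
      LocCoh.IsCohenMacaulayLocalRing (Localization.AtPrime (𝔓.under A)) :=
  ⟨isCohenMacaulayLocalRing_tensor_field_descent k K A 𝔓,
    isCohenMacaulayLocalRing_tensor_field_ascent k K A 𝔓
      (isCohenMacaulayRing_tensor_field_of_essFiniteType k K _)⟩

/-- If `A` is essentially of finite type over `k`, CM-ness of local rings is invariant under an
arbitrary extension of the base field. -/
theorem isCohenMacaulayLocalRing_tensor_field_iff_of_essFiniteType_left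
    [Algebra.EssFiniteType k A] (𝔓 : Ideal (A ⊗[k] K)) [𝔓.IsPrime] :
    LocCoh.IsCohenMacaulayLocalRing (Localization.AtPrime 𝔓) ↔
      LocCoh.IsCohenMacaulayLocalRing (Localization.AtPrime (𝔓.under A)) := by
  refine ⟨isCohenMacaulayLocalRing_tensor_field_descent k K A 𝔓,
    isCohenMacaulayLocalRing_tensor_field_ascent k K A 𝔓 ?_⟩
  have : Algebra.EssFiniteType k (𝔓.under A).ResidueField :=
    Algebra.EssFiniteType.comp k A _
  have h := isCohenMacaulayRing_tensor_field_of_essFiniteType k (𝔓.under A).ResidueField K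
  exact Groth.Agent.Lib.Helper82.CMPoly.isCohenMacaulayRing_of_ringEquiv
    (Algebra.TensorProduct.comm k K (𝔓.under A).ResidueField).toRingEquiv h

end Field

section Noeth

variable (k K A : Type u) [Field k] [Field K] [Algebra k K] [CommRing A] [Algebra k A]

/-- `A ⊗[k] K` is Noetherian if `A` is and `K/k` is essentially of finite type. -/
theorem isNoetherianRing_tensor_of_essFiniteType [IsNoetherianRing A] [Algebra.EssFiniteType k K] :
    IsNoetherianRing (A ⊗[k] K) :=
  Algebra.EssFiniteType.isNoetherianRing A (A ⊗[k] K)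

/-- `A ⊗[k] K` is Noetherian if `A` is essentially of finite type over `k`. -/
theorem isNoetherianRing_tensor_of_essFiniteType_left [Algebra.EssFiniteType k A] :
    IsNoetherianRing (A ⊗[k] K) := by
  have h : IsNoetherianRing (K ⊗[k] A) := Algebra.EssFiniteType.isNoetherianRing K (K ⊗[k] A)
  exact isNoetherianRing_of_ringEquiv _ (Algebra.TensorProduct.comm k K A).toRingEquiv

end Noeth

end Groth.Agent.Lib.Helper24
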