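import Groth.Agent.Lib.Helper24.CMFieldBaseChange
import Groth.Agent.Lib.Helper29.EquidimCatenary

/-!
# Cohen–Macaulayness along flat local homomorphisms, local-ring form (helper24)

* `isCohenMacaulayLocalRing_iff_of_flat_local`: for a flat local homomorphism `A → B` of Noetherian
  local rings, `B` is CM iff `A` and the closed fibre `B / m_A B` are CM.
* `isCohenMacaulayLocalRing_fibRing_comp_iff`: for local homomorphisms `A → B → C` of local rings with
  `B → C` flat and `B / m_A B`, `C / m_A C` Noetherian: `C / m_A C` is CM iff `B / m_A B` and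
  `C / m_B C` are CM.
-/

set_option autoImplicit false
universe u

namespace Groth.Agent.Lib.Helper24

open IsLocalRing Groth.Agent.Lib.Helper29

/-- CM-ness of local rings is invariant under ring isomorphisms. -/
theorem isCohenMacaulayLocalRing_iff_of_ringEquiv' {F G : Type u} [CommRing F] [CommRing G]
    (e : F ≃+* G) : LocCoh.IsCohenMacaulayLocalRing F ↔ LocCoh.IsCohenMacaulayLocalRing G :=
  ⟨isCohenMacaulayLocalRing_of_ringEquiv e, isCohenMacaulayLocalRing_of_ringEquiv e.symm⟩

section L1

variable (A B : Type u) [CommRing A] [CommRing B] [IsLocalRing A] [IsLocalRing B]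
  [IsNoetherianRing A] [IsNoetherianRing B] [Algebra A B] [Module.Flat A B]
  [IsLocalHom (algebraMap A B)]

/-- For a flat local homomorphism `A → B` of Noetherian local rings, `B` is Cohen–Macaulay iff `A`
and the closed fibre `B / m_A B` are. -/
theorem isCohenMacaulayLocalRing_iff_of_flat_local :
    LocCoh.IsCohenMacaulayLocalRing B ↔
      LocCoh.IsCohenMacaulayLocalRing A ∧ LocCoh.IsCohenMacaulayLocalRing (EGA4.FibRing A B) := by
  have h1 := depth_self_eq_add_of_flat A B
  have h2 : ringKrullDim B = ringKrullDim A + ringKrullDim (EGA4.FibRing A B) :=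
    ringKrullDim_eq_add_of_flat A B
  have h4 := depth_le_supportDim A A
  have h5 := depth_le_supportDim (EGA4.FibRing A B) (EGA4.FibRing A B)
  rw [Module.supportDim_self_eq_ringKrullDim] at h4 h5
  have h6 : ringKrullDim A ≠ ⊤ := by
    have := supportDim_ne_top A A
    rwa [Module.supportDim_self_eq_ringKrullDim] at this
  have h6' : ringKrullDim (EGA4.FibRing A B) ≠ ⊤ := by
    have := supportDim_ne_top (EGA4.FibRing A B) (EGA4.FibRing A B)
    rwa [Module.supportDim_self_eq_ringKrullDim] at this
  constructor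
  · intro hB
    have h3 := hB.supportDim_eq_depth
    rw [Module.supportDim_self_eq_ringKrullDim] at h3
    refine ⟨{ supportDim_eq_depth := ?_ }, { supportDim_eq_depth := ?_ }⟩
    · rw [Module.supportDim_self_eq_ringKrullDim]
      exact Groth.Agent.Lib.Helper73.CMFibre.arith_cancel _ _ _ _ h5 h4 h6'
        (by rw [add_comm, ← h1, ← h3, h2, add_comm])
    · rw [Module.supportDim_self_eq_ringKrullDim]
      exact Groth.Agent.Lib.Helper73.CMFibre.arith_cancel _ _ _ _ h4 h5 h6
        (by rw [← h1, ← h3, h2])
  · rintro ⟨hA, hF⟩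
    refine { supportDim_eq_depth := ?_ }
    have h3 := hA.supportDim_eq_depth
    have h7 := hF.supportDim_eq_depth
    rw [Module.supportDim_self_eq_ringKrullDim] at h3 h7 ⊢
    rw [h2, h1, h3, h7]
    rfl

end L1

section L3

variable (A B C : Type u) [CommRing A] [CommRing B] [CommRing C] [IsLocalRing A] [IsLocalRing B]
  [IsLocalRing C] [Algebra A B] [Algebra B C] [Algebra A C] [IsScalarTower A B C]
  [IsLocalHom (algebraMap A B)] [IsLocalHom (algebraMap B C)] [Module.Flat B C]

/-- For local homomorphisms `A → B → C` with `B → C` flat, the closed fibre `C / m_A C` is CM iff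
`B / m_A B` and `C / m_B C` are (Noetherianity of the first two being assumed). -/
theorem isCohenMacaulayLocalRing_fibRing_comp_iff [IsNoetherianRing (EGA4.FibRing A B)]
    [IsNoetherianRing (EGA4.FibRing A C)] :
    LocCoh.IsCohenMacaulayLocalRing (EGA4.FibRing A C) ↔
      LocCoh.IsCohenMacaulayLocalRing (EGA4.FibRing A B) ∧
        LocCoh.IsCohenMacaulayLocalRing (EGA4.FibRing B C) := by
  set a : Ideal B := EGA4.mB A B with ha
  have hane : a ≠ ⊤ :=
    ((map_maximalIdeal_le (algebraMap A B)).trans_lt (maximalIdeal.isMaximal B).lt_top).ne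
  have hale : a ≤ maximalIdeal B := map_maximalIdeal_le (algebraMap A B)
  have hmap : a.map (algebraMap B C) = EGA4.mB A C := by
    rw [ha, EGA4.mB, Ideal.map_map, ← IsScalarTower.algebraMap_eq]
  let eG : (C ⧸ a.map (algebraMap B C)) ≃+* EGA4.FibRing A C := Ideal.quotEquivOfEq hmap
  have hNG : IsNoetherianRing (C ⧸ a.map (algebraMap B C)) :=
    isNoetherianRing_of_ringEquiv _ eG.symm
  have hlocF : IsLocalRing (B ⧸ a) := isLocalRing_quotient_of_ne_top B a hane
  have hlocG : IsLocalRing (C ⧸ a.map (algebraMap B C)) :=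
    isLocalRing_quotient_map_of_ne_top B C a hane
  have hflat : Module.Flat (B ⧸ a) (C ⧸ a.map (algebraMap B C)) := flat_quotient_map B C a
  have hlh : IsLocalHom (algebraMap (B ⧸ a) (C ⧸ a.map (algebraMap B C))) :=
    isLocalHom_quotient_map B C a
  have key := isCohenMacaulayLocalRing_iff_of_flat_local (B ⧸ a) (C ⧸ a.map (algebraMap B C))
  have hmax := map_maximalIdeal_quotient_map B C a
  have hle : a.map (algebraMap B C) ≤ (maximalIdeal B).map (algebraMap B C) := Ideal.map_mono hale
  let eF : EGA4.FibRing (B ⧸ a) (C ⧸ a.map (algebraMap B C)) ≃+* EGA4.FibRing B C :=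
    (Ideal.quotEquivOfEq hmax).trans (DoubleQuot.quotQuotEquivQuotOfLE hle)
  rw [← isCohenMacaulayLocalRing_iff_of_ringEquiv' eG, key,
    isCohenMacaulayLocalRing_iff_of_ringEquiv' eF]

end L3

end Groth.Agent.Lib.Helper24
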