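import Mathlib
import Groth.Agent.Lib.Helper70.DVRRedB
import Groth.Agent.Lib.Helper70.DVRFlatC
import Groth.Agent.Lib.Helper69.DvrIso

/-!
# Global functions on a flat proper scheme over a DVR whose generic fibre has only constant
functions (helper24)
-/

set_option autoImplicit false
universe u

open AlgebraicGeometry CategoryTheory Limits TopologicalSpace Opposite

namespace Groth.Agent.Lib.Helper24.ConnFibreA

open Groth.Agent.Lib.Helper70

variable {R : Type u} [CommRing R] {X : Scheme.{u}} (p : X ⟶ Spec (CommRingCat.of R))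

/-- A nonzero element of the base domain is a nonzerodivisor on sections of a flat scheme. -/
theorem eq_zero_of_pb_mul_eq_zero [IsDomain R] [Flat p] {r : R} (hr : r ≠ 0) (W : X.Opens)
    (a : Γ(X, W)) (ha : DVRConnC.pb p W r * a = 0) : a = 0 := by
  have hex : ∀ x : W, ∃ V : X.Opens, IsAffineOpen V ∧ x.1 ∈ V ∧ V ≤ W := by
    intro x
    obtain ⟨_, ⟨V, hV : IsAffineOpen V, rfl⟩, hxV, hVW⟩ :=
      X.isBasis_affineOpens.exists_subset_of_mem_open x.2 W.2
    exact ⟨V, hV, hxV, hVW⟩
  choose V hV hxV hVW using hex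
  apply X.sheaf.eq_of_locally_eq' V W (fun x => homOfLE (hVW x))
  · intro x hx
    exact Opens.mem_iSup.mpr ⟨⟨x, hx⟩, hxV ⟨x, hx⟩⟩
  · intro x
    have h1 : DVRConnC.pb p (V x) r * (X.presheaf.map (homOfLE (hVW x)).op).hom a = 0 := by
      rw [← DVRConnC.pb_res p (hVW x) r]
      have := congrArg (X.presheaf.map (homOfLE (hVW x)).op).hom ha
      rw [map_mul, map_zero] at this
      exact this
    have h2 := DVRConnC.pb_nzd p (hV x) hr _ h1
    exact h2.trans (map_zero _).symm

theorem pb_top_eq (r : R) :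
    DVRConnC.pb p ⊤ r = (p.appTop).hom ((Scheme.ΓSpecIso (CommRingCat.of R)).inv.hom r) := by
  rw [DVRConnC.pb_apply]
  have h : p.appLE ⊤ ⊤ le_top = p.appTop := by
    rw [Scheme.Hom.appLE]
    exact (congrArg (fun z => p.app ⊤ ≫ z) (X.presheaf.map_id _)).trans (Category.comp_id _)
  rw [h]


theorem pow_mul_eq_zero [IsDomain R] [Flat p] {r : R} (hr : r ≠ 0) (W : X.Opens)
    (n : ℕ) (a : Γ(X, W)) (ha : DVRConnC.pb p W r ^ n * a = 0) : a = 0 := by
  induction n with
  | zero => simpa using ha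
  | succ n ih =>
    apply ih
    apply eq_zero_of_pb_mul_eq_zero p hr W
    rw [← mul_assoc, ← pow_succ']
    exact ha

section LemmaD

variable [IsDomain R] [IsDiscreteValuationRing R] {C : Scheme.{u}}
  (f : C ⟶ Spec (CommRingCat.of (FractionRing R))) (g : C ⟶ X)

/-- the ring map from global functions on `X` to the fraction field, through the generic fibre -/
noncomputable def psi [IsIso f.appTop] : Γ(X, ⊤) →+* FractionRing R :=
  (Scheme.ΓSpecIso (CommRingCat.of (FractionRing R))).hom.hom.comp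
    ((inv f.appTop).hom.comp g.appTop.hom)

omit [IsDomain R] [IsDiscreteValuationRing R] in
theorem psi_pb [IsIso f.appTop]
    (hw : g ≫ p = f ≫ Spec.map (CommRingCat.ofHom (algebraMap R (FractionRing R)))) (r : R) :
    psi f g (DVRConnC.pb p ⊤ r) = algebraMap R (FractionRing R) r := by
  rw [pb_top_eq]
  unfold psi
  simp only [RingHom.comp_apply]
  have h1 : g.appTop.hom (p.appTop.hom ((Scheme.ΓSpecIso (CommRingCat.of R)).inv.hom r)) =
      f.appTop.hom ((Scheme.ΓSpecIso (CommRingCat.of (FractionRing R))).inv.hom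
        (algebraMap R (FractionRing R) r)) := by
    have h2 : p.appTop ≫ g.appTop = (Spec.map (CommRingCat.ofHom
        (algebraMap R (FractionRing R)))).appTop ≫ f.appTop := by
      rw [← Scheme.Hom.comp_appTop, ← Scheme.Hom.comp_appTop, hw]
    have h3 := Scheme.ΓSpecIso_inv_naturality (CommRingCat.ofHom (algebraMap R (FractionRing R)))
    have h4 := congrArg (fun z => z.hom ((Scheme.ΓSpecIso (CommRingCat.of R)).inv.hom r)) h2
    have h5 := congrArg (fun z => z.hom r) h3
    simp only [CommRingCat.hom_comp, RingHom.comp_apply, CommRingCat.hom_ofHom] at h4 h5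
    rw [h4, ← h5]
  rw [h1]
  have h6 : (inv f.appTop).hom (f.appTop.hom ((Scheme.ΓSpecIso
      (CommRingCat.of (FractionRing R))).inv.hom (algebraMap R (FractionRing R) r))) =
      (Scheme.ΓSpecIso (CommRingCat.of (FractionRing R))).inv.hom
        (algebraMap R (FractionRing R) r) := by
    rw [← RingHom.comp_apply, ← CommRingCat.hom_comp, IsIso.hom_inv_id]
    rfl
  rw [h6, ← RingHom.comp_apply, ← CommRingCat.hom_comp, Iso.inv_hom_id]
  rfl

theorem range_eq_basicOpen {ϖ : R} (hϖ : Irreducible ϖ)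
    (hY : IsPullback g f p (Spec.map (CommRingCat.ofHom (algebraMap R (FractionRing R))))) :
    Set.range g.base = (X.basicOpen (DVRConnC.pb p ⊤ ϖ) : Set X) := by
  have h1 : g = hY.isoPullback.hom ≫ pullback.fst _ _ := (hY.isoPullback_hom_fst).symm
  have h2 : Set.range g.base = Set.range (pullback.fst p
      (Spec.map (CommRingCat.ofHom (algebraMap R (FractionRing R))))).base := by
    rw [h1, Scheme.Hom.comp_base, TopCat.coe_comp, Set.range_comp,
      Set.range_eq_univ.mpr (ConcreteCategory.bijective_of_isIso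
        (hY.isoPullback.hom.base)).surjective, Set.image_univ]
  rw [h2, Scheme.Pullback.range_fst]
  have h3 := Groth.Agent.Lib.Helper69.DvrIso.range_genPt R hϖ
  have h4 : Set.range (Spec.map (CommRingCat.ofHom (algebraMap R (FractionRing R)))).base =
      (PrimeSpectrum.basicOpen ϖ : Set (PrimeSpectrum R)) := h3
  rw [h4]
  ext x
  rw [SetLike.mem_coe, DVRConnC.mem_basicOpen_pb_iff]
  simp only [Set.mem_preimage]
  constructor
  · intro hx
    exact ⟨trivial, hx⟩
  · rintro ⟨-, hx⟩
    exact hx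

theorem isOpenImmersion_of_isPullback
    (hY : IsPullback g f p (Spec.map (CommRingCat.ofHom (algebraMap R (FractionRing R))))) :
    IsOpenImmersion g :=
  MorphismProperty.of_isPullback hY.flip (Groth.Agent.Lib.Helper69.DvrIso.isOpenImmersion_genPt R)

theorem psi_injective [IsIso f.appTop] [Flat p] [CompactSpace X]
    (hY : IsPullback g f p (Spec.map (CommRingCat.ofHom (algebraMap R (FractionRing R)))))
    (t : Γ(X, ⊤)) (ht : psi f g t = 0) : t = 0 := by
  obtain ⟨ϖ, hϖ⟩ := IsDiscreteValuationRing.exists_irreducible R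
  have hoi : IsOpenImmersion g := isOpenImmersion_of_isPullback p f g hY
  have hrange := range_eq_basicOpen p f g hϖ hY
  -- `g.appTop t = 0`
  have h1 : g.appTop.hom t = 0 := by
    unfold psi at ht
    simp only [RingHom.comp_apply] at ht
    have h2 : (inv f.appTop).hom (g.appTop.hom t) = 0 := by
      have := congrArg (Scheme.ΓSpecIso (CommRingCat.of (FractionRing R))).inv.hom ht
      rw [map_zero, ← RingHom.comp_apply, ← CommRingCat.hom_comp, Iso.hom_inv_id] at this
      exact this
    have := congrArg f.appTop.hom h2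
    rw [map_zero, ← RingHom.comp_apply, ← CommRingCat.hom_comp, IsIso.inv_hom_id] at this
    exact this
  -- `t` vanishes on the range of `g`
  have h3 : (X.presheaf.map (homOfLE (inf_le_right : g.opensRange ⊓ ⊤ ≤ ⊤)).op).hom t = 0 := by
    have h4 := IsOpenImmersion.app_ΓIso_hom g ⊤
    have h5 := congrArg (fun z => z.hom t) h4
    simp only [CommRingCat.hom_comp, RingHom.comp_apply] at h5
    rw [← h5]
    have : (g.app ⊤).hom t = 0 := h1
    rw [this, map_zero]
  have hle : X.basicOpen (DVRConnC.pb p ⊤ ϖ) ≤ g.opensRange ⊓ ⊤ := by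
    intro x hx
    refine ⟨?_, trivial⟩
    show x ∈ Set.range g.base
    rw [hrange]
    exact hx
  have h6 : t |_ (X.basicOpen (DVRConnC.pb p ⊤ ϖ)) = 0 := by
    have h7 := congrArg (X.presheaf.map (homOfLE hle).op).hom h3
    rw [map_zero, ← RingHom.comp_apply, ← CommRingCat.hom_comp, ← Functor.map_comp] at h7
    exact h7
  obtain ⟨n, hn⟩ := exists_pow_mul_eq_zero_of_res_basicOpen_eq_zero_of_isCompact X
    (U := ⊤) isCompact_univ t (DVRConnC.pb p ⊤ ϖ) h6
  exact pow_mul_eq_zero p hϖ.ne_zero ⊤ n t hn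

theorem not_isUnit_pb_of_closedPoint {ϖ : R} (hϖ : Irreducible ϖ) (x₀ : X)
    (hx₀ : p.base x₀ = IsLocalRing.closedPoint R) (U : X.Opens) :
    x₀ ∉ X.basicOpen (DVRConnC.pb p U ϖ) := by
  rw [DVRConnC.mem_basicOpen_pb_iff]
  rintro ⟨-, h⟩
  apply h
  rw [hx₀]
  show ϖ ∈ IsLocalRing.maximalIdeal R
  rw [hϖ.maximalIdeal_eq]
  exact Ideal.mem_span_singleton_self _

theorem exists_eq_pb_aux [Flat p] {ϖ : R} (hϖ : Irreducible ϖ) (x₀ : X)
    (hx₀ : p.base x₀ = IsLocalRing.closedPoint R) (n : ℕ) :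
    ∀ (t : Γ(X, ⊤)) (a : R), DVRConnC.pb p ⊤ ϖ ^ n * t = DVRConnC.pb p ⊤ a →
      ∃ r : R, t = DVRConnC.pb p ⊤ r := by
  induction n with
  | zero =>
    intro t a h
    exact ⟨a, by simpa using h⟩
  | succ n ih =>
    intro t a h
    by_cases ha : ϖ ∣ a
    · obtain ⟨a', rfl⟩ := ha
      apply ih t a'
      have h1 : DVRConnC.pb p ⊤ ϖ * (DVRConnC.pb p ⊤ ϖ ^ n * t - DVRConnC.pb p ⊤ a') = 0 := by
        rw [mul_sub, ← mul_assoc, ← pow_succ', h, map_mul, sub_self]
      exact sub_eq_zero.mp (eq_zero_of_pb_mul_eq_zero p hϖ.ne_zero ⊤ _ h1)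
    · exfalso
      have hau : IsUnit a := by
        by_contra hna
        apply ha
        have : a ∈ IsLocalRing.maximalIdeal R := (IsLocalRing.mem_maximalIdeal a).mpr hna
        rw [hϖ.maximalIdeal_eq, Ideal.mem_span_singleton] at this
        exact this
      have hu : IsUnit (DVRConnC.pb p ⊤ ϖ ^ (n + 1) * t) := by
        rw [h]
        exact hau.map _
      have hu2 : IsUnit (DVRConnC.pb p ⊤ ϖ) := by
        have h3 := isUnit_of_mul_isUnit_left hu
        exact (isUnit_pow_iff (Nat.succ_ne_zero n)).mp h3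
      have h4 := X.basicOpen_of_isUnit hu2
      apply not_isUnit_pb_of_closedPoint p hϖ x₀ hx₀ ⊤
      rw [h4]
      trivial

/-- **Global functions are constant.** If the generic fibre `C` of a flat quasi-compact scheme
`X` over a DVR `R` has `Γ(C, O_C) = Frac R` and the special fibre is nonempty, then every global
function on `X` comes from `R`. -/
theorem exists_eq_pb [IsIso f.appTop] [Flat p] [CompactSpace X]
    (hY : IsPullback g f p (Spec.map (CommRingCat.ofHom (algebraMap R (FractionRing R)))))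
    (x₀ : X) (hx₀ : p.base x₀ = IsLocalRing.closedPoint R) (t : Γ(X, ⊤)) :
    ∃ r : R, t = DVRConnC.pb p ⊤ r := by
  obtain ⟨ϖ, hϖ⟩ := IsDiscreteValuationRing.exists_irreducible R
  have hloc := Groth.Agent.Lib.Helper69.DvrIso.isLocalization_away_fractionRing R hϖ
  obtain ⟨⟨a, ⟨_, n, rfl⟩⟩, ha⟩ := IsLocalization.surj (Submonoid.powers ϖ) (psi f g t)
  have ha' : psi f g t * algebraMap R (FractionRing R) (ϖ ^ n) =
      algebraMap R (FractionRing R) a := ha
  apply exists_eq_pb_aux p hϖ x₀ hx₀ n t a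
  have h1 : psi f g (DVRConnC.pb p ⊤ ϖ ^ n * t - DVRConnC.pb p ⊤ a) = 0 := by
    rw [map_sub, map_mul, map_pow, psi_pb p f g hY.w, psi_pb p f g hY.w, ← ha', map_pow]
    ring
  exact sub_eq_zero.mp (psi_injective p f g hY _ h1)

end LemmaD

end Groth.Agent.Lib.Helper24.ConnFibreA
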