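import Groth.Agent.Lib.Helper24.MVLin
import Groth.Prelude.Def_Coh
import Mathlib

/-!
# The Mayer–Vietoris boundary `O(U ∩ V) → H¹(X, O_X)` for a scheme, linear over global functions
(helper24)
-/

set_option autoImplicit false
universe u
open CategoryTheory Limits Opposite TopologicalSpace AlgebraicGeometry

namespace Groth.Agent.Lib.Helper24.MVScheme

variable (X : Scheme.{u})

/-- the abelian sheaf underlying the structure sheaf -/
noncomputable abbrev OAb : Sheaf (Opens.grothendieckTopology X) AddCommGrpCat.{u} :=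
  Coh.toAb (Coh.structureModule X)

/-- The Mayer–Vietoris boundary for the structure sheaf and a two-element open cover. -/
theorem exists_boundary (U V : X.Opens) (h : U ⊔ V = ⊤) :
    ∃ δ : Γ(X, U ⊓ V) →+ Coh.HH X (Coh.structureModule X) 1,
      (∀ s, δ s = 0 ↔ ∃ (a : Γ(X, U)) (b : Γ(X, V)),
        s = (X.presheaf.map (homOfLE (inf_le_left : U ⊓ V ≤ U)).op).hom a -
          (X.presheaf.map (homOfLE (inf_le_right : U ⊓ V ≤ V)).op).hom b) ∧
      ∀ (r : Γ(X, ⊤)) (s : Γ(X, U ⊓ V)),
        δ ((X.presheaf.map (homOfLE (le_top : U ⊓ V ≤ ⊤)).op).hom r * s) =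
          (show Coh.Γtop X from r) • δ s :=
  ⟨MVLin.deltaTop (OAb X) U V h, fun s => MVLin.deltaTop_eq_zero_iff (OAb X) U V h s,
   fun r s => MVLin.deltaTop_naturality (Coh.smulAb (Coh.structureModule X) r) U V h s⟩

end Groth.Agent.Lib.Helper24.MVScheme
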