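import Mathlib
import Groth.Agent.Lib.Helper24.ConnFibreA
import Groth.Agent.Lib.Helper24.MVScheme

/-!
# Connectedness of the closed fibre of a flat scheme over a DVR with constant global functions
and finite `H¹(X, O_X)` (helper24)
-/

set_option autoImplicit false
universe u

open AlgebraicGeometry CategoryTheory Limits TopologicalSpace Opposite

namespace Groth.Agent.Lib.Helper24.ConnFibreB

open Groth.Agent.Lib.Helper70

/-- A Nakayama argument: a sequence in a finite module over a local ring with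
`x n = ϖ • x (n+1)` for a nonunit `ϖ` is zero. -/
theorem eq_zero_of_smul_seq {R : Type*} [CommRing R] [IsLocalRing R] [IsNoetherianRing R]
    {M : Type*} [AddCommGroup M] [Module R M] [Module.Finite R M] (ϖ : R)
    (hϖ : ϖ ∈ IsLocalRing.maximalIdeal R) (x : ℕ → M) (hx : ∀ n, x n = ϖ • x (n + 1)) :
    ∀ n, x n = 0 := by
  have hN : IsNoetherian R M := isNoetherian_of_isNoetherianRing_of_finite R M
  let N : Submodule R M := Submodule.span R (Set.range x)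
  have hfg : N.FG := IsNoetherian.noetherian N
  have hle : N ≤ IsLocalRing.maximalIdeal R • N := by
    apply Submodule.span_le.mpr
    rintro _ ⟨n, rfl⟩
    rw [SetLike.mem_coe, hx n]
    exact Submodule.smul_mem_smul hϖ (Submodule.subset_span ⟨n + 1, rfl⟩)
  have hbot : N = ⊥ := Submodule.eq_bot_of_le_smul_of_le_jacobson_bot _ N hfg hle
    (IsLocalRing.maximalIdeal_le_jacobson ⊥)
  intro n
  have : x n ∈ N := Submodule.subset_span ⟨n, rfl⟩
  rw [hbot] at this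
  exact (Submodule.mem_bot R).mp this

/-- Gluing two sections over a two-element cover of a scheme. -/
theorem exists_glue (X : Scheme.{u}) (U V : X.Opens) (h : U ⊔ V = ⊤) (a : Γ(X, U)) (b : Γ(X, V))
    (hab : (X.presheaf.map (homOfLE (inf_le_left : U ⊓ V ≤ U)).op).hom a =
      (X.presheaf.map (homOfLE (inf_le_right : U ⊓ V ≤ V)).op).hom b) :
    ∃ t : Γ(X, ⊤), (X.presheaf.map (homOfLE (le_top : U ≤ ⊤)).op).hom t = a ∧
      (X.presheaf.map (homOfLE (le_top : V ≤ ⊤)).op).hom t = b := by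
  let x : RingHom.eqLocus
      (RingHom.comp (X.sheaf.obj.map (homOfLE inf_le_left : U ⊓ V ⟶ U).op).hom
        (RingHom.fst (X.sheaf.obj.obj <| op U) (X.sheaf.obj.obj <| op V)))
      (RingHom.comp (X.sheaf.obj.map (homOfLE inf_le_right : U ⊓ V ⟶ V).op).hom
        (RingHom.snd (X.sheaf.obj.obj <| op U) (X.sheaf.obj.obj <| op V))) := ⟨(a, b), hab⟩
  let t' : Γ(X, U ⊔ V) := (X.sheaf.objSupIsoProdEqLocus U V).inv x
  have h1 : (X.presheaf.map (homOfLE (le_sup_left : U ≤ U ⊔ V)).op).hom t' = a :=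
    X.sheaf.objSupIsoProdEqLocus_inv_fst U V x
  have h2 : (X.presheaf.map (homOfLE (le_sup_right : V ≤ U ⊔ V)).op).hom t' = b :=
    X.sheaf.objSupIsoProdEqLocus_inv_snd U V x
  refine ⟨(X.presheaf.map (homOfLE (le_of_eq h.symm : ⊤ ≤ U ⊔ V)).op).hom t', ?_, ?_⟩
  · rw [← h1, ← RingHom.comp_apply, ← CommRingCat.hom_comp, ← Functor.map_comp]
    rfl
  · rw [← h2, ← RingHom.comp_apply, ← CommRingCat.hom_comp, ← Functor.map_comp]
    rfl


variable {R : Type u} [CommRing R] [IsDomain R] [IsDiscreteValuationRing R] {X : Scheme.{u}}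
  (p : X ⟶ Spec (CommRingCat.of R))

theorem mem_basicOpen_pb_of_not_closedPoint {ϖ : R} (hϖ : Irreducible ϖ) (W : X.Opens) (x : X)
    (hxW : x ∈ W) (hx : p.base x ≠ IsLocalRing.closedPoint R) :
    x ∈ X.basicOpen (DVRConnC.pb p W ϖ) := by
  rw [DVRConnC.mem_basicOpen_pb_iff]
  refine ⟨hxW, fun hmem => hx ?_⟩
  apply PrimeSpectrum.ext
  have : IsLocalRing.maximalIdeal R ≤ (p.base x).asIdeal := by
    rw [hϖ.maximalIdeal_eq, Ideal.span_singleton_le_iff_mem]; exact hmem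
  exact ((IsLocalRing.maximalIdeal.isMaximal R).eq_of_le (p.base x).2.ne_top this).symm

/-- **Zariski connectedness over a DVR, elementary form.** -/
theorem isPreconnected_closedFibre [Flat p]
    (hglob : ∀ t : Γ(X, ⊤), ∃ r : R, t = DVRConnC.pb p ⊤ r)
    (hnak : ∀ (x : ℕ → Coh.HH X (Coh.structureModule X) 1) (ϖ : R),
      ϖ ∈ IsLocalRing.maximalIdeal R →
      (∀ n, x n = (show Coh.Γtop X from DVRConnC.pb p ⊤ ϖ) • x (n + 1)) → ∀ n, x n = 0) :
    _root_.IsPreconnected (p.base ⁻¹' {IsLocalRing.closedPoint R}) := by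
  rw [isPreconnected_closed_iff]
  rintro Z₁ Z₂ hZ₁ hZ₂ hcov ⟨z₁, hz₁F, hz₁⟩ ⟨z₂, hz₂F, hz₂⟩
  by_contra hne
  rw [Set.not_nonempty_iff_eq_empty] at hne
  obtain ⟨ϖ, hϖ⟩ := IsDiscreteValuationRing.exists_irreducible R
  have hϖmem : ϖ ∈ IsLocalRing.maximalIdeal R := by
    rw [hϖ.maximalIdeal_eq]; exact Ideal.mem_span_singleton_self _
  have hFc : IsClosed (p.base ⁻¹' {IsLocalRing.closedPoint R}) :=
    (IsLocalRing.isClosed_singleton_closedPoint R).preimage p.continuous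
  let U₁ : X.Opens := ⟨(p.base ⁻¹' {IsLocalRing.closedPoint R} ∩ Z₂)ᶜ,
    (hFc.inter hZ₂).isOpen_compl⟩
  let U₂ : X.Opens := ⟨(p.base ⁻¹' {IsLocalRing.closedPoint R} ∩ Z₁)ᶜ,
    (hFc.inter hZ₁).isOpen_compl⟩
  have hsup : U₁ ⊔ U₂ = ⊤ := by
    apply top_le_iff.mp
    intro x _
    by_cases hx : x ∈ p.base ⁻¹' {IsLocalRing.closedPoint R} ∩ Z₂
    · right
      intro hx'
      have : x ∈ p.base ⁻¹' {IsLocalRing.closedPoint R} ∩ (Z₁ ∩ Z₂) := ⟨hx.1, hx'.2, hx.2⟩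
      rw [hne] at this
      exact this
    · left
      exact hx
  have hz₁U : z₁ ∈ U₁ := by
    intro hx'
    have : z₁ ∈ p.base ⁻¹' {IsLocalRing.closedPoint R} ∩ (Z₁ ∩ Z₂) := ⟨hz₁F, hz₁, hx'.2⟩
    rw [hne] at this
    exact this
  have hz₂U : z₂ ∈ U₂ := by
    intro hx'
    have : z₂ ∈ p.base ⁻¹' {IsLocalRing.closedPoint R} ∩ (Z₁ ∩ Z₂) := ⟨hz₂F, hx'.2, hz₂⟩
    rw [hne] at this
    exact this
  have hW : ∀ x ∈ U₁ ⊓ U₂, p.base x ≠ IsLocalRing.closedPoint R := by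
    rintro x ⟨hx1, hx2⟩ hx
    rcases hcov hx with h | h
    · exact hx2 ⟨hx, h⟩
    · exact hx1 ⟨hx, h⟩
  obtain ⟨δ, hδ0, hδlin⟩ := MVScheme.exists_boundary X U₁ U₂ hsup
  -- the uniformizer is invertible on `U₁ ⊓ U₂`
  have hunit : IsUnit (DVRConnC.pb p (U₁ ⊓ U₂) ϖ) := by
    apply X.toRingedSpace.isUnit_of_isUnit_germ
    intro x hx
    exact (X.mem_basicOpen _ x hx).mp
      (mem_basicOpen_pb_of_not_closedPoint p hϖ (U₁ ⊓ U₂) x hx (hW x hx))
  obtain ⟨s, hs⟩ := hunit.exists_right_inv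
  have hseq : ∀ n, δ (s ^ n) =
      (show Coh.Γtop X from DVRConnC.pb p ⊤ ϖ) • δ (s ^ (n + 1)) := by
    intro n
    rw [← hδlin]
    congr 1
    have h1 : (X.presheaf.map (homOfLE (le_top : U₁ ⊓ U₂ ≤ ⊤)).op).hom (DVRConnC.pb p ⊤ ϖ) =
        DVRConnC.pb p (U₁ ⊓ U₂) ϖ := DVRConnC.pb_res p le_top ϖ
    rw [h1, pow_succ', ← mul_assoc, hs, one_mul]
  have hδs : δ s = 0 := by
    have := hnak (fun n => δ (s ^ n)) ϖ hϖmem hseq 1
    simpa using this
  obtain ⟨a, b, hab⟩ := (hδ0 s).mp hδs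
  -- glue
  obtain ⟨t, ht1, ht2⟩ := exists_glue X U₁ U₂ hsup (DVRConnC.pb p U₁ ϖ * a - 1)
    (DVRConnC.pb p U₂ ϖ * b) (by
      have h1 : (X.presheaf.map (homOfLE (inf_le_left : U₁ ⊓ U₂ ≤ U₁)).op).hom
          (DVRConnC.pb p U₁ ϖ) = DVRConnC.pb p (U₁ ⊓ U₂) ϖ := DVRConnC.pb_res p inf_le_left ϖ
      have h2 : (X.presheaf.map (homOfLE (inf_le_right : U₁ ⊓ U₂ ≤ U₂)).op).hom
          (DVRConnC.pb p U₂ ϖ) = DVRConnC.pb p (U₁ ⊓ U₂) ϖ := DVRConnC.pb_res p inf_le_right ϖ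
      rw [map_sub, map_mul, map_mul, map_one, h1, h2]
      have h3 : DVRConnC.pb p (U₁ ⊓ U₂) ϖ *
          ((X.presheaf.map (homOfLE (inf_le_left : U₁ ⊓ U₂ ≤ U₁)).op).hom a -
          (X.presheaf.map (homOfLE (inf_le_right : U₁ ⊓ U₂ ≤ U₂)).op).hom b) = 1 := by
        rw [← hab]; exact hs
      rw [mul_sub] at h3
      rw [← h3]
      ring)
  obtain ⟨r, rfl⟩ := hglob t
  have ht1' : DVRConnC.pb p U₁ r = DVRConnC.pb p U₁ ϖ * a - 1 :=
    (DVRConnC.pb_res p le_top r).symm.trans ht1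
  have ht2' : DVRConnC.pb p U₂ r = DVRConnC.pb p U₂ ϖ * b :=
    (DVRConnC.pb_res p le_top r).symm.trans ht2
  -- `r` is in the maximal ideal, by looking at `z₂`
  have hr : r ∈ (p.base z₂).asIdeal := by
    by_contra hr
    have h1 : z₂ ∈ X.basicOpen (DVRConnC.pb p U₂ r) :=
      (DVRConnC.mem_basicOpen_pb_iff p U₂ r z₂).mpr ⟨hz₂U, hr⟩
    rw [ht2', Scheme.basicOpen_mul] at h1
    exact ConnFibreA.not_isUnit_pb_of_closedPoint p hϖ z₂ hz₂F U₂ h1.1
  have hr1 : r ∈ (p.base z₁).asIdeal := by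
    have e1 : p.base z₁ = IsLocalRing.closedPoint R := hz₁F
    have e2 : p.base z₂ = IsLocalRing.closedPoint R := hz₂F
    rw [e1, ← e2]
    exact hr
  -- contradiction at `z₁`
  have h2 : z₁ ∉ X.basicOpen (DVRConnC.pb p U₁ r) := fun h =>
    ((DVRConnC.mem_basicOpen_pb_iff p U₁ r z₁).mp h).2 hr1
  have h3 : z₁ ∉ X.basicOpen (DVRConnC.pb p U₁ ϖ * a) := fun h => by
    rw [Scheme.basicOpen_mul] at h
    exact ConnFibreA.not_isUnit_pb_of_closedPoint p hϖ z₁ hz₁F U₁ h.1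
  rw [Scheme.mem_basicOpen _ _ _ hz₁U] at h2 h3
  rw [ht1', map_sub, map_one] at h2
  have h4 := (IsLocalRing.mem_maximalIdeal _).mpr h2
  have h5 := (IsLocalRing.mem_maximalIdeal _).mpr h3
  have h6 := Ideal.sub_mem _ h5 h4
  rw [sub_sub_cancel] at h6
  exact (Ideal.ne_top_iff_one _).mp (IsLocalRing.maximalIdeal.isMaximal _).ne_top h6

end Groth.Agent.Lib.Helper24.ConnFibreB
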