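import Mathlib
import Groth.Agent.Lib.Helper24.ConnFibreB
import Groth.Agent.Lib.Helper1.PushSupport
import Groth.Agent.Lib.Helper49.StalkNbhd2
import Groth.Agent.S0002

/-!
# The closed fibre of a flat proper scheme over a DVR whose generic fibre has only constant
functions is connected (helper24)

Zariski's connectedness theorem over a DVR, via finiteness of `H¹(X, O_X)` and Mayer–Vietoris.
-/

set_option autoImplicit false
universe u

open AlgebraicGeometry CategoryTheory Limits TopologicalSpace Opposite

namespace Groth.Agent.Lib.Helper24.ConnFibreC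

open Groth.Agent.Lib.Helper70

variable {R : Type u} [CommRing R] [IsDomain R] [IsDiscreteValuationRing R] {X C : Scheme.{u}}
  (p : X ⟶ Spec (CommRingCat.of R)) (f : C ⟶ Spec (CommRingCat.of (FractionRing R)))
  (g : C ⟶ X)

theorem isCoh_structureModule (X : Scheme.{u}) : Coh.IsCoh (Coh.structureModule X) :=
  ⟨Groth.Agent.Lib.Helper1.isQuasicoherent_structureModule X,
    Groth.Agent.Lib.Helper49.isFiniteType_unit X⟩

/-- the Nakayama input from finiteness of `H¹(X, O_X)` over `R` -/
theorem nak [IsProper p] (x : ℕ → Coh.HH X (Coh.structureModule X) 1) (ϖ : R)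
    (hϖ : ϖ ∈ IsLocalRing.maximalIdeal R)
    (hx : ∀ n, x n = (show Coh.Γtop X from DVRConnC.pb p ⊤ ϖ) • x (n + 1)) : ∀ n, x n = 0 := by
  let _ : X.Over (Spec (CommRingCat.of R)) := ⟨p⟩
  have : IsProper (X ↘ Spec (CommRingCat.of R)) := ‹IsProper p›
  have hfin : Module.Finite R (Coh.HH X (Coh.structureModule X) 1) :=
    Groth.Agent.S0002.result R X (Coh.structureModule X) (isCoh_structureModule X) 1
  refine ConnFibreB.eq_zero_of_smul_seq ϖ hϖ x (fun n => ?_)
  have h1 : (ϖ • x (n + 1) : Coh.HH X (Coh.structureModule X) 1) =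
      (Coh.toGlobal p ϖ : Coh.Γtop X) • x (n + 1) := rfl
  have h2 : (Coh.toGlobal p ϖ : Coh.Γtop X) = DVRConnC.pb p ⊤ ϖ :=
    (ConnFibreA.pb_top_eq p ϖ).symm
  rw [h1, h2]
  exact hx n

theorem isConnected_closedFibre [Flat p] [IsProper p] [Nonempty C] [IsIso f.appTop]
    (hY : IsPullback g f p (Spec.map (CommRingCat.ofHom (algebraMap R (FractionRing R))))) :
    _root_.IsConnected (p.base ⁻¹' {IsLocalRing.closedPoint R}) := by
  have hcpt : CompactSpace X := QuasiCompact.compactSpace_of_compactSpace p
  obtain ⟨c⟩ := ‹Nonempty C›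
  obtain ⟨x₀, -, hx₀⟩ := DVRRedB.exists_specializes_closedPoint p p.isClosedMap (g.base c)
  refine ⟨⟨x₀, hx₀⟩, ?_⟩
  exact ConnFibreB.isPreconnected_closedFibre p
    (ConnFibreA.exists_eq_pb p f g hY x₀ hx₀) (nak p)

theorem range_residue :
    Set.range (Spec.map (CommRingCat.ofHom (algebraMap R (IsLocalRing.ResidueField R)))).base =
      {IsLocalRing.closedPoint R} := by
  apply Set.eq_singleton_iff_unique_mem.mpr
  have key : ∀ y : Spec (CommRingCat.of (IsLocalRing.ResidueField R)),
      (Spec.map (CommRingCat.ofHom (algebraMap R (IsLocalRing.ResidueField R)))).base y =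
        IsLocalRing.closedPoint R := fun y => IsLocalRing.PrimeSpectrum.comap_residue R y
  refine ⟨⟨(⟨⊥, Ideal.isPrime_bot⟩ : PrimeSpectrum (IsLocalRing.ResidueField R)), key _⟩, ?_⟩
  rintro _ ⟨y, rfl⟩
  exact key y

/-- **Zariski connectedness over a DVR.** -/
theorem connectedSpace_specialFibre [Flat p] [IsProper p] [Nonempty C] [IsIso f.appTop]
    (hY : IsPullback g f p (Spec.map (CommRingCat.ofHom (algebraMap R (FractionRing R))))) :
    ConnectedSpace ↥(Limits.pullback p (Spec.map (CommRingCat.ofHom
      (algebraMap R (IsLocalRing.ResidueField R))))) := by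
  have hconn := isConnected_closedFibre p f g hY
  have hci : IsClosedImmersion (Spec.map (CommRingCat.ofHom
      (algebraMap R (IsLocalRing.ResidueField R)))) :=
    IsClosedImmersion.spec_of_surjective _ Ideal.Quotient.mk_surjective
  have hci' : IsClosedImmersion (pullback.fst p (Spec.map (CommRingCat.ofHom
      (algebraMap R (IsLocalRing.ResidueField R))))) := inferInstance
  have hrange : Set.range (pullback.fst p (Spec.map (CommRingCat.ofHom
      (algebraMap R (IsLocalRing.ResidueField R))))).base =
      p.base ⁻¹' {IsLocalRing.closedPoint R} := by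
    rw [Scheme.Pullback.range_fst, range_residue]
  have e := (pullback.fst p (Spec.map (CommRingCat.ofHom
      (algebraMap R (IsLocalRing.ResidueField R))))).isClosedEmbedding.isEmbedding.toHomeomorph
  have h1 : ConnectedSpace ↥(Set.range (pullback.fst p (Spec.map (CommRingCat.ofHom
      (algebraMap R (IsLocalRing.ResidueField R))))).base) := by
    rw [← isConnected_iff_connectedSpace, hrange]
    exact hconn
  exact e.symm.surjective.connectedSpace e.symm.continuous

end Groth.Agent.Lib.Helper24.ConnFibreC
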