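import Mathlib
import Groth.Prelude
import Groth.Agent.Lib.Helper55.GroupLocalDim
import Groth.Agent.Lib.Helper55.FlatDim
import Groth.Agent.Lib.Helper14.GroupSmoothUnit
import Groth.Agent.Lib.Helper24.SmoothRationalPoint

set_option autoImplicit false
universe u
open CategoryTheory CategoryTheory.Limits MonoidalCategory CartesianMonoidalCategory MonObj GrpObj
  AlgebraicGeometry

namespace Groth.Agent.Lib.Helper24

section top

/-- The Krull dimension of a one-point space is zero. -/
theorem topologicalKrullDim_eq_zero_of_subsingleton (T : Type*) [TopologicalSpace T]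
    [Subsingleton T] [Nonempty T] : topologicalKrullDim T = 0 := by
  unfold topologicalKrullDim
  have hne : Nonempty (TopologicalSpace.IrreducibleCloseds T) := by
    obtain ⟨t⟩ := ‹Nonempty T›
    exact ⟨⟨Set.univ, ⟨⟨t, trivial⟩, fun U V _ _ ⟨x, _, hx⟩ ⟨y, _, hy⟩ =>
      ⟨x, trivial, hx, by rwa [Subsingleton.elim x y]⟩⟩, isClosed_univ⟩⟩
  have hss : Subsingleton (TopologicalSpace.IrreducibleCloseds T) := by
    constructor
    intro a b
    apply TopologicalSpace.IrreducibleCloseds.ext
    ext x
    obtain ⟨y, hy⟩ := a.isIrreducible.nonempty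
    obtain ⟨z, hz⟩ := b.isIrreducible.nonempty
    constructor
    · intro _; rwa [Subsingleton.elim x z]
    · intro _; rwa [Subsingleton.elim x y]
  exact Order.krullDim_eq_zero (α := TopologicalSpace.IrreducibleCloseds T)

end top

end Groth.Agent.Lib.Helper24

namespace Groth.Agent.Lib.Helper24

section group

variable {k : Type u} [Field k] (G : Over (Spec (CommRingCat.of k))) [GrpObj G]
  [LocallyOfFiniteType G.hom]

omit [LocallyOfFiniteType G.hom] in
theorem unit_left_comp_hom : η[G].left ≫ G.hom = 𝟙 (Spec (CommRingCat.of k)) :=
  Over.w η[G]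

/-- The unit point of a group scheme locally of finite type over a field is closed. -/
theorem isClosed_singleton_unitPt :
    IsClosed ({η[G].left (IsLocalRing.closedPoint k)} : Set G.left) := by
  have hJ : JacobsonSpace G.left := LocallyOfFiniteType.jacobsonSpace G.hom
  have him : IsImmersion (η[G].left ≫ G.hom) := by
    rw [unit_left_comp_hom]
    have : IsClosedImmersion (𝟙 (Spec (CommRingCat.of k))) := inferInstance
    infer_instance
  have him' : IsImmersion η[G].left := IsImmersion.of_comp η[G].left G.hom
  have hsub : Subsingleton (Spec (CommRingCat.of k)) :=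
    inferInstanceAs (Subsingleton (PrimeSpectrum k))
  have hrange : Set.range η[G].left = {η[G].left (IsLocalRing.closedPoint k)} := by
    ext x
    constructor
    · rintro ⟨y, rfl⟩
      rw [Set.mem_singleton_iff]
      exact congrArg _ (hsub.elim _ _)
    · rintro rfl
      exact ⟨_, rfl⟩
  have hlc : IsLocallyClosed ({η[G].left (IsLocalRing.closedPoint k)} : Set G.left) := by
    rw [← hrange]; exact η[G].left.isLocallyClosed_range
  obtain ⟨x, hx, hxc⟩ := nonempty_inter_closedPoints (Set.singleton_nonempty _) hlc
  rw [Set.mem_singleton_iff] at hx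
  subst hx
  exact mem_closedPoints_iff.mp hxc

/-- `dim G` is the dimension of the local ring at the unit point. -/
theorem topologicalKrullDim_eq_ringKrullDim_stalk_unitPt :
    topologicalKrullDim G.left =
      ringKrullDim (G.left.presheaf.stalk (η[G].left (IsLocalRing.closedPoint k))) := by
  rw [← Groth.Agent.Lib.Helper55.localDim_eq_topologicalKrullDim_of_grpObj G
    (η[G].left (IsLocalRing.closedPoint k)),
    Groth.Agent.Lib.Helper55.localDim_eq_dim_closure_add_dim_stalk G.hom,
    (isClosed_singleton_unitPt G).closure_eq]
  have : topologicalKrullDim ↥({η[G].left (IsLocalRing.closedPoint k)} : Set G.left) = 0 :=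
    topologicalKrullDim_eq_zero_of_subsingleton _
  rw [this, zero_add]

end group

end Groth.Agent.Lib.Helper24
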