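import Mathlib
import Groth.Agent.Lib.Helper75.H0k
import Groth.Agent.Lib.Helper70.SteinPI
import Groth.Agent.Lib.Helper55.FlatDim
import Groth.Agent.Lib.Helper55.DimStalk
import Groth.Agent.Lib.Helper29.Depth
import Groth.Agent.Lib.Helper29.DepthRees
import Groth.Agent.Lib.Helper29.TopDim
import Groth.Agent.Lib.Helper24.GroupUnitDim

/-!
# A proper one-dimensional scheme over a field with `H⁰(X, O_X) = k`

Connectedness, Cohen–Macaulayness of the local rings and pure one-dimensionality.
-/

set_option autoImplicit false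
universe u
open TopologicalSpace AlgebraicGeometry CategoryTheory IsLocalRing

namespace Groth.Agent.Lib.Helper24.CurveH0


/-- In an irreducible closed subset of dimension `≤ 0`, every point is dense. -/
theorem closure_singleton_eq_of_dim_le_zero {T : Type*} [TopologicalSpace T]
    (S : Set T) (hSi : IsIrreducible S) (hSc : IsClosed S)
    (h : topologicalKrullDim ↥S ≤ 0) (w : T) (hw : w ∈ S) : closure ({w} : Set T) = S := by
  refine Set.Subset.antisymm (hSc.closure_subset_iff.mpr (Set.singleton_subset_iff.mpr hw)) ?_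
  intro s hs
  let w' : S := ⟨w, hw⟩
  let s' : S := ⟨s, hs⟩
  let a : IrreducibleCloseds S := ⟨closure {w'}, isIrreducible_singleton.closure, isClosed_closure⟩
  have hZirr : IsIrreducible (Set.univ : Set S) := by
    have : IrreducibleSpace S := (isIrreducible_iff_irreducibleSpace (s := S)).mp hSi
    exact IrreducibleSpace.isIrreducible_univ S
  let b : IrreducibleCloseds S := ⟨Set.univ, hZirr, isClosed_univ⟩
  have hab : a = b := by
    by_contra hne
    have hlt : a < b := lt_of_le_of_ne (fun z _ => Set.mem_univ z) hne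
    let p : LTSeries (IrreducibleCloseds S) := RelSeries.singleton _ a |>.snoc b hlt
    have h4 := Order.LTSeries.length_le_krullDim p
    have hl : p.length = 1 := rfl
    rw [hl] at h4
    have : (1 : WithBot ℕ∞) ≤ 0 := le_trans h4 h
    exact absurd this (by decide)
  have hs'a : s' ∈ closure ({w'} : Set S) := by
    have : s' ∈ (b : Set S) := Set.mem_univ _
    rw [← hab] at this
    exact this
  have := (Topology.IsInducing.subtypeVal.closure_eq_preimage_closure_image ({w'} : Set S))
  rw [this] at hs'a
  simpa [w', s'] using hs'a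

/-- In a `T0` space, if the closure of a point has dimension `≤ 0` then the point is closed. -/
theorem isClosed_singleton_of_dim_closure_le_zero {T : Type*} [TopologicalSpace T] [T0Space T]
    (x : T) (h : topologicalKrullDim ↥(closure ({x} : Set T)) ≤ 0) : IsClosed ({x} : Set T) := by
  have key : closure ({x} : Set T) = {x} := by
    refine Set.Subset.antisymm (fun y hy => ?_) (Set.singleton_subset_iff.mpr (subset_closure rfl))
    have h1 := closure_singleton_eq_of_dim_le_zero (closure ({x} : Set T))
      isIrreducible_singleton.closure isClosed_closure h y hy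
    have h2 : x ⤳ y := specializes_iff_mem_closure.mpr hy
    have h3 : y ⤳ x := specializes_iff_mem_closure.mpr (h1 ▸ subset_closure rfl)
    exact (h3.antisymm h2).eq
  rw [← key]
  exact isClosed_closure

/-- A connected Noetherian `T0` space having an irreducible component of dimension `≤ 0` is a
single point. -/
theorem subsingleton_of_irreducibleComponent_dim_le_zero {T : Type*} [TopologicalSpace T]
    [T0Space T] [NoetherianSpace T] [PreconnectedSpace T] (Z : Set T)
    (hZ : Z ∈ irreducibleComponents T) (hdim : topologicalKrullDim ↥Z ≤ 0) : Subsingleton T := by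
  have hZi : IsIrreducible Z := hZ.1
  have hZc : IsClosed Z := isClosed_of_mem_irreducibleComponents Z hZ
  obtain ⟨z, hz⟩ := hZi.nonempty
  have hZeq : Z = {z} := by
    refine Set.Subset.antisymm (fun w hw => ?_) (Set.singleton_subset_iff.mpr hz)
    have h1 := closure_singleton_eq_of_dim_le_zero Z hZi hZc hdim w hw
    have h2 := closure_singleton_eq_of_dim_le_zero Z hZi hZc hdim z hz
    have h3 : w ⤳ z := specializes_iff_mem_closure.mpr (h1 ▸ hz)
    have h4 : z ⤳ w := specializes_iff_mem_closure.mpr (h2 ▸ hw)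
    exact (h3.antisymm h4).eq
  -- the union of the other components
  let W : Set T := ⋃₀ (irreducibleComponents T \ {Z})
  have hWc : IsClosed W := by
    change IsClosed (⋃₀ (irreducibleComponents T \ {Z}))
    rw [Set.sUnion_eq_biUnion]
    refine Set.Finite.isClosed_biUnion (NoetherianSpace.finite_irreducibleComponents.subset
      Set.sdiff_subset) ?_
    intro S hS
    exact isClosed_of_mem_irreducibleComponents S hS.1
  have hzW : z ∉ W := by
    rintro ⟨S, ⟨hS, hSZ⟩, hzS⟩
    apply hSZ
    have hle : Z ≤ S := by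
      rw [hZeq]
      exact Set.singleton_subset_iff.mpr hzS
    exact (Set.Subset.antisymm hle (hZ.2 hS.1 hle)).symm ▸ rfl
  have hcover : W ∪ Z = Set.univ := by
    rw [← sUnion_irreducibleComponents (X := T)]
    ext t
    constructor
    · rintro (⟨S, hS, htS⟩ | htZ)
      · exact ⟨S, hS.1, htS⟩
      · exact ⟨Z, hZ, htZ⟩
    · rintro ⟨S, hS, htS⟩
      by_cases hSZ : S = Z
      · right; rw [← hSZ]; exact htS
      · left; exact ⟨S, ⟨hS, hSZ⟩, htS⟩
  have hopen : IsOpen ({z} : Set T) := by
    have : ({z} : Set T) = Wᶜ := by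
      ext t
      simp only [Set.mem_singleton_iff, Set.mem_compl_iff]
      constructor
      · rintro rfl; exact hzW
      · intro ht
        have : t ∈ W ∪ Z := hcover ▸ Set.mem_univ t
        rcases this with h | h
        · exact absurd h ht
        · rw [hZeq] at h; exact h
    rw [this]
    exact hWc.isOpen_compl
  have hclopen : IsClopen ({z} : Set T) := ⟨hZeq ▸ hZc, hopen⟩
  have huniv : ({z} : Set T) = Set.univ := hclopen.eq_univ (Set.singleton_nonempty z)
  refine ⟨fun a b => ?_⟩
  have ha : a ∈ ({z} : Set T) := huniv ▸ Set.mem_univ a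
  have hb : b ∈ ({z} : Set T) := huniv ▸ Set.mem_univ b
  rw [Set.mem_singleton_iff.mp ha, Set.mem_singleton_iff.mp hb]



/-- A "socle element" of the local ring at a closed point of a locally Noetherian scheme extends
to a global section vanishing away from the point. -/
theorem exists_section_supported_at_closed_point {X : Scheme.{u}} [IsLocallyNoetherian X] (x : X)
    (hx : IsClosed ({x} : Set X)) (s : X.presheaf.stalk x)
    (hs : ∀ a ∈ IsLocalRing.maximalIdeal (X.presheaf.stalk x), a * s = 0) :
    ∃ σ : Γ(X, ⊤), X.presheaf.germ ⊤ x trivial σ = s ∧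
      X.presheaf.map (homOfLE (le_top : (⟨{x}ᶜ, hx.isOpen_compl⟩ : X.Opens) ≤ ⊤)).op σ = 0 := by
  -- Step 1: an affine open neighbourhood and a section with germ `s`
  obtain ⟨U₀, hxU₀, t₀, ht₀⟩ := TopCat.Presheaf.exists_germ_eq X.presheaf s
  obtain ⟨V, hV, hxV, hVU₀⟩ := exists_isAffineOpen_mem_and_subset (x := x) (U := U₀) hxU₀
  let t : Γ(X, V) := X.presheaf.map (homOfLE hVU₀).op t₀
  have ht : X.presheaf.germ V x hxV t = s := by
    rw [← ht₀]
    exact TopCat.Presheaf.germ_res_apply X.presheaf (homOfLE hVU₀) x hxV t₀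
  have hN : IsNoetherianRing Γ(X, V) := IsLocallyNoetherian.component_noetherian ⟨V, hV⟩
  -- the ideal of sections vanishing at `x`
  let p : Ideal Γ(X, V) := (hV.primeIdealOf ⟨x, hxV⟩).asIdeal
  have hp : p.IsPrime := (hV.primeIdealOf ⟨x, hxV⟩).2
  let _ := TopCat.Presheaf.algebra_section_stalk X.presheaf ⟨x, hxV⟩
  have hloc : IsLocalization.AtPrime (X.presheaf.stalk x) p := hV.isLocalization_stalk ⟨x, hxV⟩
  have hgerm : ∀ g : Γ(X, V), algebraMap Γ(X, V) (X.presheaf.stalk x) g =
      X.presheaf.germ V x hxV g := fun g => rfl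
  -- Step 2: a single `h ∉ p` with `h * g * t = 0` for all `g ∈ p`
  have key1 : ∀ g ∈ p, ∃ h : Γ(X, V), h ∉ p ∧ h * (g * t) = 0 := by
    intro g hg
    have h1 : algebraMap Γ(X, V) (X.presheaf.stalk x) (g * t) = 0 := by
      rw [map_mul, hgerm t, ht]
      apply hs
      exact (IsLocalization.AtPrime.to_map_mem_maximal_iff (X.presheaf.stalk x) p g).mpr hg
    obtain ⟨m, hm⟩ := (IsLocalization.map_eq_zero_iff p.primeCompl (X.presheaf.stalk x) _).mp h1
    exact ⟨m.1, m.2, hm⟩
  obtain ⟨h, hhp, hh⟩ : ∃ h : Γ(X, V), h ∉ p ∧ ∀ g ∈ p, h * (g * t) = 0 := by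
    obtain ⟨S, hS⟩ := (isNoetherianRing_iff_ideal_fg Γ(X, V)).mp hN p
    classical
    have hSp : ∀ g ∈ S, g ∈ p := fun g hg => hS ▸ Ideal.subset_span hg
    choose! hf hf1 hf2 using key1
    refine ⟨∏ g ∈ S, hf g, ?_, ?_⟩
    · intro hmem
      obtain ⟨g, hgS, hgp⟩ := (Ideal.IsPrime.prod_mem_iff).mp hmem
      exact hf1 g (hSp g hgS) hgp
    · intro g hg
      rw [← hS] at hg
      refine Submodule.span_induction (p := fun g _ => (∏ g ∈ S, hf g) * (g * t) = 0)
        ?_ ?_ ?_ ?_ hg
      · intro g hgS
        have hgS' : g ∈ S := hgS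
        rw [← Finset.mul_prod_erase S hf hgS', mul_comm (hf g), mul_assoc, hf2 g (hSp g hgS'),
          mul_zero]
      · simp
      · intro a b _ _ ha hb
        rw [add_mul, mul_add, ha, hb, add_zero]
      · intro a b _ hb
        rw [smul_eq_mul, mul_assoc, mul_left_comm, hb, mul_zero]
  -- Step 3: `t` vanishes on `D(h) ∖ {x}`
  have hxD : x ∈ X.basicOpen h := by
    rw [Scheme.mem_basicOpen X h x hxV, ← hgerm]
    exact (IsLocalization.AtPrime.isUnit_to_map_iff (X.presheaf.stalk x) p h).mpr hhp
  have hDV : X.basicOpen h ≤ V := X.basicOpen_le h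
  let Uc : X.Opens := ⟨{x}ᶜ, hx.isOpen_compl⟩
  have hgermy : ∀ (y : X) (hyD : y ∈ X.basicOpen h) (hyx : y ≠ x),
      X.presheaf.germ V y (hDV hyD) t = 0 := by
    intro y hyD hyx
    have hyV : y ∈ V := hDV hyD
    have hyVc : y ∈ V ⊓ Uc := ⟨hyV, hyx⟩
    obtain ⟨g, hgle, hyg⟩ := hV.exists_basicOpen_le (V := V ⊓ Uc) ⟨y, hyVc⟩ hyV
    have hgp : g ∈ p := by
      by_contra hgp
      have hxg : x ∈ X.basicOpen g := by
        rw [Scheme.mem_basicOpen X g x hxV, ← hgerm]
        exact (IsLocalization.AtPrime.isUnit_to_map_iff (X.presheaf.stalk x) p g).mpr hgp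
      exact (hgle hxg).2 rfl
    have h0 := hh g hgp
    have h1 : X.presheaf.germ V y hyV h * (X.presheaf.germ V y hyV g *
        X.presheaf.germ V y hyV t) = 0 := by
      rw [← map_mul, ← map_mul, h0, map_zero]
    have hu1 : IsUnit (X.presheaf.germ V y hyV h) := (Scheme.mem_basicOpen X h y hyV).mp hyD
    have hu2 : IsUnit (X.presheaf.germ V y hyV g) := (Scheme.mem_basicOpen X g y hyV).mp hyg
    have h2 := (hu1.mul_right_eq_zero).mp h1
    exact (hu2.mul_right_eq_zero).mp h2
  -- Step 4: glue
  let W : Bool → X.Opens := fun b => if b then X.basicOpen h else Uc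
  let sf : ∀ b : Bool, Γ(X, W b) := fun b =>
    match b with
    | true => X.presheaf.map (homOfLE hDV).op t
    | false => 0
  have hzero : ∀ (O : X.Opens) (hO1 : O ≤ X.basicOpen h) (hO2 : O ≤ Uc),
      X.presheaf.map (homOfLE (hO1.trans hDV)).op t = 0 := by
    intro O hO1 hO2
    apply TopCat.Presheaf.section_ext X.sheaf O
    intro y hy
    have := TopCat.Presheaf.germ_res_apply X.presheaf (homOfLE (hO1.trans hDV)) y hy t
    exact (this.trans (hgermy y (hO1 hy) (hO2 hy))).trans (map_zero (X.presheaf.germ O y hy).hom).symm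
  have hcompat : TopCat.Presheaf.IsCompatible X.presheaf W sf := by
    intro i j
    rcases i with _ | _ <;> rcases j with _ | _
    · rfl
    · change X.presheaf.map _ (0 : Γ(X, Uc)) = X.presheaf.map _ (X.presheaf.map _ t)
      rw [map_zero, ← ConcreteCategory.comp_apply, ← Functor.map_comp]
      exact (hzero _ inf_le_right inf_le_left).symm
    · change X.presheaf.map _ (X.presheaf.map _ t) = X.presheaf.map _ (0 : Γ(X, Uc))
      rw [map_zero, ← ConcreteCategory.comp_apply, ← Functor.map_comp]
      exact hzero _ inf_le_left inf_le_right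
    · rfl
  have hcov : (⊤ : X.Opens) ≤ ⨆ b, W b := by
    intro y _
    by_cases hy : y = x
    · exact TopologicalSpace.Opens.mem_iSup.mpr ⟨true, hy ▸ hxD⟩
    · exact TopologicalSpace.Opens.mem_iSup.mpr ⟨false, hy⟩
  obtain ⟨σ0, hσ, -⟩ := X.sheaf.existsUnique_gluing' W ⊤ (fun b => homOfLE le_top) hcov sf hcompat
  let σ : Γ(X, ⊤) := σ0
  have hσt : (X.presheaf.map (homOfLE (le_top : X.basicOpen h ≤ ⊤)).op).hom σ =
      X.presheaf.map (homOfLE hDV).op t := hσ true
  have hσf : (X.presheaf.map (homOfLE (le_top : Uc ≤ ⊤)).op).hom σ = 0 := hσ false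
  refine ⟨σ, ?_, hσf⟩
  have e1 := TopCat.Presheaf.germ_res_apply X.presheaf (homOfLE (le_top : X.basicOpen h ≤ ⊤)) x
    hxD σ
  have e2 := TopCat.Presheaf.germ_res_apply X.presheaf (homOfLE hDV) x hxD t
  rw [← e1, ← ht, ← e2]
  exact congrArg _ hσt



theorem withBot_enat_eq_zero_or_one (d : WithBot ℕ∞) (h0 : 0 ≤ d) (h1 : d ≤ 1) : d = 0 ∨ d = 1 := by
  induction d with
  | bot => exact absurd h0 (by simp)
  | coe e =>
    induction e with
    | top => exact absurd h1 (by decide)
    | coe n =>
      have hn : n ≤ 1 := by exact_mod_cast h1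
      rcases Nat.le_one_iff_eq_zero_or_eq_one.mp hn with rfl | rfl
      · left; rfl
      · right; rfl

/-- A Noetherian local ring of dimension `≤ 1` in which (when the dimension is one) the maximal
ideal is not an associated prime is Cohen–Macaulay. -/
theorem isCohenMacaulayLocalRing_of_dim_le_one (R : Type u) [CommRing R] [IsLocalRing R]
    [IsNoetherianRing R] (hdim : ringKrullDim R ≤ 1)
    (h : ringKrullDim R = 1 → maximalIdeal R ∉ associatedPrimes R R) :
    LocCoh.IsCohenMacaulayLocalRing R := by
  refine { supportDim_eq_depth := ?_ }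
  have hle := Groth.Agent.Lib.Helper29.depth_le_supportDim R R
  rw [Module.supportDim_self_eq_ringKrullDim] at hle ⊢
  have h0 : (0 : WithBot ℕ∞) ≤ ringKrullDim R := ringKrullDim_nonneg_of_nontrivial
  rcases withBot_enat_eq_zero_or_one _ h0 hdim with hd | hd
  · rw [hd] at hle ⊢
    have : LocCoh.depth R R = 0 := by
      have : (LocCoh.depth R R : WithBot ℕ∞) ≤ ((0 : ℕ∞) : WithBot ℕ∞) := hle
      exact le_antisymm (WithBot.coe_le_coe.mp this) zero_le
    rw [this]; rfl
  · have hne : LocCoh.depth R R ≠ 0 := fun h' =>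
      h hd ((Groth.Agent.Lib.Helper29.depth_eq_zero_iff R R).mp h')
    rw [hd] at hle ⊢
    have hle' : LocCoh.depth R R ≤ 1 := by
      have : (LocCoh.depth R R : WithBot ℕ∞) ≤ ((1 : ℕ∞) : WithBot ℕ∞) := hle
      exact WithBot.coe_le_coe.mp this
    have : LocCoh.depth R R = 1 := by
      refine le_antisymm hle' ?_
      exact Order.one_le_iff_pos.mpr (pos_iff_ne_zero.mpr hne)
    rw [this]; rfl


theorem withBot_enat_le_zero_of_add_one_le_one (a : WithBot ℕ∞) (h : a + 1 ≤ 1) : a ≤ 0 := by
  induction a with
  | bot => exact bot_le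
  | coe e =>
    induction e with
    | top => exact absurd h (by decide)
    | coe n =>
      have hn : n + 1 ≤ 1 := by exact_mod_cast h
      have : n = 0 := by omega
      subst this
      rfl

set_option backward.isDefEq.respectTransparency.types false in
theorem main (k : Type u) [Field k] (X : Scheme.{u}) [X.Over (Spec (CommRingCat.of k))]
    [IsProper (X ↘ (Spec (CommRingCat.of k)))] (hdim : topologicalKrullDim X = 1)
    (h0 : Module.finrank k (Coh.HH X (Coh.structureModule X) 0) = 1) :
    ConnectedSpace X ∧ (∀ x : X, LocCoh.IsCohenMacaulayLocalRing (X.presheaf.stalk x)) ∧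
      ∀ Z ∈ irreducibleComponents (X : Type u), topologicalKrullDim Z = 1 := by
  let f : X ⟶ Spec (CommRingCat.of k) := X ↘ Spec (CommRingCat.of k)
  have hLN : IsLocallyNoetherian X := LocallyOfFiniteType.isLocallyNoetherian f
  have hcomp : CompactSpace X := (quasiCompact_iff_compactSpace f).mp inferInstance
  have hNoeth : IsNoetherian X := {}
  have hNS : NoetherianSpace X := inferInstance
  have hne : Nonempty X := by
    by_contra hcon
    rw [not_nonempty_iff] at hcon
    have hE : IsEmpty (IrreducibleCloseds X) := ⟨fun Z => hcon.elim Z.2.1.some⟩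
    have : topologicalKrullDim X = ⊥ := Order.krullDim_eq_bot
    rw [hdim] at this
    exact absurd this (by decide)
  have hdim_ne : ¬ Subsingleton X := by
    intro hS
    have := Groth.Agent.Lib.Helper24.topologicalKrullDim_eq_zero_of_subsingleton X
    rw [hdim] at this
    exact one_ne_zero this
  -- global sections are zero or units
  have hsurj := Groth.Agent.Lib.Helper75.H0k.appTop_surjective_of_finrank_eq_one k X h0
  have hsec : ∀ σ : Γ(X, ⊤), σ = 0 ∨ IsUnit σ := by
    intro σ
    obtain ⟨τ, rfl⟩ := hsurj σ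
    have hfield : IsField Γ(Spec (CommRingCat.of k), ⊤) :=
      MulEquiv.isField (Field.toIsField k)
        (Scheme.ΓSpecIso (CommRingCat.of k)).commRingCatIsoToRingEquiv.toMulEquiv
    by_cases hτ : τ = 0
    · left; rw [hτ, map_zero]
    · right
      obtain ⟨b, hb⟩ := hfield.mul_inv_cancel hτ
      exact (IsUnit.of_mul_eq_one b hb).map _
  have hconn : ConnectedSpace X := by
    have hpre : PreconnectedSpace X := by
      apply Groth.Agent.Lib.Helper70.SteinPI.preconnectedSpace_of_idempotent_trivial X
      intro e he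
      rcases hsec e with h | h
      · exact Or.inl h
      · exact Or.inr ((IsIdempotentElem.iff_eq_one_of_isUnit h).mp he)
    exact { toNonempty := hne }
  have hCM : ∀ x : X, LocCoh.IsCohenMacaulayLocalRing (X.presheaf.stalk x) := by
    intro x
    apply isCohenMacaulayLocalRing_of_dim_le_one
    · exact hdim ▸ Groth.Agent.Lib.Helper55.ringKrullDim_stalk_le_topologicalKrullDim X x
    · intro hd hm
      have h1 := Groth.Agent.Lib.Helper55.localDim_eq_dim_closure_add_dim_stalk f x
      have h2 := Groth.Agent.Lib.Helper29.localDim_le_topologicalKrullDim (X := X) x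
      rw [h1, hd, hdim] at h2
      have h3 : topologicalKrullDim ↥(closure ({x} : Set X)) ≤ 0 :=
        withBot_enat_le_zero_of_add_one_le_one _ h2
      have hxc : IsClosed ({x} : Set X) := isClosed_singleton_of_dim_closure_le_zero x h3
      obtain ⟨hprime, s, hs⟩ := (isAssociatedPrime_iff).mp hm
      have hmem : ∀ a : X.presheaf.stalk x, a ∈ maximalIdeal (X.presheaf.stalk x) ↔ a * s = 0 := by
        intro a
        rw [hs, Submodule.mem_colon_singleton]
        simp
      have hs0 : s ≠ 0 := by
        rintro rfl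
        have : (1 : X.presheaf.stalk x) ∈ maximalIdeal (X.presheaf.stalk x) :=
          (hmem 1).mpr (mul_zero 1)
        exact (Ideal.ne_top_iff_one _).mp hprime.ne_top this
      obtain ⟨σ, hσ1, hσ2⟩ := exists_section_supported_at_closed_point x hxc s
        (fun a ha => (hmem a).mp ha)
      rcases hsec σ with h | h
      · rw [h, map_zero] at hσ1; exact hs0 hσ1.symm
      · have hu := h.map (X.presheaf.map
          (homOfLE (le_top : (⟨{x}ᶜ, hxc.isOpen_compl⟩ : X.Opens) ≤ ⊤)).op).hom
        rw [hσ2] at hu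
        apply hdim_ne
        have hall : ∀ y : X, y = x := by
          intro y
          by_contra hy
          have hu' := hu.map (X.presheaf.germ (⟨{x}ᶜ, hxc.isOpen_compl⟩ : X.Opens) y hy).hom
          rw [map_zero] at hu'
          exact not_isUnit_zero hu'
        exact ⟨fun a b => (hall a).trans (hall b).symm⟩
  refine ⟨hconn, hCM, ?_⟩
  intro Z hZ
  have hle : topologicalKrullDim Z ≤ 1 := hdim ▸ topologicalKrullDim_subspace_le X Z
  have hZne : Nonempty Z := hZ.1.nonempty.to_subtype
  have hZne' : Nonempty (IrreducibleCloseds Z) := by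
    have : IrreducibleSpace Z := (isIrreducible_iff_irreducibleSpace (s := Z)).mp hZ.1
    exact ⟨⟨Set.univ, IrreducibleSpace.isIrreducible_univ Z, isClosed_univ⟩⟩
  have hge : 0 ≤ topologicalKrullDim Z := Order.krullDim_nonneg
  rcases withBot_enat_eq_zero_or_one _ hge hle with h | h
  · exfalso
    have hpre : PreconnectedSpace X := hconn.toPreconnectedSpace
    exact hdim_ne (subsingleton_of_irreducibleComponent_dim_le_zero Z hZ h.le)
  · exact h

end Groth.Agent.Lib.Helper24.CurveH0
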