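/-
Helper library (helper24): topology of one-dimensional irreducible Noetherian sober spaces:
proper closed subsets are finite; non-generic points are closed.
-/
import Mathlib

set_option autoImplicit false
universe u
open TopologicalSpace

namespace Groth.Agent.Lib.Helper24

/-- In an irreducible T0 space of Krull dimension `≤ 1`, a point whose closure is not everything is
a closed point. -/
theorem closure_singleton_eq_of_dim_le_one {T : Type*} [TopologicalSpace T] [IrreducibleSpace T]
    [T0Space T] (hdim : topologicalKrullDim T ≤ 1) (z : T)
    (hz : closure ({z} : Set T) ≠ Set.univ) : closure ({z} : Set T) = {z} := by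
  let a : IrreducibleCloseds T := ⟨closure {z}, isIrreducible_singleton.closure, isClosed_closure⟩
  let top : IrreducibleCloseds T := ⟨Set.univ, IrreducibleSpace.isIrreducible_univ T, isClosed_univ⟩
  rcases Order.krullDim_le_one_iff.mp hdim a with hmin | hmax
  · refine Set.Subset.antisymm (fun z' hz' => ?_) (Set.singleton_subset_iff.mpr (subset_closure rfl))
    let b : IrreducibleCloseds T :=
      ⟨closure {z'}, isIrreducible_singleton.closure, isClosed_closure⟩
    have hba : b ≤ a := by
      change closure {z'} ⊆ closure {z}
      exact closure_minimal (Set.singleton_subset_iff.mpr hz') isClosed_closure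
    have hab : a ≤ b := hmin hba
    have hz2 : z ∈ closure ({z'} : Set T) := hab (subset_closure rfl)
    have h1 : z ⤳ z' := specializes_iff_mem_closure.mpr hz'
    have h2 : z' ⤳ z := specializes_iff_mem_closure.mpr hz2
    exact (h2.antisymm h1).eq
  · exfalso
    have hle : a ≤ top := fun x _ => Set.mem_univ x
    have : top ≤ a := hmax hle
    exact hz (Set.eq_univ_of_univ_subset this)

/-- In an irreducible Noetherian sober space of Krull dimension `≤ 1`, every proper closed subset
is finite. -/
theorem finite_of_isClosed_of_ne_univ {T : Type*} [TopologicalSpace T] [NoetherianSpace T]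
    [IrreducibleSpace T] [QuasiSober T] [T0Space T] (hdim : topologicalKrullDim T ≤ 1)
    (Z : Set T) (hZ : IsClosed Z) (hne : Z ≠ Set.univ) : Z.Finite := by
  obtain ⟨S, hSf, hSc, hSi, rfl⟩ := NoetherianSpace.exists_finite_set_isClosed_irreducible hZ
  refine Set.Finite.sUnion hSf (fun t ht => ?_)
  obtain ⟨z, hzt⟩ := QuasiSober.sober (hSi t ht) (hSc t ht)
  have hcl : closure ({z} : Set T) = t := hzt.def
  have hne' : closure ({z} : Set T) ≠ Set.univ := by
    intro h
    apply hne
    apply Set.eq_univ_of_univ_subset
    rw [← h, hcl]
    exact Set.subset_sUnion_of_mem ht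
  rw [← hcl, closure_singleton_eq_of_dim_le_one hdim z hne']
  exact Set.finite_singleton z

end Groth.Agent.Lib.Helper24
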