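import Mathlib
import Groth.Agent.Lib.Helper70.DVRRedB
import Groth.Agent.Lib.Helper70.DVRFlatC
import Groth.Agent.Lib.Helper69.DvrIso
import Groth.Agent.Lib.Helper64.CurveGeom

/-!
# Proper flat schemes over a DVR with reduced connected special fibre and smooth generic fibre
are integral (helper24)
-/

set_option autoImplicit false
universe u

open AlgebraicGeometry CategoryTheory Limits TopologicalSpace

namespace Groth.Agent.Lib.Helper24.DVRModelA

variable {R : Type u} [CommRing R] [IsDomain R] [IsDiscreteValuationRing R]
  {X : Scheme.{u}} (f : X ⟶ Spec (CommRingCat.of R))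

/-- A scheme with a closed map to the spectrum of a DVR whose closed fibre is connected is
connected. -/
theorem connectedSpace_of_isClosedMap (hcl : IsClosedMap f.base)
    (hconn : _root_.IsConnected (f.base ⁻¹' {IsLocalRing.closedPoint R})) : ConnectedSpace X := by
  obtain ⟨x₀, hx₀⟩ := hconn.nonempty
  have key : ∀ s : Set X, IsClopen s → s.Nonempty →
      f.base ⁻¹' {IsLocalRing.closedPoint R} ⊆ s := by
    rintro s hs ⟨x, hx⟩
    obtain ⟨x', hxx', hfx'⟩ :=
      Groth.Agent.Lib.Helper70.DVRRedB.exists_specializes_closedPoint f hcl x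
    have hx's : x' ∈ s := hxx'.mem_closed hs.isClosed hx
    exact hconn.isPreconnected.subset_isClopen hs ⟨x', hfx', hx's⟩
  refine connectedSpace_iff_clopen.mpr ⟨⟨x₀⟩, fun s hs => ?_⟩
  by_cases h1 : s.Nonempty
  · by_cases h2 : sᶜ.Nonempty
    · exact absurd (key s hs h1 hx₀) (key sᶜ hs.compl h2 hx₀)
    · right
      rwa [Set.not_nonempty_iff_eq_empty, Set.compl_empty_iff] at h2
  · left
    exact Set.not_nonempty_iff_eq_empty.mp h1

open Groth.Agent.Lib.Helper70 in
theorem isIntegral_of_proper_flat_dvr [Flat f] [LocallyOfFiniteType f] [QuasiCompact f]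
    (hcl : IsClosedMap f.base)
    (hred : IsReduced (f.fiber (IsLocalRing.closedPoint R)))
    (hconn : ConnectedSpace (f.fiber (IsLocalRing.closedPoint R)))
    {Y : Scheme.{u}} (a : Y ⟶ X) (b : Y ⟶ Spec (CommRingCat.of (FractionRing R)))
    (hY : IsPullback a b f (Spec.map (CommRingCat.ofHom (algebraMap R (FractionRing R)))))
    [Smooth b] : IsIntegral X := by
  classical
  have hXN : IsLocallyNoetherian X := LocallyOfFiniteType.isLocallyNoetherian f
  -- the closed fibre is connected as a subset
  have hF : _root_.IsConnected (f.base ⁻¹' {IsLocalRing.closedPoint R}) := by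
    rw [isConnected_iff_connectedSpace]
    exact (f.fiberHomeo (IsLocalRing.closedPoint R)).surjective.connectedSpace
      (f.fiberHomeo (IsLocalRing.closedPoint R)).continuous
  have hXc : ConnectedSpace X := connectedSpace_of_isClosedMap f hcl hF
  obtain ⟨ϖ, hϖ⟩ := IsDiscreteValuationRing.exists_irreducible R
  let t : Γ(X, ⊤) := DVRConnC.pb f ⊤ ϖ
  have hgood : ∀ V : X.Opens, IsAffineOpen V → DVRConnA.Good (DVRConnD.res t V) := by
    intro V hV
    have : DVRConnD.res t V = DVRConnC.pb f V ϖ := DVRConnC.pb_res f le_top ϖ
    rw [this]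
    exact DVRConnC.good_pb f hred hV hϖ
  have hdense : Dense (X.basicOpen t : Set X) := DVRConnD.dense_basicOpen t hgood
  have hpre : _root_.IsPreconnected (X.basicOpen t : Set X) := DVRConnD.isPreconnected_basicOpen t hgood
  -- `a` is an open immersion with range the basic open of `t`
  have hoi : IsOpenImmersion a :=
    MorphismProperty.of_isPullback hY.flip (Groth.Agent.Lib.Helper69.DvrIso.isOpenImmersion_genPt R)
  have hrange : Set.range a.base = (X.basicOpen t : Set X) := by
    have h1 : a = hY.isoPullback.hom ≫ pullback.fst _ _ := (hY.isoPullback_hom_fst).symm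
    have h2 : Set.range a.base = Set.range (pullback.fst f
        (Spec.map (CommRingCat.ofHom (algebraMap R (FractionRing R))))).base := by
      rw [h1, Scheme.Hom.comp_base, TopCat.coe_comp, Set.range_comp,
        Set.range_eq_univ.mpr (ConcreteCategory.bijective_of_isIso
          (hY.isoPullback.hom.base)).surjective, Set.image_univ]
    rw [h2, Scheme.Pullback.range_fst]
    have h3 := Groth.Agent.Lib.Helper69.DvrIso.range_genPt R hϖ
    have h4 : Set.range (Spec.map (CommRingCat.ofHom (algebraMap R (FractionRing R)))).base =
        (PrimeSpectrum.basicOpen ϖ : Set (PrimeSpectrum R)) := h3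
    rw [h4]
    ext x
    rw [SetLike.mem_coe, DVRConnC.mem_basicOpen_pb_iff]
    simp only [Set.mem_preimage]
    constructor
    · intro hx
      exact ⟨trivial, hx⟩
    · rintro ⟨-, hx⟩
      exact hx
  -- `Y` is connected
  have hYc : ConnectedSpace Y := by
    have e := a.isOpenEmbedding.isEmbedding.toHomeomorph
    have h1 : ConnectedSpace ↥(Set.range a.base) := by
      rw [← isConnected_iff_connectedSpace, hrange]
      exact ⟨hdense.nonempty, hpre⟩
    exact e.symm.surjective.connectedSpace e.symm.continuous
  have hqc : QuasiCompact b := MorphismProperty.of_isPullback hY ‹QuasiCompact f›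
  have hYi : IsIntegral Y :=
    Groth.Agent.Lib.Helper64.CurveGeom.isIntegral_of_connected_of_smooth (FractionRing R) b
  -- `X` is irreducible
  have hirr : IsIrreducible (Set.range a.base) := by
    have := (IrreducibleSpace.isIrreducible_univ Y).image a.base a.continuous.continuousOn
    rwa [Set.image_univ] at this
  have hXirr : IrreducibleSpace X := by
    rw [irreducibleSpace_def]
    have h1 := hirr.closure
    rw [hrange, hdense.closure_eq] at h1
    exact h1
  have hXr : IsReduced X := DVRRedB.isReduced_of_isClosedMap f hcl hred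
  exact isIntegral_of_irreducibleSpace_of_isReduced X

end Groth.Agent.Lib.Helper24.DVRModelA
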