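import Mathlib

/-!
# Residue fields in a generically finite extension of DVRs with algebraically closed residue
field (helper24)
-/

set_option autoImplicit false
universe u

open scoped TensorProduct
open Polynomial

namespace Groth.Agent.Lib.Helper24.DVRModelB

/-- Elements of `R'` are algebraic over `R` when `Frac R ⊗ R'` is finite over `Frac R`. -/
theorem exists_polynomial_aeval_eq_zero (R R' : Type u) [CommRing R] [IsDomain R]
    [IsDiscreteValuationRing R] [CommRing R'] [IsDomain R'] [Algebra R R']
    (hinj : Function.Injective (algebraMap R R'))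
    [Module.Finite (FractionRing R) (FractionRing R ⊗[R] R')] (r' : R') :
    ∃ q : R[X], q ≠ 0 ∧ aeval r' q = 0 := by
  have hfs : FaithfulSMul R R' := (faithfulSMul_iff_algebraMap_injective R R').mpr hinj
  have hflat : Module.Flat R R' := inferInstance
  let K := FractionRing R
  let C := K ⊗[R] R'
  let x : C := (1 : K) ⊗ₜ[R] r'
  have hxK : IsAlgebraic K x := (Algebra.IsIntegral.isIntegral (R := K) x).isAlgebraic
  have hxR : IsAlgebraic R x := (IsFractionRing.isAlgebraic_iff R K C).mpr hxK
  obtain ⟨q, hq0, hq⟩ := hxR
  refine ⟨q, hq0, ?_⟩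
  have hinc : Function.Injective (Algebra.TensorProduct.includeRight : R' →ₐ[R] C) :=
    Algebra.TensorProduct.includeRight_injective (IsFractionRing.injective R K)
  apply hinc
  rw [map_zero, ← Polynomial.aeval_algHom_apply]
  exact hq

/-- The residue field extension is trivial. -/
theorem exists_sub_mem_maximalIdeal (R R' : Type u) [CommRing R] [IsDomain R]
    [IsDiscreteValuationRing R] [IsAlgClosed (IsLocalRing.ResidueField R)]
    [CommRing R'] [IsDomain R'] [IsLocalRing R'] [Algebra R R']
    (hinj : Function.Injective (algebraMap R R')) [IsLocalHom (algebraMap R R')]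
    [Module.Finite (FractionRing R) (FractionRing R ⊗[R] R')] (r' : R') :
    ∃ a : R, r' - algebraMap R R' a ∈ IsLocalRing.maximalIdeal R' := by
  classical
  obtain ⟨q, hq0, hq⟩ := exists_polynomial_aeval_eq_zero R R' hinj r'
  let _ := UniqueFactorizationMonoid.strongNormalizationMonoid (α := R)
  let _ := UniqueFactorizationMonoid.toNormalizedGCDMonoid R
  have hqq := q.eq_C_content_mul_primPart
  have hc0 : q.content ≠ 0 := by rwa [Ne, Polynomial.content_eq_zero_iff]
  have hp0 : aeval r' q.primPart = 0 := by
    have h1 : aeval r' q = algebraMap R R' q.content * aeval r' q.primPart := by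
      conv_lhs => rw [hqq]
      rw [map_mul, aeval_C]
    rw [hq] at h1
    exact (mul_eq_zero.mp h1.symm).resolve_left (fun h => hc0 ((map_eq_zero_iff _ hinj).mp h))
  obtain ⟨ϖ, hϖ⟩ := IsDiscreteValuationRing.exists_irreducible R
  have hprim : q.primPart.IsPrimitive := q.isPrimitive_primPart
  have hex : ∃ i, q.primPart.coeff i ∉ IsLocalRing.maximalIdeal R := by
    by_contra hcon
    push Not at hcon
    have h1 : C ϖ ∣ q.primPart := by
      rw [Polynomial.C_dvd_iff_dvd_coeff]
      intro i
      have h2 := hcon i
      rw [hϖ.maximalIdeal_eq, Ideal.mem_span_singleton] at h2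
      exact h2
    exact hϖ.not_isUnit (hprim ϖ h1)
  let k := IsLocalRing.ResidueField R
  let k' := IsLocalRing.ResidueField R'
  let ι : k →+* k' := IsLocalRing.ResidueField.map (algebraMap R R')
  let _ : Algebra k k' := ι.toAlgebra
  let pbar : k[X] := q.primPart.map (IsLocalRing.residue R)
  have hpbar0 : pbar ≠ 0 := by
    obtain ⟨i, hi⟩ := hex
    intro h
    have h1 : pbar.coeff i = 0 := by rw [h]; simp
    rw [Polynomial.coeff_map] at h1
    exact hi ((IsLocalRing.residue_eq_zero_iff _).mp h1)
  have hev : aeval (IsLocalRing.residue R' r') pbar = 0 := by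
    have h1 : aeval (IsLocalRing.residue R' r') pbar =
        Polynomial.eval₂ ((algebraMap k k').comp (IsLocalRing.residue R))
          (IsLocalRing.residue R' r') q.primPart := by
      rw [Polynomial.aeval_def, Polynomial.eval₂_map]
    have h2 : (algebraMap k k').comp (IsLocalRing.residue R) =
        (IsLocalRing.residue R').comp (algebraMap R R') := rfl
    rw [h1, h2, ← Polynomial.hom_eval₂, ← Polynomial.aeval_def, hp0, map_zero]
  have halg : IsAlgebraic k (IsLocalRing.residue R' r') := ⟨pbar, hpbar0, hev⟩
  have hint : IsIntegral k (IsLocalRing.residue R' r') := halg.isIntegral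
  have hdeg : (minpoly k (IsLocalRing.residue R' r')).degree = 1 :=
    IsAlgClosed.degree_eq_one_of_irreducible k (minpoly.irreducible hint)
  obtain ⟨abar, habar⟩ := minpoly.mem_range_of_degree_eq_one k _ hdeg
  obtain ⟨a, rfl⟩ := IsLocalRing.residue_surjective abar
  refine ⟨a, ?_⟩
  rw [← IsLocalRing.residue_eq_zero_iff, map_sub, sub_eq_zero, ← habar]
  rfl

end Groth.Agent.Lib.Helper24.DVRModelB
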