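import Mathlib

/-!
# Closed fibre of a base change along a local homomorphism with trivial residue extension (helper24)
-/

set_option autoImplicit false
universe u

open AlgebraicGeometry CategoryTheory Limits IsLocalRing

namespace Groth.Agent.Lib.Helper24.DVRModelC

/-- `fromSpecResidueField` of an affine scheme is `Spec` of the evaluation map. -/
theorem fromSpecResidueField_eq (A : CommRingCat.{u}) (x : Spec A) :
    (Spec A).fromSpecResidueField x =
      Spec.map ((Scheme.ΓSpecIso A).inv ≫ (Spec A).evaluation ⊤ x trivial) := by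
  rw [Scheme.fromSpecResidueField, Spec.fromSpecStalk_eq, ← Spec.map_comp]
  rfl

set_option backward.isDefEq.respectTransparency.types false in
/-- The closed fibre of a base change along a local homomorphism inducing a surjection on residue
fields is the closed fibre of the original morphism. -/
theorem nonempty_fiber_closedPoint_iso (R R' : Type u) [CommRing R] [IsLocalRing R] [CommRing R']
    [IsLocalRing R'] (φ : R →+* R') [IsLocalHom φ]
    (hres : ∀ r' : R', ∃ a : R, r' - φ a ∈ maximalIdeal R')
    {X Xs : Scheme.{u}} (f : X ⟶ Spec (CommRingCat.of R)) (gs : Xs ⟶ X)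
    (fs : Xs ⟶ Spec (CommRingCat.of (ResidueField R)))
    (hs : IsPullback gs fs f (Spec.map (CommRingCat.ofHom (residue R)))) :
    Nonempty ((pullback.snd f (Spec.map (CommRingCat.ofHom φ))).fiber (closedPoint R') ≅ Xs) := by
  set c' : Spec (CommRingCat.of R') := closedPoint R' with hc'
  let A' : CommRingCat.{u} := CommRingCat.of R'
  let κ : CommRingCat.{u} := (Spec A').residueField c'
  let ev : A' ⟶ κ := (Scheme.ΓSpecIso A').inv ≫ (Spec A').evaluation ⊤ c' trivial
  let ι := Scheme.Spec.residueFieldIso A' c'
  have hev : ev = CommRingCat.ofHom (algebraMap R' c'.asIdeal.ResidueField) ≫ ι.inv :=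
    (Scheme.Spec.algebraMap_residueFieldIso_inv A' c').symm
  have hmax : c'.asIdeal = maximalIdeal R' := rfl
  have hev0 : ∀ r' : R', r' ∈ maximalIdeal R' → ev.hom r' = 0 := by
    intro r' hr'
    rw [hev]
    change ι.inv.hom (algebraMap R' c'.asIdeal.ResidueField r') = 0
    rw [Ideal.algebraMap_residueField_eq_zero.mpr (hmax ▸ hr'), map_zero]
  have hevsurj : Function.Surjective ev.hom := by
    rw [hev]
    have h1 : Function.Surjective (algebraMap R' c'.asIdeal.ResidueField) := by
      have : c'.asIdeal.IsMaximal := hmax ▸ maximalIdeal.isMaximal R'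
      exact Ideal.algebraMap_residueField_surjective c'.asIdeal
    have h2 : Function.Surjective ι.inv.hom :=
      (ConcreteCategory.bijective_of_isIso ι.inv).surjective
    exact h2.comp h1
  -- the map on residue fields
  let ψ : ResidueField R →+* κ :=
    Ideal.Quotient.lift (maximalIdeal R) (ev.hom.comp φ) (fun a ha => by
      rw [RingHom.comp_apply]
      exact hev0 _ (map_nonunit φ a ha))
  have hψ : ψ.comp (residue R) = ev.hom.comp φ := by
    ext a
    rfl
  have hψb : Function.Bijective ψ := by
    refine ⟨RingHom.injective ψ, fun z => ?_⟩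
    obtain ⟨r', rfl⟩ := hevsurj z
    obtain ⟨a, ha⟩ := hres r'
    refine ⟨residue R a, ?_⟩
    have h1 : ψ (residue R a) = ev.hom (φ a) := rfl
    rw [h1, ← sub_eq_zero, ← map_sub]
    have := hev0 _ ha
    rw [← neg_sub, map_neg, this, neg_zero]
  have hψiso : IsIso (CommRingCat.ofHom ψ) := by
    have : CommRingCat.ofHom ψ = (RingEquiv.ofBijective ψ hψb).toCommRingCatIso.hom := rfl
    rw [this]
    infer_instance
  let w : Spec κ ⟶ Spec (CommRingCat.of (ResidueField R)) := Spec.map (CommRingCat.ofHom ψ)
  have hw : IsIso w := by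
    show IsIso (Spec.map (CommRingCat.ofHom ψ))
    infer_instance
  -- the two cospans agree
  have hcospan : (Spec A').fromSpecResidueField c' ≫ Spec.map (CommRingCat.ofHom φ) =
      w ≫ Spec.map (CommRingCat.ofHom (residue R)) := by
    rw [fromSpecResidueField_eq, ← Spec.map_comp, ← Spec.map_comp]
    congr 1
  -- first pullback
  let f' := pullback.snd f (Spec.map (CommRingCat.ofHom φ))
  have h1 : IsPullback (f'.fiberι c') (f'.fiberToSpecResidueField c') f'
      ((Spec A').fromSpecResidueField c') := IsPullback.of_hasPullback _ _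
  have h2 : IsPullback (pullback.fst f (Spec.map (CommRingCat.ofHom φ))) f' f
      (Spec.map (CommRingCat.ofHom φ)) := IsPullback.of_hasPullback _ _
  have h3 := h1.paste_horiz h2
  rw [hcospan] at h3
  -- second pullback
  have h4 : IsPullback (𝟙 Xs) (fs ≫ inv w) fs w :=
    IsPullback.of_horiz_isIso ⟨by simp⟩
  have h5 := h4.paste_horiz hs
  exact ⟨h3.isoIsPullback _ _ h5⟩

theorem exists_fractionRing_map (R R' : Type u) [CommRing R] [IsDomain R] [CommRing R'] [IsDomain R']
    (φ : R →+* R') (hinj : Function.Injective φ) :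
    ∃ Φ : FractionRing R →+* FractionRing R',
      Φ.comp (algebraMap R (FractionRing R)) = (algebraMap R' (FractionRing R')).comp φ := by
  have hinj' : Function.Injective ((algebraMap R' (FractionRing R')).comp φ) :=
    (IsFractionRing.injective R' (FractionRing R')).comp hinj
  refine ⟨IsFractionRing.lift (A := R) (K := FractionRing R) (L := FractionRing R') hinj', ?_⟩
  ext a
  simp only [RingHom.comp_apply]
  exact IsFractionRing.lift_algebraMap (A := R) (K := FractionRing R) (L := FractionRing R') hinj' a

/-- The generic fibre of a base change along an injective homomorphism of domains is a base change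
of the generic fibre; in particular it is smooth when the latter is. -/
theorem smooth_snd_genPt (R R' : Type u) [CommRing R] [IsDomain R] [CommRing R'] [IsDomain R']
    (φ : R →+* R') (hinj : Function.Injective φ)
    {X XK : Scheme.{u}} (f : X ⟶ Spec (CommRingCat.of R)) (gK : XK ⟶ X)
    (fK : XK ⟶ Spec (CommRingCat.of (FractionRing R)))
    (hK : IsPullback gK fK f (Spec.map (CommRingCat.ofHom (algebraMap R (FractionRing R)))))
    [Smooth fK] :
    Smooth (pullback.snd (pullback.snd f (Spec.map (CommRingCat.ofHom φ)))
      (Spec.map (CommRingCat.ofHom (algebraMap R' (FractionRing R'))))) := by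
  let f' := pullback.snd f (Spec.map (CommRingCat.ofHom φ))
  let g' := Spec.map (CommRingCat.ofHom (algebraMap R' (FractionRing R')))
  obtain ⟨Φ, hΦ⟩ := exists_fractionRing_map R R' φ hinj
  let w₂ := Spec.map (CommRingCat.ofHom Φ)
  have hcospan : g' ≫ Spec.map (CommRingCat.ofHom φ) =
      w₂ ≫ Spec.map (CommRingCat.ofHom (algebraMap R (FractionRing R))) := by
    rw [← Spec.map_comp, ← Spec.map_comp, ← CommRingCat.ofHom_comp, ← CommRingCat.ofHom_comp, hΦ]
  have h1 : IsPullback (pullback.fst f' g') (pullback.snd f' g') f' g' := IsPullback.of_hasPullback _ _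
  have h2 : IsPullback (pullback.fst f (Spec.map (CommRingCat.ofHom φ))) f' f
      (Spec.map (CommRingCat.ofHom φ)) := IsPullback.of_hasPullback _ _
  have h3 := h1.paste_horiz h2
  rw [hcospan] at h3
  let h₁₁ := hK.lift (pullback.fst f' g' ≫ pullback.fst f (Spec.map (CommRingCat.ofHom φ)))
    (pullback.snd f' g' ≫ w₂) (by rw [Category.assoc]; exact h3.w)
  have hl1 : h₁₁ ≫ gK = pullback.fst f' g' ≫ pullback.fst f (Spec.map (CommRingCat.ofHom φ)) :=
    hK.lift_fst _ _ _
  have hl2 : h₁₁ ≫ fK = pullback.snd f' g' ≫ w₂ := hK.lift_snd _ _ _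
  rw [← hl1] at h3
  have h4 : IsPullback h₁₁ (pullback.snd f' g') fK w₂ := IsPullback.of_right h3 hl2 hK
  exact MorphismProperty.of_isPullback h4 ‹Smooth fK›

end Groth.Agent.Lib.Helper24.DVRModelC
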