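import Groth.Agent.Lib.Helper24.MaxPointLength
import Groth.Prelude.Def_Coh

/-!
# The local ring of the total space at a maximal point of a reduced special fibre (helper24)

For `f : X ⟶ Spec R` with `R` local and `Xs = X ×_R Spec k` the special fibre, reduced, and `ξ` a maximal
point of `Xs`: `𝔪_R O_{X,ξ} = 𝔪_ξ`.
-/

universe u

open CategoryTheory CategoryTheory.Limits AlgebraicGeometry IsLocalRing

namespace Groth.Agent.Lib.Helper24.SpecialFibreStalk

/-- The structure map `R → O_{X,x}` of a scheme over `Spec R`. -/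
noncomputable def stalkStr {R : Type u} [CommRing R] {X : Scheme.{u}} (f : X ⟶ Spec (CommRingCat.of R))
    (x : X) : R →+* X.presheaf.stalk x :=
  (X.presheaf.germ ⊤ x trivial).hom.comp (Coh.toGlobal f)

theorem fromSpecStalk_comp {R : Type u} [CommRing R] {X : Scheme.{u}} (f : X ⟶ Spec (CommRingCat.of R))
    (x : X) : X.fromSpecStalk x ≫ f = Spec.map (CommRingCat.ofHom (stalkStr f x)) := by
  have h1 : f = X.toSpecΓ ≫ Spec.map ((Scheme.ΓSpecIso (CommRingCat.of R)).inv ≫ f.appTop) := by
    rw [Spec.map_comp, ← Category.assoc, ← Scheme.toSpecΓ_naturality, Category.assoc,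
      toSpecΓ_SpecMap_ΓSpecIso_inv, Category.comp_id]
  conv_lhs => rw [h1]
  rw [← Category.assoc, Scheme.fromSpecStalk_toSpecΓ, ← Spec.map_comp]
  rfl

theorem stalkStr_mem_maximalIdeal {R : Type u} [CommRing R] [IsLocalRing R] {X : Scheme.{u}}
    (f : X ⟶ Spec (CommRingCat.of R)) (x : X) (hx : f.base x = closedPoint R) (a : R)
    (ha : a ∈ maximalIdeal R) : stalkStr f x a ∈ maximalIdeal (X.presheaf.stalk x) := by
  have h1 := fromSpecStalk_comp f x
  have h2 : (X.fromSpecStalk x ≫ f).base (closedPoint (X.presheaf.stalk x)) = closedPoint R := by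
    rw [Scheme.Hom.comp_base, TopCat.comp_app, Scheme.fromSpecStalk_closedPoint, hx]
  rw [h1] at h2
  have h3 : (closedPoint R).asIdeal =
      ((Spec.map (CommRingCat.ofHom (stalkStr f x))).base (closedPoint (X.presheaf.stalk x))).asIdeal := by
    rw [h2]
  change maximalIdeal R = Ideal.comap (stalkStr f x) (maximalIdeal (X.presheaf.stalk x)) at h3
  rw [h3] at ha
  exact ha

set_option backward.isDefEq.respectTransparency.types false in
theorem map_maximalIdeal_eq_of_isPullback_residue
    (R : Type u) [CommRing R] [IsLocalRing R] {X Xs : Scheme.{u}} (f : X ⟶ Spec (CommRingCat.of R))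
    (gs : Xs ⟶ X) (fs : Xs ⟶ Spec (CommRingCat.of (ResidueField R)))
    (hs : IsPullback gs fs f (Spec.map (CommRingCat.ofHom (residue R)))) [IsReduced Xs]
    (ξ : Xs) (hξ : ∀ z : Xs, z ⤳ ξ → z = ξ) :
    Ideal.map (stalkStr f (gs.base ξ)) (maximalIdeal R) = maximalIdeal (X.presheaf.stalk (gs.base ξ)) := by
  set x := gs.base ξ with hxdef
  let ρ := stalkStr f x
  set I := Ideal.map ρ (maximalIdeal R) with hI
  -- gs is a closed immersion
  have hci0 : IsClosedImmersion (Spec.map (CommRingCat.ofHom (residue R))) :=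
    IsClosedImmersion.spec_of_surjective _ (residue_surjective (R := R))
  have hci : IsClosedImmersion gs := MorphismProperty.of_isPullback hs.flip hci0
  -- x lies over the closed point
  have hfx : f.base x = closedPoint R := by
    have h1 : (gs ≫ f).base ξ = (fs ≫ Spec.map (CommRingCat.ofHom (residue R))).base ξ := by
      rw [hs.w]
    rw [Scheme.Hom.comp_base, TopCat.comp_app, Scheme.Hom.comp_base, TopCat.comp_app] at h1
    rw [hxdef, h1]
    have h2 : fs.base ξ = closedPoint (ResidueField R) := Subsingleton.elim _ _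
    rw [h2]
    have : IsLocalHom (CommRingCat.ofHom (residue R)).hom := inferInstanceAs (IsLocalHom (residue R))
    exact (isLocalHom_iff_comap_closedPoint (residue R)).mp inferInstance
  have hIle : I ≤ maximalIdeal (X.presheaf.stalk x) := by
    rw [hI, Ideal.map_le_iff_le_comap]
    intro a ha
    exact stalkStr_mem_maximalIdeal f x hfx a ha
  have hIne : I ≠ ⊤ := fun htop =>
    (maximalIdeal.isMaximal (X.presheaf.stalk x)).ne_top (top_le_iff.mp (htop ▸ hIle))
  have hnt : Nontrivial (X.presheaf.stalk x ⧸ I) := Ideal.Quotient.nontrivial_iff.mpr hIne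
  have hloc : IsLocalRing (X.presheaf.stalk x ⧸ I) :=
    IsLocalRing.of_surjective' (Ideal.Quotient.mk I) Ideal.Quotient.mk_surjective
  have hπl : IsLocalHom (Ideal.Quotient.mk I) :=
    IsLocalHom.of_surjective (Ideal.Quotient.mk I) Ideal.Quotient.mk_surjective
  -- the map from the residue field to the quotient
  let ℓ : ResidueField R →+* (X.presheaf.stalk x ⧸ I) :=
    Ideal.Quotient.lift (maximalIdeal R) ((Ideal.Quotient.mk I).comp ρ)
      (fun a ha => Ideal.Quotient.eq_zero_iff_mem.mpr (Ideal.mem_map_of_mem _ ha))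
  have hℓ : ℓ.comp (residue R) = (Ideal.Quotient.mk I).comp ρ := by
    ext a
    rfl
  have w : (Spec.map (CommRingCat.ofHom (Ideal.Quotient.mk I)) ≫ X.fromSpecStalk x) ≫ f =
      Spec.map (CommRingCat.ofHom ℓ) ≫ Spec.map (CommRingCat.ofHom (residue R)) := by
    rw [Category.assoc, fromSpecStalk_comp, ← Spec.map_comp, ← Spec.map_comp, ← CommRingCat.ofHom_comp,
      ← CommRingCat.ofHom_comp, hℓ]
  have hh : hs.lift _ _ w ≫ gs =
      Spec.map (CommRingCat.ofHom (Ideal.Quotient.mk I)) ≫ X.fromSpecStalk x := hs.lift_fst _ _ w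
  have hker : RingHom.ker (gs.stalkMap ξ).hom ≤ I := by
    have := @Groth.Agent.Lib.Helper49.core _ _ gs gs.isEmbedding.injective ξ
      (CommRingCat.of (X.presheaf.stalk x ⧸ I)) hloc (CommRingCat.ofHom (Ideal.Quotient.mk I)) hπl
      (hs.lift _ _ w) hh
    refine this.trans (le_of_eq ?_)
    exact Ideal.mk_ker
  -- the stalk of `Xs` at `ξ` is a field
  have hfield : IsField (Xs.presheaf.stalk ξ) :=
    isField_of_isReduced_of_forall_prime_eq _
      (fun p hp => eq_maximalIdeal_of_forall_specializes ξ hξ p)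
  have hsurj : Function.Surjective (gs.stalkMap ξ).hom := gs.stalkMap_surjective ξ
  have hmaxker : (RingHom.ker (gs.stalkMap ξ).hom).IsMaximal := by
    have : IsField (Xs.presheaf.stalk ξ) := hfield
    let _ := hfield.toField
    exact RingHom.ker_isMaximal_of_surjective _ hsurj
  have hIeq : I = RingHom.ker (gs.stalkMap ξ).hom := (hmaxker.eq_of_le hIne hker).symm
  have hImax : I.IsMaximal := hIeq ▸ hmaxker
  exact IsLocalRing.eq_maximalIdeal hImax

/-- A point whose closure is an irreducible component has no proper generizations. -/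
theorem eq_of_specializes_of_closure_mem_irreducibleComponents {T : Type*} [TopologicalSpace T]
    [T0Space T] (ξ : T) (hξ : closure ({ξ} : Set T) ∈ irreducibleComponents T) (z : T) (hz : z ⤳ ξ) :
    z = ξ := by
  have h1 : closure ({ξ} : Set T) ⊆ closure ({z} : Set T) := by
    rw [← specializes_iff_closure_subset]
    exact hz
  have h2 : IsIrreducible (closure ({z} : Set T)) := isIrreducible_singleton.closure
  have h3 : closure ({z} : Set T) ⊆ closure ({ξ} : Set T) := hξ.2 h2 h1
  have h4 : ξ ⤳ z := by
    rw [specializes_iff_closure_subset]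
    exact h3
  exact (hz.antisymm h4).eq

end Groth.Agent.Lib.Helper24.SpecialFibreStalk
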