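import Mathlib
import Groth.Agent.Lib.Helper24.SpecialFibreStalk
import Groth.Agent.Lib.Helper54.GenericPt

/-!
# Base change of the local scheme at a point into an integral base change (helper24)
-/

set_option autoImplicit false
universe u

open AlgebraicGeometry CategoryTheory Limits IsLocalRing
open scoped TensorProduct

namespace Groth.Agent.Lib.Helper24.DVRModelD

open Groth.Agent.Lib.Helper24.SpecialFibreStalk

/-- If `X' = X ×_R R'` is integral and `x` lies in the image of `X'`, then `O_{X,x} ⊗_R R'` is a
domain. -/
theorem isDomain_tensor_of_isIntegral_pullback {R : Type u} [CommRing R] {X : Scheme.{u}}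
    (f : X ⟶ Spec (CommRingCat.of R)) (R' : Type u) [CommRing R'] [Algebra R R']
    (hint : IsIntegral (pullback f (Spec.map (CommRingCat.ofHom (algebraMap R R')))))
    (x : X)
    (hx : ∃ x' : ↥(pullback f (Spec.map (CommRingCat.ofHom (algebraMap R R')))),
      (pullback.fst f (Spec.map (CommRingCat.ofHom (algebraMap R R')))).base x' = x)
    (B : Type u) [CommRing B] [Algebra R B] (e : X.presheaf.stalk x ≅ CommRingCat.of B)
    (he : e.hom.hom.comp (stalkStr f x) = algebraMap R B) : IsDomain (B ⊗[R] R') := by
  let X' := pullback f (Spec.map (CommRingCat.ofHom (algebraMap R R')))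
  let p : X' ⟶ X := pullback.fst _ _
  let f' : X' ⟶ Spec (CommRingCat.of R') := pullback.snd _ _
  let ι : Spec (CommRingCat.of B) ⟶ X := Spec.map e.hom ≫ X.fromSpecStalk x
  have hι : ι ≫ f = Spec.map (CommRingCat.ofHom (algebraMap R B)) := by
    rw [Category.assoc, fromSpecStalk_comp, ← Spec.map_comp, ← he]
    rfl
  have hιflat : Flat ι := by
    have := Groth.Agent.Lib.Helper54.flat_fromSpecStalk X x
    infer_instance
  let P := pullback ι p
  let j : P ⟶ X' := pullback.snd ι p
  let q : P ⟶ Spec (CommRingCat.of B) := pullback.fst ι p
  have hjpre : IsPreimmersion j := inferInstance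
  have hjflat : Flat j := inferInstance
  -- the generic point of `X'` lies in the range of `j`
  have hrange : Set.range j.base = p.base ⁻¹' Set.range ι.base := Scheme.Pullback.range_snd ι p
  have hrι : Set.range ι.base = {y | y ⤳ x} := by
    have h1 : Set.range ι.base = Set.range (X.fromSpecStalk x).base := by
      show Set.range (Spec.map e.hom ≫ X.fromSpecStalk x).base = _
      rw [Scheme.Hom.comp_base, TopCat.coe_comp, Set.range_comp,
        Set.range_eq_univ.mpr (ConcreteCategory.bijective_of_isIso
          ((Spec.map e.hom).base)).surjective, Set.image_univ]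
    rw [h1, Scheme.range_fromSpecStalk]
  have hgen : genericPoint X' ∈ Set.range j.base := by
    rw [hrange, Set.mem_preimage, hrι]
    obtain ⟨x', hx'⟩ := hx
    have h1 : genericPoint X' ⤳ x' := genericPoint_specializes x'
    have h2 := h1.map p.continuous
    rw [hx'] at h2
    exact h2
  -- `P` is irreducible
  have hirr : IsIrreducible (Set.range j.base) := by
    rw [← isIrreducible_iff_closure]
    have h1 : closure (Set.range j.base) = Set.univ := by
      apply Set.eq_univ_of_univ_subset
      rw [← (genericPoint_spec X').def]
      exact closure_mono (Set.singleton_subset_iff.mpr hgen)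
    rw [h1]
    exact IrreducibleSpace.isIrreducible_univ X'
  have hPirr : IrreducibleSpace P := by
    have h1 : IrreducibleSpace ↥(Set.range j.base) := Subtype.irreducibleSpace hirr
    let h := j.isEmbedding.toHomeomorph
    rw [irreducibleSpace_def]
    have h2 := (IrreducibleSpace.isIrreducible_univ ↥(Set.range j.base)).image h.symm
      h.symm.continuous.continuousOn
    rwa [Set.image_univ, h.symm.surjective.range_eq] at h2
  -- `P` is reduced
  have hPred : IsReduced P := by
    have hst : ∀ z : P, _root_.IsReduced (P.presheaf.stalk z) := by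
      intro z
      have hsurj : Function.Surjective (j.stalkMap z).hom := j.stalkMap_surjective z
      have hflat : (j.stalkMap z).hom.Flat := Flat.stalkMap j z
      let _ : Algebra (X'.presheaf.stalk (j.base z)) (P.presheaf.stalk z) :=
        (j.stalkMap z).hom.toAlgebra
      have hfl : Module.Flat (X'.presheaf.stalk (j.base z)) (P.presheaf.stalk z) := hflat
      have hloc : IsLocalHom (algebraMap (X'.presheaf.stalk (j.base z)) (P.presheaf.stalk z)) :=
        inferInstanceAs (IsLocalHom (j.stalkMap z).hom)
      have hff : Module.FaithfullyFlat (X'.presheaf.stalk (j.base z)) (P.presheaf.stalk z) :=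
        Module.FaithfullyFlat.of_flat_of_isLocalHom
      have hinj : Function.Injective (j.stalkMap z).hom :=
        FaithfulSMul.algebraMap_injective (X'.presheaf.stalk (j.base z)) (P.presheaf.stalk z)
      let eq : X'.presheaf.stalk (j.base z) ≃+* P.presheaf.stalk z :=
        RingEquiv.ofBijective (j.stalkMap z).hom ⟨hinj, hsurj⟩
      exact isReduced_of_injective eq.symm.toRingHom eq.symm.injective
    exact isReduced_of_isReduced_stalk P
  have hPint : IsIntegral P := isIntegral_of_irreducibleSpace_of_isReduced P
  -- identify `P` with `Spec (B ⊗ R')`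
  have h1 : IsPullback j q p ι := (IsPullback.of_hasPullback ι p).flip
  have h2 : IsPullback f' p (Spec.map (CommRingCat.ofHom (algebraMap R R'))) f :=
    (IsPullback.of_hasPullback f (Spec.map (CommRingCat.ofHom (algebraMap R R')))).flip
  have h3 := (h1.paste_horiz h2).flip
  rw [hι] at h3
  let i1 := h3.isoPullback
  let i2 := pullbackSpecIso R B R'
  have hSint : IsIntegral (Spec (CommRingCat.of (B ⊗[R] R'))) := by
    have : Nonempty (Spec (CommRingCat.of (B ⊗[R] R'))) := by
      obtain ⟨z⟩ := (inferInstance : Nonempty P)
      exact ⟨(i1.hom ≫ i2.hom).base z⟩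
    exact isIntegral_of_isOpenImmersion (i2.inv ≫ i1.inv)
  exact (affine_isIntegral_iff (CommRingCat.of (B ⊗[R] R'))).mp hSint

end Groth.Agent.Lib.Helper24.DVRModelD
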