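import Mathlib

/-!
# `B ⊗_R R'` is a discrete valuation ring (helper24)

`R ⊆ R'` an algebraic extension of DVRs with trivial residue field extension, `B` a DVR over `R` in
which a uniformizer of `R` stays a uniformizer, and `B ⊗_R R'` a domain: then `B ⊗_R R'` is a DVR.
-/

set_option autoImplicit false
universe u

open scoped TensorProduct
open IsLocalRing

namespace Groth.Agent.Lib.Helper24.DVRModelE

theorem isDiscreteValuationRing_tensor (R R' B : Type u) [CommRing R] [IsDomain R]
    [IsDiscreteValuationRing R] [CommRing R'] [IsDomain R'] [IsDiscreteValuationRing R']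
    [Algebra R R'] (hinj : Function.Injective (algebraMap R R')) [IsLocalHom (algebraMap R R')]
    [Algebra.IsAlgebraic R R']
    (hres : ∀ r' : R', ∃ a : R, r' - algebraMap R R' a ∈ maximalIdeal R')
    [CommRing B] [IsDomain B] [IsDiscreteValuationRing B] [Algebra R B]
    (hmB : maximalIdeal B = Ideal.map (algebraMap R B) (maximalIdeal R))
    [IsDomain (B ⊗[R] R')] : IsDiscreteValuationRing (B ⊗[R] R') := by
  classical
  obtain ⟨ϖ, hϖ⟩ := IsDiscreteValuationRing.exists_irreducible R
  obtain ⟨ϖ', hϖ'⟩ := IsDiscreteValuationRing.exists_irreducible R'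
  -- the uniformizer of `R` is a uniformizer of `B`
  have hmB' : maximalIdeal B = Ideal.span {algebraMap R B ϖ} := by
    rw [hmB, hϖ.maximalIdeal_eq, Ideal.map_span, Set.image_singleton]
  have hϖB : Irreducible (algebraMap R B ϖ) :=
    (IsDiscreteValuationRing.irreducible_iff_uniformizer _).mpr hmB'
  -- `R → B` is injective
  have hinjB : Function.Injective (algebraMap R B) := by
    rw [injective_iff_map_eq_zero]
    intro a ha
    by_contra ha0
    obtain ⟨n, u, hu⟩ := IsDiscreteValuationRing.eq_unit_mul_pow_irreducible ha0 hϖ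
    rw [hu, map_mul, map_pow] at ha
    rcases mul_eq_zero.mp ha with h | h
    · exact (u.isUnit.map (algebraMap R B)).ne_zero h
    · exact hϖB.ne_zero (eq_zero_of_pow_eq_zero h)
  have hfsB : FaithfulSMul R B := (faithfulSMul_iff_algebraMap_injective R B).mpr hinjB
  have hfsR' : FaithfulSMul R R' := (faithfulSMul_iff_algebraMap_injective R R').mpr hinj
  have hflatB : Module.Flat R B := inferInstance
  have hflatR' : Module.Flat R R' := inferInstance
  let T := B ⊗[R] R'
  let iB : B →ₐ[R] T := Algebra.TensorProduct.includeLeft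
  let iR : R' →ₐ[R] T := Algebra.TensorProduct.includeRight
  have hiR : Function.Injective iR := Algebra.TensorProduct.includeRight_injective hinjB
  let π' : T := iR ϖ'
  have hπ'0 : π' ≠ 0 := fun h => hϖ'.ne_zero (hiR (h.trans (map_zero iR).symm))
  -- decomposition
  have hdec : ∀ t : T, ∃ b : B, ∃ y : T, t = iB b + π' * y := by
    intro t
    induction t using TensorProduct.induction_on with
    | zero => exact ⟨0, 0, by simp⟩
    | tmul b r' =>
      obtain ⟨a, ha⟩ := hres r'
      rw [hϖ'.maximalIdeal_eq, Ideal.mem_span_singleton] at ha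
      obtain ⟨s, hs⟩ := ha
      refine ⟨a • b, b ⊗ₜ[R] s, ?_⟩
      have h1 : r' = algebraMap R R' a + ϖ' * s := by rw [← hs]; ring
      show b ⊗ₜ[R] r' = (a • b) ⊗ₜ[R] (1 : R') + ((1 : B) ⊗ₜ[R] ϖ') * (b ⊗ₜ[R] s)
      rw [Algebra.TensorProduct.tmul_mul_tmul, one_mul, h1, TensorProduct.tmul_add,
        TensorProduct.smul_tmul, Algebra.smul_def, mul_one]
    | add x y hx hy =>
      obtain ⟨b₁, y₁, h₁⟩ := hx
      obtain ⟨b₂, y₂, h₂⟩ := hy
      exact ⟨b₁ + b₂, y₁ + y₂, by rw [h₁, h₂, map_add]; ring⟩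
  -- the image of the uniformizer of `B` is a multiple of `π'`
  have hϖπ : iB (algebraMap R B ϖ) ∈ Ideal.span {π'} := by
    have h1 : iB (algebraMap R B ϖ) = iR (algebraMap R R' ϖ) := by
      rw [AlgHom.commutes, AlgHom.commutes]
    have h2 : algebraMap R R' ϖ ∈ maximalIdeal R' := map_nonunit _ _ hϖ.not_isUnit
    rw [hϖ'.maximalIdeal_eq, Ideal.mem_span_singleton] at h2
    obtain ⟨c, hc⟩ := h2
    rw [h1, hc, map_mul]
    exact Ideal.mul_mem_right _ _ (Ideal.subset_span rfl)
  -- the residue map `T → κ(B)`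
  have hlocB : IsLocalHom (algebraMap R B) := by
    refine ⟨fun a ha => ?_⟩
    by_contra hna
    have h1 : algebraMap R B a ∈ maximalIdeal B := by
      rw [hmB]
      exact Ideal.mem_map_of_mem _ hna
    exact h1 ha
  let κ := ResidueField B
  let mapB : ResidueField R →+* κ := ResidueField.map (algebraMap R B)
  let mapφ : ResidueField R →+* ResidueField R' := ResidueField.map (algebraMap R R')
  have hmapφ : Function.Bijective mapφ := by
    refine ⟨RingHom.injective mapφ, fun z => ?_⟩
    obtain ⟨r', rfl⟩ := residue_surjective z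
    obtain ⟨a, ha⟩ := hres r'
    refine ⟨residue R a, ?_⟩
    have h1 : mapφ (residue R a) = residue R' (algebraMap R R' a) := rfl
    rw [h1, eq_comm, ← sub_eq_zero, ← map_sub]
    exact (residue_eq_zero_iff _).mpr ha
  let ε : ResidueField R' ≃+* ResidueField R := (RingEquiv.ofBijective mapφ hmapφ).symm
  have hε : ∀ a : R, ε (residue R' (algebraMap R R' a)) = residue R a := by
    intro a
    have h1 : residue R' (algebraMap R R' a) = (RingEquiv.ofBijective mapφ hmapφ) (residue R a) := rfl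
    rw [h1]
    exact (RingEquiv.ofBijective mapφ hmapφ).symm_apply_apply _
  let σ₀ : R' →+* κ := mapB.comp ((ε : ResidueField R' →+* ResidueField R).comp (residue R'))
  have hσ₀ : ∀ a : R, σ₀ (algebraMap R R' a) = algebraMap R κ a := by
    intro a
    show mapB (ε (residue R' (algebraMap R R' a))) = _
    rw [hε]
    rfl
  let σ : R' →ₐ[R] κ := { σ₀ with commutes' := hσ₀ }
  let resB : B →ₐ[R] κ := IsScalarTower.toAlgHom R B κ
  let θ : T →ₐ[R] κ := Algebra.TensorProduct.lift resB σ (fun _ _ => Commute.all _ _)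
  have hθB : ∀ b : B, θ (iB b) = residue B b := by
    intro b
    show θ (b ⊗ₜ[R] (1 : R')) = _
    rw [Algebra.TensorProduct.lift_tmul, map_one, mul_one]
    rfl
  have hθπ : θ π' = 0 := by
    show θ ((1 : B) ⊗ₜ[R] ϖ') = _
    rw [Algebra.TensorProduct.lift_tmul, map_one, one_mul]
    show mapB (ε (residue R' ϖ')) = 0
    have h1 : residue R' ϖ' = 0 := by
      rw [residue_eq_zero_iff, hϖ'.maximalIdeal_eq]
      exact Ideal.subset_span rfl
    rw [h1, map_zero, map_zero]
  have hθsurj : Function.Surjective θ := by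
    intro z
    obtain ⟨b, rfl⟩ := residue_surjective z
    exact ⟨iB b, hθB b⟩
  have hker : RingHom.ker (θ : T →+* κ) = Ideal.span {π'} := by
    apply le_antisymm
    · intro t ht
      rw [RingHom.mem_ker] at ht
      obtain ⟨b, y, rfl⟩ := hdec t
      have h1 : θ (iB b + π' * y) = residue B b := by
        rw [map_add, map_mul, hθπ, zero_mul, add_zero, hθB]
      have h2 : residue B b = 0 := by rw [← h1]; exact ht
      rw [residue_eq_zero_iff, hmB', Ideal.mem_span_singleton] at h2
      obtain ⟨b₁, rfl⟩ := h2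
      refine Ideal.add_mem _ ?_ (Ideal.mul_mem_right _ _ (Ideal.subset_span rfl))
      rw [map_mul]
      exact Ideal.mul_mem_right _ _ hϖπ
    · rw [Ideal.span_le, Set.singleton_subset_iff]
      exact hθπ
  have hmax : (Ideal.span {π'} : Ideal T).IsMaximal := by
    rw [← hker]
    exact RingHom.ker_isMaximal_of_surjective (θ : T →+* κ) hθsurj
  -- every nonzero prime is `(π')`
  have halgT : Algebra.IsAlgebraic B T := inferInstance
  have hϖ0 : algebraMap R R' ϖ ≠ 0 := fun h => hϖ.ne_zero (hinj (h.trans (map_zero _).symm))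
  have hprime : ∀ 𝔮 : Ideal T, 𝔮.IsPrime → 𝔮 ≠ ⊥ → 𝔮 = Ideal.span {π'} := by
    intro 𝔮 h𝔮 hne
    obtain ⟨y, hy𝔮, hy0⟩ := Submodule.exists_mem_ne_zero_of_ne_bot hne
    obtain ⟨c, hc0, hdvd⟩ := (Algebra.IsAlgebraic.isAlgebraic (R := B) y).exists_nonzero_dvd
      (mem_nonZeroDivisors_of_ne_zero hy0)
    have h1 : algebraMap B T c ∈ 𝔮 := by
      obtain ⟨d, hd⟩ := hdvd
      rw [hd]
      exact Ideal.mul_mem_right _ _ hy𝔮
    obtain ⟨n, u, hu⟩ := IsDiscreteValuationRing.eq_unit_mul_pow_irreducible hc0 hϖB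
    rw [hu, map_mul, map_pow] at h1
    have h2 : algebraMap B T (algebraMap R B ϖ) ^ n ∈ 𝔮 :=
      (h𝔮.mem_or_mem h1).resolve_left
        (fun h => h𝔮.ne_top (Ideal.eq_top_of_isUnit_mem _ h (u.isUnit.map _)))
    have h3 : algebraMap B T (algebraMap R B ϖ) ∈ 𝔮 := h𝔮.mem_of_pow_mem n h2
    have h4 : algebraMap B T (algebraMap R B ϖ) = iR (algebraMap R R' ϖ) := by
      show iB (algebraMap R B ϖ) = _
      rw [AlgHom.commutes, AlgHom.commutes]
    obtain ⟨e, u', hu'⟩ := IsDiscreteValuationRing.eq_unit_mul_pow_irreducible hϖ0 hϖ'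
    rw [h4, hu', map_mul, map_pow] at h3
    have h5 : π' ^ e ∈ 𝔮 :=
      (h𝔮.mem_or_mem h3).resolve_left
        (fun h => h𝔮.ne_top (Ideal.eq_top_of_isUnit_mem _ h (u'.isUnit.map _)))
    have h6 : π' ∈ 𝔮 := h𝔮.mem_of_pow_mem e h5
    have hle : Ideal.span {π'} ≤ 𝔮 := by
      rw [Ideal.span_le, Set.singleton_subset_iff]
      exact h6
    exact (hmax.eq_of_le h𝔮.ne_top hle).symm
  have hloc : IsLocalRing T := by
    refine IsLocalRing.of_unique_max_ideal ⟨Ideal.span {π'}, hmax, fun 𝔫 h𝔫 => ?_⟩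
    refine hprime 𝔫 h𝔫.isPrime (fun hbot => hπ'0 ?_)
    have h1 : 𝔫 = Ideal.span {π'} := h𝔫.eq_of_le hmax.ne_top (hbot ▸ bot_le)
    have h2 : π' ∈ (⊥ : Ideal T) := by
      rw [← hbot, h1]
      exact Ideal.subset_span rfl
    exact h2
  have hnoeth : IsNoetherianRing T :=
    IsNoetherianRing.of_prime_ne_bot (fun I hI hne => by
      rw [hprime I hI hne]
      exact Submodule.fg_span_singleton π')
  have hmaxeq : maximalIdeal T = Ideal.span {π'} := (IsLocalRing.eq_maximalIdeal hmax).symm
  have hnf : ¬ IsField T := by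
    rw [IsLocalRing.isField_iff_maximalIdeal_eq, hmaxeq]
    intro h
    apply hπ'0
    have h2 : π' ∈ (⊥ : Ideal T) := by
      rw [← h]
      exact Ideal.subset_span rfl
    exact h2
  have hprinc : (maximalIdeal T).IsPrincipal := ⟨⟨π', hmaxeq⟩⟩
  exact ((IsDiscreteValuationRing.TFAE T hnf).out 0 4).mpr hprinc

end Groth.Agent.Lib.Helper24.DVRModelE
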