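import Mathlib
import Groth.Agent.Lib.Helper24.DVRModelA
import Groth.Agent.Lib.Helper24.DVRModelB
import Groth.Agent.Lib.Helper24.DVRModelC
import Groth.Agent.Lib.Helper24.DVRModelD
import Groth.Agent.Lib.Helper24.DVRModelE

/-!
# Assembly: the local ring at a maximal point of the reduced special fibre, tensored with a
generically finite DVR extension (helper24)
-/

set_option autoImplicit false
universe u

open AlgebraicGeometry CategoryTheory Limits IsLocalRing
open scoped TensorProduct

namespace Groth.Agent.Lib.Helper24.DVRModelF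

open Groth.Agent.Lib.Helper24.SpecialFibreStalk

/-- The base change `X ×_R R'` is integral. -/
theorem isIntegral_baseChange
    (R : Type u) [CommRing R] [IsDomain R] [IsDiscreteValuationRing R]
    [IsAlgClosed (ResidueField R)]
    (X : Scheme.{u}) (f : X ⟶ Spec (CommRingCat.of R)) [IsProper f] [Flat f]
    (XK : Scheme.{u}) (gK : XK ⟶ X) (fK : XK ⟶ Spec (CommRingCat.of (FractionRing R)))
    (hK : IsPullback gK fK f (Spec.map (CommRingCat.ofHom (algebraMap R (FractionRing R)))))
    [Smooth fK]
    (Xs : Scheme.{u}) (gs : Xs ⟶ X) (fs : Xs ⟶ Spec (CommRingCat.of (ResidueField R)))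
    (hs : IsPullback gs fs f (Spec.map (CommRingCat.ofHom (residue R))))
    [ConnectedSpace Xs] [IsReduced Xs]
    (R' : Type u) [CommRing R'] [IsDomain R'] [IsDiscreteValuationRing R'] [Algebra R R']
    (hinj : Function.Injective (algebraMap R R')) [IsLocalHom (algebraMap R R')]
    [Module.Finite (FractionRing R) (FractionRing R ⊗[R] R')] :
    IsIntegral (pullback f (Spec.map (CommRingCat.ofHom (algebraMap R R')))) := by
  let f' := pullback.snd f (Spec.map (CommRingCat.ofHom (algebraMap R R')))
  have hres := Groth.Agent.Lib.Helper24.DVRModelB.exists_sub_mem_maximalIdeal R R' hinj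
  obtain ⟨e₁⟩ := Groth.Agent.Lib.Helper24.DVRModelC.nonempty_fiber_closedPoint_iso R R'
    (algebraMap R R') hres f gs fs hs
  have hred : IsReduced (f'.fiber (closedPoint R')) := isReduced_of_isOpenImmersion e₁.hom
  have hconn : ConnectedSpace (f'.fiber (closedPoint R')) :=
    (Scheme.homeoOfIso e₁.symm).surjective.connectedSpace (Scheme.homeoOfIso e₁.symm).continuous
  have hsm := Groth.Agent.Lib.Helper24.DVRModelC.smooth_snd_genPt R R' (algebraMap R R') hinj
    f gK fK hK
  exact Groth.Agent.Lib.Helper24.DVRModelA.isIntegral_of_proper_flat_dvr f' f'.isClosedMap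
    hred hconn _ _ (IsPullback.of_hasPullback f'
      (Spec.map (CommRingCat.ofHom (algebraMap R' (FractionRing R')))))

theorem main
    (R : Type u) [CommRing R] [IsDomain R] [IsDiscreteValuationRing R]
    [IsAlgClosed (ResidueField R)]
    (X : Scheme.{u}) (f : X ⟶ Spec (CommRingCat.of R)) [IsProper f] [Flat f]
    (XK : Scheme.{u}) (gK : XK ⟶ X) (fK : XK ⟶ Spec (CommRingCat.of (FractionRing R)))
    (hK : IsPullback gK fK f (Spec.map (CommRingCat.ofHom (algebraMap R (FractionRing R)))))
    [Smooth fK]
    (Xs : Scheme.{u}) (gs : Xs ⟶ X) (fs : Xs ⟶ Spec (CommRingCat.of (ResidueField R)))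
    (hs : IsPullback gs fs f (Spec.map (CommRingCat.ofHom (residue R))))
    [ConnectedSpace Xs] [IsReduced Xs]
    (ξ : Xs) (hξ : closure ({ξ} : Set Xs) ∈ irreducibleComponents Xs)
    (B : Type u) [CommRing B] [IsDomain B] [IsDiscreteValuationRing B] [Algebra R B]
    (e : X.presheaf.stalk (gs.base ξ) ≅ CommRingCat.of B)
    (he : e.hom.hom.comp ((X.presheaf.germ ⊤ (gs.base ξ) trivial).hom.comp (Coh.toGlobal f)) =
      algebraMap R B)
    (R' : Type u) [CommRing R'] [IsDomain R'] [IsDiscreteValuationRing R'] [Algebra R R']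
    (hinj : Function.Injective (algebraMap R R')) [IsLocalHom (algebraMap R R')]
    [Module.Finite (FractionRing R) (FractionRing R ⊗[R] R')] :
    ∃ _ : IsDomain (B ⊗[R] R'), IsDiscreteValuationRing (B ⊗[R] R') := by
  have hres := Groth.Agent.Lib.Helper24.DVRModelB.exists_sub_mem_maximalIdeal R R' hinj
  have hint := isIntegral_baseChange R X f XK gK fK hK Xs gs fs hs R' hinj
  -- surjectivity of the projection
  have hflat : Module.Flat R R' := by
    have hfs : FaithfulSMul R R' := (faithfulSMul_iff_algebraMap_injective R R').mpr hinj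
    infer_instance
  have hff : Module.FaithfullyFlat R R' := Module.FaithfullyFlat.of_flat_of_isLocalHom
  have hsurj : Surjective (Spec.map (CommRingCat.ofHom (algebraMap R R'))) :=
    ⟨PrimeSpectrum.comap_surjective_of_faithfullyFlat⟩
  have hx : ∃ x' : ↥(pullback f (Spec.map (CommRingCat.ofHom (algebraMap R R')))),
      (pullback.fst f (Spec.map (CommRingCat.ofHom (algebraMap R R')))).base x' = gs.base ξ :=
    (pullback.fst f (Spec.map (CommRingCat.ofHom (algebraMap R R')))).surjective (gs.base ξ)
  have hdom : IsDomain (B ⊗[R] R') :=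
    Groth.Agent.Lib.Helper24.DVRModelD.isDomain_tensor_of_isIntegral_pullback f R' hint
      (gs.base ξ) hx B e he
  have halg : Algebra.IsAlgebraic R R' :=
    ⟨fun r' => Groth.Agent.Lib.Helper24.DVRModelB.exists_polynomial_aeval_eq_zero R R' hinj r'⟩
  -- the uniformizer stays a uniformizer
  have hξ' : ∀ z : Xs, z ⤳ ξ → z = ξ := fun z hz =>
    eq_of_specializes_of_closure_mem_irreducibleComponents ξ hξ z hz
  have h1 := map_maximalIdeal_eq_of_isPullback_residue R f gs fs hs ξ hξ'
  have heq : (e.commRingCatIsoToRingEquiv : X.presheaf.stalk (gs.base ξ) →+* B) = e.hom.hom := rfl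
  have h2 : maximalIdeal B =
      Ideal.map e.hom.hom (maximalIdeal (X.presheaf.stalk (gs.base ξ))) := by
    have hmax : (Ideal.map (e.commRingCatIsoToRingEquiv : X.presheaf.stalk (gs.base ξ) →+* B)
        (maximalIdeal (X.presheaf.stalk (gs.base ξ)))).IsMaximal :=
      Ideal.map_isMaximal_of_equiv e.commRingCatIsoToRingEquiv
    rw [heq] at hmax
    exact (IsLocalRing.eq_maximalIdeal hmax).symm
  have hmB : maximalIdeal B = Ideal.map (algebraMap R B) (maximalIdeal R) := by
    rw [h2, ← h1, Ideal.map_map, ← he]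
    rfl
  exact ⟨hdom, Groth.Agent.Lib.Helper24.DVRModelE.isDiscreteValuationRing_tensor R R' B hinj hres hmB⟩

end Groth.Agent.Lib.Helper24.DVRModelF
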