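import Mathlib

/-!
# Tensor products with fraction fields and algebraic closures: domain criteria (helper24)
-/

set_option autoImplicit false
universe u

open scoped TensorProduct

namespace Groth.Agent.Lib.Helper24.DVRModelH

/-- If `B ⊗_R O` is a domain, `B` is flat and `K'` is the fraction field of the domain `O`, then
`B ⊗_R K'` is a domain. -/
theorem isDomain_tensor_fractionRing (R B O K' : Type u) [CommRing R] [CommRing B] [Algebra R B]
    [Module.Flat R B] [CommRing O] [IsDomain O] [Algebra R O] [Field K'] [Algebra O K']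
    [IsFractionRing O K'] [Algebra R K'] [IsScalarTower R O K'] [IsDomain (B ⊗[R] O)] :
    IsDomain (B ⊗[R] K') := by
  let ψ : B ⊗[R] O →ₐ[R] B ⊗[R] K' :=
    Algebra.TensorProduct.map (AlgHom.id R B) (IsScalarTower.toAlgHom R O K')
  have hψinj : Function.Injective ψ := by
    have h1 : Function.Injective (IsScalarTower.toAlgHom R O K').toLinearMap :=
      IsFractionRing.injective O K'
    have h2 := Module.Flat.lTensor_preserves_injective_linearMap (M := B) _ h1
    intro a b hab
    apply h2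
    exact hab
  have hkey : ∀ x : B ⊗[R] K', ∃ s : O, s ≠ 0 ∧
      ((1 : B) ⊗ₜ[R] (algebraMap O K' s)) * x ∈ Set.range ψ := by
    intro x
    induction x using TensorProduct.induction_on with
    | zero => exact ⟨1, one_ne_zero, 0, by simp⟩
    | tmul b c =>
      obtain ⟨a, s, hs, rfl⟩ := IsFractionRing.div_surjective (A := O) c
      have hs0 : s ≠ 0 := nonZeroDivisors.ne_zero hs
      refine ⟨s, hs0, b ⊗ₜ[R] a, ?_⟩
      have hs0' : algebraMap O K' s ≠ 0 := by
        rwa [Ne, map_eq_zero_iff _ (IsFractionRing.injective O K')]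
      simp only [ψ, Algebra.TensorProduct.map_tmul, AlgHom.coe_id, id_eq,
        IsScalarTower.coe_toAlgHom', Algebra.TensorProduct.tmul_mul_tmul, one_mul]
      congr 1
      field_simp
    | add x y hx hy =>
      obtain ⟨s₁, hs₁, x₁, hx₁⟩ := hx
      obtain ⟨s₂, hs₂, y₁, hy₁⟩ := hy
      refine ⟨s₁ * s₂, mul_ne_zero hs₁ hs₂,
        ((1 : B) ⊗ₜ[R] s₂) * x₁ + ((1 : B) ⊗ₜ[R] s₁) * y₁, ?_⟩
      have h1 : ∀ s : O, ψ ((1 : B) ⊗ₜ[R] s) = (1 : B) ⊗ₜ[R] (algebraMap O K' s) := by
        intro s
        simp [ψ]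
      rw [map_add, map_mul, map_mul, hx₁, hy₁, h1, h1, map_mul, mul_add, ← mul_assoc, ← mul_assoc,
        Algebra.TensorProduct.tmul_mul_tmul, Algebra.TensorProduct.tmul_mul_tmul, one_mul,
        mul_comm (algebraMap O K' s₂) (algebraMap O K' s₁)]
  have hunit : ∀ s : O, s ≠ 0 → IsUnit ((1 : B) ⊗ₜ[R] (algebraMap O K' s) : B ⊗[R] K') := by
    intro s hs
    have hs0' : algebraMap O K' s ≠ 0 := by
      rwa [Ne, map_eq_zero_iff _ (IsFractionRing.injective O K')]
    refine IsUnit.of_mul_eq_one ((1 : B) ⊗ₜ[R] (algebraMap O K' s)⁻¹) ?_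
    rw [Algebra.TensorProduct.tmul_mul_tmul, one_mul, mul_inv_cancel₀ hs0']
    rfl
  have hnt : Nontrivial (B ⊗[R] K') := by
    refine ⟨ψ 0, ψ 1, fun h => ?_⟩
    exact zero_ne_one (hψinj h)
  have hnzd : NoZeroDivisors (B ⊗[R] K') := by
    refine ⟨fun {x y} hxy => ?_⟩
    obtain ⟨s₁, hs₁, x₁, hx₁⟩ := hkey x
    obtain ⟨s₂, hs₂, y₁, hy₁⟩ := hkey y
    have h1 : ψ (x₁ * y₁) = 0 := by
      rw [map_mul, hx₁, hy₁, mul_mul_mul_comm, hxy, mul_zero]
    have h2 : x₁ * y₁ = 0 := hψinj (by rw [h1, map_zero])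
    rcases mul_eq_zero.mp h2 with h3 | h3
    · left
      rw [h3, map_zero] at hx₁
      exact ((hunit s₁ hs₁).mul_right_eq_zero).mp hx₁.symm
    · right
      rw [h3, map_zero] at hy₁
      exact ((hunit s₂ hs₂).mul_right_eq_zero).mp hy₁.symm
  exact NoZeroDivisors.to_isDomain _

/-- The comparison map `B ⊗_R K' → B ⊗_R F` for an intermediate field `K'`. -/
noncomputable def incl (R B K F : Type u) [CommRing R] [CommRing B] [Algebra R B]
    [Field K] [Algebra R K] [Field F] [Algebra K F] [Algebra R F] [IsScalarTower R K F]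
    (K' : IntermediateField K F) : B ⊗[R] ↥K' →ₐ[R] B ⊗[R] F :=
  Algebra.TensorProduct.map (AlgHom.id R B) (K'.val.restrictScalars R)

theorem incl_injective (R B K F : Type u) [CommRing R] [CommRing B] [Algebra R B]
    [Module.Flat R B]
    [Field K] [Algebra R K] [Field F] [Algebra K F] [Algebra R F] [IsScalarTower R K F]
    (K' : IntermediateField K F) : Function.Injective (incl R B K F K') := by
  have h1 : Function.Injective (K'.val.restrictScalars R).toLinearMap := Subtype.val_injective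
  have h2 := Module.Flat.lTensor_preserves_injective_linearMap (M := B) _ h1
  intro a b hab
  apply h2
  exact hab

theorem range_incl_mono (R B K F : Type u) [CommRing R] [CommRing B] [Algebra R B]
    [Field K] [Algebra R K] [Field F] [Algebra K F] [Algebra R F] [IsScalarTower R K F]
    {K₁ K₂ : IntermediateField K F} (h : K₁ ≤ K₂) :
    Set.range (incl R B K F K₁) ⊆ Set.range (incl R B K F K₂) := by
  rintro _ ⟨z, rfl⟩
  refine ⟨Algebra.TensorProduct.map (AlgHom.id R B)
    ((IntermediateField.inclusion h).restrictScalars R) z, ?_⟩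
  have : (incl R B K F K₂).comp (Algebra.TensorProduct.map (AlgHom.id R B)
      ((IntermediateField.inclusion h).restrictScalars R)) = incl R B K F K₁ := by
    apply Algebra.TensorProduct.ext
    · ext b
      simp [incl]
    · ext c
      simp [incl]
  exact DFunLike.congr_fun this z

theorem exists_mem_range_incl (R B K F : Type u) [CommRing R] [CommRing B] [Algebra R B]
    [Field K] [Algebra R K] [Field F] [Algebra K F] [Algebra R F] [IsScalarTower R K F]
    [Algebra.IsAlgebraic K F] (x : B ⊗[R] F) :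
    ∃ K' : IntermediateField K F, FiniteDimensional K K' ∧ x ∈ Set.range (incl R B K F K') := by
  induction x using TensorProduct.induction_on with
  | zero => exact ⟨⊥, inferInstance, 0, map_zero _⟩
  | tmul b c =>
    refine ⟨IntermediateField.adjoin K {c}, ?_, b ⊗ₜ[R] ⟨c, IntermediateField.mem_adjoin_simple_self K c⟩, ?_⟩
    · exact IntermediateField.adjoin.finiteDimensional (Algebra.IsIntegral.isIntegral c)
    · simp [incl]
  | add x y hx hy =>
    obtain ⟨K₁, hK₁, hx₁⟩ := hx
    obtain ⟨K₂, hK₂, hy₁⟩ := hy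
    refine ⟨K₁ ⊔ K₂, inferInstance, ?_⟩
    obtain ⟨x', hx'⟩ := range_incl_mono R B K F (le_sup_left : K₁ ≤ K₁ ⊔ K₂) hx₁
    obtain ⟨y', hy'⟩ := range_incl_mono R B K F (le_sup_right : K₂ ≤ K₁ ⊔ K₂) hy₁
    exact ⟨x' + y', by rw [map_add, hx', hy']⟩

/-- `B ⊗_R F` is a domain if `B ⊗_R K'` is for all finite subextensions `K'`. -/
theorem isDomain_tensor_of_forall_finiteDimensional (R B K F : Type u) [CommRing R] [CommRing B]
    [Algebra R B] [Module.Flat R B]
    [Field K] [Algebra R K] [Field F] [Algebra K F] [Algebra R F] [IsScalarTower R K F]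
    [Algebra.IsAlgebraic K F]
    (h : ∀ K' : IntermediateField K F, FiniteDimensional K K' → IsDomain (B ⊗[R] ↥K')) :
    IsDomain (B ⊗[R] F) := by
  have hnt : Nontrivial (B ⊗[R] F) := by
    have := h ⊥ inferInstance
    refine ⟨incl R B K F ⊥ 0, incl R B K F ⊥ 1, fun h => ?_⟩
    exact zero_ne_one (incl_injective R B K F ⊥ h)
  have hnzd : NoZeroDivisors (B ⊗[R] F) := by
    refine ⟨fun {x y} hxy => ?_⟩
    obtain ⟨K₁, hK₁, hx₁⟩ := exists_mem_range_incl R B K F x
    obtain ⟨K₂, hK₂, hy₁⟩ := exists_mem_range_incl R B K F y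
    obtain ⟨x', hx'⟩ := range_incl_mono R B K F (le_sup_left : K₁ ≤ K₁ ⊔ K₂) hx₁
    obtain ⟨y', hy'⟩ := range_incl_mono R B K F (le_sup_right : K₂ ≤ K₁ ⊔ K₂) hy₁
    have := h (K₁ ⊔ K₂) inferInstance
    have h1 : incl R B K F (K₁ ⊔ K₂) (x' * y') = 0 := by
      rw [map_mul, hx', hy', hxy]
    have h2 : x' * y' = 0 := incl_injective R B K F _ (by rw [h1, map_zero])
    rcases mul_eq_zero.mp h2 with h3 | h3
    · left
      rw [← hx', h3, map_zero]
    · right
      rw [← hy', h3, map_zero]
  exact NoZeroDivisors.to_isDomain _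

/-- If `B ⊗_R F` is a domain, `F` is an algebraic field extension of `R` and the uniformizer of `R`
is a uniformizer of `B`, then `B ⊗_R F` is a field. -/
theorem isField_tensor (R B F : Type u) [CommRing R] [IsDomain R] [IsDiscreteValuationRing R]
    [CommRing B] [IsDomain B] [IsDiscreteValuationRing B] [Algebra R B]
    (hmB : IsLocalRing.maximalIdeal B = Ideal.map (algebraMap R B) (IsLocalRing.maximalIdeal R))
    [Field F] [Algebra R F] (hinjF : Function.Injective (algebraMap R F))
    [Algebra.IsAlgebraic R F] [IsDomain (B ⊗[R] F)] : IsField (B ⊗[R] F) := by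
  obtain ⟨ϖ, hϖ⟩ := IsDiscreteValuationRing.exists_irreducible R
  have hϖB : Irreducible (algebraMap R B ϖ) := by
    rw [IsDiscreteValuationRing.irreducible_iff_uniformizer, hmB, hϖ.maximalIdeal_eq,
      Ideal.map_span, Set.image_singleton]
  have hϖ0 : ϖ ≠ 0 := hϖ.ne_zero
  have hinjB : Function.Injective (algebraMap R B) := by
    rw [injective_iff_map_eq_zero]
    intro r hr
    by_contra hr0
    obtain ⟨n, u, hu⟩ := IsDiscreteValuationRing.eq_unit_mul_pow_irreducible hr0 hϖ
    rw [hu, map_mul, map_pow] at hr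
    rcases mul_eq_zero.mp hr with h | h
    · exact (u.isUnit.map (algebraMap R B)).ne_zero h
    · exact hϖB.ne_zero (eq_zero_of_pow_eq_zero h)
  have hfs : FaithfulSMul R B := (faithfulSMul_iff_algebraMap_injective R B).mpr hinjB
  have hunitϖ : IsUnit (algebraMap B (B ⊗[R] F) (algebraMap R B ϖ)) := by
    have h1 : algebraMap B (B ⊗[R] F) (algebraMap R B ϖ) = (1 : B) ⊗ₜ[R] (algebraMap R F ϖ) := by
      rw [Algebra.TensorProduct.algebraMap_apply, Algebra.algebraMap_self, RingHom.id_apply,
        Algebra.algebraMap_eq_smul_one, TensorProduct.smul_tmul, ← Algebra.algebraMap_eq_smul_one]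
    rw [h1]
    have h0 : algebraMap R F ϖ ≠ 0 := by
      rwa [Ne, map_eq_zero_iff _ hinjF]
    refine IsUnit.of_mul_eq_one ((1 : B) ⊗ₜ[R] (algebraMap R F ϖ)⁻¹) ?_
    rw [Algebra.TensorProduct.tmul_mul_tmul, one_mul, mul_inv_cancel₀ h0]
    rfl
  have hunit : ∀ x : B ⊗[R] F, x ≠ 0 → IsUnit x := by
    intro x hx
    have halg : IsAlgebraic B x := Algebra.IsAlgebraic.isAlgebraic x
    obtain ⟨c, hc0, hdvd⟩ := halg.exists_nonzero_dvd (mem_nonZeroDivisors_of_ne_zero hx)
    obtain ⟨n, u, hu⟩ := IsDiscreteValuationRing.eq_unit_mul_pow_irreducible hc0 hϖB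
    apply isUnit_of_dvd_unit hdvd
    rw [hu, map_mul, map_pow]
    exact (u.isUnit.map _).mul (hunitϖ.pow n)
  exact
    { exists_pair_ne := ⟨0, 1, zero_ne_one⟩
      mul_comm := mul_comm
      mul_inv_cancel := fun {a} ha => (hunit a ha).exists_right_inv }

end Groth.Agent.Lib.Helper24.DVRModelH
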