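import Mathlib
import Groth.Agent.Lib.Helper24.DVRModelF
import Groth.Agent.Lib.Helper24.DVRModelH
import Groth.Agent.Lib.Helper78.DVRDominate

/-!
# The local ring at a maximal point of the reduced special fibre, tensored with an algebraic
DVR extension, and with the algebraic closure of the fraction field (helper24)
-/

set_option autoImplicit false
universe u

open AlgebraicGeometry CategoryTheory Limits IsLocalRing
open scoped TensorProduct
open Polynomial

namespace Groth.Agent.Lib.Helper24.DVRModelG

open Groth.Agent.Lib.Helper24.SpecialFibreStalk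

/-- The residue field extension is trivial (algebraic version). -/
theorem exists_sub_mem_maximalIdeal_of_isAlgebraic (R R' : Type u) [CommRing R] [IsDomain R]
    [IsDiscreteValuationRing R] [IsAlgClosed (IsLocalRing.ResidueField R)]
    [CommRing R'] [IsDomain R'] [IsLocalRing R'] [Algebra R R']
    (hinj : Function.Injective (algebraMap R R')) [IsLocalHom (algebraMap R R')]
    [Algebra.IsAlgebraic R R'] (r' : R') :
    ∃ a : R, r' - algebraMap R R' a ∈ IsLocalRing.maximalIdeal R' := by
  classical
  obtain ⟨q, hq0, hq⟩ := Algebra.IsAlgebraic.isAlgebraic (R := R) r'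
  let _ := UniqueFactorizationMonoid.strongNormalizationMonoid (α := R)
  let _ := UniqueFactorizationMonoid.toNormalizedGCDMonoid R
  have hqq := q.eq_C_content_mul_primPart
  have hc0 : q.content ≠ 0 := by rwa [Ne, Polynomial.content_eq_zero_iff]
  have hp0 : aeval r' q.primPart = 0 := by
    have h1 : aeval r' q = algebraMap R R' q.content * aeval r' q.primPart := by
      conv_lhs => rw [hqq]
      rw [map_mul, aeval_C]
    rw [hq] at h1
    exact (mul_eq_zero.mp h1.symm).resolve_left (fun h => hc0 ((map_eq_zero_iff _ hinj).mp h))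
  obtain ⟨ϖ, hϖ⟩ := IsDiscreteValuationRing.exists_irreducible R
  have hprim : q.primPart.IsPrimitive := q.isPrimitive_primPart
  have hex : ∃ i, q.primPart.coeff i ∉ IsLocalRing.maximalIdeal R := by
    by_contra hcon
    push Not at hcon
    have h1 : C ϖ ∣ q.primPart := by
      rw [Polynomial.C_dvd_iff_dvd_coeff]
      intro i
      have h2 := hcon i
      rw [hϖ.maximalIdeal_eq, Ideal.mem_span_singleton] at h2
      exact h2
    exact hϖ.not_isUnit (hprim ϖ h1)
  let k := IsLocalRing.ResidueField R
  let k' := IsLocalRing.ResidueField R'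
  let ι : k →+* k' := IsLocalRing.ResidueField.map (algebraMap R R')
  let _ : Algebra k k' := ι.toAlgebra
  let pbar : k[X] := q.primPart.map (IsLocalRing.residue R)
  have hpbar0 : pbar ≠ 0 := by
    obtain ⟨i, hi⟩ := hex
    intro h
    have h1 : pbar.coeff i = 0 := by rw [h]; simp
    rw [Polynomial.coeff_map] at h1
    exact hi ((IsLocalRing.residue_eq_zero_iff _).mp h1)
  have hev : aeval (IsLocalRing.residue R' r') pbar = 0 := by
    have h1 : aeval (IsLocalRing.residue R' r') pbar =
        Polynomial.eval₂ ((algebraMap k k').comp (IsLocalRing.residue R))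
          (IsLocalRing.residue R' r') q.primPart := by
      rw [Polynomial.aeval_def, Polynomial.eval₂_map]
    have h2 : (algebraMap k k').comp (IsLocalRing.residue R) =
        (IsLocalRing.residue R').comp (algebraMap R R') := rfl
    rw [h1, h2, ← Polynomial.hom_eval₂, ← Polynomial.aeval_def, hp0, map_zero]
  have halg : IsAlgebraic k (IsLocalRing.residue R' r') := ⟨pbar, hpbar0, hev⟩
  have hint : IsIntegral k (IsLocalRing.residue R' r') := halg.isIntegral
  have hdeg : (minpoly k (IsLocalRing.residue R' r')).degree = 1 :=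
    IsAlgClosed.degree_eq_one_of_irreducible k (minpoly.irreducible hint)
  obtain ⟨abar, habar⟩ := minpoly.mem_range_of_degree_eq_one k _ hdeg
  obtain ⟨a, rfl⟩ := IsLocalRing.residue_surjective abar
  refine ⟨a, ?_⟩
  rw [← IsLocalRing.residue_eq_zero_iff, map_sub, sub_eq_zero, ← habar]
  rfl

/-- The base change `X ×_R R'` is integral (algebraic version). -/
theorem isIntegral_baseChange_of_isAlgebraic
    (R : Type u) [CommRing R] [IsDomain R] [IsDiscreteValuationRing R]
    [IsAlgClosed (ResidueField R)]
    (X : Scheme.{u}) (f : X ⟶ Spec (CommRingCat.of R)) [IsProper f] [Flat f]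
    (XK : Scheme.{u}) (gK : XK ⟶ X) (fK : XK ⟶ Spec (CommRingCat.of (FractionRing R)))
    (hK : IsPullback gK fK f (Spec.map (CommRingCat.ofHom (algebraMap R (FractionRing R)))))
    [Smooth fK]
    (Xs : Scheme.{u}) (gs : Xs ⟶ X) (fs : Xs ⟶ Spec (CommRingCat.of (ResidueField R)))
    (hs : IsPullback gs fs f (Spec.map (CommRingCat.ofHom (residue R))))
    [ConnectedSpace Xs] [IsReduced Xs]
    (R' : Type u) [CommRing R'] [IsDomain R'] [IsDiscreteValuationRing R'] [Algebra R R']
    (hinj : Function.Injective (algebraMap R R')) [IsLocalHom (algebraMap R R')]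
    [Algebra.IsAlgebraic R R'] :
    IsIntegral (pullback f (Spec.map (CommRingCat.ofHom (algebraMap R R')))) := by
  let f' := pullback.snd f (Spec.map (CommRingCat.ofHom (algebraMap R R')))
  have hres := exists_sub_mem_maximalIdeal_of_isAlgebraic R R' hinj
  obtain ⟨e₁⟩ := Groth.Agent.Lib.Helper24.DVRModelC.nonempty_fiber_closedPoint_iso R R'
    (algebraMap R R') hres f gs fs hs
  have hred : IsReduced (f'.fiber (closedPoint R')) := isReduced_of_isOpenImmersion e₁.hom
  have hconn : ConnectedSpace (f'.fiber (closedPoint R')) :=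
    (Scheme.homeoOfIso e₁.symm).surjective.connectedSpace (Scheme.homeoOfIso e₁.symm).continuous
  have hsm := Groth.Agent.Lib.Helper24.DVRModelC.smooth_snd_genPt R R' (algebraMap R R') hinj
    f gK fK hK
  exact Groth.Agent.Lib.Helper24.DVRModelA.isIntegral_of_proper_flat_dvr f' f'.isClosedMap
    hred hconn _ _ (IsPullback.of_hasPullback f'
      (Spec.map (CommRingCat.ofHom (algebraMap R' (FractionRing R')))))

/-- `𝔪_B = 𝔪_R B` for the local ring at a maximal point of the reduced special fibre. -/
theorem maximalIdeal_eq_map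
    (R : Type u) [CommRing R] [IsDomain R] [IsDiscreteValuationRing R]
    (X : Scheme.{u}) (f : X ⟶ Spec (CommRingCat.of R))
    (Xs : Scheme.{u}) (gs : Xs ⟶ X) (fs : Xs ⟶ Spec (CommRingCat.of (ResidueField R)))
    (hs : IsPullback gs fs f (Spec.map (CommRingCat.ofHom (residue R))))
    [IsReduced Xs]
    (ξ : Xs) (hξ : closure ({ξ} : Set Xs) ∈ irreducibleComponents Xs)
    (B : Type u) [CommRing B] [IsDomain B] [IsDiscreteValuationRing B] [Algebra R B]
    (e : X.presheaf.stalk (gs.base ξ) ≅ CommRingCat.of B)
    (he : e.hom.hom.comp ((X.presheaf.germ ⊤ (gs.base ξ) trivial).hom.comp (Coh.toGlobal f)) =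
      algebraMap R B) :
    maximalIdeal B = Ideal.map (algebraMap R B) (maximalIdeal R) := by
  have hξ' : ∀ z : Xs, z ⤳ ξ → z = ξ := fun z hz =>
    eq_of_specializes_of_closure_mem_irreducibleComponents ξ hξ z hz
  have h1 := map_maximalIdeal_eq_of_isPullback_residue R f gs fs hs ξ hξ'
  have heq : (e.commRingCatIsoToRingEquiv : X.presheaf.stalk (gs.base ξ) →+* B) = e.hom.hom := rfl
  have h2 : maximalIdeal B =
      Ideal.map e.hom.hom (maximalIdeal (X.presheaf.stalk (gs.base ξ))) := by
    have hmax : (Ideal.map (e.commRingCatIsoToRingEquiv : X.presheaf.stalk (gs.base ξ) →+* B)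
        (maximalIdeal (X.presheaf.stalk (gs.base ξ)))).IsMaximal :=
      Ideal.map_isMaximal_of_equiv e.commRingCatIsoToRingEquiv
    rw [heq] at hmax
    exact (IsLocalRing.eq_maximalIdeal hmax).symm
  rw [h2, ← h1, Ideal.map_map, ← he]
  rfl

/-- `B ⊗_R R'` is a domain for an algebraic extension of discrete valuation rings `R ⊆ R'`. -/
theorem isDomain_tensor_of_isAlgebraic
    (R : Type u) [CommRing R] [IsDomain R] [IsDiscreteValuationRing R]
    [IsAlgClosed (ResidueField R)]
    (X : Scheme.{u}) (f : X ⟶ Spec (CommRingCat.of R)) [IsProper f] [Flat f]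
    (XK : Scheme.{u}) (gK : XK ⟶ X) (fK : XK ⟶ Spec (CommRingCat.of (FractionRing R)))
    (hK : IsPullback gK fK f (Spec.map (CommRingCat.ofHom (algebraMap R (FractionRing R)))))
    [Smooth fK]
    (Xs : Scheme.{u}) (gs : Xs ⟶ X) (fs : Xs ⟶ Spec (CommRingCat.of (ResidueField R)))
    (hs : IsPullback gs fs f (Spec.map (CommRingCat.ofHom (residue R))))
    [ConnectedSpace Xs] [IsReduced Xs]
    (ξ : Xs)
    (B : Type u) [CommRing B] [Algebra R B]
    (e : X.presheaf.stalk (gs.base ξ) ≅ CommRingCat.of B)
    (he : e.hom.hom.comp ((X.presheaf.germ ⊤ (gs.base ξ) trivial).hom.comp (Coh.toGlobal f)) =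
      algebraMap R B)
    (R' : Type u) [CommRing R'] [IsDomain R'] [IsDiscreteValuationRing R'] [Algebra R R']
    (hinj : Function.Injective (algebraMap R R')) [IsLocalHom (algebraMap R R')]
    [Algebra.IsAlgebraic R R'] :
    IsDomain (B ⊗[R] R') := by
  have hint := isIntegral_baseChange_of_isAlgebraic R X f XK gK fK hK Xs gs fs hs R' hinj
  have hflat : Module.Flat R R' := by
    have hfs : FaithfulSMul R R' := (faithfulSMul_iff_algebraMap_injective R R').mpr hinj
    infer_instance
  have hff : Module.FaithfullyFlat R R' := Module.FaithfullyFlat.of_flat_of_isLocalHom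
  have hsurj : Surjective (Spec.map (CommRingCat.ofHom (algebraMap R R'))) :=
    ⟨PrimeSpectrum.comap_surjective_of_faithfullyFlat⟩
  have hx : ∃ x' : ↥(pullback f (Spec.map (CommRingCat.ofHom (algebraMap R R')))),
      (pullback.fst f (Spec.map (CommRingCat.ofHom (algebraMap R R')))).base x' = gs.base ξ :=
    (pullback.fst f (Spec.map (CommRingCat.ofHom (algebraMap R R')))).surjective (gs.base ξ)
  exact Groth.Agent.Lib.Helper24.DVRModelD.isDomain_tensor_of_isIntegral_pullback f R' hint
    (gs.base ξ) hx B e he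

/-- `B ⊗_R K'` is a domain for finite subextensions `K'` of the algebraic closure. -/
theorem isDomain_tensor_finiteDimensional
    (R : Type u) [CommRing R] [IsDomain R] [IsDiscreteValuationRing R]
    [IsAlgClosed (ResidueField R)]
    (X : Scheme.{u}) (f : X ⟶ Spec (CommRingCat.of R)) [IsProper f] [Flat f]
    (XK : Scheme.{u}) (gK : XK ⟶ X) (fK : XK ⟶ Spec (CommRingCat.of (FractionRing R)))
    (hK : IsPullback gK fK f (Spec.map (CommRingCat.ofHom (algebraMap R (FractionRing R)))))
    [Smooth fK]
    (Xs : Scheme.{u}) (gs : Xs ⟶ X) (fs : Xs ⟶ Spec (CommRingCat.of (ResidueField R)))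
    (hs : IsPullback gs fs f (Spec.map (CommRingCat.ofHom (residue R))))
    [ConnectedSpace Xs] [IsReduced Xs]
    (ξ : Xs)
    (B : Type u) [CommRing B] [Algebra R B] [Module.Flat R B]
    (e : X.presheaf.stalk (gs.base ξ) ≅ CommRingCat.of B)
    (he : e.hom.hom.comp ((X.presheaf.germ ⊤ (gs.base ξ) trivial).hom.comp (Coh.toGlobal f)) =
      algebraMap R B)
    (K : Type u) [Field K] [Algebra R K] [IsFractionRing R K] (F : Type u) [Field F] [Algebra K F]
    [Algebra R F] [IsScalarTower R K F] [Algebra.IsAlgebraic K F]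
    (K' : IntermediateField K F) [FiniteDimensional K K'] :
    IsDomain (B ⊗[R] ↥K') := by
  have hfg : (⊤ : IntermediateField K ↥K').FG := IntermediateField.fg_of_noetherian _
  obtain ⟨O, hdvr, hmem, hval⟩ := Groth.Agent.Lib.Helper78.exists_dvr_dominating R
    (IsDiscreteValuationRing.not_isField R) K ↥K' hfg
  let φ : R →+* ↥O := (algebraMap R ↥K').codRestrict O.toSubring hmem
  let _ : Algebra R ↥O := φ.toAlgebra
  have hst : IsScalarTower R ↥O ↥K' := IsScalarTower.of_algebraMap_eq (fun a => rfl)
  have hinjK' : Function.Injective (algebraMap R ↥K') := by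
    have h1 : Function.Injective (algebraMap R F) := by
      rw [IsScalarTower.algebraMap_eq R K F]
      exact (algebraMap K F).injective.comp (IsFractionRing.injective R K)
    have hcoe : ∀ a : R, ((algebraMap R ↥K' a : ↥K') : F) = algebraMap R F a := fun a => rfl
    intro a b hab
    apply h1
    rw [← hcoe, ← hcoe, hab]
  have hinj : Function.Injective (algebraMap R ↥O) := by
    intro a b hab
    apply hinjK'
    rw [IsScalarTower.algebraMap_apply R ↥O ↥K', hab, ← IsScalarTower.algebraMap_apply R ↥O ↥K']
  have hloc : IsLocalHom (algebraMap R ↥O) := by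
    refine ⟨fun a ha => ?_⟩
    by_contra hna
    have h1 : a ∈ maximalIdeal R := hna
    have h2 := hval a h1
    have h3 := (ValuationSubring.valuation_eq_one_iff O (algebraMap R ↥O a)).mp ha
    have h4 : ((algebraMap R ↥O a : ↥O) : ↥K') = algebraMap R ↥K' a := rfl
    rw [h4] at h3
    rw [h3] at h2
    exact lt_irrefl _ h2
  have halg : Algebra.IsAlgebraic R ↥O := by
    refine ⟨fun o => ?_⟩
    have h1 : IsAlgebraic K (o : ↥K') := Algebra.IsAlgebraic.isAlgebraic _
    have h2 : IsAlgebraic R (o : ↥K') := (IsFractionRing.isAlgebraic_iff R K ↥K').mpr h1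
    obtain ⟨q, hq0, hq⟩ := h2
    refine ⟨q, hq0, ?_⟩
    have h3 : Function.Injective (IsScalarTower.toAlgHom R ↥O ↥K') := Subtype.val_injective
    apply h3
    rw [map_zero, ← Polynomial.aeval_algHom_apply]
    exact hq
  have hdom := isDomain_tensor_of_isAlgebraic R X f XK gK fK hK Xs gs fs hs ξ B e he ↥O hinj
  exact Groth.Agent.Lib.Helper24.DVRModelH.isDomain_tensor_fractionRing R B ↥O ↥K'

theorem injective_algebraMap_of_maximalIdeal_eq (R B : Type u) [CommRing R] [IsDomain R]
    [IsDiscreteValuationRing R] [CommRing B] [IsDomain B] [IsDiscreteValuationRing B] [Algebra R B]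
    (hmB : maximalIdeal B = Ideal.map (algebraMap R B) (maximalIdeal R)) :
    Function.Injective (algebraMap R B) := by
  obtain ⟨ϖ, hϖ⟩ := IsDiscreteValuationRing.exists_irreducible R
  have hϖB : Irreducible (algebraMap R B ϖ) := by
    rw [IsDiscreteValuationRing.irreducible_iff_uniformizer, hmB, hϖ.maximalIdeal_eq,
      Ideal.map_span, Set.image_singleton]
  rw [injective_iff_map_eq_zero]
  intro r hr
  by_contra hr0
  obtain ⟨n, u, hu⟩ := IsDiscreteValuationRing.eq_unit_mul_pow_irreducible hr0 hϖ
  rw [hu, map_mul, map_pow] at hr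
  rcases mul_eq_zero.mp hr with h | h
  · exact (u.isUnit.map (algebraMap R B)).ne_zero h
  · exact hϖB.ne_zero (eq_zero_of_pow_eq_zero h)

/-- `F ⊗_R B` is a field for `F` an algebraic closure of the fraction field of `R`. -/
theorem main
    (R : Type u) [CommRing R] [IsDomain R] [IsDiscreteValuationRing R]
    [IsAlgClosed (ResidueField R)]
    (X : Scheme.{u}) (f : X ⟶ Spec (CommRingCat.of R)) [IsProper f] [Flat f]
    (XK : Scheme.{u}) (gK : XK ⟶ X) (fK : XK ⟶ Spec (CommRingCat.of (FractionRing R)))
    (hK : IsPullback gK fK f (Spec.map (CommRingCat.ofHom (algebraMap R (FractionRing R)))))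
    [Smooth fK]
    (Xs : Scheme.{u}) (gs : Xs ⟶ X) (fs : Xs ⟶ Spec (CommRingCat.of (ResidueField R)))
    (hs : IsPullback gs fs f (Spec.map (CommRingCat.ofHom (residue R))))
    [ConnectedSpace Xs] [IsReduced Xs]
    (ξ : Xs) (hξ : closure ({ξ} : Set Xs) ∈ irreducibleComponents Xs)
    (B : Type u) [CommRing B] [IsDomain B] [IsDiscreteValuationRing B] [Algebra R B]
    (e : X.presheaf.stalk (gs.base ξ) ≅ CommRingCat.of B)
    (he : e.hom.hom.comp ((X.presheaf.germ ⊤ (gs.base ξ) trivial).hom.comp (Coh.toGlobal f)) =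
      algebraMap R B) :
    IsField (AlgebraicClosure (FractionRing R) ⊗[R] B) := by
  let K := FractionRing R
  let F := AlgebraicClosure K
  have hmB := maximalIdeal_eq_map R X f Xs gs fs hs ξ hξ B e he
  have hinjB := injective_algebraMap_of_maximalIdeal_eq R B hmB
  have hfs : FaithfulSMul R B := (faithfulSMul_iff_algebraMap_injective R B).mpr hinjB
  have hflat : Module.Flat R B := inferInstance
  have halgF : Algebra.IsAlgebraic R F :=
    (IsFractionRing.comap_isAlgebraic_iff (A := R) (K := K) (C := F)).mpr inferInstance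
  have hinjF : Function.Injective (algebraMap R F) := by
    rw [IsScalarTower.algebraMap_eq R K F]
    exact (algebraMap K F).injective.comp (IsFractionRing.injective R K)
  have hdomF : IsDomain (B ⊗[R] F) :=
    Groth.Agent.Lib.Helper24.DVRModelH.isDomain_tensor_of_forall_finiteDimensional R B K F
      (fun K' hK' => isDomain_tensor_finiteDimensional R X f XK gK fK hK Xs gs fs hs ξ B e he
        K F K')
  have hfield := Groth.Agent.Lib.Helper24.DVRModelH.isField_tensor R B F hmB hinjF
  exact MulEquiv.isField hfield (Algebra.TensorProduct.comm R F B).toMulEquiv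

end Groth.Agent.Lib.Helper24.DVRModelG
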