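import Mathlib

/-!
# Formally étale ⟺ `T ⊗[S] Ω[S/R] → Ω[T/R]` bijective (for `T` formally smooth over `R`)
-/

set_option autoImplicit false
universe u

namespace Groth.Agent.Lib.Helper24

open TensorProduct KaehlerDifferential

theorem formallyEtale_iff_bijective_mapBaseChange
    (R S T : Type u) [CommRing R] [CommRing S] [CommRing T]
    [Algebra R S] [Algebra R T] [Algebra S T] [IsScalarTower R S T]
    [Algebra.FormallySmooth R T] :
    Algebra.FormallyEtale S T ↔ Function.Bijective (mapBaseChange R S T) := by
  constructor
  · intro h
    exact (KaehlerDifferential.tensorKaehlerEquivOfFormallyEtale R S T).bijective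
  · rintro ⟨hinj, hsurj⟩
    -- `Ω[T/S] = 0`
    have hΩ : Subsingleton Ω[T⁄S] := by
      refine subsingleton_of_forall_eq 0 fun y => ?_
      obtain ⟨x, rfl⟩ := KaehlerDifferential.map_surjective R S T y
      exact (KaehlerDifferential.exact_mapBaseChange_map R S T x).mpr (hsurj x)
    -- `H¹(L_{T/S}) = 0`
    have hH : Subsingleton (Algebra.H1Cotangent S T) := by
      refine subsingleton_of_forall_eq 0 fun y => ?_
      have h1 : Algebra.H1Cotangent.δ R S T y = 0 := by
        apply hinj
        rw [map_zero]
        exact (Algebra.H1Cotangent.exact_δ_mapBaseChange R S T _).mpr ⟨y, rfl⟩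
      obtain ⟨z, rfl⟩ := (Algebra.H1Cotangent.exact_map_δ R S T y).mp h1
      rw [Subsingleton.elim z 0, map_zero]
    have hsm : Algebra.FormallySmooth S T := ⟨inferInstance, hH⟩
    have hun : Algebra.FormallyUnramified S T := ⟨hΩ⟩
    exact Algebra.FormallyEtale.of_formallyUnramified_and_formallySmooth
  
theorem bijective_iff_linearIndependent_and_span_of_basis
    {S M N ι : Type*} [CommRing S] [AddCommGroup M] [AddCommGroup N] [Module S M] [Module S N]
    (b : Module.Basis ι S M) (f : M →ₗ[S] N) :
    Function.Bijective f ↔
      LinearIndependent S (fun i => f (b i)) ∧ Submodule.span S (Set.range fun i => f (b i)) = ⊤ := by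
  have hrange : LinearMap.range f = Submodule.span S (Set.range fun i => f (b i)) := by
    rw [← Submodule.map_top, ← b.span_eq, Submodule.map_span, ← Set.range_comp]
    rfl
  have hinj : Function.Injective f ↔ LinearIndependent S (fun i => f (b i)) := by
    constructor
    · intro h
      exact b.linearIndependent.map' f (LinearMap.ker_eq_bot.mpr h)
    · intro h
      rw [← LinearMap.ker_eq_bot, LinearMap.ker_eq_bot']
      intro x hx
      have hx' : f (b.repr.symm (b.repr x)) = 0 := by rw [LinearEquiv.symm_apply_apply]; exact hx
      rw [Module.Basis.repr_symm_apply, Finsupp.linearCombination_apply, map_finsuppSum] at hx'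
      simp only [map_smul] at hx'
      have h0 : b.repr x = 0 := by
        rw [linearIndependent_iff] at h
        apply h
        rw [Finsupp.linearCombination_apply]
        exact hx'
      exact b.repr.map_eq_zero_iff.mp h0
  rw [Function.Bijective, hinj, ← LinearMap.range_eq_top, hrange]

end Groth.Agent.Lib.Helper24
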