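import Mathlib
import Groth.Agent.Lib.Helper21.OrdNormal

/-!
# Regularity of rational functions on normal schemes (helper24)

* `mem_range_of_forall_codim_one`: Hartogs on a normal integral locally Noetherian scheme, in the
  form "regular at all codimension one points ⇒ regular everywhere" (adapted from
  `Helper21.OrdNormal.mem_range_of_ord_nonneg`).
* `exists_section_of_forall_mem_stalk`: a rational function regular at every point is a global
  section (copied from `Helper45.PrimeDivisors`, to avoid its large import cone).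
* `mem_range_of_valuationRing`: the valuation argument.
-/

set_option autoImplicit false
universe u
open CategoryTheory AlgebraicGeometry TopologicalSpace

namespace Groth.Agent.Lib.Helper24.FibConst

open Groth.Agent.Lib.Helper21

section Hartogs

variable {X : Scheme.{u}} [IsIntegral X] [IsLocallyNoetherian X]

set_option backward.isDefEq.respectTransparency.types false in
/-- On a normal scheme, a rational function which is regular at the codimension one points is
regular everywhere. -/
theorem mem_range_of_forall_codim_one (hnorm : ∀ x : X, IsIntegrallyClosed (X.presheaf.stalk x))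
    (f : X.functionField)
    (hreg : ∀ y : X, Order.coheight y = 1 →
      f ∈ (algebraMap (X.presheaf.stalk y) X.functionField).range) (x : X) :
    f ∈ (algebraMap (X.presheaf.stalk x) X.functionField).range := by
  obtain ⟨_, ⟨W, hW, rfl⟩, hxW, -⟩ :=
    X.isBasis_affineOpens.exists_subset_of_mem_open (Set.mem_univ x) isOpen_univ
  have : Nonempty W := ⟨⟨x, hxW⟩⟩
  have : IsNoetherianRing Γ(X, W) := IsLocallyNoetherian.component_noetherian ⟨W, hW⟩
  have : IsFractionRing Γ(X, W) X.functionField :=
    functionField_isFractionRing_of_isAffineOpen X W hW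
  have hmem : ∀ p : PrimeSpectrum Γ(X, W), hW.fromSpec p ∈ W := fun p => by
    have : hW.fromSpec p ∈ Set.range hW.fromSpec := ⟨p, rfl⟩
    rwa [hW.range_fromSpec] at this
  have : IsIntegrallyClosed Γ(X, W) :=
    @IsIntegrallyClosed.of_isLocalization_maximal Γ(X, W) _
      (fun P hP => X.presheaf.stalk (hW.fromSpec ⟨P, hP.isPrime⟩))
      (fun P hP => inferInstance)
      (fun P hP => TopCat.Presheaf.algebra_section_stalk X.presheaf (U := W)
        ⟨hW.fromSpec ⟨P, hP.isPrime⟩, hmem _⟩)
      (fun P hP => hW.isLocalization_stalk' ⟨P, hP.isPrime⟩ (hmem _))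
      _ (fun P hP => hnorm _)
  have key := Hartogs.mem_range_of_forall_height_one (R := Γ(X, W)) X.functionField f ?_
  · obtain ⟨r, hr⟩ := key
    refine ⟨X.presheaf.germ W x hxW r, ?_⟩
    rw [Scheme.algebraMap_germ_eq_germToFunctionField]
    exact hr
  · intro P hP hP1
    let p : PrimeSpectrum Γ(X, W) := ⟨P, hP⟩
    have hyW : hW.fromSpec p ∈ W := hmem p
    have hy1 : Order.coheight (hW.fromSpec p) = 1 := by
      rw [coheight_eq_of_isOpenImmersion hW.fromSpec, ← idealHeight_eq_coheight]
      exact hP1
    obtain ⟨b, hb⟩ := hreg _ hy1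
    let := TopCat.Presheaf.algebra_section_stalk X.presheaf (U := W) ⟨hW.fromSpec p, hyW⟩
    have hloc : IsLocalization P.primeCompl (X.presheaf.stalk (hW.fromSpec p)) :=
      hW.isLocalization_stalk' p hyW
    have : IsScalarTower Γ(X, W) (X.presheaf.stalk (hW.fromSpec p)) X.functionField :=
      functionField_isScalarTower X W ⟨hW.fromSpec p, hyW⟩
    obtain ⟨a, s, hs⟩ := IsLocalization.exists_mk'_eq P.primeCompl b
    refine ⟨a, s, s.2, ?_⟩
    have hb' : algebraMap (X.presheaf.stalk (hW.fromSpec p)) X.functionField b = f := hb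
    rw [← hb', ← hs, IsScalarTower.algebraMap_apply Γ(X, W) (X.presheaf.stalk (hW.fromSpec p))
      X.functionField, ← map_mul, IsLocalization.mk'_spec,
      ← IsScalarTower.algebraMap_apply]

end Hartogs

section Glue

variable {X : Scheme.{u}} [IsIntegral X]

theorem nonempty_top : Nonempty ((⊤ : X.Opens) : Type u) := ⟨⟨genericPoint X, trivial⟩⟩

/-- A rational function which is regular at every point is a global function. -/
theorem exists_section_of_forall_mem_stalk (γ : X.functionField)
    (h : ∀ x : X, ∃ a : X.presheaf.stalk x,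
      algebraMap (X.presheaf.stalk x) X.functionField a = γ) :
    have := nonempty_top (X := X)
    ∃ g : Γ(X, ⊤), X.germToFunctionField ⊤ g = γ := by
  have := nonempty_top (X := X)
  have hloc : ∀ x : X, ∃ (V : X.Opens) (_ : x ∈ V) (s : Γ(X, V)),
      ∀ (_ : Nonempty V), X.germToFunctionField V s = γ := by
    intro x
    obtain ⟨a, ha⟩ := h x
    obtain ⟨V, hxV, s, rfl⟩ := TopCat.Presheaf.exists_germ_eq X.presheaf a
    refine ⟨V, hxV, s, fun _ => ?_⟩
    rw [← ha, Scheme.algebraMap_germ_eq_germToFunctionField]
  choose V hxV s hs using hloc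
  have hcover : (⊤ : X.Opens) ≤ iSup V := fun x _ => Opens.mem_iSup.mpr ⟨x, hxV x⟩
  have hcompat : TopCat.Presheaf.IsCompatible X.sheaf.1 V s := by
    intro x y
    have : Nonempty (V x) := ⟨⟨x, hxV x⟩⟩
    have : Nonempty (V y) := ⟨⟨y, hxV y⟩⟩
    have hne : Nonempty (V x ⊓ V y : X.Opens) := by
      obtain ⟨z, hz1, hz2⟩ := nonempty_preirreducible_inter (V x).isOpen (V y).isOpen
        ⟨x, hxV x⟩ ⟨y, hxV y⟩
      exact ⟨⟨z, hz1, hz2⟩⟩
    refine @Scheme.germToFunctionField_injective X _ (V x ⊓ V y) hne _ _ ?_
    have e1 : X.germToFunctionField (V x ⊓ V y)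
        (X.presheaf.map (Opens.infLELeft (V x) (V y)).op (s x)) =
        X.germToFunctionField (V x) (s x) := TopCat.Presheaf.germ_res_apply _ _ _ _ _
    have e2 : X.germToFunctionField (V x ⊓ V y)
        (X.presheaf.map (Opens.infLERight (V x) (V y)).op (s y)) =
        X.germToFunctionField (V y) (s y) := TopCat.Presheaf.germ_res_apply _ _ _ _ _
    exact e1.trans ((hs x inferInstance).trans ((hs y inferInstance).symm.trans e2.symm))
  obtain ⟨g, hg, -⟩ := X.sheaf.existsUnique_gluing' V ⊤ (fun x => homOfLE le_top) hcover s hcompat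
  refine ⟨g, ?_⟩
  have x : X := genericPoint X
  have : Nonempty (V x) := ⟨⟨x, hxV x⟩⟩
  have e2 : X.germToFunctionField (V x) (X.presheaf.map (homOfLE le_top).op g) =
      X.germToFunctionField ⊤ g := TopCat.Presheaf.germ_res_apply _ _ _ _ _
  have e3 : X.presheaf.map (homOfLE (le_top : V x ≤ ⊤)).op g = s x := hg x
  exact e2.symm.trans ((congrArg _ e3).trans (hs x inferInstance))

end Glue

section Valuation

variable {X Y : Scheme.{u}} [IsIntegral X] [IsIntegral Y]

/-- The map of function fields induced by a morphism sending generic point to generic point. -/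
noncomputable def ffMap (f : X ⟶ Y) (hη : f (genericPoint X) = genericPoint Y) :
    Y.functionField ⟶ X.functionField :=
  Y.presheaf.stalkSpecializes (specializes_of_eq hη) ≫ f.stalkMap (genericPoint X)

theorem ffMap_algebraMap (f : X ⟶ Y) (hη : f (genericPoint X) = genericPoint Y) (x : X)
    (a : Y.presheaf.stalk (f x)) :
    (ffMap f hη).hom (algebraMap (Y.presheaf.stalk (f x)) Y.functionField a) =
      algebraMap (X.presheaf.stalk x) X.functionField (f.stalkMap x a) := by
  have hx : genericPoint X ⤳ x := genericPoint_specializes x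
  have h1 : (ffMap f hη).hom (algebraMap (Y.presheaf.stalk (f x)) Y.functionField a) =
      f.stalkMap (genericPoint X) (Y.presheaf.stalkSpecializes (f.base.hom.map_specializes hx) a) := by
    show f.stalkMap (genericPoint X) (Y.presheaf.stalkSpecializes (specializes_of_eq hη)
      (Y.presheaf.stalkSpecializes ((genericPoint_spec Y).specializes trivial) a)) = _
    rw [TopCat.Presheaf.stalkSpecializes_comp_apply]
  rw [h1, Scheme.Hom.stalkSpecializes_stalkMap_apply]
  rfl

theorem ffMap_germ (f : X ⟶ Y) (hη : f (genericPoint X) = genericPoint Y)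
    (r : Γ(Y, ⊤)) :
    (ffMap f hη).hom (Y.presheaf.germ ⊤ (genericPoint Y) (Opens.mem_top _) r) =
      X.presheaf.germ ⊤ (genericPoint X) (Opens.mem_top _) (f.appTop r) := by
  show f.stalkMap (genericPoint X) (Y.presheaf.stalkSpecializes (specializes_of_eq hη)
      (Y.presheaf.germ ⊤ (genericPoint Y) (Opens.mem_top _) r)) = _
  rw [TopCat.Presheaf.germ_stalkSpecializes_apply, Scheme.Hom.germ_stalkMap_apply]
  rfl

/-- The valuation argument: if the pullback of a rational function `γ` on `Y` is regular at a point
`x` of `X` and the local ring of `Y` at `f x` is a valuation ring, then `γ` is regular at `f x`. -/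
theorem mem_range_of_valuationRing (f : X ⟶ Y) (hη : f (genericPoint X) = genericPoint Y) (x : X)
    [ValuationRing (Y.presheaf.stalk (f x))] (γ : Y.functionField)
    (b : X.presheaf.stalk x)
    (hb : (ffMap f hη).hom γ = algebraMap (X.presheaf.stalk x) X.functionField b) :
    γ ∈ (algebraMap (Y.presheaf.stalk (f x)) Y.functionField).range := by
  rcases ValuationRing.isInteger_or_isInteger (Y.presheaf.stalk (f x)) γ with ⟨a, ha⟩ | ⟨a, ha⟩
  · exact ⟨a, ha⟩
  · by_cases hγ : γ = 0
    · exact ⟨0, by rw [hγ, map_zero]⟩
    have h1 : (ffMap f hη).hom γ * (ffMap f hη).hom (algebraMap _ Y.functionField a) = 1 := by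
      rw [ha, ← map_mul, mul_inv_cancel₀ hγ, map_one]
    rw [hb, ffMap_algebraMap, ← map_mul] at h1
    have h2 : b * f.stalkMap x a = 1 := by
      apply IsFractionRing.injective (X.presheaf.stalk x) X.functionField
      rw [h1, map_one]
    have h3 : IsUnit (f.stalkMap x a) := IsUnit.of_mul_eq_one _ ((mul_comm _ _).trans h2)
    have h4 : IsUnit a := (isUnit_map_iff (f.stalkMap x).hom a).mp h3
    obtain ⟨u, rfl⟩ := h4
    refine ⟨((u⁻¹ : (Y.presheaf.stalk (f x))ˣ) : Y.presheaf.stalk (f x)), ?_⟩
    have h5 : algebraMap (Y.presheaf.stalk (f x)) Y.functionField (u : Y.presheaf.stalk (f x)) *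
        algebraMap (Y.presheaf.stalk (f x)) Y.functionField
          ((u⁻¹ : (Y.presheaf.stalk (f x))ˣ) : Y.presheaf.stalk (f x)) = 1 := by
      rw [← map_mul, Units.mul_inv, map_one]
    rw [ha] at h5
    have h6 := congrArg (fun z => γ * z) h5
    simp only [mul_one] at h6
    rw [← mul_assoc, mul_inv_cancel₀ hγ, one_mul] at h6
    exact h6

end Valuation

section Main

variable {X Y : Scheme.{u}} [IsIntegral X] [IsIntegral Y] [IsLocallyNoetherian Y]

/-- If `f : X ⟶ Y` is surjective, `Y` is normal, and a global function `s` on `X` is generically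
the pullback of a rational function on `Y`, then `s` is the pullback of a global function on
`Y`. -/
theorem exists_appTop_eq_of_generic
    (hnorm : ∀ y : Y, IsIntegrallyClosed (Y.presheaf.stalk y))
    (f : X ⟶ Y) (hsurj : Function.Surjective f)
    (s : Γ(X, ⊤))
    (hgen : ∃ r₁ : Y.presheaf.stalk (f (genericPoint X)),
      f.stalkMap (genericPoint X) r₁ = X.presheaf.germ ⊤ (genericPoint X) (Opens.mem_top _) s) :
    ∃ r : Γ(Y, ⊤), f.appTop r = s := by
  have : Surjective f := ⟨hsurj⟩
  have hη : f (genericPoint X) = genericPoint Y := by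
    have h1 : IsGenericPoint (f (genericPoint X)) (closure (f '' Set.univ)) :=
      (genericPoint_spec X).image f.continuous
    rw [Set.image_univ, hsurj.range_eq, closure_univ] at h1
    exact h1.eq (genericPoint_spec Y)
  obtain ⟨r₁, hr₁⟩ := hgen
  let γ : Y.functionField := Y.presheaf.stalkSpecializes (specializes_of_eq hη.symm) r₁
  have hγ : (ffMap f hη).hom γ = X.presheaf.germ ⊤ (genericPoint X) (Opens.mem_top _) s := by
    show f.stalkMap (genericPoint X) (Y.presheaf.stalkSpecializes (specializes_of_eq hη)
      (Y.presheaf.stalkSpecializes (specializes_of_eq hη.symm) r₁)) = _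
    rw [TopCat.Presheaf.stalkSpecializes_comp_apply]
    have : Y.presheaf.stalkSpecializes ((specializes_of_eq hη).trans (specializes_of_eq hη.symm)) =
        𝟙 _ := TopCat.Presheaf.stalkSpecializes_refl _ _
    rw [this]
    exact hr₁
  have hreg1 : ∀ y : Y, Order.coheight y = 1 →
      γ ∈ (algebraMap (Y.presheaf.stalk y) Y.functionField).range := by
    intro y hy
    obtain ⟨x, rfl⟩ := hsurj y
    have := hnorm (f x)
    have hdvr : IsDiscreteValuationRing (Y.presheaf.stalk (f x)) :=
      OrdNormal.isDiscreteValuationRing_stalk (f x) hy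
    refine mem_range_of_valuationRing f hη x γ (X.presheaf.germ ⊤ x (Opens.mem_top _) s) ?_
    rw [hγ]
    have := nonempty_top (X := X)
    exact (Scheme.algebraMap_germ_eq_germToFunctionField (X := X) (U := ⊤) (x := x)
      (Opens.mem_top _) s).symm
  have hreg : ∀ y : Y, ∃ a : Y.presheaf.stalk y,
      algebraMap (Y.presheaf.stalk y) Y.functionField a = γ :=
    fun y => mem_range_of_forall_codim_one hnorm γ hreg1 y
  obtain ⟨r, hr⟩ := exists_section_of_forall_mem_stalk γ hreg
  refine ⟨r, ?_⟩
  have h1 := ffMap_germ f hη r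
  have hr' : Y.presheaf.germ ⊤ (genericPoint Y) (Opens.mem_top _) r = γ := hr
  rw [hr', hγ] at h1
  exact (germ_injective_of_isIntegral X (genericPoint X) (Opens.mem_top _) h1).symm

end Main

end Groth.Agent.Lib.Helper24.FibConst
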