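import Mathlib
import Groth.Agent.Lib.Helper24.InjOpenB
import Groth.Agent.Lib.Helper12.ConstrTop
import Groth.Agent.Lib.Helper48.SchemeImage2

set_option autoImplicit false
universe u
open AlgebraicGeometry CategoryTheory CategoryTheory.Limits TopologicalSpace Topology

namespace Groth.Agent.Lib.Helper24.FibConst

open Groth.Agent.Lib.Helper24.InjOpen

/-- The scheme-theoretic image of a quasi-compact morphism from an integral scheme is integral. -/
theorem isIntegral_image {X P : Scheme.{u}} [IsIntegral X] (g : X ⟶ P) [QuasiCompact g] :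
    IsIntegral g.image := by
  have hred : IsReduced g.image := Groth.Agent.Lib.Helper48.isReduced_image_of_isReduced g
  have h1 : IsIrreducible (Set.range g.toImage) := by
    rw [← Set.image_univ]
    exact (IrreducibleSpace.isIrreducible_univ X).image _ g.toImage.continuous.continuousOn
  have h2 : closure (Set.range g.toImage) = Set.univ := g.toImage.denseRange.closure_range
  have h3 : IsIrreducible (Set.univ : Set g.image) := by
    rw [← h2]
    exact h1.closure
  have : IrreducibleSpace g.image := (irreducibleSpace_def _).mpr h3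
  exact isIntegral_of_irreducibleSpace_of_isReduced _

section

variable {k : Type u} [Field k] [IsAlgClosed k] [CharZero k]

set_option maxHeartbeats 800000 in
/-- Birational part: a global function on `X` which is constant on the `k`-point fibres of a
surjective `k`-morphism `f : X ⟶ Y` is generically the pullback of a rational function on `Y`. -/
theorem exists_stalk_eq_of_constant_on_fibres
    {X Y : Scheme.{u}} (sX : X ⟶ Spec (CommRingCat.of k)) (sY : Y ⟶ Spec (CommRingCat.of k))
    [IsIntegral X] [IsIntegral Y] [IsSeparated sX] [IsSeparated sY]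
    [LocallyOfFiniteType sX] [QuasiCompact sX] [LocallyOfFiniteType sY] [QuasiCompact sY]
    (hY : Pi1.IsNormalScheme Y)
    (f : X ⟶ Y) (hf : f ≫ sY = sX) (hsurj : Function.Surjective f)
    (s : Γ(X, ⊤))
    (hs : ∀ x₁ x₂ : Spec (CommRingCat.of k) ⟶ X,
      x₁ ≫ sX = 𝟙 _ → x₂ ≫ sX = 𝟙 _ → x₁ ≫ f = x₂ ≫ f →
        x₁.appTop.hom s = x₂.appTop.hom s) :
    ∃ r₁ : Y.presheaf.stalk (f (genericPoint X)),
      f.stalkMap (genericPoint X) r₁ = X.presheaf.germ ⊤ (genericPoint X) (Opens.mem_top _) s := by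
  have hlftf : LocallyOfFiniteType f := by
    have : LocallyOfFiniteType (f ≫ sY) := hf ▸ inferInstance
    exact locallyOfFiniteType_of_comp f sY
  have hqcf : QuasiCompact f := by
    have : QuasiCompact (f ≫ sY) := hf ▸ inferInstance
    exact QuasiCompact.of_comp f sY
  let π : 𝔸(PUnit.{u+1}; Y) ⟶ Y := 𝔸(PUnit.{u+1}; Y) ↘ Y
  let g : X ⟶ 𝔸(PUnit.{u+1}; Y) := AffineSpace.homOfVector f (fun _ => s)
  have hgπ : g ≫ π = f := AffineSpace.homOfVector_over _ _
  have hgc : g.appTop (AffineSpace.coord Y PUnit.unit) = s :=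
    AffineSpace.homOfVector_appTop_coord _ _ _
  have hqcg : QuasiCompact g := by
    have : QuasiCompact (g ≫ π) := hgπ ▸ hqcf
    exact QuasiCompact.of_comp g π
  have hZint : IsIntegral g.image := isIntegral_image g
  let p : g.image ⟶ Y := g.imageι ≫ π
  have hg'p : g.toImage ≫ p = f := by
    show g.toImage ≫ g.imageι ≫ π = f
    rw [g.toImage_imageι_assoc]
    exact hgπ
  let sZ : g.image ⟶ Spec (CommRingCat.of k) := p ≫ sY
  have hsZ1 : LocallyOfFiniteType sZ := inferInstance
  have hsZ2 : QuasiCompact sZ := inferInstance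
  have hsZ3 : IsSeparated sZ := inferInstance
  have hg'sZ : g.toImage ≫ sZ = sX := by
    rw [← hf, ← hg'p, Category.assoc]
  -- Chevalley
  have hNZ : IsLocallyNoetherian g.image := LocallyOfFiniteType.isLocallyNoetherian sZ
  have hlftg' : LocallyOfFiniteType g.toImage := by
    have : LocallyOfFiniteType (g.toImage ≫ p) := hg'p ▸ hlftf
    exact locallyOfFiniteType_of_comp g.toImage p
  have hlfpg' : LocallyOfFinitePresentation g.toImage := inferInstance
  have hcZ : CompactSpace g.image := QuasiCompact.compactSpace_of_compactSpace sZ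
  have hqsZ : QuasiSeparatedSpace g.image := inferInstance
  have hcons : IsConstructible (Set.range g.toImage) := by
    rw [← Set.image_univ]
    exact g.toImage.isConstructible_image IsConstructible.univ
  have hdense : Dense (Set.range g.toImage) := g.toImage.denseRange
  obtain ⟨V₀, hV₀o, ⟨z, hz⟩, hV₀sub⟩ :=
    (Groth.Agent.Lib.Helper12.ConstrTop.dense_iff_contains_open hcons).mp hdense
  obtain ⟨V, hV, hzV, hVV₀⟩ : ∃ V : g.image.Opens, IsAffineOpen V ∧ z ∈ V ∧
      (V : Set g.image) ⊆ V₀ := by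
    obtain ⟨_, ⟨V, hV, rfl⟩, hzV, hVV₀⟩ :=
      (g.image).isBasis_affineOpens.exists_subset_of_mem_open hz hV₀o
    exact ⟨V, hV, hzV, hVV₀⟩
  have hVsub : (V : Set g.image) ⊆ Set.range g.toImage := hVV₀.trans hV₀sub
  have hVne : Nonempty V := ⟨⟨z, hzV⟩⟩
  have hVaff : IsAffine V := hV
  have hVint : IsIntegral V := inferInstance
  let j : V.toScheme ⟶ Y := V.ι ≫ p
  let sV : V.toScheme ⟶ Spec (CommRingCat.of k) := V.ι ≫ sZ
  have hjsV : j ≫ sY = sV := by simp only [j, sV, sZ, Category.assoc]
  have hsV1 : LocallyOfFiniteType sV := inferInstance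
  have hsV2 : QuasiCompact sV :=
    (quasiCompact_iff_compactSpace sV).mpr (inferInstance : CompactSpace V.toScheme)
  have hsV3 : IsSeparated sV := inferInstance
  have hpsurj : Surjective p := by
    refine ⟨fun y => ?_⟩
    obtain ⟨x, rfl⟩ := hsurj y
    exact ⟨g.toImage x, by rw [← Scheme.Hom.comp_apply, hg'p]⟩
  have hVdom : IsDominant V.ι :=
    Opens.isDominant_ι (V.isOpen.dense ⟨z, hzV⟩)
  have hjdom : IsDominant j := inferInstance
  have hJX : JacobsonSpace X := jacobsonSpace_of_lft sX
  -- injectivity on `k`-points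
  have hinj : ∀ a b : Spec (CommRingCat.of k) ⟶ V.toScheme, a ≫ sV = 𝟙 _ → b ≫ sV = 𝟙 _ →
      a ≫ j = b ≫ j → a = b := by
    -- lifting `k`-points of `V` to `k`-points of `X`
    have lift : ∀ a : Spec (CommRingCat.of k) ⟶ V.toScheme, a ≫ sV = 𝟙 _ →
        ∃ α : Spec (CommRingCat.of k) ⟶ X, α ≫ sX = 𝟙 _ ∧ α ≫ g.toImage = a ≫ V.ι := by
      intro a ha
      obtain ⟨pt⟩ : Nonempty ↥(Spec (CommRingCat.of k)) := inferInstance
      have ha' : (a ≫ V.ι) ≫ sZ = 𝟙 _ := by rw [Category.assoc]; exact ha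
      have hcl : IsClosed ({(a ≫ V.ι) pt} : Set g.image) := by
        have h2 := (pointEquivClosedPoint sZ ⟨_, ha'⟩).2
        have h3 : ((pointEquivClosedPoint sZ ⟨_, ha'⟩) : g.image) = (a ≫ V.ι) pt :=
          congrArg (a ≫ V.ι) (Subsingleton.elim _ _)
        rw [h3] at h2
        exact h2
      have hmemV : (a ≫ V.ι) pt ∈ (V : Set g.image) := by
        rw [Scheme.Hom.comp_apply]
        exact (a pt).2
      obtain ⟨x₀, hx₀⟩ := hVsub hmemV
      have hne : (g.toImage ⁻¹' {(a ≫ V.ι) pt}).Nonempty := ⟨x₀, hx₀⟩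
      obtain ⟨x, hx1, hx2⟩ := nonempty_inter_closedPoints hne
        (hcl.preimage g.toImage.continuous).isLocallyClosed
      refine ⟨pointOfClosedPoint sX x hx2, pointOfClosedPoint_comp sX x hx2, ?_⟩
      have h1 : (pointOfClosedPoint sX x hx2 ≫ g.toImage) ≫ sZ = 𝟙 _ := by
        rw [Category.assoc, hg'sZ]
        exact pointOfClosedPoint_comp sX x hx2
      have h2 : (⟨_, h1⟩ : {q : Spec (.of k) ⟶ g.image // q ≫ sZ = 𝟙 _}) = ⟨_, ha'⟩ := by
        apply (pointEquivClosedPoint sZ).injective
        apply Subtype.ext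
        have e1 : ((pointEquivClosedPoint sZ ⟨_, h1⟩) : g.image) =
            (pointOfClosedPoint sX x hx2 ≫ g.toImage) pt :=
          congrArg (pointOfClosedPoint sX x hx2 ≫ g.toImage) (Subsingleton.elim _ _)
        have e2 : ((pointEquivClosedPoint sZ ⟨_, ha'⟩) : g.image) = (a ≫ V.ι) pt :=
          congrArg (a ≫ V.ι) (Subsingleton.elim _ _)
        have e3 : (pointOfClosedPoint sX x hx2 ≫ g.toImage) pt = g.toImage x := by
          rw [Scheme.Hom.comp_apply]
          exact congrArg g.toImage (pointOfClosedPoint_apply sX x hx2 pt)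
        rw [e1, e2, e3]
        exact hx1
      exact congrArg Subtype.val h2
    intro a b ha hb hab
    obtain ⟨α, hα1, hα2⟩ := lift a ha
    obtain ⟨β, hβ1, hβ2⟩ := lift b hb
    have hαβf : α ≫ f = β ≫ f := by
      have e1 : α ≫ f = (a ≫ V.ι) ≫ p := by rw [← hg'p, ← Category.assoc, hα2]
      have e2 : β ≫ f = (b ≫ V.ι) ≫ p := by rw [← hg'p, ← Category.assoc, hβ2]
      rw [e1, e2, Category.assoc, Category.assoc]
      exact hab
    have hαβs := hs α β hα1 hβ1 hαβf
    have hαβg : α ≫ g = β ≫ g := by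
      apply AffineSpace.hom_ext
      · have e1 : (α ≫ g) ≫ π = α ≫ f := by rw [Category.assoc, hgπ]
        have e2 : (β ≫ g) ≫ π = β ≫ f := by rw [Category.assoc, hgπ]
        exact e1.trans (hαβf.trans e2.symm)
      · intro i
        cases i
        rw [Scheme.Hom.comp_appTop, Scheme.Hom.comp_appTop]
        show α.appTop.hom (g.appTop.hom _) = β.appTop.hom (g.appTop.hom _)
        have hgc' : g.appTop.hom (AffineSpace.coord Y PUnit.unit) = s := hgc
        rw [hgc']
        exact hαβs
    have h3 : (a ≫ V.ι) ≫ g.imageι = (b ≫ V.ι) ≫ g.imageι := by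
      rw [← hα2, ← hβ2, Category.assoc, Category.assoc, g.toImage_imageι]
      exact hαβg
    have h4 : a ≫ V.ι = b ≫ V.ι := (cancel_mono g.imageι).mp h3
    exact (cancel_mono V.ι).mp h4
  have hjoi : IsOpenImmersion j :=
    isOpenImmersion_of_injective_on_points sV sY hY j hjsV hinj
  -- the generic point of `X` maps into `V`
  have hg'x : g.toImage (genericPoint X) = genericPoint g.image :=
    map_genericPoint_of_isDominant g.toImage
  have hxV : g.toImage (genericPoint X) ∈ V := by
    rw [hg'x]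
    exact genericPoint_mem_of_nonempty V ⟨z, hzV⟩
  have hpiso : IsIso (p.stalkMap (g.toImage (genericPoint X))) := by
    have key : ∀ z' : g.image, ∀ _ : z' ∈ V, IsIso (p.stalkMap z') := by
      intro z' hz'V
      obtain ⟨v, rfl⟩ : ∃ v : V.toScheme, V.ι v = z' := ⟨⟨z', hz'V⟩, rfl⟩
      have h1 : IsIso (j.stalkMap v) := (IsOpenImmersion.iff_isIso_stalkMap.mp hjoi).2 _
      have h2 : IsIso (V.ι.stalkMap v) :=
        (IsOpenImmersion.iff_isIso_stalkMap.mp inferInstance).2 _
      have h3 := Scheme.Hom.stalkMap_comp V.ι p v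
      have h4 : IsIso (p.stalkMap (V.ι v) ≫ V.ι.stalkMap v) := h3 ▸ h1
      exact @IsIso.of_isIso_comp_right _ _ _ _ _ (p.stalkMap (V.ι v)) (V.ι.stalkMap v) h2 h4
    exact key _ hxV
  let tZ : Γ(g.image, ⊤) := g.imageι.appTop (AffineSpace.coord Y PUnit.unit)
  have htZ : g.toImage.appTop tZ = s := by
    rw [← hgc]
    show (g.imageι.appTop ≫ g.toImage.appTop) _ = _
    rw [← Scheme.Hom.comp_appTop, g.toImage_imageι]
  have hbij : Function.Bijective (p.stalkMap (g.toImage (genericPoint X))) :=
    ConcreteCategory.bijective_of_isIso _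
  obtain ⟨r₁, hr₁⟩ := hbij.2
    (g.image.presheaf.germ ⊤ (g.toImage (genericPoint X)) (Opens.mem_top _) tZ)
  have hcomp : (g.toImage ≫ p).stalkMap (genericPoint X) r₁ =
      X.presheaf.germ ⊤ (genericPoint X) (Opens.mem_top _) s := by
    rw [Scheme.Hom.stalkMap_comp]
    show g.toImage.stalkMap (genericPoint X) (p.stalkMap (g.toImage (genericPoint X)) r₁) = _
    rw [hr₁, Scheme.Hom.germ_stalkMap_apply]
    exact congrArg _ htZ
  have key : ∀ f' : X ⟶ Y, f' = g.toImage ≫ p →
      ∃ r₁ : Y.presheaf.stalk (f' (genericPoint X)),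
        f'.stalkMap (genericPoint X) r₁ =
          X.presheaf.germ ⊤ (genericPoint X) (Opens.mem_top _) s := by
    rintro _ rfl
    exact ⟨r₁, hcomp⟩
  exact key f hg'p.symm

end

end Groth.Agent.Lib.Helper24.FibConst
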