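import Mathlib

set_option autoImplicit false
universe u
open TensorProduct

namespace Groth.Agent.Lib.Helper24.FibJI

section TG

variable {B P : Type u} [CommRing B] [CommRing P] [Algebra B P]
  {M : Type u} [AddCommGroup M] [Module P M] [Module B M] [IsScalarTower B P M]
  {Λ : Type u} {Nl : Λ → Type u} [∀ l, AddCommGroup (Nl l)] [∀ l, Module P (Nl l)]
  [∀ l, Module B (Nl l)] [∀ l, IsScalarTower B P (Nl l)]

/-- After tensoring with the `B`-module `Q`, an element whose images are all `g`-power torsion is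
`g`-power torsion. -/
def TG (B : Type u) [CommRing B] [Algebra B P] [Module B M] [IsScalarTower B P M]
    [∀ l, Module B (Nl l)] [∀ l, IsScalarTower B P (Nl l)]
    (ψ : ∀ l, M →ₗ[P] Nl l) (g : P) (Q : Type u) [AddCommGroup Q] [Module B Q] : Prop :=
  ∀ y : M ⊗[B] Q, (∀ l, ∃ k : ℕ, g ^ k • (AlgebraTensorModule.rTensor B Q (ψ l)) y = 0) →
    ∃ m : ℕ, g ^ m • y = 0

variable {ψ : ∀ l, M →ₗ[P] Nl l} {g : P}

theorem lTensor_rTensor_comm {Q Q' : Type u} [AddCommGroup Q] [Module B Q] [AddCommGroup Q']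
    [Module B Q'] (f : Q →ₗ[B] Q') (l : Λ) (y : M ⊗[B] Q) :
    AlgebraTensorModule.lTensor P (Nl l) f (AlgebraTensorModule.rTensor B Q (ψ l) y) =
      AlgebraTensorModule.rTensor B Q' (ψ l) (AlgebraTensorModule.lTensor P M f y) := by
  induction y using TensorProduct.induction_on with
  | zero => simp only [map_zero]
  | tmul m q => rfl
  | add y₁ y₂ h₁ h₂ => simp only [map_add, h₁, h₂]

theorem TG.of_lTensor_injective {Q Q' : Type u} [AddCommGroup Q] [Module B Q] [AddCommGroup Q']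
    [Module B Q'] (f : Q →ₗ[B] Q') (hf : Function.Injective (f.lTensor M)) (h : TG B ψ g Q') :
    TG B ψ g Q := by
  intro y hy
  obtain ⟨m, hm⟩ := h (AlgebraTensorModule.lTensor P M f y) (fun l => by
    obtain ⟨k, hk⟩ := hy l
    refine ⟨k, ?_⟩
    rw [← lTensor_rTensor_comm, ← map_smul, hk, map_zero])
  refine ⟨m, ?_⟩
  apply hf
  have : AlgebraTensorModule.lTensor P M f (g ^ m • y) = 0 := by rw [map_smul, hm]
  rw [map_zero]
  exact this

theorem TG.of_linearEquiv {Q Q' : Type u} [AddCommGroup Q] [Module B Q] [AddCommGroup Q']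
    [Module B Q'] (e : Q ≃ₗ[B] Q') (h : TG B ψ g Q') : TG B ψ g Q :=
  TG.of_lTensor_injective e.toLinearMap (LinearEquiv.lTensor M e).injective h

theorem TG.of_subsingleton {Q : Type u} [AddCommGroup Q] [Module B Q] [Subsingleton Q] :
    TG B ψ g Q := by
  intro y _
  exact ⟨0, Subsingleton.elim _ _⟩

theorem TG.of_exact {Q' Q Q'' : Type u} [AddCommGroup Q] [Module B Q] [AddCommGroup Q']
    [Module B Q'] [AddCommGroup Q''] [Module B Q''] (f : Q' →ₗ[B] Q) (p : Q →ₗ[B] Q'')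
    (hfp : Function.Exact f p) (hp : Function.Surjective p)
    (hf : ∀ l, Function.Injective (f.lTensor (Nl l))) (h' : TG B ψ g Q') (h'' : TG B ψ g Q'') :
    TG B ψ g Q := by
  intro y hy
  obtain ⟨m₁, hm₁⟩ := h'' (AlgebraTensorModule.lTensor P M p y) (fun l => by
    obtain ⟨k, hk⟩ := hy l
    refine ⟨k, ?_⟩
    rw [← lTensor_rTensor_comm, ← map_smul, hk, map_zero])
  have h1 : p.lTensor M (g ^ m₁ • y) = 0 := by
    have : AlgebraTensorModule.lTensor P M p (g ^ m₁ • y) = 0 := by rw [map_smul, hm₁]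
    exact this
  obtain ⟨y', hy'⟩ := (lTensor_exact M hfp hp (g ^ m₁ • y)).mp h1
  have hy'' : AlgebraTensorModule.lTensor P M f y' = g ^ m₁ • y := hy'
  obtain ⟨m₂, hm₂⟩ := h' y' (fun l => by
    obtain ⟨k, hk⟩ := hy l
    refine ⟨k, ?_⟩
    apply hf l
    rw [map_zero]
    change AlgebraTensorModule.lTensor P (Nl l) f
      (g ^ k • (AlgebraTensorModule.rTensor B Q' (ψ l)) y') = 0
    rw [map_smul, lTensor_rTensor_comm, hy'', map_smul, smul_comm, hk, smul_zero])
  refine ⟨m₂ + m₁, ?_⟩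
  rw [pow_add, mul_smul, ← hy'', ← map_smul, hm₂, map_zero]

theorem TG.finsupp (K' : Type u) [CommRing K'] [Algebra B K'] (ι : Type u)
    (h : TG B ψ g K') : TG B ψ g (ι →₀ K') := by
  classical
  intro y hy
  have hc : ∀ i : ι, ∃ m : ℕ,
      g ^ m • (AlgebraTensorModule.lTensor P M (Finsupp.lapply (R := B) (M := K') i) y) = 0 := by
    intro i
    apply h
    intro l
    obtain ⟨k, hk⟩ := hy l
    refine ⟨k, ?_⟩
    rw [← lTensor_rTensor_comm, ← map_smul, hk, map_zero]
  choose mi hmi using hc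
  let s := (TensorProduct.finsuppRight B B M K' ι y).support
  refine ⟨s.sup mi, ?_⟩
  apply (TensorProduct.finsuppRight B B M K' ι).injective
  rw [map_zero]
  refine Finsupp.ext fun i => ?_
  rw [TensorProduct.finsuppRight_apply, Finsupp.zero_apply]
  change AlgebraTensorModule.lTensor P M (Finsupp.lapply (R := B) (M := K') i)
    (g ^ s.sup mi • y) = 0
  rw [map_smul]
  by_cases hi : i ∈ s
  · have hle : mi i ≤ s.sup mi := Finset.le_sup hi
    obtain ⟨d, hd⟩ := Nat.exists_eq_add_of_le hle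
    rw [hd, pow_add, mul_comm, mul_smul, hmi i, smul_zero]
  · have h0 : TensorProduct.finsuppRight B B M K' ι y i = 0 := Finsupp.notMem_support_iff.mp hi
    rw [TensorProduct.finsuppRight_apply] at h0
    have h0' : AlgebraTensorModule.lTensor P M (Finsupp.lapply (R := B) (M := K') i) y = 0 := h0
    rw [h0', smul_zero]

theorem TG.of_free (K' : Type u) [CommRing K'] [Algebra B K'] {Q : Type u} [AddCommGroup Q]
    [Module B Q] [Module K' Q] [IsScalarTower B K' Q] [Module.Free K' Q] (h : TG B ψ g K') :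
    TG B ψ g Q := by
  let b := Module.Free.chooseBasis K' Q
  let ι : Type u := Module.Free.ChooseBasisIndex K' Q
  exact TG.of_linearEquiv (b.repr.restrictScalars B) (TG.finsupp K' ι h)

end TG

section Nilp

variable {B P : Type u} [CommRing B] [CommRing P] [Algebra B P]
  {M : Type u} [AddCommGroup M] [Module P M] [Module B M] [IsScalarTower B P M]
  {Λ : Type u} {Nl : Λ → Type u} [∀ l, AddCommGroup (Nl l)] [∀ l, Module P (Nl l)]
  [∀ l, Module B (Nl l)] [∀ l, IsScalarTower B P (Nl l)]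
  {ψ : ∀ l, M →ₗ[P] Nl l} {g : P}

theorem TG.pow_of_succ (K : Type u) [CommRing K] [Algebra B K] (J : Ideal K) (k : ℕ)
    (hfree : Module.Free (K ⧸ J) ((K ⧸ J) ⊗[K] ↥(J ^ k)))
    [∀ l, Module.Flat B (Nl l)] (H : TG B ψ g (K ⧸ J)) (h : TG B ψ g ↥(J ^ (k + 1))) :
    TG B ψ g ↥(J ^ k) := by
  have hle : J ^ (k + 1) ≤ J ^ k := Ideal.pow_le_pow_right (Nat.le_succ k)
  let f : ↥(J ^ (k + 1)) →ₗ[K] ↥(J ^ k) := Submodule.inclusion hle
  let p : ↥(J ^ k) →ₗ[K] (K ⧸ J) ⊗[K] ↥(J ^ k) := TensorProduct.mk K (K ⧸ J) ↥(J ^ k) 1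
  have hcomp := TensorProduct.quotTensorEquivQuotSMul_comp_mk (M := ↥(J ^ k)) J
  have hp : Function.Surjective p := by
    have h1 : Function.Surjective
        ((TensorProduct.quotTensorEquivQuotSMul ↥(J ^ k) J).toLinearMap ∘ₗ p) := by
      rw [hcomp]; exact Submodule.mkQ_surjective _
    intro y
    obtain ⟨a, ha⟩ := h1 (TensorProduct.quotTensorEquivQuotSMul ↥(J ^ k) J y)
    exact ⟨a, (TensorProduct.quotTensorEquivQuotSMul ↥(J ^ k) J).injective ha⟩
  have hker : ∀ a : ↥(J ^ k), p a = 0 ↔ a ∈ (J • ⊤ : Submodule K ↥(J ^ k)) := by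
    intro a
    rw [← Submodule.Quotient.mk_eq_zero, ← Submodule.mkQ_apply, ← hcomp, LinearMap.comp_apply]
    exact (LinearEquiv.map_eq_zero_iff _).symm
  have hmem : ∀ a : ↥(J ^ k), a ∈ (J • ⊤ : Submodule K ↥(J ^ k)) ↔ (a : K) ∈ J ^ (k + 1) := by
    intro a
    have h1 : Submodule.map (J ^ k).subtype (J • ⊤ : Submodule K ↥(J ^ k)) = J ^ (k + 1) := by
      rw [Submodule.map_smul'', Submodule.map_top, Submodule.range_subtype, smul_eq_mul,
        pow_succ']
    rw [← h1]
    constructor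
    · intro ha
      exact ⟨a, ha, rfl⟩
    · rintro ⟨b, hb, hba⟩
      have : b = a := Subtype.ext hba
      rwa [← this]
  have hfp : Function.Exact (f.restrictScalars B) (p.restrictScalars B) := by
    intro a
    change p a = 0 ↔ a ∈ Set.range f
    rw [hker, hmem]
    constructor
    · intro ha
      exact ⟨⟨a, ha⟩, rfl⟩
    · rintro ⟨b, rfl⟩
      exact b.2
  have hfinj : Function.Injective (f.restrictScalars B) := Submodule.inclusion_injective hle
  refine TG.of_exact (f.restrictScalars B) (p.restrictScalars B) hfp hp (fun l => ?_) h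
    (TG.of_free (K ⧸ J) H)
  exact Module.Flat.lTensor_preserves_injective_linearMap (f.restrictScalars B) hfinj

/-- relative nilpotent lifting, torsion form -/
theorem TG.of_nilpotent (K : Type u) [CommRing K] [Algebra B K] (J : Ideal K) (hJ : IsNilpotent J)
    (hfree : ∀ k : ℕ, Module.Free (K ⧸ J) ((K ⧸ J) ⊗[K] ↥(J ^ k)))
    [∀ l, Module.Flat B (Nl l)] (H : TG B ψ g (K ⧸ J)) : TG B ψ g K := by
  obtain ⟨n, hn⟩ := hJ
  have key : ∀ d k : ℕ, k + d = n → TG B ψ g ↥(J ^ k) := by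
    intro d
    induction d with
    | zero =>
      intro k hk
      rw [add_zero] at hk
      subst hk
      have : Subsingleton ↥(J ^ k) := by
        rw [hn]
        exact ⟨fun a b => Subtype.ext
          ((Submodule.mem_bot K).mp a.2 ▸ (Submodule.mem_bot K).mp b.2 ▸ rfl)⟩
      exact TG.of_subsingleton
    | succ d ih =>
      intro k hk
      exact TG.pow_of_succ K J k (hfree k) H (ih (k + 1) (by omega))
  have h0 : TG B ψ g ↥(J ^ 0) := key n 0 (by omega)
  have e : K ≃ₗ[K] ↥(J ^ 0) := by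
    rw [pow_zero, Ideal.one_eq_top]
    exact (Submodule.topEquiv (R := K) (M := K)).symm
  exact TG.of_linearEquiv (e.restrictScalars B) h0

end Nilp

section Local

variable {B P : Type u} [CommRing B] [CommRing P] [Algebra B P]
  {M : Type u} [AddCommGroup M] [Module P M] [Module B M] [IsScalarTower B P M]
  {Λ : Type u} {Nl : Λ → Type u} [∀ l, AddCommGroup (Nl l)] [∀ l, Module P (Nl l)]
  [∀ l, Module B (Nl l)] [∀ l, IsScalarTower B P (Nl l)]
  {ψ : ∀ l, M →ₗ[P] Nl l} {g : P}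

open IsLocalRing in
/-- From the residue field of `B` at `𝔮` to the Artinian quotients of the local ring. -/
theorem TG.localQuot (𝔮 : Ideal B) [𝔮.IsPrime] (k : ℕ) [∀ l, Module.Flat B (Nl l)]
    (H : TG B ψ g 𝔮.ResidueField) :
    TG B ψ g (Localization.AtPrime 𝔮 ⧸ (maximalIdeal (Localization.AtPrime 𝔮)) ^ k) := by
  rcases Nat.eq_zero_or_pos k with hk | hk
  · subst hk
    have : Subsingleton
        (Localization.AtPrime 𝔮 ⧸ (maximalIdeal (Localization.AtPrime 𝔮)) ^ 0) := by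
      rw [pow_zero, Ideal.one_eq_top]
      exact Ideal.Quotient.subsingleton_iff.mpr rfl
    exact TG.of_subsingleton
  · let L := Localization.AtPrime 𝔮
    let 𝔪 : Ideal L := maximalIdeal L
    let K := L ⧸ 𝔪 ^ k
    let J : Ideal K := 𝔪.map (Ideal.Quotient.mk (𝔪 ^ k))
    have hle : 𝔪 ^ k ≤ 𝔪 := Ideal.pow_le_self (Nat.pos_iff_ne_zero.mp hk)
    have hJnil : IsNilpotent J := by
      refine ⟨k, ?_⟩
      change (𝔪.map (Ideal.Quotient.mk (𝔪 ^ k))) ^ k = ⊥
      rw [← Ideal.map_pow, Ideal.map_quotient_self]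
    have hJmax : J.IsMaximal := by
      refine Ideal.IsMaximal.map_of_surjective_of_ker_le Ideal.Quotient.mk_surjective ?_
      rw [Ideal.mk_ker]
      exact hle
    have hfree : ∀ j : ℕ, Module.Free (K ⧸ J) ((K ⧸ J) ⊗[K] ↥(J ^ j)) := by
      intro j
      let _ : Field (K ⧸ J) := Ideal.Quotient.field J
      exact Module.Free.of_divisionRing _ _
    refine TG.of_nilpotent K J hJnil hfree ?_
    let e : (K ⧸ J) ≃ₐ[B] (L ⧸ 𝔪) := DoubleQuot.quotQuotEquivQuotOfLEₐ B hle
    exact TG.of_linearEquiv e.toLinearEquiv H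

end Local

section Extract

variable {B P : Type u} [CommRing B] [CommRing P] [Algebra B P]
  {M : Type u} [AddCommGroup M] [Module P M] [Module B M] [IsScalarTower B P M]
  {Λ : Type u} {Nl : Λ → Type u} [∀ l, AddCommGroup (Nl l)] [∀ l, Module P (Nl l)]
  [∀ l, Module B (Nl l)] [∀ l, IsScalarTower B P (Nl l)]
  {ψ : ∀ l, M →ₗ[P] Nl l} {g : P}

open IsLocalRing in
theorem mem_pow_smul_of_TG (𝔫 : Ideal P) [𝔫.IsPrime] (hg : g ∉ 𝔫) (𝔮 : Ideal B) [𝔮.IsPrime]
    (h𝔮 : 𝔮 = 𝔫.comap (algebraMap B P)) (k : ℕ)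
    (HT : TG B ψ g (Localization.AtPrime 𝔮 ⧸ (maximalIdeal (Localization.AtPrime 𝔮)) ^ k))
    (n : M) (hn : ∀ l, ∃ j : ℕ, g ^ j • ψ l n = 0) :
    (1 : Localization.AtPrime 𝔫) ⊗ₜ[P] n ∈
      ((maximalIdeal (Localization.AtPrime 𝔫)) ^ k •
        (⊤ : Submodule (Localization.AtPrime 𝔫) (Localization.AtPrime 𝔫 ⊗[P] M))) := by
  let L := Localization.AtPrime 𝔮
  let T := Localization.AtPrime 𝔫
  let ρ : L →+* T := Localization.localRingHom 𝔮 𝔫 (algebraMap B P) h𝔮
  have hρloc : IsLocalHom ρ := Localization.isLocalHom_localRingHom 𝔮 𝔫 (algebraMap B P) h𝔮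
  have hle : (maximalIdeal L) ^ k ≤ ((maximalIdeal T) ^ k).comap ρ := by
    rw [← Ideal.map_le_iff_le_comap, Ideal.map_pow]
    refine Ideal.pow_right_mono ?_ k
    rw [Ideal.map_le_iff_le_comap]
    intro x hx
    exact (IsLocalRing.mem_maximalIdeal _).mpr
      (fun hu => (IsLocalRing.mem_maximalIdeal _).mp hx (hρloc.map_nonunit x hu))
  let K := L ⧸ (maximalIdeal L) ^ k
  let Tk := T ⧸ (maximalIdeal T) ^ k
  let ρk : K →+* Tk := Ideal.quotientMap ((maximalIdeal T) ^ k) ρ hle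
  have hρalg : ∀ b : B, ρk (algebraMap B K b) = algebraMap B Tk b := by
    intro b
    change ρk (Ideal.Quotient.mk _ (algebraMap B L b)) = _
    rw [Ideal.quotientMap_mk, Localization.localRingHom_to_map]
    rfl
  let ρl : K →ₗ[B] Tk :=
    { toFun := ρk
      map_add' := map_add ρk
      map_smul' := fun b x => by
        rw [Algebra.smul_def, map_mul, hρalg, RingHom.id_apply, Algebra.smul_def] }
  obtain ⟨m, hm⟩ := HT (n ⊗ₜ[B] (1 : K)) (fun l => by
    obtain ⟨j, hj⟩ := hn l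
    refine ⟨j, ?_⟩
    rw [AlgebraTensorModule.rTensor_tmul, TensorProduct.smul_tmul', hj, TensorProduct.zero_tmul])
  rw [TensorProduct.smul_tmul'] at hm
  have h1 : (g ^ m • n) ⊗ₜ[B] (1 : Tk) = 0 := by
    have := congrArg (ρl.lTensor M) hm
    rw [LinearMap.lTensor_tmul, map_zero] at this
    have h1' : ρl 1 = 1 := map_one ρk
    rwa [h1'] at this
  have h2 : (g ^ m • n) ⊗ₜ[P] (1 : Tk) = 0 := by
    have := congrArg (TensorProduct.mapOfCompatibleSMul P B P M Tk) h1
    rwa [TensorProduct.mapOfCompatibleSMul_tmul, map_zero] at this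
  have hu : IsUnit (algebraMap P Tk (g ^ m)) := by
    have h3 : IsUnit (algebraMap P T g) :=
      IsLocalization.map_units T (⟨g, hg⟩ : 𝔫.primeCompl)
    have h4 : algebraMap P Tk (g ^ m) = Ideal.Quotient.mk _ ((algebraMap P T g) ^ m) := by
      rw [← map_pow]; rfl
    rw [h4]
    exact (h3.pow m).map _
  have h5 : (1 : Tk) ⊗ₜ[P] n = 0 := by
    have h6 : (algebraMap P Tk (g ^ m)) ⊗ₜ[P] n = 0 := by
      have := congrArg (TensorProduct.comm P M Tk) h2
      rw [TensorProduct.comm_tmul, map_zero, ← TensorProduct.smul_tmul, Algebra.smul_def,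
        mul_one] at this
      exact this
    have h7 : (algebraMap P Tk (g ^ m)) • ((1 : Tk) ⊗ₜ[P] n) = 0 := by
      rw [TensorProduct.smul_tmul', smul_eq_mul, mul_one]; exact h6
    exact (hu.smul_eq_zero).mp h7
  have h8 : (1 : Tk) ⊗ₜ[T] ((1 : T) ⊗ₜ[P] n) = 0 := by
    apply (AlgebraTensorModule.cancelBaseChange P T Tk Tk M).injective
    rw [AlgebraTensorModule.cancelBaseChange_tmul, one_smul, map_zero]
    exact h5
  have h9 := congrArg (TensorProduct.quotTensorEquivQuotSMul (T ⊗[P] M) ((maximalIdeal T) ^ k)) h8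
  rw [TensorProduct.quotTensorEquivQuotSMul_mk_one_tmul, map_zero,
    Submodule.Quotient.mk_eq_zero] at h9
  exact h9

end Extract

section Main

variable {B P : Type u} [CommRing B] [CommRing P] [Algebra B P]
  {M : Type u} [AddCommGroup M] [Module P M] [Module B M] [IsScalarTower B P M]
  {Λ : Type u} {Nl : Λ → Type u} [∀ l, AddCommGroup (Nl l)] [∀ l, Module P (Nl l)]
  [∀ l, Module B (Nl l)] [∀ l, IsScalarTower B P (Nl l)]
  {ψ : ∀ l, M →ₗ[P] Nl l}

open IsLocalRing in
/-- **Fibrewise criterion (absolute case)**: `P` Noetherian, `M` finite over `P`, the `Nl` flat over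
`B`; if for every prime `𝔮` of `B` the family is "jointly injective up to `g`-torsion" after
tensoring with the residue field at `𝔮`, then the family itself is. -/
theorem jointInj_of_fibrewise [IsNoetherianRing P] [Module.Finite P M]
    [∀ l, Module.Flat B (Nl l)]
    (H : ∀ (𝔮 : Ideal B) [𝔮.IsPrime] (g : P), TG B ψ g 𝔮.ResidueField)
    (g : P) (n : M) (hn : ∀ l, ∃ k : ℕ, g ^ k • ψ l n = 0) : ∃ m : ℕ, g ^ m • n = 0 := by
  let I : Ideal P := LinearMap.ker (LinearMap.toSpanSingleton P M n)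
  have hI : ∀ a : P, a ∈ I ↔ a • n = 0 := fun a => by
    change LinearMap.toSpanSingleton P M n a = 0 ↔ _
    rw [LinearMap.toSpanSingleton_apply]
  suffices hrad : g ∈ I.radical by
    obtain ⟨m, hm⟩ := hrad
    exact ⟨m, (hI _).mp hm⟩
  rw [Ideal.radical_eq_sInf, Ideal.mem_sInf]
  rintro 𝔫 ⟨hI𝔫, h𝔫⟩
  by_contra hg
  let 𝔮 : Ideal B := Ideal.comap (algebraMap B P) 𝔫
  have h𝔮 : 𝔮.IsPrime := Ideal.IsPrime.comap _
  let T := Localization.AtPrime 𝔫
  have hTN : IsNoetherianRing T := IsLocalization.isNoetherianRing 𝔫.primeCompl T inferInstance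
  have hmem : ∀ k : ℕ, (1 : T) ⊗ₜ[P] n ∈
      ((maximalIdeal T) ^ k • (⊤ : Submodule T (T ⊗[P] M))) := fun k =>
    mem_pow_smul_of_TG 𝔫 hg 𝔮 rfl k (TG.localQuot 𝔮 k (H 𝔮 g)) n hn
  have hzero : (1 : T) ⊗ₜ[P] n = 0 := by
    have hK := Ideal.iInf_pow_smul_eq_bot_of_isLocalRing (R := T) (M := T ⊗[P] M)
      (maximalIdeal T) (Ideal.IsPrime.ne_top inferInstance)
    have : (1 : T) ⊗ₜ[P] n ∈ (⨅ i : ℕ, (maximalIdeal T) ^ i • ⊤ : Submodule T (T ⊗[P] M)) :=
      (Submodule.mem_iInf _).mpr hmem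
    rw [hK] at this
    exact (Submodule.mem_bot T).mp this
  have hz' : TensorProduct.mk P T M 1 n = 0 := hzero
  obtain ⟨s, hs⟩ := (IsLocalizedModule.eq_zero_iff 𝔫.primeCompl (TensorProduct.mk P T M 1)).mp hz'
  exact s.2 (hI𝔫 ((hI _).mpr hs))

end Main

end Groth.Agent.Lib.Helper24.FibJI
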