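import Mathlib
import Groth.Agent.Lib.Helper24.FibJI
import Groth.Agent.Lib.Helper20.SepField

/-!
# Fibrewise criterion for universally separating families (ring level) — helper24

EGA IV 11.9.10 / 11.10.9 at the level of rings: `R` a Noetherian `A`-algebra, `M` a finite
`R`-module, `Nl` `R`-modules flat over `A`, `ψ l : M → Nl l`.  If for each prime `𝔭` of `A` the
family is jointly injective (localization-stable form `JI`) over `R ⊗[A] κ(𝔭)`, then it is so
over `R ⊗[A] B₀` for every `A`-algebra `B₀`.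
-/

set_option autoImplicit false
set_option linter.style.haveILetI false
set_option linter.unusedSectionVars false
universe u
open TensorProduct

namespace Groth.Agent.Lib.Helper24.FibConv

open Groth.Agent.Lib.Helper24.FibJI Groth.Agent.Lib.Helper20.SchDenseFlat
  Groth.Agent.Lib.Helper20.SepField

section JI

variable {R : Type u} [CommRing R] {M : Type u} [AddCommGroup M] [Module R M]
  {Λ : Type u} {Nl : Λ → Type u} [∀ l, AddCommGroup (Nl l)] [∀ l, Module R (Nl l)]

/-- The base change of the family `ψ` to the `R`-algebra `P'` is jointly injective, in the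
localization-stable (power torsion) form. -/
def JI (ψ : ∀ l, M →ₗ[R] Nl l) (P' : Type u) [CommRing P'] [Algebra R P'] : Prop :=
  ∀ (g : P') (n : P' ⊗[R] M), (∀ l, ∃ k : ℕ, g ^ k • (ψ l).lTensor P' n = 0) →
    ∃ m : ℕ, g ^ m • n = 0

variable {ψ : ∀ l, M →ₗ[R] Nl l}

theorem lTensor_smul {P' : Type u} [CommRing P'] [Algebra R P'] {X Y : Type u} [AddCommGroup X]
    [Module R X] [AddCommGroup Y] [Module R Y] (φ : X →ₗ[R] Y) (b : P') (y : P' ⊗[R] X) :
    φ.lTensor P' (b • y) = b • φ.lTensor P' y := by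
  induction y using TensorProduct.induction_on with
  | zero => simp
  | tmul c p => simp [TensorProduct.smul_tmul']
  | add y₁ y₂ h₁ h₂ => rw [smul_add, map_add, map_add, smul_add, h₁, h₂]

/-- naturality of `P' ⊗ X → Ph ⊗ X` -/
theorem lTensor_rTensor_comm' {P' Ph : Type u} [CommRing P'] [Algebra R P'] [CommRing Ph]
    [Algebra P' Ph] [Algebra R Ph] [IsScalarTower R P' Ph] {X Y : Type u} [AddCommGroup X]
    [Module R X] [AddCommGroup Y] [Module R Y] (φ : X →ₗ[R] Y) (y : P' ⊗[R] X) :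
    φ.lTensor Ph (AlgebraTensorModule.rTensor R X (Algebra.linearMap P' Ph) y) =
      AlgebraTensorModule.rTensor R Y (Algebra.linearMap P' Ph) (φ.lTensor P' y) := by
  induction y using TensorProduct.induction_on with
  | zero => simp
  | tmul c p => simp
  | add y₁ y₂ h₁ h₂ => rw [map_add, map_add, map_add, map_add, h₁, h₂]

/-- local form of `JI`. -/
theorem JI.eq_zero_of_away {P' : Type u} [CommRing P'] [Algebra R P'] (h : JI ψ P') (g : P')
    (Ph : Type u) [CommRing Ph] [Algebra P' Ph] [IsLocalization.Away g Ph] [Algebra R Ph]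
    [IsScalarTower R P' Ph] (x : Ph ⊗[R] M) (hx : ∀ l, (ψ l).lTensor Ph x = 0) : x = 0 := by
  let φ : P' →ₗ[P'] Ph := Algebra.linearMap P' Ph
  have hlocM : IsLocalizedModule (Submonoid.powers g) (AlgebraTensorModule.rTensor R M φ) :=
    inferInstance
  obtain ⟨⟨y, s⟩, hs⟩ := IsLocalizedModule.surj (Submonoid.powers g)
    (AlgebraTensorModule.rTensor R M φ) x
  have hsx : ∀ l, (ψ l).lTensor Ph (AlgebraTensorModule.rTensor R M φ y) = 0 := by
    intro l
    rw [← hs, Submonoid.smul_def, ← algebraMap_smul Ph (s : P') x, lTensor_smul, hx l,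
      smul_zero]
  suffices hsuff : AlgebraTensorModule.rTensor R M φ y = 0 by
    have hu := IsLocalizedModule.map_units (AlgebraTensorModule.rTensor R M φ) s
    rw [hsuff] at hs
    have hinj := ((Module.End.isUnit_iff _).mp hu).injective
    apply hinj
    rw [map_zero]
    exact hs
  have hk : ∀ l, ∃ k : ℕ, g ^ k • (ψ l).lTensor P' y = 0 := by
    intro l
    have hlocN : IsLocalizedModule (Submonoid.powers g)
        (AlgebraTensorModule.rTensor R (Nl l) φ) := inferInstance
    have hz : AlgebraTensorModule.rTensor R (Nl l) φ ((ψ l).lTensor P' y) = 0 := by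
      rw [← lTensor_rTensor_comm']; exact hsx l
    obtain ⟨t, ht⟩ := (IsLocalizedModule.eq_zero_iff (Submonoid.powers g)
      (AlgebraTensorModule.rTensor R (Nl l) φ)).mp hz
    obtain ⟨k, hk⟩ := (Submonoid.mem_powers_iff _ _).mp t.2
    exact ⟨k, by rw [hk]; exact ht⟩
  obtain ⟨m, hm⟩ := h g y hk
  rw [IsLocalizedModule.eq_zero_iff (Submonoid.powers g) (AlgebraTensorModule.rTensor R M φ)]
  exact ⟨⟨g ^ m, m, rfl⟩, hm⟩

/-- converse: the local forms give `JI`. -/
theorem JI.of_away {P' : Type u} [CommRing P'] [Algebra R P']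
    (h : ∀ (g : P') (x : Localization.Away g ⊗[R] M),
      (∀ l, (ψ l).lTensor (Localization.Away g) x = 0) → x = 0) : JI ψ P' := by
  intro g n hn
  let φ : P' →ₗ[P'] Localization.Away g := Algebra.linearMap P' (Localization.Away g)
  have hlocM : IsLocalizedModule (Submonoid.powers g) (AlgebraTensorModule.rTensor R M φ) :=
    inferInstance
  have h0 : AlgebraTensorModule.rTensor R M φ n = 0 := by
    apply h g
    intro l
    rw [lTensor_rTensor_comm']
    have hlocN : IsLocalizedModule (Submonoid.powers g)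
        (AlgebraTensorModule.rTensor R (Nl l) φ) := inferInstance
    rw [IsLocalizedModule.eq_zero_iff (Submonoid.powers g)
      (AlgebraTensorModule.rTensor R (Nl l) φ)]
    obtain ⟨k, hk⟩ := hn l
    exact ⟨⟨g ^ k, k, rfl⟩, hk⟩
  obtain ⟨⟨_, m, rfl⟩, hm⟩ := (IsLocalizedModule.eq_zero_iff (Submonoid.powers g)
    (AlgebraTensorModule.rTensor R M φ)).mp h0
  exact ⟨m, hm⟩


/-- **field extension**: `RL = Rκ ⊗_κ L`. -/
theorem JI.field_ext (κ L Rκ RL : Type u) [Field κ] [Field L] [CommRing Rκ] [CommRing RL]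
    [Algebra κ L] [Algebra R Rκ] [Algebra κ Rκ] [Algebra R RL] [Algebra L RL] [Algebra Rκ RL]
    [Algebra κ RL] [IsScalarTower R Rκ RL] [IsScalarTower κ Rκ RL] [IsScalarTower κ L RL]
    [Algebra.IsPushout κ Rκ L RL] (h : JI ψ Rκ) : JI ψ RL := by
  apply JI.of_away
  intro g x hx
  have tow1 : IsScalarTower Rκ RL (Localization.Away g) := inferInstance
  have tow2 : IsScalarTower R Rκ (Localization.Away g) := by
    refine .of_algebraMap_eq fun r => ?_
    rw [IsScalarTower.algebraMap_apply Rκ RL (Localization.Away g),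
      ← IsScalarTower.algebraMap_apply R Rκ RL, ← IsScalarTower.algebraMap_apply R RL]
  have hD : JointInj (A := Rκ) (N := Rκ ⊗[R] M) (Nl := fun l => Rκ ⊗[R] Nl l)
      (fun l => AlgebraTensorModule.lTensor Rκ Rκ (ψ l)) := fun g n hn => h g n hn
  let e := fun (X : Type u) [AddCommGroup X] [Module R X] =>
    AlgebraTensorModule.cancelBaseChange R Rκ (Localization.Away g) (Localization.Away g) X
  have hnat : ∀ (l : Λ) (z : Localization.Away g ⊗[R] M),
      (AlgebraTensorModule.lTensor Rκ Rκ (ψ l)).lTensor (Localization.Away g) ((e M).symm z) =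
        (e (Nl l)).symm ((ψ l).lTensor (Localization.Away g) z) := by
    intro l z
    induction z using TensorProduct.induction_on with
    | zero => simp only [map_zero]
    | tmul p m => rfl
    | add z₁ z₂ h₁ h₂ => simp only [map_add, h₁, h₂]
  have key := eq_zero_of_isPushout_field_away_module (K := κ) (A := Rκ) (B₀ := L) (P := RL)
    (Field.toIsField κ) g (Localization.Away g) (M := Rκ ⊗[R] M)
    (fun l => AlgebraTensorModule.lTensor Rκ Rκ (ψ l)) hD ((e M).symm x) (fun l => by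
      rw [hnat, hx l, map_zero])
  exact (e M).symm.injective (key.trans (map_zero _).symm)


section Phi

variable (P B₁ L RL : Type u) [CommRing P] [Algebra R P] [CommRing B₁] [Algebra B₁ P]
  [SMulCommClass R B₁ P]
  [CommRing L] [Algebra B₁ L] [CommRing RL] [Algebra R RL] [Algebra P RL] [Algebra L RL]
  [Algebra B₁ RL] [IsScalarTower R P RL] [IsScalarTower B₁ P RL] [IsScalarTower B₁ L RL]
  [Algebra.IsPushout B₁ L P RL]

/-- `(P ⊗[R] X) ⊗[B₁] L ≃ RL ⊗[R] X` when `RL = P ⊗[B₁] L`. -/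
noncomputable def Phi (X : Type u) [AddCommGroup X] [Module R X] :
    (P ⊗[R] X) ⊗[B₁] L ≃+ RL ⊗[R] X :=
  (TensorProduct.comm B₁ (P ⊗[R] X) L).toAddEquiv.trans
    ((Algebra.IsPushout.cancelBaseChange B₁ L P RL (P ⊗[R] X)).symm.toAddEquiv.trans
      (AlgebraTensorModule.cancelBaseChange R P RL RL X).toAddEquiv)

theorem Phi_tmul (X : Type u) [AddCommGroup X] [Module R X] (p : P) (x : X) (c : L) :
    Phi P B₁ L RL X ((p ⊗ₜ[R] x) ⊗ₜ[B₁] c) = (p • algebraMap L RL c) ⊗ₜ[R] x := by
  simp [Phi]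

theorem Phi_smul (X : Type u) [AddCommGroup X] [Module R X] (g : P)
    (y : (P ⊗[R] X) ⊗[B₁] L) :
    Phi P B₁ L RL X (g • y) = algebraMap P RL g • Phi P B₁ L RL X y := by
  induction y using TensorProduct.induction_on with
  | zero => simp
  | tmul z c =>
    induction z using TensorProduct.induction_on with
    | zero => simp
    | tmul p x =>
      rw [TensorProduct.smul_tmul', TensorProduct.smul_tmul', Phi_tmul, Phi_tmul,
        TensorProduct.smul_tmul']
      congr 1
      simp only [smul_eq_mul, Algebra.smul_def, map_mul, mul_assoc]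
    | add z₁ z₂ h₁ h₂ =>
      rw [TensorProduct.add_tmul, smul_add, map_add, map_add, smul_add, h₁, h₂]
  | add y₁ y₂ h₁ h₂ => rw [smul_add, map_add, map_add, smul_add, h₁, h₂]

theorem Phi_nat {X Y : Type u} [AddCommGroup X] [Module R X] [AddCommGroup Y] [Module R Y]
    (φ : X →ₗ[R] Y) (y : (P ⊗[R] X) ⊗[B₁] L) :
    Phi P B₁ L RL Y (AlgebraTensorModule.rTensor B₁ L (AlgebraTensorModule.lTensor P P φ) y) =
      φ.lTensor RL (Phi P B₁ L RL X y) := by
  induction y using TensorProduct.induction_on with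
  | zero => simp
  | tmul z c =>
    induction z using TensorProduct.induction_on with
    | zero => simp
    | tmul p x =>
      rw [AlgebraTensorModule.rTensor_tmul, AlgebraTensorModule.lTensor_tmul, Phi_tmul, Phi_tmul,
        LinearMap.lTensor_tmul]
    | add z₁ z₂ h₁ h₂ =>
      rw [TensorProduct.add_tmul, map_add, map_add, map_add, map_add, h₁, h₂]
  | add y₁ y₂ h₁ h₂ => rw [map_add, map_add, map_add, map_add, h₁, h₂]

end Phi

/-- from `JI` over the pushout `RL = P ⊗[B₁] L` to the torsion form `TG` over `B₁`. -/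
theorem TG_of_JI (P B₁ L RL : Type u) [CommRing P] [Algebra R P] [CommRing B₁] [Algebra B₁ P]
    [SMulCommClass R B₁ P]
    [CommRing L] [Algebra B₁ L] [CommRing RL] [Algebra R RL] [Algebra P RL] [Algebra L RL]
    [Algebra B₁ RL] [IsScalarTower R P RL] [IsScalarTower B₁ P RL] [IsScalarTower B₁ L RL]
    [Algebra.IsPushout B₁ L P RL] (h : JI ψ RL) (g : P) :
    TG B₁ (fun l => AlgebraTensorModule.lTensor P P (ψ l)) g L := by
  intro y hy
  have hpow : ∀ (X : Type u) [AddCommGroup X] [Module R X] (k : ℕ) (z : (P ⊗[R] X) ⊗[B₁] L),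
      Phi P B₁ L RL X (g ^ k • z) = (algebraMap P RL g) ^ k • Phi P B₁ L RL X z := by
    intro X _ _ k z
    rw [Phi_smul, map_pow]
  obtain ⟨m, hm⟩ := h (algebraMap P RL g) (Phi P B₁ L RL M y) (fun l => by
    obtain ⟨k, hk⟩ := hy l
    refine ⟨k, ?_⟩
    rw [← Phi_nat, ← hpow, hk, map_zero])
  refine ⟨m, ?_⟩
  apply (Phi P B₁ L RL M).injective
  rw [hpow, hm, map_zero]


end JI

section TMap

attribute [local instance] Algebra.TensorProduct.rightAlgebra

variable (A R C C' : Type u) [CommRing A] [CommRing R] [CommRing C] [CommRing C'] [Algebra A R]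
  [Algebra A C] [Algebra A C'] [Algebra C C'] [IsScalarTower A C C']

/-- `R ⊗ C → R ⊗ C'` as an algebra structure -/
noncomputable abbrev tmapAlg : Algebra (R ⊗[A] C) (R ⊗[A] C') :=
  (Algebra.TensorProduct.map (AlgHom.id R R) (IsScalarTower.toAlgHom A C C')).toRingHom.toAlgebra

/-- `C → C' → R ⊗ C'` -/
noncomputable abbrev baseAlg : Algebra C (R ⊗[A] C') :=
  ((algebraMap C' (R ⊗[A] C')).comp (algebraMap C C')).toAlgebra

theorem tmap_tower_R :
    letI := tmapAlg A R C C'
    IsScalarTower R (R ⊗[A] C) (R ⊗[A] C') := by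
  letI := tmapAlg A R C C'
  refine IsScalarTower.of_algebraMap_eq fun r => ?_
  change _ = Algebra.TensorProduct.map (AlgHom.id R R) (IsScalarTower.toAlgHom A C C')
    (algebraMap R (R ⊗[A] C) r)
  simp [Algebra.TensorProduct.algebraMap_apply]

theorem tmap_tower_C :
    letI := tmapAlg A R C C'
    letI := baseAlg A R C C'
    IsScalarTower C (R ⊗[A] C) (R ⊗[A] C') := by
  letI := tmapAlg A R C C'
  letI := baseAlg A R C C'
  refine IsScalarTower.of_algebraMap_eq fun c => ?_
  change algebraMap C' (R ⊗[A] C') (algebraMap C C' c) =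
    Algebra.TensorProduct.map (AlgHom.id R R) (IsScalarTower.toAlgHom A C C')
      (algebraMap C (R ⊗[A] C) c)
  simp [Algebra.TensorProduct.right_algebraMap_apply]

theorem tmap_tower_C' :
    letI := baseAlg A R C C'
    IsScalarTower C C' (R ⊗[A] C') := by
  letI := baseAlg A R C C'
  exact IsScalarTower.of_algebraMap_eq' rfl

theorem tmap_tower_A :
    letI := tmapAlg A R C C'
    IsScalarTower A (R ⊗[A] C) (R ⊗[A] C') := by
  letI := tmapAlg A R C C'
  refine IsScalarTower.of_algebraMap_eq fun a => ?_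
  change _ = Algebra.TensorProduct.map (AlgHom.id R R) (IsScalarTower.toAlgHom A C C')
    (algebraMap A (R ⊗[A] C) a)
  simp [Algebra.TensorProduct.algebraMap_apply]

theorem tmap_isPushout :
    letI := tmapAlg A R C C'
    letI := baseAlg A R C C'
    haveI := tmap_tower_C A R C C'
    haveI := tmap_tower_C' A R C C'
    Algebra.IsPushout C C' (R ⊗[A] C) (R ⊗[A] C') := by
  letI := tmapAlg A R C C'
  letI := baseAlg A R C C'
  haveI t1 := tmap_tower_R A R C C'
  haveI t2 := tmap_tower_C A R C C'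
  haveI t3 := tmap_tower_C' A R C C'
  haveI t4 := tmap_tower_A A R C C'
  exact (Algebra.IsPushout.comp_iff A C R (S' := R ⊗[A] C) (T := C') (T' := R ⊗[A] C')).mp
    inferInstance

end TMap

section FiniteType

attribute [local instance] Algebra.TensorProduct.rightAlgebra

variable {A R : Type u} [CommRing A] [CommRing R] [Algebra A R]
  {M : Type u} [AddCommGroup M] [Module R M]
  {Λ : Type u} {Nl : Λ → Type u} [∀ l, AddCommGroup (Nl l)] [∀ l, Module R (Nl l)]
  [∀ l, Module A (Nl l)] [∀ l, IsScalarTower A R (Nl l)]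
  {ψ : ∀ l, M →ₗ[R] Nl l}

/-- fibre hypothesis transported to a residue field of a finite type algebra -/
theorem TG_residueField (Hfib : ∀ (𝔭 : Ideal A) [𝔭.IsPrime], JI ψ (R ⊗[A] 𝔭.ResidueField))
    (B₁ : Type u) [CommRing B₁] [Algebra A B₁] (𝔮 : Ideal B₁) [𝔮.IsPrime] (g : R ⊗[A] B₁) :
    TG B₁ (fun l => AlgebraTensorModule.lTensor (R ⊗[A] B₁) (R ⊗[A] B₁) (ψ l)) g
      𝔮.ResidueField := by
  let 𝔭 : Ideal A := Ideal.comap (algebraMap A B₁) 𝔮
  have h𝔭 : 𝔭.IsPrime := Ideal.IsPrime.comap _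
  let κ := 𝔭.ResidueField
  let L := 𝔮.ResidueField
  letI algκL : Algebra κ L := (Ideal.ResidueField.map 𝔭 𝔮 (algebraMap A B₁) rfl).toAlgebra
  haveI towAκL : IsScalarTower A κ L := by
    refine IsScalarTower.of_algebraMap_eq fun a => ?_
    change _ = Ideal.ResidueField.map 𝔭 𝔮 (algebraMap A B₁) rfl (algebraMap A κ a)
    rw [Ideal.ResidueField.map_algebraMap]
    exact IsScalarTower.algebraMap_apply A B₁ L a
  -- field extension
  have h1 : JI ψ (R ⊗[A] L) := by
    letI := tmapAlg A R κ L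
    letI := baseAlg A R κ L
    haveI := tmap_tower_R A R κ L
    haveI := tmap_tower_C A R κ L
    haveI := tmap_tower_C' A R κ L
    haveI := tmap_isPushout A R κ L
    haveI : Algebra.IsPushout κ (R ⊗[A] κ) L (R ⊗[A] L) := Algebra.IsPushout.symm inferInstance
    exact JI.field_ext κ L (R ⊗[A] κ) (R ⊗[A] L) (Hfib 𝔭)
  -- torsion form
  letI := tmapAlg A R B₁ L
  letI := baseAlg A R B₁ L
  haveI := tmap_tower_R A R B₁ L
  haveI := tmap_tower_C A R B₁ L
  haveI := tmap_tower_C' A R B₁ L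
  haveI := tmap_isPushout A R B₁ L
  exact TG_of_JI (R ⊗[A] B₁) B₁ L (R ⊗[A] L) h1 g

/-- **finite type case** -/
theorem JI_of_fibrewise_finiteType [IsNoetherianRing R] [Module.Finite R M]
    [∀ l, Module.Flat A (Nl l)]
    (Hfib : ∀ (𝔭 : Ideal A) [𝔭.IsPrime], JI ψ (R ⊗[A] 𝔭.ResidueField))
    (B₁ : Type u) [CommRing B₁] [Algebra A B₁] [Algebra.FiniteType A B₁] :
    JI ψ (R ⊗[A] B₁) := by
  have hN : IsNoetherianRing (R ⊗[A] B₁) := Algebra.FiniteType.isNoetherianRing R (R ⊗[A] B₁)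
  have hflat : ∀ l, Module.Flat B₁ ((R ⊗[A] B₁) ⊗[R] Nl l) := fun l =>
    Module.Flat.of_linearEquiv (Algebra.IsPushout.cancelBaseChange A B₁ R (R ⊗[A] B₁) (Nl l))
  intro g n hn
  exact jointInj_of_fibrewise (B := B₁) (P := R ⊗[A] B₁) (M := (R ⊗[A] B₁) ⊗[R] M)
    (ψ := fun l => AlgebraTensorModule.lTensor (R ⊗[A] B₁) (R ⊗[A] B₁) (ψ l))
    (fun 𝔮 _ g => TG_residueField Hfib B₁ 𝔮 g) g n hn

end FiniteType

section FG

attribute [local instance] Algebra.TensorProduct.rightAlgebra

variable {A R B₀ : Type u} [CommRing A] [CommRing R] [Algebra A R] [CommRing B₀] [Algebra A B₀]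

/-- the `R`-algebra map `R ⊗ B₁ → R ⊗ B₀` induced by a subalgebra -/
noncomputable def incl (B₁ : Subalgebra A B₀) : R ⊗[A] B₁ →ₐ[R] R ⊗[A] B₀ :=
  Algebra.TensorProduct.map (AlgHom.id R R) B₁.val

/-- the map `R ⊗ B₁ → R ⊗ B₂` for `B₁ ≤ B₂` -/
noncomputable def jmap {B₁ B₂ : Subalgebra A B₀} (h : B₁ ≤ B₂) : R ⊗[A] B₁ →ₐ[R] R ⊗[A] B₂ :=
  Algebra.TensorProduct.map (AlgHom.id R R) (Subalgebra.inclusion h)

theorem incl_comp_jmap {B₁ B₂ : Subalgebra A B₀} (h : B₁ ≤ B₂) :
    (incl (R := R) B₂).comp (jmap h) = incl B₁ := by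
  apply Algebra.TensorProduct.ext'
  intro a b
  simp [incl, jmap]

theorem rTensor_incl_smul (B₁ : Subalgebra A B₀) (X : Type u) [AddCommGroup X] [Module R X]
    (b : R ⊗[A] B₁) (z : (R ⊗[A] B₁) ⊗[R] X) :
    (incl (R := R) B₁).toLinearMap.rTensor X (b • z) =
      (incl B₁ b) • (incl (R := R) B₁).toLinearMap.rTensor X z := by
  induction z using TensorProduct.induction_on with
  | zero => simp
  | tmul c p =>
    rw [TensorProduct.smul_tmul', LinearMap.rTensor_tmul, LinearMap.rTensor_tmul,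
      TensorProduct.smul_tmul', smul_eq_mul, smul_eq_mul, AlgHom.toLinearMap_apply,
      AlgHom.toLinearMap_apply, map_mul]
  | add z₁ z₂ h₁ h₂ => rw [smul_add, map_add, map_add, smul_add, h₁, h₂]

theorem exists_fg_mem_range (z : R ⊗[A] B₀) :
    ∃ B₁ : Subalgebra A B₀, B₁.FG ∧ ∃ w : R ⊗[A] B₁, incl (R := R) B₁ w = z := by
  induction z using TensorProduct.induction_on with
  | zero => exact ⟨⊥, Subalgebra.fg_bot, 0, map_zero _⟩
  | tmul r b =>
    have hfg : (Algebra.adjoin A ({b} : Set B₀)).FG := by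
      have := Subalgebra.fg_adjoin_finset (R := A) ({b} : Finset B₀)
      simpa using this
    refine ⟨Algebra.adjoin A {b}, hfg,
      r ⊗ₜ ⟨b, Algebra.subset_adjoin (Set.mem_singleton b)⟩, ?_⟩
    simp [incl]
  | add z₁ z₂ h₁ h₂ =>
    obtain ⟨B₁, hB₁, w₁, hw₁⟩ := h₁
    obtain ⟨B₂, hB₂, w₂, hw₂⟩ := h₂
    refine ⟨B₁ ⊔ B₂, hB₁.sup hB₂,
      jmap (R := R) (le_sup_left : B₁ ≤ B₁ ⊔ B₂) w₁ +
        jmap (R := R) (le_sup_right : B₂ ≤ B₁ ⊔ B₂) w₂, ?_⟩
    rw [map_add, ← AlgHom.comp_apply, ← AlgHom.comp_apply, incl_comp_jmap, incl_comp_jmap,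
      hw₁, hw₂]

variable {M : Type u} [AddCommGroup M] [Module R M]

theorem range_rTensor_incl_mono {B₁ B₂ : Subalgebra A B₀} (h : B₁ ≤ B₂) :
    LinearMap.range ((incl (R := R) B₁).toLinearMap.rTensor M) ≤
      LinearMap.range ((incl (R := R) B₂).toLinearMap.rTensor M) := by
  have : (incl (R := R) B₁).toLinearMap =
      (incl (R := R) B₂).toLinearMap ∘ₗ (jmap h).toLinearMap := by
    rw [← incl_comp_jmap h]; rfl
  rw [this, LinearMap.rTensor_comp]
  exact LinearMap.range_comp_le_range _ _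

theorem exists_fg_mem_range_rTensor (y : (R ⊗[A] B₀) ⊗[R] M) :
    ∃ B₁ : Subalgebra A B₀, B₁.FG ∧
      y ∈ LinearMap.range ((incl (R := R) B₁).toLinearMap.rTensor M) := by
  induction y using TensorProduct.induction_on with
  | zero => exact ⟨⊥, Subalgebra.fg_bot, Submodule.zero_mem _⟩
  | tmul z m =>
    obtain ⟨B₁, hB₁, z₁, hz₁⟩ := exists_fg_mem_range z
    exact ⟨B₁, hB₁, z₁ ⊗ₜ m, by rw [LinearMap.rTensor_tmul, AlgHom.toLinearMap_apply, hz₁]⟩
  | add y₁ y₂ h₁ h₂ =>
    obtain ⟨B₁, hB₁, hy₁⟩ := h₁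
    obtain ⟨B₂, hB₂, hy₂⟩ := h₂
    exact ⟨B₁ ⊔ B₂, hB₁.sup hB₂, Submodule.add_mem _ (range_rTensor_incl_mono le_sup_left hy₁)
      (range_rTensor_incl_mono le_sup_right hy₂)⟩

theorem rTensor_incl_injective (B₁ : Subalgebra A B₀) (N : Type u) [AddCommGroup N] [Module R N]
    [Module A N] [IsScalarTower A R N] [Module.Flat A N] :
    Function.Injective ((incl (R := R) B₁).toLinearMap.rTensor N) := by
  let e₁ := Algebra.IsPushout.cancelBaseChange A B₁ R (R ⊗[A] B₁) N
  let e₀ := Algebra.IsPushout.cancelBaseChange A B₀ R (R ⊗[A] B₀) N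
  have hinj : Function.Injective (B₁.val.toLinearMap.rTensor N) :=
    Module.Flat.rTensor_preserves_injective_linearMap B₁.val.toLinearMap Subtype.val_injective
  have hnat : ∀ z : B₁ ⊗[A] N, (incl (R := R) B₁).toLinearMap.rTensor N (e₁.symm z) =
      e₀.symm (B₁.val.toLinearMap.rTensor N z) := by
    intro z
    induction z using TensorProduct.induction_on with
    | zero => simp only [map_zero]
    | tmul c x =>
      rw [Algebra.IsPushout.cancelBaseChange_symm_tmul, LinearMap.rTensor_tmul,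
        LinearMap.rTensor_tmul, Algebra.IsPushout.cancelBaseChange_symm_tmul]
      simp [incl, Algebra.TensorProduct.right_algebraMap_apply]
    | add z₁ z₂ h₁ h₂ => simp only [map_add, h₁, h₂]
  intro a b hab
  obtain ⟨a', rfl⟩ := e₁.symm.surjective a
  obtain ⟨b', rfl⟩ := e₁.symm.surjective b
  rw [hnat, hnat] at hab
  rw [hinj (e₀.symm.injective hab)]

end FG

section Main

attribute [local instance] Algebra.TensorProduct.rightAlgebra

variable {A R : Type u} [CommRing A] [CommRing R] [Algebra A R]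
  {M : Type u} [AddCommGroup M] [Module R M]
  {Λ : Type u} {Nl : Λ → Type u} [∀ l, AddCommGroup (Nl l)] [∀ l, Module R (Nl l)]
  [∀ l, Module A (Nl l)] [∀ l, IsScalarTower A R (Nl l)]
  {ψ : ∀ l, M →ₗ[R] Nl l}

/-- **EGA IV 11.9.10, ring form**: fibrewise `JI` implies `JI` after every base change. -/
theorem JI_of_fibrewise [IsNoetherianRing R] [Module.Finite R M] [∀ l, Module.Flat A (Nl l)]
    (Hfib : ∀ (𝔭 : Ideal A) [𝔭.IsPrime], JI ψ (R ⊗[A] 𝔭.ResidueField))
    (B₀ : Type u) [CommRing B₀] [Algebra A B₀] : JI ψ (R ⊗[A] B₀) := by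
  intro g n hn
  obtain ⟨Bg, hBg, g', hg'⟩ := exists_fg_mem_range g
  obtain ⟨Bn, hBn, hn'⟩ := exists_fg_mem_range_rTensor n
  let B₁ : Subalgebra A B₀ := Bg ⊔ Bn
  have hB₁ : B₁.FG := hBg.sup hBn
  let g₁ : R ⊗[A] B₁ := jmap (R := R) (le_sup_left : Bg ≤ B₁) g'
  have hg₁ : incl (R := R) B₁ g₁ = g := by
    rw [← hg']
    exact congrArg (fun f => f g') (incl_comp_jmap (R := R) (le_sup_left : Bg ≤ B₁))
  obtain ⟨n₁, hn₁⟩ := range_rTensor_incl_mono (R := R) (M := M) (le_sup_right : Bn ≤ B₁) hn'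
  have hft : Algebra.FiniteType A B₁ := (Subalgebra.fg_iff_finiteType B₁).mp hB₁
  have hJI := JI_of_fibrewise_finiteType Hfib B₁
  obtain ⟨m, hm⟩ := hJI g₁ n₁ (fun l => by
    obtain ⟨k, hk⟩ := hn l
    refine ⟨k, ?_⟩
    apply rTensor_incl_injective B₁ (Nl l)
    rw [map_zero, rTensor_incl_smul, map_pow, hg₁, ← LinearMap.comp_apply,
      LinearMap.rTensor_comp_lTensor, ← LinearMap.lTensor_comp_rTensor, LinearMap.comp_apply, hn₁]
    exact hk)
  refine ⟨m, ?_⟩
  rw [← hn₁, ← hg₁, ← map_pow, ← rTensor_incl_smul, hm, map_zero]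

end Main

section Transport

variable {R : Type u} [CommRing R] {M : Type u} [AddCommGroup M] [Module R M]
  {Λ : Type u} {Nl : Λ → Type u} [∀ l, AddCommGroup (Nl l)] [∀ l, Module R (Nl l)]
  {ψ : ∀ l, M →ₗ[R] Nl l}

theorem rTensor_algHom_smul {P' P'' : Type u} [CommRing P'] [Algebra R P'] [CommRing P'']
    [Algebra R P''] (e : P' →ₐ[R] P'') (X : Type u) [AddCommGroup X] [Module R X]
    (b : P') (z : P' ⊗[R] X) :
    e.toLinearMap.rTensor X (b • z) = (e b) • e.toLinearMap.rTensor X z := by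
  induction z using TensorProduct.induction_on with
  | zero => simp
  | tmul c p =>
    rw [TensorProduct.smul_tmul', LinearMap.rTensor_tmul, LinearMap.rTensor_tmul,
      TensorProduct.smul_tmul', smul_eq_mul, smul_eq_mul, AlgHom.toLinearMap_apply,
      AlgHom.toLinearMap_apply, map_mul]
  | add z₁ z₂ h₁ h₂ => rw [smul_add, map_add, map_add, smul_add, h₁, h₂]

/-- `JI` is invariant under isomorphisms of `R`-algebras. -/
theorem JI.of_algEquiv {P' P'' : Type u} [CommRing P'] [Algebra R P'] [CommRing P'']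
    [Algebra R P''] (e : P' ≃ₐ[R] P'') (h : JI ψ P'') : JI ψ P' := by
  intro g n hn
  have hinj : Function.Injective (e.toAlgHom.toLinearMap.rTensor M) :=
    (LinearEquiv.rTensor M e.toLinearEquiv).injective
  obtain ⟨m, hm⟩ := h (e g) (e.toAlgHom.toLinearMap.rTensor M n) (fun l => by
    obtain ⟨k, hk⟩ := hn l
    refine ⟨k, ?_⟩
    have h1 : (ψ l).lTensor P'' (e.toAlgHom.toLinearMap.rTensor M n) =
        e.toAlgHom.toLinearMap.rTensor (Nl l) ((ψ l).lTensor P' n) := by
      rw [← LinearMap.comp_apply, LinearMap.lTensor_comp_rTensor, ← LinearMap.rTensor_comp_lTensor,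
        LinearMap.comp_apply]
    have h2 := rTensor_algHom_smul e.toAlgHom (Nl l) (g ^ k) ((ψ l).lTensor P' n)
    rw [hk, map_zero, map_pow] at h2
    rw [h1]
    exact h2.symm)
  refine ⟨m, hinj ?_⟩
  have h3 := rTensor_algHom_smul e.toAlgHom M (g ^ m) n
  rw [map_pow] at h3
  rw [h3, map_zero]
  exact hm

/-- pushout form -/
theorem JI.of_isPushout {A B₀ P : Type u} [CommRing A] [Algebra A R] [CommRing B₀] [Algebra A B₀]
    [CommRing P] [Algebra R P] [Algebra B₀ P] [Algebra A P] [IsScalarTower A R P]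
    [IsScalarTower A B₀ P] [Algebra.IsPushout A R B₀ P] (h : JI ψ (R ⊗[A] B₀)) : JI ψ P :=
  JI.of_algEquiv (Algebra.IsPushout.equiv A R B₀ P).symm h

theorem JI.tensor_of_isPushout {A B₀ P : Type u} [CommRing A] [Algebra A R] [CommRing B₀]
    [Algebra A B₀] [CommRing P] [Algebra R P] [Algebra B₀ P] [Algebra A P] [IsScalarTower A R P]
    [IsScalarTower A B₀ P] [Algebra.IsPushout A R B₀ P] (h : JI ψ P) : JI ψ (R ⊗[A] B₀) :=
  JI.of_algEquiv (Algebra.IsPushout.equiv A R B₀ P) h

/-- change of the second factor along an isomorphism -/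
theorem JI.tensor_congr {A B₀ B₀' : Type u} [CommRing A] [Algebra A R] [CommRing B₀]
    [Algebra A B₀] [CommRing B₀'] [Algebra A B₀'] (e : B₀ ≃ₐ[A] B₀') (h : JI ψ (R ⊗[A] B₀')) :
    JI ψ (R ⊗[A] B₀) :=
  JI.of_algEquiv (Algebra.TensorProduct.congr AlgEquiv.refl e) h

end Transport

end Groth.Agent.Lib.Helper24.FibConv
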