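/-
Helper library (helper24): EGA IV 11.10.6 — base change of a schematically dominant family of a
scheme over a field `k` to an arbitrary `k`-scheme (scheme-level chart argument).
-/
import Mathlib
import Groth.Agent.S4875
import Groth.Agent.Lib.Helper24.SchDomField

set_option autoImplicit false
universe u
open CategoryTheory CategoryTheory.Limits AlgebraicGeometry TopologicalSpace TensorProduct

namespace Groth.Agent.Lib.Helper24.SchDomField

open Groth.Agent.Lib.Helper20.SchDenseFlat Groth.Agent.S4875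

theorem local_claim_field {k : Type u} [Field k] {X S' : Scheme.{u}}
    (p : X ⟶ Spec (CommRingCat.of k)) (q : S' ⟶ Spec (CommRingCat.of k))
    {ι : Type u} (Z : ι → Scheme.{u}) (f : ∀ i, Z i ⟶ X)
    (h : ∀ (V : X.Opens) (t : Γ(X, V)), (∀ i, (f i).app V t = 0) → t = 0)
    (U' : X.Opens) (hU' : IsAffineOpen U') (T : S'.Opens) (hT : IsAffineOpen T)
    (O : (pullback p q).Opens) (hOdef : O = pullback.fst p q ⁻¹ᵁ U' ⊓ pullback.snd p q ⁻¹ᵁ T)
    (r : Γ(pullback p q, O))
    (V : (pullback p q).Opens) (hWV : (pullback p q).basicOpen r ≤ V) (t : Γ(pullback p q, V))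
    (ht : ∀ i, (pullback.snd (f i) (pullback.fst p q)).app V t = 0) :
    (pullback p q).presheaf.map (homOfLE hWV).op t = 0 := by
  have H : IsPullback (pullback.fst p q) (pullback.snd p q) p q := IsPullback.of_hasPullback p q
  let W₀ : (Spec (CommRingCat.of k)).Opens := ⊤
  have hW₀ : IsAffineOpen W₀ := isAffineOpen_top _
  have eT : T ≤ q ⁻¹ᵁ W₀ := fun _ _ => trivial
  have eU : U' ≤ p ⁻¹ᵁ W₀ := fun _ _ => trivial
  have e1 : O ≤ pullback.fst p q ⁻¹ᵁ U' := hOdef ▸ inf_le_left
  have e2 : O ≤ pullback.snd p q ⁻¹ᵁ T := hOdef ▸ inf_le_right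
  have hiso := isIso_pushoutSection_of_isAffineOpen H eT eU hOdef hW₀ hT hU'
  have hpush := (isIso_pushoutSection_iff H eT eU hOdef).mp hiso
  have hO : IsAffineOpen O := by
    have : IsAffine (Scheme.Opens.toScheme W₀) := hW₀
    have : IsAffine (Scheme.Opens.toScheme T) := hT
    have : IsAffine (Scheme.Opens.toScheme U') := hU'
    exact .of_isIso (Scheme.Hom.isPullback_resLE H eT eU hOdef).isoPullback.hom
  have hK : IsField Γ(Spec (CommRingCat.of k), W₀) :=
    MulEquiv.isField (Field.toIsField k)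
      (Scheme.ΓSpecIso (CommRingCat.of k)).commRingCatIsoToRingEquiv.toMulEquiv
  have hW' : IsAffineOpen ((pullback p q).basicOpen r) := hO.basicOpen r
  have hW'O : (pullback p q).basicOpen r ≤ O := (pullback p q).basicOpen_le r
  have e : (pullback p q).basicOpen r ≤ pullback.fst p q ⁻¹ᵁ U' := hW'O.trans e1
  have hloc : IsLocalization.Away r Γ(pullback p q, (pullback p q).basicOpen r) :=
    hO.isLocalization_basicOpen r
  algebraize [(p.appLE W₀ U' eU).hom, (q.appLE W₀ T eT).hom, ((pullback.fst p q).appLE U' O e1).hom,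
    ((pullback.snd p q).appLE T O e2).hom,
    (((pullback.fst p q).appLE U' O e1).hom.comp (p.appLE W₀ U' eU).hom),
    ((pullback.fst p q).appLE U' ((pullback p q).basicOpen r) e).hom]
  have t1 : IsScalarTower Γ(Spec (CommRingCat.of k), W₀) Γ(X, U') Γ(pullback p q, O) :=
    .of_algebraMap_eq' rfl
  have t2 : IsScalarTower Γ(Spec (CommRingCat.of k), W₀) Γ(S', T) Γ(pullback p q, O) :=
    .of_algebraMap_eq' congr($(hpush.w).hom)
  have hP : Algebra.IsPushout Γ(Spec (CommRingCat.of k), W₀) Γ(X, U') Γ(S', T)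
      Γ(pullback p q, O) :=
    CommRingCat.isPushout_iff_isPushout.mp hpush
  have t3 : IsScalarTower Γ(X, U') Γ(pullback p q, O)
      Γ(pullback p q, (pullback p q).basicOpen r) := by
    refine .of_algebraMap_eq' ?_
    change ((pullback.fst p q).appLE U' ((pullback p q).basicOpen r) e).hom =
      (((pullback p q).presheaf.map (homOfLE hW'O).op).hom).comp
        ((pullback.fst p q).appLE U' O e1).hom
    rw [← CommRingCat.hom_comp, Scheme.Hom.appLE_map]
  let _ : ∀ l : Idx Z f U', Algebra Γ(X, U') (Cl Z f U' l) := algC Z f U'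
  refine eq_zero_of_isPushout_field_away (K := Γ(Spec (CommRingCat.of k), W₀)) (A := Γ(X, U'))
    (B₀ := Γ(S', T)) (P := Γ(pullback p q, O)) hK r Γ(pullback p q, (pullback p q).basicOpen r)
    (fun l => Algebra.linearMap Γ(X, U') (Cl Z f U' l)) (jointInj_of_dominant Z f h U' hU') _ ?_
  intro l
  rw [Algebra.linearMap_apply, map_one]
  exact one_tmul_eq_zero (f l.1) (pullback.fst p q) U' hU' l.2.1 l.2.2.1 l.2.2.2
    ((pullback p q).basicOpen r) hW' e V hWV t (ht l.1)

/-- **EGA IV 11.10.6** in the form of S4875: over a field, the base change of a schematically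
dominant family along the projection `X ×_k S' ⟶ X` is schematically dominant, for an arbitrary
`k`-scheme `S'`. -/
theorem schDominant_baseChange_field {k : Type u} [Field k] {X S' : Scheme.{u}}
    (p : X ⟶ Spec (CommRingCat.of k)) (q : S' ⟶ Spec (CommRingCat.of k))
    {ι : Type u} (Z : ι → Scheme.{u}) (f : ∀ i, Z i ⟶ X)
    (h : ∀ (V : X.Opens) (t : Γ(X, V)), (∀ i, (f i).app V t = 0) → t = 0)
    (V : (pullback p q).Opens) (t : Γ(pullback p q, V))
    (ht : ∀ i, (pullback.snd (f i) (pullback.fst p q)).app V t = 0) : t = 0 := by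
  refine TopCat.Presheaf.section_ext (pullback p q).sheaf V t 0 (fun x hx => ?_)
  change (pullback p q).presheaf.germ V x hx t = (pullback p q).presheaf.germ V x hx 0
  rw [map_zero]
  obtain ⟨U', hU', hxU', -⟩ := exists_isAffineOpen_mem_and_subset
    (x := (pullback.fst p q) x) (U := ⊤) trivial
  obtain ⟨T, hT, hxT, -⟩ := exists_isAffineOpen_mem_and_subset
    (x := (pullback.snd p q) x) (U := ⊤) trivial
  have H : IsPullback (pullback.fst p q) (pullback.snd p q) p q := IsPullback.of_hasPullback p q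
  let W₀ : (Spec (CommRingCat.of k)).Opens := ⊤
  have hW₀ : IsAffineOpen W₀ := isAffineOpen_top _
  have eT : T ≤ q ⁻¹ᵁ W₀ := fun _ _ => trivial
  have eU : U' ≤ p ⁻¹ᵁ W₀ := fun _ _ => trivial
  have hO : IsAffineOpen (pullback.fst p q ⁻¹ᵁ U' ⊓ pullback.snd p q ⁻¹ᵁ T) := by
    have : IsAffine (Scheme.Opens.toScheme W₀) := hW₀
    have : IsAffine (Scheme.Opens.toScheme T) := hT
    have : IsAffine (Scheme.Opens.toScheme U') := hU'
    exact .of_isIso (Scheme.Hom.isPullback_resLE H eT eU rfl).isoPullback.hom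
  obtain ⟨r, hrV, hxr⟩ := hO.exists_basicOpen_le ⟨x, hx⟩ ⟨hxU', hxT⟩
  rw [← TopCat.Presheaf.germ_res_apply (pullback p q).presheaf (homOfLE hrV) x hxr t,
    local_claim_field p q Z f h U' hU' T hT _ rfl r V hrV t ht, map_zero]

end Groth.Agent.Lib.Helper24.SchDomField
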