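/-
Helper library (helper24): EGA IV 11.10.9 — scheme-level glue: universal schematic dominance of a
family `Z_i ⟶ X` (with `Z_i` flat over `S`, `X` locally Noetherian) follows from fibrewise
schematic dominance.
-/
import Mathlib
import Groth.Prelude.Def_MoreMor
import Groth.Agent.S4875
import Groth.Agent.Lib.Helper24.SchDomFieldScheme
import Groth.Agent.Lib.Helper24.FibConv
import Groth.Agent.Lib.Helper12.FlatOverSections

set_option autoImplicit false
universe u
open CategoryTheory CategoryTheory.Limits AlgebraicGeometry TopologicalSpace TensorProduct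

namespace Groth.Agent.Lib.Helper24.FibGlue

open Groth.Agent.Lib.Helper20.SchDenseFlat Groth.Agent.S4875 Groth.Agent.Lib.Helper24.FibConv
  Groth.Agent.Lib.Helper12.FlatOver


/-- the ring map `Γ(Y,O) ⊗[Γ(X,U')] Γ(Zi,C) → Γ(Zi ×_X Y, fst⁻¹C ⊓ snd⁻¹O)`: consequence. -/
theorem snd_appLE_eq_zero_of_tmul_one_eq_zero {X Y Zi : Scheme.{u}} (fi : Zi ⟶ X) (j : Y ⟶ X)
    (U' : X.Opens) (C : Zi.Opens) (eC : C ≤ fi ⁻¹ᵁ U') (O : Y.Opens) (eO : O ≤ j ⁻¹ᵁ U')
    (a : Γ(Y, O))
    (ha : letI := (fi.appLE U' C eC).hom.toAlgebra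
          letI := (j.appLE U' O eO).hom.toAlgebra
          a ⊗ₜ[Γ(X, U')] (1 : Γ(Zi, C)) = 0) :
    (pullback.snd fi j).appLE O (pullback.fst fi j ⁻¹ᵁ C ⊓ pullback.snd fi j ⁻¹ᵁ O)
      inf_le_right a = 0 := by
  let algC := (fi.appLE U' C eC).hom.toAlgebra
  let algO := (j.appLE U' O eO).hom.toAlgebra
  set Q := pullback.fst fi j ⁻¹ᵁ C ⊓ pullback.snd fi j ⁻¹ᵁ O with hQ
  let sO := (pullback.snd fi j).appLE O Q inf_le_right
  let sC := (pullback.fst fi j).appLE C Q inf_le_left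
  let algQ : Algebra Γ(X, U') Γ(pullback fi j, Q) :=
    (sO.hom.comp (j.appLE U' O eO).hom).toAlgebra
  let φO : Γ(Y, O) →ₐ[Γ(X, U')] Γ(pullback fi j, Q) := ⟨sO.hom, fun r => rfl⟩
  have hcomm : ∀ r, sC.hom (algebraMap Γ(X, U') Γ(Zi, C) r) =
      algebraMap Γ(X, U') Γ(pullback fi j, Q) r := by
    intro r
    change (fi.appLE U' C eC ≫ sC) r = (j.appLE U' O eO ≫ sO) r
    simp only [sC, sO]
    rw [Scheme.Hom.appLE_comp_appLE, Scheme.Hom.appLE_comp_appLE]
    rw [appLE_congr_hom' (pullback.condition (f := fi) (g := j))]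
  let φC : Γ(Zi, C) →ₐ[Γ(X, U')] Γ(pullback fi j, Q) := ⟨sC.hom, hcomm⟩
  have := congrArg (Algebra.TensorProduct.productMap φO φC) ha
  rw [Algebra.TensorProduct.productMap_apply_tmul, map_one, mul_one, map_zero] at this
  exact this

/-- **G-B**: if the family `Z_i ×_X Y ⟶ Y` is schematically dominant, then the base change of the
family of algebras `Γ(X,U') → Γ(Z_i, C)` to `Γ(Y, O)` is jointly injective (`JI`). -/
theorem JI_of_dominant_pullback {X Y : Scheme.{u}} {ι : Type u} (Z : ι → Scheme.{u})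
    (f : ∀ i, Z i ⟶ X) (j : Y ⟶ X)
    (h : ∀ (V : Y.Opens) (t : Γ(Y, V)), (∀ i, (pullback.snd (f i) j).app V t = 0) → t = 0)
    (U' : X.Opens) (O : Y.Opens) (hO : IsAffineOpen O) (eO : O ≤ j ⁻¹ᵁ U') :
    letI : ∀ l : Idx Z f U', Algebra Γ(X, U') (Cl Z f U' l) := algC Z f U'
    letI := (j.appLE U' O eO).hom.toAlgebra
    JI (R := Γ(X, U')) (M := Γ(X, U'))
      (fun l => Algebra.linearMap Γ(X, U') (Cl Z f U' l)) Γ(Y, O) := by
  let _ : ∀ l : Idx Z f U', Algebra Γ(X, U') (Cl Z f U' l) := algC Z f U'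
  let algO := (j.appLE U' O eO).hom.toAlgebra
  intro g n hn
  obtain ⟨n₀, rfl⟩ : ∃ n₀ : Γ(Y, O), n = n₀ ⊗ₜ[Γ(X, U')] (1 : Γ(X, U')) :=
    ⟨TensorProduct.rid _ _ n, by
      rw [← TensorProduct.rid_symm_apply, LinearEquiv.symm_apply_apply]⟩
  have hn' : ∀ l : Idx Z f U', ∃ k : ℕ,
      (g ^ k * n₀) ⊗ₜ[Γ(X, U')] (1 : Cl Z f U' l) = 0 := by
    intro l
    obtain ⟨k, hk⟩ := hn l
    refine ⟨k, ?_⟩
    rw [LinearMap.lTensor_tmul, Algebra.linearMap_apply, map_one, TensorProduct.smul_tmul',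
      smul_eq_mul] at hk
    exact hk
  suffices hsuff : ∃ m : ℕ, g ^ m * n₀ = 0 by
    obtain ⟨m, hm⟩ := hsuff
    exact ⟨m, by rw [TensorProduct.smul_tmul', smul_eq_mul, hm, TensorProduct.zero_tmul]⟩
  have hD : Y.basicOpen g ≤ O := Y.basicOpen_le g
  have hres : Y.presheaf.map (homOfLE hD).op n₀ = 0 := by
    apply h (Y.basicOpen g)
    intro i
    refine TopCat.Presheaf.section_ext (pullback (f i) j).sheaf
      ((pullback.snd (f i) j) ⁻¹ᵁ Y.basicOpen g) _ 0 (fun z hz => ?_)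
    change (pullback (f i) j).presheaf.germ ((pullback.snd (f i) j) ⁻¹ᵁ Y.basicOpen g) z hz _ =
      (pullback (f i) j).presheaf.germ ((pullback.snd (f i) j) ⁻¹ᵁ Y.basicOpen g) z hz 0
    rw [map_zero]
    have hzO : z ∈ (pullback.snd (f i) j) ⁻¹ᵁ O := (pullback.snd (f i) j).preimage_mono hD hz
    have hzU : (pullback.fst (f i) j) z ∈ (f i) ⁻¹ᵁ U' := by
      change (f i) ((pullback.fst (f i) j) z) ∈ U'
      rw [← Scheme.Hom.comp_apply, pullback.condition, Scheme.Hom.comp_apply]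
      exact eO hzO
    obtain ⟨C, hC, hzC, hCle⟩ := TopologicalSpace.Opens.isBasis_iff_nbhd.mp
      (Z i).isBasis_affineOpens hzU
    obtain ⟨k, hk⟩ := hn' ⟨i, C, hC, hCle⟩
    have h0 := snd_appLE_eq_zero_of_tmul_one_eq_zero (f i) j U' C hCle O eO (g ^ k * n₀) hk
    rw [map_mul, map_pow] at h0
    set Q : (pullback (f i) j).Opens :=
      pullback.fst (f i) j ⁻¹ᵁ C ⊓ pullback.snd (f i) j ⁻¹ᵁ O with hQ
    have hzQ : z ∈ Q := ⟨hzC, hzO⟩
    have hzb : z ∈ (pullback (f i) j).basicOpen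
        ((pullback.snd (f i) j).appLE O Q inf_le_right g) := by
      rw [Scheme.basicOpen_appLE]
      exact ⟨hzQ, hz⟩
    have hunit : IsUnit ((pullback (f i) j).presheaf.germ Q z hzQ
        ((pullback.snd (f i) j).appLE O Q inf_le_right g)) :=
      ((pullback (f i) j).mem_basicOpen _ z hzQ).mp hzb
    have hg := congrArg ((pullback (f i) j).presheaf.germ Q z hzQ) h0
    rw [map_mul, map_pow, map_zero] at hg
    have h1 : (pullback (f i) j).presheaf.germ Q z hzQ
        ((pullback.snd (f i) j).appLE O Q inf_le_right n₀) = 0 :=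
      (hunit.pow k).mul_right_eq_zero.mp hg
    set O' : (pullback (f i) j).Opens := Q ⊓ (pullback.snd (f i) j) ⁻¹ᵁ Y.basicOpen g with hO'
    have hzO' : z ∈ O' := ⟨hzQ, hz⟩
    have hO'le : O' ≤ (pullback.snd (f i) j) ⁻¹ᵁ O := inf_le_left.trans inf_le_right
    have e1 : (pullback (f i) j).presheaf.map
        (homOfLE (inf_le_right : O' ≤ (pullback.snd (f i) j) ⁻¹ᵁ Y.basicOpen g)).op
        ((pullback.snd (f i) j).app (Y.basicOpen g) (Y.presheaf.map (homOfLE hD).op n₀)) =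
        (pullback.snd (f i) j).appLE O O' hO'le n₀ := by
      rw [← CommRingCat.comp_apply, ← CommRingCat.comp_apply]
      have : (pullback.snd (f i) j).app (Y.basicOpen g) ≫ (pullback (f i) j).presheaf.map
          (homOfLE (inf_le_right : O' ≤ (pullback.snd (f i) j) ⁻¹ᵁ Y.basicOpen g)).op =
          (pullback.snd (f i) j).appLE (Y.basicOpen g) O' inf_le_right := rfl
      rw [this, Scheme.Hom.map_appLE]
    have e2 : (pullback (f i) j).presheaf.map (homOfLE (inf_le_left : O' ≤ Q)).op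
        ((pullback.snd (f i) j).appLE O Q inf_le_right n₀) =
        (pullback.snd (f i) j).appLE O O' hO'le n₀ := by
      rw [← CommRingCat.comp_apply, Scheme.Hom.appLE_map]
    rw [← TopCat.Presheaf.germ_res_apply (pullback (f i) j).presheaf
      (homOfLE (inf_le_right : O' ≤ (pullback.snd (f i) j) ⁻¹ᵁ Y.basicOpen g)) z hzO', e1, ← e2,
      TopCat.Presheaf.germ_res_apply]
    exact h1
  obtain ⟨m, hm⟩ := exists_pow_mul_eq_zero_of_res_basicOpen_eq_zero_of_isAffineOpen Y hO n₀ g hres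
  exact ⟨m, hm⟩



theorem top_le_fromSpecResidueField_preimage {S : Scheme.{u}} (s : S) (W₀ : S.Opens)
    (hs : s ∈ W₀) :
    (⊤ : (Spec (S.residueField s)).Opens) ≤ (S.fromSpecResidueField s) ⁻¹ᵁ W₀ := by
  intro x _
  change (S.fromSpecResidueField s) x ∈ W₀
  rw [Scheme.fromSpecResidueField_apply]
  exact hs

set_option backward.isDefEq.respectTransparency.types false in
theorem fromSpecResidueField_appLE {S : Scheme.{u}} (s : S) (W₀ : S.Opens) (hs : s ∈ W₀)
    (e : (⊤ : (Spec (S.residueField s)).Opens) ≤ (S.fromSpecResidueField s) ⁻¹ᵁ W₀) :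
    (S.fromSpecResidueField s).appLE W₀ ⊤ e =
      S.evaluation W₀ s hs ≫ (Scheme.ΓSpecIso (S.residueField s)).inv := by
  have e' : (⊤ : (Spec (S.residueField s)).Opens) ≤
      (Spec.map (S.residue s) ≫ S.fromSpecStalk s) ⁻¹ᵁ W₀ := e
  have h1 : (S.fromSpecResidueField s).appLE W₀ ⊤ e =
      (Spec.map (S.residue s) ≫ S.fromSpecStalk s).appLE W₀ ⊤ e' := rfl
  rw [h1, Scheme.Hom.comp_appLE, Scheme.fromSpecStalk_app hs, Category.assoc, Category.assoc,
    Scheme.Hom.map_appLE, ← Scheme.germ_residue, Category.assoc,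
    Scheme.ΓSpecIso_inv_naturality]
  rfl

/-- The residue field of the prime of `Γ(S, W₀)` attached to `s ∈ W₀` is, as a `Γ(S,W₀)`-algebra,
the ring of global sections of `Spec κ(s)`. -/
theorem exists_residueField_algEquiv {S : Scheme.{u}} {W₀ : S.Opens} (hW₀ : IsAffineOpen W₀)
    (s : S) (hs : s ∈ W₀) :
    letI := ((S.fromSpecResidueField s).appLE W₀ ⊤
      (top_le_fromSpecResidueField_preimage s W₀ hs)).hom.toAlgebra
    Nonempty ((hW₀.primeIdealOf ⟨s, hs⟩).asIdeal.ResidueField ≃ₐ[Γ(S, W₀)]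
      Γ(Spec (S.residueField s), ⊤)) := by
  let _ := ((S.fromSpecResidueField s).appLE W₀ ⊤
      (top_le_fromSpecResidueField_preimage s W₀ hs)).hom.toAlgebra
  let _ : Algebra Γ(S, W₀) (S.presheaf.stalk s) := S.presheaf.algebra_section_stalk ⟨s, hs⟩
  have hloc : IsLocalization.AtPrime (S.presheaf.stalk s) (hW₀.primeIdealOf ⟨s, hs⟩).asIdeal :=
    hW₀.isLocalization_stalk ⟨s, hs⟩
  let e3 : Localization.AtPrime (hW₀.primeIdealOf ⟨s, hs⟩).asIdeal ≃ₐ[Γ(S, W₀)]
      S.presheaf.stalk s :=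
    IsLocalization.algEquiv (hW₀.primeIdealOf ⟨s, hs⟩).asIdeal.primeCompl _ _
  let τ : (hW₀.primeIdealOf ⟨s, hs⟩).asIdeal.ResidueField ≃+*
      IsLocalRing.ResidueField (S.presheaf.stalk s) :=
    IsLocalRing.ResidueField.mapEquiv e3.toRingEquiv
  let σ : IsLocalRing.ResidueField (S.presheaf.stalk s) ≃+* Γ(Spec (S.residueField s), ⊤) :=
    (Scheme.ΓSpecIso (S.residueField s)).symm.commRingCatIsoToRingEquiv
  refine ⟨AlgEquiv.ofRingEquiv (f := τ.trans σ) ?_⟩
  intro a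
  have h1 : algebraMap Γ(S, W₀) (hW₀.primeIdealOf ⟨s, hs⟩).asIdeal.ResidueField a =
      IsLocalRing.residue _ (algebraMap Γ(S, W₀)
        (Localization.AtPrime (hW₀.primeIdealOf ⟨s, hs⟩).asIdeal) a) := by
    rw [IsScalarTower.algebraMap_apply Γ(S, W₀)
        (Localization.AtPrime (hW₀.primeIdealOf ⟨s, hs⟩).asIdeal)
        (hW₀.primeIdealOf ⟨s, hs⟩).asIdeal.ResidueField]
    rfl
  rw [h1, RingEquiv.trans_apply]
  change σ (IsLocalRing.residue _ (e3 (algebraMap Γ(S, W₀) _ a))) = _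
  rw [e3.commutes]
  change _ = ((S.fromSpecResidueField s).appLE W₀ ⊤ _).hom a
  rw [fromSpecResidueField_appLE s W₀ hs]
  rfl

set_option linter.style.haveILetI false in
/-- fibrewise dominance at the point `x : W₀` gives `JI` over the residue field of its prime. -/
theorem JI_residueField_of_fibre {X S : Scheme.{u}} (p : X ⟶ S) {ι : Type u}
    (Z : ι → Scheme.{u}) (f : ∀ i, Z i ⟶ X)
    (W₀ : S.Opens) (hW₀ : IsAffineOpen W₀) (U' : X.Opens) (hU' : IsAffineOpen U')
    (eU : U' ≤ p ⁻¹ᵁ W₀) (x : W₀)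
    (hfib : ∀ (V : (p.fiber x.1).Opens) (t : Γ(p.fiber x.1, V)),
      (∀ i, (pullback.snd (f i) (p.fiberι x.1)).app V t = 0) → t = 0) :
    letI : ∀ l : Idx Z f U', Algebra Γ(X, U') (Cl Z f U' l) := algC Z f U'
    letI := (p.appLE W₀ U' eU).hom.toAlgebra
    JI (R := Γ(X, U')) (M := Γ(X, U')) (fun l => Algebra.linearMap Γ(X, U') (Cl Z f U' l))
      (Γ(X, U') ⊗[Γ(S, W₀)] (hW₀.primeIdealOf x).asIdeal.ResidueField) := by
  let _ : ∀ l : Idx Z f U', Algebra Γ(X, U') (Cl Z f U' l) := algC Z f U'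
  obtain ⟨s, hs⟩ := x
  have H : IsPullback (p.fiberι s) (p.fiberToSpecResidueField s) p (S.fromSpecResidueField s) :=
    IsPullback.of_hasPullback p (S.fromSpecResidueField s)
  let T : (Spec (S.residueField s)).Opens := ⊤
  have hT : IsAffineOpen T := isAffineOpen_top _
  have eT : T ≤ (S.fromSpecResidueField s) ⁻¹ᵁ W₀ := top_le_fromSpecResidueField_preimage s W₀ hs
  let O : (p.fiber s).Opens := p.fiberι s ⁻¹ᵁ U' ⊓ p.fiberToSpecResidueField s ⁻¹ᵁ T
  have hOdef : O = p.fiberι s ⁻¹ᵁ U' ⊓ p.fiberToSpecResidueField s ⁻¹ᵁ T := rfl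
  have e1 : O ≤ p.fiberι s ⁻¹ᵁ U' := inf_le_left
  have e2 : O ≤ p.fiberToSpecResidueField s ⁻¹ᵁ T := inf_le_right
  have hiso := isIso_pushoutSection_of_isAffineOpen H eT eU hOdef hW₀ hT hU'
  have hpush := (isIso_pushoutSection_iff H eT eU hOdef).mp hiso
  have hO : IsAffineOpen O := by
    have : IsAffine (Scheme.Opens.toScheme W₀) := hW₀
    have : IsAffine (Scheme.Opens.toScheme T) := hT
    have : IsAffine (Scheme.Opens.toScheme U') := hU'
    exact .of_isIso (Scheme.Hom.isPullback_resLE H eT eU hOdef).isoPullback.hom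
  have hJ := JI_of_dominant_pullback Z f (p.fiberι s) hfib U' O hO e1
  algebraize [(p.appLE W₀ U' eU).hom, ((S.fromSpecResidueField s).appLE W₀ T eT).hom,
    ((p.fiberι s).appLE U' O e1).hom, ((p.fiberToSpecResidueField s).appLE T O e2).hom,
    (((p.fiberι s).appLE U' O e1).hom.comp (p.appLE W₀ U' eU).hom)]
  have t1 : IsScalarTower Γ(S, W₀) Γ(X, U') Γ(p.fiber s, O) := .of_algebraMap_eq' rfl
  have t2 : IsScalarTower Γ(S, W₀) Γ(Spec (S.residueField s), T) Γ(p.fiber s, O) :=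
    .of_algebraMap_eq' congr($(hpush.w).hom)
  have hP : Algebra.IsPushout Γ(S, W₀) Γ(X, U') Γ(Spec (S.residueField s), T) Γ(p.fiber s, O) :=
    CommRingCat.isPushout_iff_isPushout.mp hpush
  have hJ2 := JI.tensor_of_isPushout (A := Γ(S, W₀)) (B₀ := Γ(Spec (S.residueField s), T)) hJ
  obtain ⟨e⟩ := exists_residueField_algEquiv hW₀ s hs
  exact JI.tensor_congr e hJ2



theorem local_claim_fib {X S S' : Scheme.{u}} [IsLocallyNoetherian X] (p : X ⟶ S) (g : S' ⟶ S)
    {ι : Type u} (Z : ι → Scheme.{u}) (f : ∀ i, Z i ⟶ X) [∀ i, Flat (f i ≫ p)]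
    (hfib : ∀ s : S, ∀ (V : (p.fiber s).Opens) (t : Γ(p.fiber s, V)),
      (∀ i, (pullback.snd (f i) (p.fiberι s)).app V t = 0) → t = 0)
    (W₀ : S.Opens) (hW₀ : IsAffineOpen W₀)
    (U' : X.Opens) (hU' : IsAffineOpen U') (eU : U' ≤ p ⁻¹ᵁ W₀)
    (T : S'.Opens) (hT : IsAffineOpen T) (eT : T ≤ g ⁻¹ᵁ W₀)
    (O : (pullback p g).Opens) (hOdef : O = pullback.fst p g ⁻¹ᵁ U' ⊓ pullback.snd p g ⁻¹ᵁ T)
    (r : Γ(pullback p g, O))
    (V : (pullback p g).Opens) (hWV : (pullback p g).basicOpen r ≤ V) (t : Γ(pullback p g, V))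
    (ht : ∀ i, (pullback.snd (f i) (pullback.fst p g)).app V t = 0) :
    (pullback p g).presheaf.map (homOfLE hWV).op t = 0 := by
  have H : IsPullback (pullback.fst p g) (pullback.snd p g) p g := IsPullback.of_hasPullback p g
  have e1 : O ≤ pullback.fst p g ⁻¹ᵁ U' := hOdef ▸ inf_le_left
  have e2 : O ≤ pullback.snd p g ⁻¹ᵁ T := hOdef ▸ inf_le_right
  have hiso := isIso_pushoutSection_of_isAffineOpen H eT eU hOdef hW₀ hT hU'
  have hpush := (isIso_pushoutSection_iff H eT eU hOdef).mp hiso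
  have hO : IsAffineOpen O := by
    have : IsAffine (Scheme.Opens.toScheme W₀) := hW₀
    have : IsAffine (Scheme.Opens.toScheme T) := hT
    have : IsAffine (Scheme.Opens.toScheme U') := hU'
    exact .of_isIso (Scheme.Hom.isPullback_resLE H eT eU hOdef).isoPullback.hom
  have hW' : IsAffineOpen ((pullback p g).basicOpen r) := hO.basicOpen r
  have hW'O : (pullback p g).basicOpen r ≤ O := (pullback p g).basicOpen_le r
  have e : (pullback p g).basicOpen r ≤ pullback.fst p g ⁻¹ᵁ U' := hW'O.trans e1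
  have hloc : IsLocalization.Away r Γ(pullback p g, (pullback p g).basicOpen r) :=
    hO.isLocalization_basicOpen r
  have hNoeth : IsNoetherianRing Γ(X, U') := IsLocallyNoetherian.component_noetherian ⟨U', hU'⟩
  algebraize [(p.appLE W₀ U' eU).hom, (g.appLE W₀ T eT).hom, ((pullback.fst p g).appLE U' O e1).hom,
    ((pullback.snd p g).appLE T O e2).hom,
    (((pullback.fst p g).appLE U' O e1).hom.comp (p.appLE W₀ U' eU).hom),
    ((pullback.fst p g).appLE U' ((pullback p g).basicOpen r) e).hom]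
  have t1 : IsScalarTower Γ(S, W₀) Γ(X, U') Γ(pullback p g, O) := .of_algebraMap_eq' rfl
  have t2 : IsScalarTower Γ(S, W₀) Γ(S', T) Γ(pullback p g, O) :=
    .of_algebraMap_eq' congr($(hpush.w).hom)
  have hP : Algebra.IsPushout Γ(S, W₀) Γ(X, U') Γ(S', T) Γ(pullback p g, O) :=
    CommRingCat.isPushout_iff_isPushout.mp hpush
  have t3 : IsScalarTower Γ(X, U') Γ(pullback p g, O)
      Γ(pullback p g, (pullback p g).basicOpen r) := by
    refine .of_algebraMap_eq' ?_
    change ((pullback.fst p g).appLE U' ((pullback p g).basicOpen r) e).hom =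
      (((pullback p g).presheaf.map (homOfLE hW'O).op).hom).comp
        ((pullback.fst p g).appLE U' O e1).hom
    rw [← CommRingCat.hom_comp, Scheme.Hom.appLE_map]
  let _ : ∀ l : Idx Z f U', Algebra Γ(X, U') (Cl Z f U' l) := algC Z f U'
  let _ : ∀ l : Idx Z f U', Algebra Γ(S, W₀) (Cl Z f U' l) := fun l =>
    ((algebraMap Γ(X, U') (Cl Z f U' l)).comp (algebraMap Γ(S, W₀) Γ(X, U'))).toAlgebra
  have tw : ∀ l : Idx Z f U', IsScalarTower Γ(S, W₀) Γ(X, U') (Cl Z f U' l) :=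
    fun l => .of_algebraMap_eq' rfl
  have hflat : ∀ l : Idx Z f U', Module.Flat Γ(S, W₀) (Cl Z f U' l) := by
    intro l
    have h1 : ((f l.1 ≫ p).appLE W₀ l.2.1
        (l.2.2.2.trans ((f l.1).preimage_mono eU))).hom.Flat :=
      HasRingHomProperty.appLE @Flat (f l.1 ≫ p) inferInstance ⟨W₀, hW₀⟩ ⟨l.2.1, l.2.2.1⟩ _
    have h2 : (f l.1 ≫ p).appLE W₀ l.2.1 (l.2.2.2.trans ((f l.1).preimage_mono eU)) =
        p.appLE W₀ U' eU ≫ (f l.1).appLE U' l.2.1 l.2.2.2 :=
      (Scheme.Hom.appLE_comp_appLE ..).symm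
    rw [h2] at h1
    exact h1
  have Hfib : ∀ (𝔭 : Ideal Γ(S, W₀)) [𝔭.IsPrime],
      JI (R := Γ(X, U')) (M := Γ(X, U')) (fun l => Algebra.linearMap Γ(X, U') (Cl Z f U' l))
        (Γ(X, U') ⊗[Γ(S, W₀)] 𝔭.ResidueField) := by
    intro 𝔭 h𝔭
    have := JI_residueField_of_fibre p Z f W₀ hW₀ U' hU' eU (pointOfPrime hW₀ ⟨𝔭, h𝔭⟩) (hfib _)
    rw [primeIdealOf_pointOfPrime] at this
    exact this
  have hJI := JI_of_fibrewise Hfib Γ(S', T)
  have hJP : JI (R := Γ(X, U')) (M := Γ(X, U'))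
      (fun l => Algebra.linearMap Γ(X, U') (Cl Z f U' l)) Γ(pullback p g, O) :=
    JI.of_isPushout (A := Γ(S, W₀)) (B₀ := Γ(S', T)) hJI
  have hx := hJP.eq_zero_of_away r Γ(pullback p g, (pullback p g).basicOpen r)
    (((pullback p g).presheaf.map (homOfLE hWV).op t) ⊗ₜ[Γ(X, U')] (1 : Γ(X, U'))) ?_
  · have := congrArg (TensorProduct.rid _ _) hx
    simpa using this
  · intro l
    rw [LinearMap.lTensor_tmul, Algebra.linearMap_apply, map_one]
    have h1 := one_tmul_eq_zero (f l.1) (pullback.fst p g) U' hU' l.2.1 l.2.2.1 l.2.2.2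
      ((pullback p g).basicOpen r) hW' e V hWV t (ht l.1)
    have := congrArg (TensorProduct.comm _ _ _) h1
    simpa using this

/-- **EGA IV 11.10.9 (⇐)**: fibrewise schematic dominance implies schematic dominance after every
base change (projection form). -/
theorem schDominant_baseChange_of_fibrewise {X S S' : Scheme.{u}} [IsLocallyNoetherian X]
    (p : X ⟶ S) (g : S' ⟶ S)
    {ι : Type u} (Z : ι → Scheme.{u}) (f : ∀ i, Z i ⟶ X) [∀ i, Flat (f i ≫ p)]
    (hfib : ∀ s : S, ∀ (V : (p.fiber s).Opens) (t : Γ(p.fiber s, V)),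
      (∀ i, (pullback.snd (f i) (p.fiberι s)).app V t = 0) → t = 0)
    (V : (pullback p g).Opens) (t : Γ(pullback p g, V))
    (ht : ∀ i, (pullback.snd (f i) (pullback.fst p g)).app V t = 0) : t = 0 := by
  refine TopCat.Presheaf.section_ext (pullback p g).sheaf V t 0 (fun x hx => ?_)
  change (pullback p g).presheaf.germ V x hx t = (pullback p g).presheaf.germ V x hx 0
  rw [map_zero]
  obtain ⟨W₀, hW₀, hxW₀, -⟩ := exists_isAffineOpen_mem_and_subset
    (x := p ((pullback.fst p g) x)) (U := ⊤) trivial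
  have hxW₀' : g ((pullback.snd p g) x) ∈ W₀ := by
    rw [← Scheme.Hom.comp_apply, ← pullback.condition, Scheme.Hom.comp_apply]
    exact hxW₀
  obtain ⟨U', hU', hxU', eU⟩ := exists_isAffineOpen_mem_and_subset
    (x := (pullback.fst p g) x) (U := p ⁻¹ᵁ W₀) hxW₀
  obtain ⟨T, hT, hxT, eT⟩ := exists_isAffineOpen_mem_and_subset
    (x := (pullback.snd p g) x) (U := g ⁻¹ᵁ W₀) hxW₀'
  have H : IsPullback (pullback.fst p g) (pullback.snd p g) p g := IsPullback.of_hasPullback p g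
  have hO : IsAffineOpen (pullback.fst p g ⁻¹ᵁ U' ⊓ pullback.snd p g ⁻¹ᵁ T) := by
    have : IsAffine (Scheme.Opens.toScheme W₀) := hW₀
    have : IsAffine (Scheme.Opens.toScheme T) := hT
    have : IsAffine (Scheme.Opens.toScheme U') := hU'
    exact .of_isIso (Scheme.Hom.isPullback_resLE H eT eU rfl).isoPullback.hom
  obtain ⟨r, hrV, hxr⟩ := hO.exists_basicOpen_le ⟨x, hx⟩ ⟨hxU', hxT⟩
  rw [← TopCat.Presheaf.germ_res_apply (pullback p g).presheaf (homOfLE hrV) x hxr t,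
    local_claim_fib p g Z f hfib W₀ hW₀ U' hU' eU T hT eT _ rfl r V hrV t ht, map_zero]

/-- composing with an isomorphism at the source does not change vanishing of pullbacks of
sections. -/
theorem iso_comp_app_eq_zero_iff {P P' Y : Scheme.{u}} (e : P' ≅ P) (h : P ⟶ Y) (V : Y.Opens)
    (t : Γ(Y, V)) : (e.hom ≫ h).app V t = 0 ↔ h.app V t = 0 := by
  rw [Scheme.Hom.comp_app]
  change (Scheme.Hom.app e.hom _).hom ((Scheme.Hom.app h V).hom t) = 0 ↔ _
  have hinj : Function.Injective (e.hom.app (h ⁻¹ᵁ V)) :=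
    ((ConcreteCategory.isIso_iff_bijective (e.hom.app (h ⁻¹ᵁ V))).mp inferInstance).injective
  constructor
  · intro h0
    exact hinj (h0.trans (map_zero _).symm)
  · intro h0
    rw [h0, map_zero]

theorem snd_eq_iso_comp_map {X S S' Zi : Scheme.{u}} (p : X ⟶ S) (g : S' ⟶ S) (fi : Zi ⟶ X) :
    pullback.snd fi (pullback.fst p g) =
      (pullbackRightPullbackFstIso p g fi).hom ≫
        pullback.map (fi ≫ p) g p g fi (𝟙 S') (𝟙 S) (Category.comp_id _)
          ((Category.comp_id _).trans (Category.id_comp _).symm) := by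
  apply pullback.hom_ext
  · rw [Category.assoc, pullback.map, pullback.lift_fst,
      pullbackRightPullbackFstIso_hom_fst_assoc, pullback.condition]
  · rw [Category.assoc, pullback.map, pullback.lift_snd, Category.comp_id,
      pullbackRightPullbackFstIso_hom_snd]

theorem fiberMap_eq_map {X S Zi : Scheme.{u}} (p : X ⟶ S) (fi : Zi ⟶ X) (s : S) :
    MoreMor.fiberMap fi p s =
      pullback.map (fi ≫ p) (S.fromSpecResidueField s) p (S.fromSpecResidueField s) fi
        (𝟙 _) (𝟙 S) (Category.comp_id _)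
          ((Category.comp_id _).trans (Category.id_comp _).symm) := by
  unfold MoreMor.fiberMap
  apply pullback.hom_ext
  · exact (pullback.lift_fst _ _ _).trans (pullback.lift_fst _ _ _).symm
  · exact (pullback.lift_snd _ _ _).trans
      ((pullback.lift_snd _ _ _).trans (Category.comp_id _)).symm


theorem snd_fiberι_eq_iso_comp_fiberMap {X S Zi : Scheme.{u}} (p : X ⟶ S) (fi : Zi ⟶ X) (s : S) :
    pullback.snd fi (p.fiberι s) =
      (pullbackRightPullbackFstIso p (S.fromSpecResidueField s) fi).hom ≫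
        MoreMor.fiberMap fi p s := by
  rw [fiberMap_eq_map]
  exact snd_eq_iso_comp_map p _ fi

end Groth.Agent.Lib.Helper24.FibGlue
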