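import Mathlib
import Groth.Agent.Lib.Helper20.SepPull
import Groth.Agent.Lib.Helper12.FlatOverSections
import Groth.Agent.Lib.Helper24.SepNilp

set_option autoImplicit false
universe u
open TensorProduct AlgebraicGeometry CategoryTheory CategoryTheory.Limits

namespace Groth.Agent.Lib.Helper24.SepConv

open Groth.Agent.Lib.Helper20.SchDenseFlat Groth.Agent.Lib.Helper20.SepChart
  Groth.Agent.Lib.Helper16.FlatPull Groth.Agent.Lib.Helper49
  Groth.Agent.Lib.Helper11.PullbackChart Groth.Agent.Lib.Helper11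
  Groth.Agent.Lib.Helper24.SepNilp

section Chart

variable {X' X : Scheme.{u}} (g : X' ⟶ X) {U : X.Opens} (hU : IsAffineOpen U) {W : X'.Opens}
  (hW : IsAffineOpen W) (hWU : W ≤ g ⁻¹ᵁ U) {F : X.Modules} [F.IsQuasicoherent]
  {ι : Type u} {G : ι → X.Modules} [∀ i, (G i).IsQuasicoherent] (u : ∀ i, F ⟶ G i)

include hW in
/-- Converse of `eq_zero_of_chart`: if the pulled back family is separating, then on affine charts
the extended family is jointly injective. -/
theorem chart_of_isSeparating_pullback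
    (h : IsSeparating (fun i => (Scheme.Modules.pullback g).map (u i)))
    (x : ((ModuleCat.extendScalars (g.appLE U W hWU).hom).obj ((ΓU hU).obj F)))
    (hx : ∀ i,
      ((ModuleCat.extendScalars (g.appLE U W hWU).hom).map ((ΓU hU).map (u i))).hom x = 0) :
    x = 0 := by
  have hbij := ConcreteCategory.bijective_of_isIso (sectionsArrowIso g hU hW hWU (𝟙 F)).hom.left
  obtain ⟨t₁, rfl⟩ := hbij.2 x
  have h1 : ∀ i, ((ΓU hW).map ((Scheme.Modules.pullback g).map (u i))).hom t₁ = 0 := by
    intro i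
    have hw := sectionsArrowIso_w g hU hW hWU (u i) t₁
    rw [hx i] at hw
    have hinj : Function.Injective (sectionsArrowIso g hU hW hWU (u i)).hom.right.hom :=
      (ConcreteCategory.bijective_of_isIso (sectionsArrowIso g hU hW hWU (u i)).hom.right).1
    exact hinj (hw.symm.trans (map_zero _).symm)
  have h2 : sectionsFromSpecTopEquiv hW _ t₁ = 0 := by
    refine h W _ (fun i => ?_)
    exact (ΓU_map_eq_zero_iff hW _ t₁).mp (h1 i)
  have h3 : t₁ = 0 :=
    (sectionsFromSpecTopEquiv hW ((Scheme.Modules.pullback g).obj F)).injective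
      (h2.trans (map_zero _).symm)
  rw [h3, map_zero]

end Chart

/-- transfer of flatness along an isomorphism of base rings and an isomorphism of modules -/
theorem flat_compHom_of_flat_compHom {A A₀ R : Type u} [CommRing A] [CommRing A₀] [CommRing R]
    (e : A →+* A₀) (he : Function.Bijective e) (f : A₀ →+* R) {N N' : Type u} [AddCommGroup N]
    [Module R N] [AddCommGroup N'] [Module R N'] (ε : N ≃ₗ[R] N')
    (h : letI := Module.compHom N' f; Module.Flat A₀ N') :
    letI := Module.compHom N (f.comp e); Module.Flat A N := by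
  let m1 : Module A₀ N' := Module.compHom N' f
  let m2 : Module A₀ N := Module.compHom N f
  let m3 : Module A N := Module.compHom N (f.comp e)
  let alg : Algebra A A₀ := e.toAlgebra
  let alg2 : Algebra A₀ R := f.toAlgebra
  have t1 : IsScalarTower A₀ R N := IsScalarTower.of_compHom _ _ _
  have t2 : IsScalarTower A₀ R N' := IsScalarTower.of_compHom _ _ _
  have t3 : IsScalarTower A A₀ N := ⟨fun a b n => by
    change f (e a • b) • n = (f (e a)) • (f b • n)
    rw [smul_eq_mul, map_mul, mul_smul]⟩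
  have hN' : Module.Flat A₀ N' := h
  have hN : Module.Flat A₀ N := Module.Flat.of_linearEquiv (ε.restrictScalars A₀)
  exact (Groth.Agent.Lib.Helper12.FlatOver.flat_iff_of_bijective he N).mp hN


/-- pure-algebra interface: pushout form of `jointInj_of_nilpotent` -/
theorem jointInj_of_nilpotent_of_isPushout {K R P : Type u} [CommRing K] [CommRing R] [CommRing P]
    (J : Ideal K) [Algebra K R] [Algebra R P] [Algebra (K ⧸ J) P] [Algebra K P]
    [IsScalarTower K R P] [IsScalarTower K (K ⧸ J) P] [Algebra.IsPushout K (K ⧸ J) R P]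
    (hJ : IsNilpotent J) (hfree : ∀ k : ℕ, Module.Free (K ⧸ J) ((K ⧸ J) ⊗[K] ↥(J ^ k)))
    {M : Type u} [AddCommGroup M] [Module R M] [Module K M] [IsScalarTower K R M]
    {Λ : Type u} {Nl : Λ → Type u} [∀ l, AddCommGroup (Nl l)] [∀ l, Module R (Nl l)]
    [∀ l, Module K (Nl l)] [∀ l, IsScalarTower K R (Nl l)] [∀ l, Module.Flat K (Nl l)]
    (ψ : ∀ l, M →ₗ[R] Nl l)
    (H : ∀ x : P ⊗[R] M, (∀ l, (ψ l).lTensor P x = 0) → x = 0)
    (m : M) (hm : ∀ l, ψ l m = 0) : m = 0 := by
  refine jointInj_of_nilpotent (ψ := fun l => (ψ l).restrictScalars K) J hJ hfree ?_ m hm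
  intro y hy
  let e := Algebra.IsPushout.cancelBaseChange K (K ⧸ J) R P M
  have key : e.symm y = 0 := by
    apply H
    intro l
    have hnat : ∀ z : (K ⧸ J) ⊗[K] M, (ψ l).lTensor P
        ((Algebra.IsPushout.cancelBaseChange K (K ⧸ J) R P M).symm z) =
        (Algebra.IsPushout.cancelBaseChange K (K ⧸ J) R P (Nl l)).symm
          (((ψ l).restrictScalars K).lTensor (K ⧸ J) z) := by
      intro z
      induction z using TensorProduct.induction_on with
      | zero => simp only [map_zero]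
      | tmul s m =>
        rw [Algebra.IsPushout.cancelBaseChange_symm_tmul, LinearMap.lTensor_tmul,
          LinearMap.lTensor_tmul, Algebra.IsPushout.cancelBaseChange_symm_tmul]
        rfl
      | add z₁ z₂ h₁ h₂ => simp only [map_add, h₁, h₂]
    rw [hnat, hy l, map_zero]
  exact e.symm.injective (key.trans (map_zero _).symm)


set_option maxHeartbeats 1600000 in
theorem local_claim_nilp {X : Scheme.{u}} (A : CommRingCat.{u}) (p : X ⟶ Spec A)
    (J : Ideal ↑A) (hJ : IsNilpotent J)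
    (hfree : ∀ k : ℕ, Module.Free (↑A ⧸ J) ((↑A ⧸ J) ⊗[↑A] ↥(J ^ k)))
    {F : X.Modules} [F.IsQuasicoherent] {ι : Type u} {G : ι → X.Modules}
    [∀ i, (G i).IsQuasicoherent]
    (hG : ∀ i, FlatMod.IsFlatOver p (G i)) (u : ∀ i, F ⟶ G i)
    (h0 : IsSeparating (fun i => (Scheme.Modules.pullback
      (pullback.fst p (Spec.map (CommRingCat.ofHom (Ideal.Quotient.mk J))))).map (u i)))
    (U' : X.Opens) (hU' : IsAffineOpen U') (t : Γ(F, U')) (ht : ∀ i, (u i).app U' t = 0) :
    t = 0 := by
  let φ : A ⟶ CommRingCat.of (↑A ⧸ J) := CommRingCat.ofHom (Ideal.Quotient.mk J)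
  let q : Spec (CommRingCat.of (↑A ⧸ J)) ⟶ Spec A := Spec.map φ
  have H : IsPullback (pullback.fst p q) (pullback.snd p q) p q := IsPullback.of_hasPullback p q
  let W₀ : (Spec A).Opens := ⊤
  let T : (Spec (CommRingCat.of (↑A ⧸ J))).Opens := ⊤
  have hW₀ : IsAffineOpen W₀ := isAffineOpen_top _
  have hT : IsAffineOpen T := isAffineOpen_top _
  let O : (pullback p q).Opens := pullback.fst p q ⁻¹ᵁ U' ⊓ pullback.snd p q ⁻¹ᵁ T
  have hOdef : O = pullback.fst p q ⁻¹ᵁ U' ⊓ pullback.snd p q ⁻¹ᵁ T := rfl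
  have eT : T ≤ q ⁻¹ᵁ W₀ := fun _ _ => trivial
  have eU : U' ≤ p ⁻¹ᵁ W₀ := fun _ _ => trivial
  have e1 : O ≤ pullback.fst p q ⁻¹ᵁ U' := inf_le_left
  have e2 : O ≤ pullback.snd p q ⁻¹ᵁ T := inf_le_right
  have hiso := isIso_pushoutSection_of_isAffineOpen H eT eU hOdef hW₀ hT hU'
  have hpush := (isIso_pushoutSection_iff H eT eU hOdef).mp hiso
  have hO : IsAffineOpen O := by
    have : IsAffine (Scheme.Opens.toScheme W₀) := hW₀
    have : IsAffine (Scheme.Opens.toScheme T) := hT
    have : IsAffine (Scheme.Opens.toScheme U') := hU'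
    exact .of_isIso (Scheme.Hom.isPullback_resLE H eT eU hOdef).isoPullback.hom
  -- the ring maps from `A` and `A/J`
  let a₁ : A ⟶ Γ(X, U') := (Scheme.ΓSpecIso A).inv ≫ p.appLE W₀ U' eU
  let a₂ : CommRingCat.of (↑A ⧸ J) ⟶ Γ(pullback p q, O) :=
    (Scheme.ΓSpecIso (CommRingCat.of (↑A ⧸ J))).inv ≫ (pullback.snd p q).appLE T O e2
  have hpush' : IsPushout a₁ φ ((pullback.fst p q).appLE U' O e1) a₂ := by
    have hcomm : (Scheme.ΓSpecIso A).inv ≫ q.appLE W₀ T eT =
        φ ≫ (Scheme.ΓSpecIso (CommRingCat.of (↑A ⧸ J))).inv := by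
      have h1 : q.appLE W₀ T eT = q.appTop := q.appLE_eq_app
      rw [h1]
      exact (Scheme.ΓSpecIso_inv_naturality φ).symm
    have hsq : IsPushout (Scheme.ΓSpecIso A).inv φ (q.appLE W₀ T eT)
        (Scheme.ΓSpecIso (CommRingCat.of (↑A ⧸ J))).inv := IsPushout.of_horiz_isIso ⟨hcomm⟩
    exact hsq.paste_horiz hpush
  -- algebra structures
  let algKR : Algebra ↑A Γ(X, U') := a₁.hom.toAlgebra
  let algRP : Algebra Γ(X, U') Γ(pullback p q, O) :=
    ((pullback.fst p q).appLE U' O e1).hom.toAlgebra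
  let algK'P : Algebra (↑A ⧸ J) Γ(pullback p q, O) := a₂.hom.toAlgebra
  let algKP : Algebra ↑A Γ(pullback p q, O) :=
    (((pullback.fst p q).appLE U' O e1).hom.comp a₁.hom).toAlgebra
  have t1 : IsScalarTower ↑A Γ(X, U') Γ(pullback p q, O) := .of_algebraMap_eq' rfl
  have t2 : IsScalarTower ↑A (↑A ⧸ J) Γ(pullback p q, O) :=
    .of_algebraMap_eq' congr($(hpush'.w).hom)
  have hP : Algebra.IsPushout ↑A Γ(X, U') (↑A ⧸ J) Γ(pullback p q, O) :=
    CommRingCat.isPushout_iff_isPushout.mp hpush'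
  have hP' : Algebra.IsPushout ↑A (↑A ⧸ J) Γ(X, U') Γ(pullback p q, O) := hP.symm
  -- module structures over `A`
  let modM : Module ↑A ((ΓU hU').obj F) := Module.compHom _ (algebraMap ↑A Γ(X, U'))
  have tM : IsScalarTower ↑A Γ(X, U') ((ΓU hU').obj F) := IsScalarTower.of_compHom _ _ _
  let modN : ∀ i, Module ↑A ((ΓU hU').obj (G i)) := fun i =>
    Module.compHom _ (algebraMap ↑A Γ(X, U'))
  have tN : ∀ i, IsScalarTower ↑A Γ(X, U') ((ΓU hU').obj (G i)) := fun i =>
    IsScalarTower.of_compHom _ _ _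
  have flatN : ∀ i, Module.Flat ↑A ((ΓU hU').obj (G i)) := fun i => by
    have hfl := Groth.Agent.Lib.Helper12.FlatOver.flat_sections_of_isFlatOverAt p (G i) hW₀ hU' eU
      (fun x => hG i x)
    exact flat_compHom_of_flat_compHom (Scheme.ΓSpecIso A).inv.hom
      (ConcreteCategory.bijective_of_isIso (Scheme.ΓSpecIso A).inv) (p.appLE W₀ U' eU).hom
      (sectionsFromSpecTopEquiv hU' (G i)) hfl
  -- the section
  obtain ⟨t₁, rfl⟩ := (sectionsFromSpecTopEquiv hU' F).surjective t
  have ht₁ : ∀ i, ((ΓU hU').map (u i)).hom t₁ = 0 := fun i =>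
    (ΓU_map_eq_zero_iff hU' (u i) t₁).mpr (ht i)
  have key : t₁ = 0 := by
    refine jointInj_of_nilpotent_of_isPushout (K := ↑A) (R := Γ(X, U'))
      (P := Γ(pullback p q, O)) J hJ hfree
      (M := (ΓU hU').obj F) (Nl := fun i => (ΓU hU').obj (G i))
      (fun i => ((ΓU hU').map (u i)).hom) ?_ t₁ ht₁
    intro x hx
    have h3 := chart_of_isSeparating_pullback (pullback.fst p q) hU' hO e1 u h0
      ((extEquiv ((pullback.fst p q).appLE U' O e1).hom ((ΓU hU').obj F)).symm x) (fun i => ?_)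
    · have := congrArg (extEquiv ((pullback.fst p q).appLE U' O e1).hom ((ΓU hU').obj F)) h3
      rw [LinearEquiv.apply_symm_apply, map_zero] at this
      exact this
    · have h4 := lTensor_extEquiv ((pullback.fst p q).appLE U' O e1).hom ((ΓU hU').map (u i))
        ((extEquiv ((pullback.fst p q).appLE U' O e1).hom ((ΓU hU').obj F)).symm x)
      rw [LinearEquiv.apply_symm_apply] at h4
      have h5 : (extEquiv ((pullback.fst p q).appLE U' O e1).hom ((ΓU hU').obj (G i)))
          (((ModuleCat.extendScalars ((pullback.fst p q).appLE U' O e1).hom).map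
            ((ΓU hU').map (u i))).hom
            ((extEquiv ((pullback.fst p q).appLE U' O e1).hom ((ΓU hU').obj F)).symm x)) = 0 :=
        h4.symm.trans (hx i)
      exact (extEquiv ((pullback.fst p q).appLE U' O e1).hom ((ΓU hU').obj (G i))).injective
        (h5.trans (map_zero _).symm)
  rw [key, map_zero]


/-- **EGA IV 11.9.x** (affine base, free graded pieces, case `Z_λ = X`). -/
theorem isSeparating_of_nilp {X : Scheme.{u}} (A : CommRingCat.{u}) (p : X ⟶ Spec A)
    (J : Ideal ↑A) (hJ : IsNilpotent J)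
    (hfree : ∀ k : ℕ, Module.Free (↑A ⧸ J) ((↑A ⧸ J) ⊗[↑A] ↥(J ^ k)))
    {F : X.Modules} [F.IsQuasicoherent] {ι : Type u} {G : ι → X.Modules}
    [∀ i, (G i).IsQuasicoherent]
    (hG : ∀ i, FlatMod.IsFlatOver p (G i)) (u : ∀ i, F ⟶ G i)
    (h0 : IsSeparating (fun i => (Scheme.Modules.pullback
      (pullback.fst p (Spec.map (CommRingCat.ofHom (Ideal.Quotient.mk J))))).map (u i))) :
    IsSeparating u := by
  refine isSeparating_of_basis u _ X.isBasis_affineOpens ?_
  intro W hW t ht
  exact local_claim_nilp A p J hJ hfree hG u h0 W hW t ht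

end Groth.Agent.Lib.Helper24.SepConv
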