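/-
Helper library (helper24): EGA IV 11.9.16 (case Z_λ = X) — fibrewise separating families are
universally separating (X locally Noetherian, F coherent, G_i flat over S).
-/
import Mathlib
import Groth.Agent.Lib.Helper24.FibGlue
import Groth.Agent.Lib.Helper24.SepConv
import Groth.Agent.Lib.Helper49.FiniteTypeAffine

set_option autoImplicit false
universe u
open CategoryTheory CategoryTheory.Limits AlgebraicGeometry TopologicalSpace TensorProduct

namespace Groth.Agent.Lib.Helper24.FibGlueMod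

open Groth.Agent.Lib.Helper20.SchDenseFlat Groth.Agent.Lib.Helper24.FibConv
  Groth.Agent.Lib.Helper12.FlatOver Groth.Agent.Lib.Helper24.FibGlue
  Groth.Agent.Lib.Helper20.SepChart Groth.Agent.Lib.Helper16.FlatPull Groth.Agent.Lib.Helper49
  Groth.Agent.Lib.Helper11.PullbackChart Groth.Agent.Lib.Helper11 Groth.Agent.Lib.Helper24.SepConv

section Away

variable {R : Type u} [CommRing R] {M : Type u} [AddCommGroup M] [Module R M]
  {Λ : Type u} {Nl : Λ → Type u} [∀ l, AddCommGroup (Nl l)] [∀ l, Module R (Nl l)]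
  {ψ : ∀ l, M →ₗ[R] Nl l}

/-- `JI` from the local forms over arbitrary models of the localizations. -/
theorem JI.of_away' {P' : Type u} [CommRing P'] [Algebra R P']
    (h : ∀ g : P', ∃ (Ph : Type u) (_ : CommRing Ph) (_ : Algebra P' Ph) (_ : Algebra R Ph)
      (_ : IsScalarTower R P' Ph) (_ : IsLocalization.Away g Ph),
      ∀ x : Ph ⊗[R] M, (∀ l, (ψ l).lTensor Ph x = 0) → x = 0) : JI ψ P' := by
  intro g n hn
  obtain ⟨Ph, _, _, _, _, _, hPh⟩ := h g
  let φ : P' →ₗ[P'] Ph := Algebra.linearMap P' Ph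
  have hlocM : IsLocalizedModule (Submonoid.powers g) (AlgebraTensorModule.rTensor R M φ) :=
    inferInstance
  have h0 : AlgebraTensorModule.rTensor R M φ n = 0 := by
    apply hPh
    intro l
    rw [lTensor_rTensor_comm']
    have hlocN : IsLocalizedModule (Submonoid.powers g)
        (AlgebraTensorModule.rTensor R (Nl l) φ) := inferInstance
    rw [IsLocalizedModule.eq_zero_iff (Submonoid.powers g)
      (AlgebraTensorModule.rTensor R (Nl l) φ)]
    obtain ⟨k, hk⟩ := hn l
    exact ⟨⟨g ^ k, k, rfl⟩, hk⟩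
  obtain ⟨⟨_, m, rfl⟩, hm⟩ := (IsLocalizedModule.eq_zero_iff (Submonoid.powers g)
    (AlgebraTensorModule.rTensor R M φ)).mp h0
  exact ⟨m, hm⟩

end Away

/-- **G-B'**: if the pulled back family on `Y` is separating, then the base change of the family
of sections over `U'` to `Γ(Y, O)` is jointly injective (`JI`). -/
theorem JI_of_isSeparating_pullback {X Y : Scheme.{u}} (j : Y ⟶ X)
    {F : X.Modules} [F.IsQuasicoherent] {ι : Type u} {G : ι → X.Modules}
    [∀ i, (G i).IsQuasicoherent] (u : ∀ i, F ⟶ G i)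
    (h : IsSeparating (fun i => (Scheme.Modules.pullback j).map (u i)))
    (U' : X.Opens) (hU' : IsAffineOpen U') (O : Y.Opens) (hO : IsAffineOpen O)
    (eO : O ≤ j ⁻¹ᵁ U') :
    letI := (j.appLE U' O eO).hom.toAlgebra
    JI (R := Γ(X, U')) (M := (ΓU hU').obj F) (Nl := fun i => (ΓU hU').obj (G i))
      (fun i => ((ΓU hU').map (u i)).hom) Γ(Y, O) := by
  let _ := (j.appLE U' O eO).hom.toAlgebra
  apply JI.of_away'
  intro g
  have hD : Y.basicOpen g ≤ O := Y.basicOpen_le g
  have e : Y.basicOpen g ≤ j ⁻¹ᵁ U' := hD.trans eO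
  have hW : IsAffineOpen (Y.basicOpen g) := hO.basicOpen g
  have hloc : IsLocalization.Away g Γ(Y, Y.basicOpen g) := hO.isLocalization_basicOpen g
  let algRh : Algebra Γ(X, U') Γ(Y, Y.basicOpen g) := (j.appLE U' (Y.basicOpen g) e).hom.toAlgebra
  have t3 : IsScalarTower Γ(X, U') Γ(Y, O) Γ(Y, Y.basicOpen g) := by
    refine .of_algebraMap_eq' ?_
    change (j.appLE U' (Y.basicOpen g) e).hom =
      ((Y.presheaf.map (homOfLE hD).op).hom).comp (j.appLE U' O eO).hom
    rw [← CommRingCat.hom_comp, Scheme.Hom.appLE_map]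
  refine ⟨Γ(Y, Y.basicOpen g), inferInstance, inferInstance, algRh, t3, hloc, ?_⟩
  intro x hx
  have h3 := chart_of_isSeparating_pullback j hU' hW e u h
    ((extEquiv (j.appLE U' (Y.basicOpen g) e).hom ((ΓU hU').obj F)).symm x) (fun i => ?_)
  · have := congrArg (extEquiv (j.appLE U' (Y.basicOpen g) e).hom ((ΓU hU').obj F)) h3
    rw [LinearEquiv.apply_symm_apply, map_zero] at this
    exact this
  · have h4 := lTensor_extEquiv (j.appLE U' (Y.basicOpen g) e).hom ((ΓU hU').map (u i))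
      ((extEquiv (j.appLE U' (Y.basicOpen g) e).hom ((ΓU hU').obj F)).symm x)
    rw [LinearEquiv.apply_symm_apply] at h4
    have h5 : (extEquiv (j.appLE U' (Y.basicOpen g) e).hom ((ΓU hU').obj (G i)))
        (((ModuleCat.extendScalars (j.appLE U' (Y.basicOpen g) e).hom).map
          ((ΓU hU').map (u i))).hom
          ((extEquiv (j.appLE U' (Y.basicOpen g) e).hom ((ΓU hU').obj F)).symm x)) = 0 :=
      h4.symm.trans (hx i)
    exact (extEquiv (j.appLE U' (Y.basicOpen g) e).hom ((ΓU hU').obj (G i))).injective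
      (h5.trans (map_zero _).symm)

set_option linter.style.haveILetI false in
/-- fibrewise separation at the point `x : W₀` gives `JI` over the residue field of its prime. -/
theorem JI_residueField_of_fibre_sep {X S : Scheme.{u}} (p : X ⟶ S)
    {F : X.Modules} [F.IsQuasicoherent] {ι : Type u} {G : ι → X.Modules}
    [∀ i, (G i).IsQuasicoherent] (u : ∀ i, F ⟶ G i)
    (W₀ : S.Opens) (hW₀ : IsAffineOpen W₀) (U' : X.Opens) (hU' : IsAffineOpen U')
    (eU : U' ≤ p ⁻¹ᵁ W₀) (x : W₀)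
    (hfib : IsSeparating (fun i => (Scheme.Modules.pullback (p.fiberι x.1)).map (u i))) :
    letI := (p.appLE W₀ U' eU).hom.toAlgebra
    JI (R := Γ(X, U')) (M := (ΓU hU').obj F) (Nl := fun i => (ΓU hU').obj (G i))
      (fun i => ((ΓU hU').map (u i)).hom)
      (Γ(X, U') ⊗[Γ(S, W₀)] (hW₀.primeIdealOf x).asIdeal.ResidueField) := by
  obtain ⟨s, hs⟩ := x
  have H : IsPullback (p.fiberι s) (p.fiberToSpecResidueField s) p (S.fromSpecResidueField s) :=
    IsPullback.of_hasPullback p (S.fromSpecResidueField s)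
  let T : (Spec (S.residueField s)).Opens := ⊤
  have hT : IsAffineOpen T := isAffineOpen_top _
  have eT : T ≤ (S.fromSpecResidueField s) ⁻¹ᵁ W₀ := top_le_fromSpecResidueField_preimage s W₀ hs
  let O : (p.fiber s).Opens := p.fiberι s ⁻¹ᵁ U' ⊓ p.fiberToSpecResidueField s ⁻¹ᵁ T
  have hOdef : O = p.fiberι s ⁻¹ᵁ U' ⊓ p.fiberToSpecResidueField s ⁻¹ᵁ T := rfl
  have e1 : O ≤ p.fiberι s ⁻¹ᵁ U' := inf_le_left
  have e2 : O ≤ p.fiberToSpecResidueField s ⁻¹ᵁ T := inf_le_right
  have hiso := isIso_pushoutSection_of_isAffineOpen H eT eU hOdef hW₀ hT hU'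
  have hpush := (isIso_pushoutSection_iff H eT eU hOdef).mp hiso
  have hO : IsAffineOpen O := by
    have : IsAffine (Scheme.Opens.toScheme W₀) := hW₀
    have : IsAffine (Scheme.Opens.toScheme T) := hT
    have : IsAffine (Scheme.Opens.toScheme U') := hU'
    exact .of_isIso (Scheme.Hom.isPullback_resLE H eT eU hOdef).isoPullback.hom
  have hJ := JI_of_isSeparating_pullback (p.fiberι s) u hfib U' hU' O hO e1
  algebraize [(p.appLE W₀ U' eU).hom, ((S.fromSpecResidueField s).appLE W₀ T eT).hom,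
    ((p.fiberι s).appLE U' O e1).hom, ((p.fiberToSpecResidueField s).appLE T O e2).hom,
    (((p.fiberι s).appLE U' O e1).hom.comp (p.appLE W₀ U' eU).hom)]
  have t1 : IsScalarTower Γ(S, W₀) Γ(X, U') Γ(p.fiber s, O) := .of_algebraMap_eq' rfl
  have t2 : IsScalarTower Γ(S, W₀) Γ(Spec (S.residueField s), T) Γ(p.fiber s, O) :=
    .of_algebraMap_eq' congr($(hpush.w).hom)
  have hP : Algebra.IsPushout Γ(S, W₀) Γ(X, U') Γ(Spec (S.residueField s), T) Γ(p.fiber s, O) :=
    CommRingCat.isPushout_iff_isPushout.mp hpush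
  have hJ2 := JI.tensor_of_isPushout (A := Γ(S, W₀)) (B₀ := Γ(Spec (S.residueField s), T)) hJ
  obtain ⟨e⟩ := exists_residueField_algEquiv hW₀ s hs
  exact JI.tensor_congr e hJ2

theorem local_claim_fib_sep {X S S' : Scheme.{u}} [IsLocallyNoetherian X] (p : X ⟶ S) (g : S' ⟶ S)
    {F : X.Modules} [F.IsQuasicoherent] (hFft : SheafOfModules.IsFiniteType (R := X.ringCatSheaf) F)
    {ι : Type u} {G : ι → X.Modules} [∀ i, (G i).IsQuasicoherent]
    (hG : ∀ i, FlatMod.IsFlatOver p (G i)) (u : ∀ i, F ⟶ G i)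
    (hfib : ∀ s : S, IsSeparating (fun i => (Scheme.Modules.pullback (p.fiberι s)).map (u i)))
    (W₀ : S.Opens) (hW₀ : IsAffineOpen W₀)
    (U' : X.Opens) (hU' : IsAffineOpen U') (eU : U' ≤ p ⁻¹ᵁ W₀)
    (T : S'.Opens) (hT : IsAffineOpen T) (eT : T ≤ g ⁻¹ᵁ W₀)
    (O : (pullback p g).Opens) (hOdef : O = pullback.fst p g ⁻¹ᵁ U' ⊓ pullback.snd p g ⁻¹ᵁ T)
    (r : Γ(pullback p g, O))
    (t : Γ((Scheme.Modules.pullback (pullback.fst p g)).obj F, (pullback p g).basicOpen r))
    (ht : ∀ i, ((Scheme.Modules.pullback (pullback.fst p g)).map (u i)).app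
      ((pullback p g).basicOpen r) t = 0) : t = 0 := by
  have H : IsPullback (pullback.fst p g) (pullback.snd p g) p g := IsPullback.of_hasPullback p g
  have e1 : O ≤ pullback.fst p g ⁻¹ᵁ U' := hOdef ▸ inf_le_left
  have e2 : O ≤ pullback.snd p g ⁻¹ᵁ T := hOdef ▸ inf_le_right
  have hiso := isIso_pushoutSection_of_isAffineOpen H eT eU hOdef hW₀ hT hU'
  have hpush := (isIso_pushoutSection_iff H eT eU hOdef).mp hiso
  have hO : IsAffineOpen O := by
    have : IsAffine (Scheme.Opens.toScheme W₀) := hW₀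
    have : IsAffine (Scheme.Opens.toScheme T) := hT
    have : IsAffine (Scheme.Opens.toScheme U') := hU'
    exact .of_isIso (Scheme.Hom.isPullback_resLE H eT eU hOdef).isoPullback.hom
  have hW' : IsAffineOpen ((pullback p g).basicOpen r) := hO.basicOpen r
  have hW'O : (pullback p g).basicOpen r ≤ O := (pullback p g).basicOpen_le r
  have e : (pullback p g).basicOpen r ≤ pullback.fst p g ⁻¹ᵁ U' := hW'O.trans e1
  have hloc : IsLocalization.Away r Γ(pullback p g, (pullback p g).basicOpen r) :=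
    hO.isLocalization_basicOpen r
  have hNoeth : IsNoetherianRing Γ(X, U') := IsLocallyNoetherian.component_noetherian ⟨U', hU'⟩
  refine eq_zero_of_chart (pullback.fst p g) hU' hW' e u (fun x hx => ?_) t ht
  algebraize [(p.appLE W₀ U' eU).hom, (g.appLE W₀ T eT).hom, ((pullback.fst p g).appLE U' O e1).hom,
    ((pullback.snd p g).appLE T O e2).hom,
    (((pullback.fst p g).appLE U' O e1).hom.comp (p.appLE W₀ U' eU).hom),
    ((pullback.fst p g).appLE U' ((pullback p g).basicOpen r) e).hom]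
  have t1 : IsScalarTower Γ(S, W₀) Γ(X, U') Γ(pullback p g, O) := .of_algebraMap_eq' rfl
  have t2 : IsScalarTower Γ(S, W₀) Γ(S', T) Γ(pullback p g, O) :=
    .of_algebraMap_eq' congr($(hpush.w).hom)
  have hP : Algebra.IsPushout Γ(S, W₀) Γ(X, U') Γ(S', T) Γ(pullback p g, O) :=
    CommRingCat.isPushout_iff_isPushout.mp hpush
  have t3 : IsScalarTower Γ(X, U') Γ(pullback p g, O)
      Γ(pullback p g, (pullback p g).basicOpen r) := by
    refine .of_algebraMap_eq' ?_
    change ((pullback.fst p g).appLE U' ((pullback p g).basicOpen r) e).hom =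
      (((pullback p g).presheaf.map (homOfLE hW'O).op).hom).comp
        ((pullback.fst p g).appLE U' O e1).hom
    rw [← CommRingCat.hom_comp, Scheme.Hom.appLE_map]
  -- finiteness of `M`
  have hfinF : Module.Finite Γ(X, U') Γ(F, U') := finite_sections_of_isFiniteType F hFft hU'
  have hfin : Module.Finite Γ(X, U') ((ΓU hU').obj F) :=
    Module.Finite.equiv (sectionsFromSpecTopEquiv hU' F).symm
  -- module structures over `A`
  let modN : ∀ i, Module Γ(S, W₀) ((ΓU hU').obj (G i)) := fun i =>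
    Module.compHom _ (algebraMap Γ(S, W₀) Γ(X, U'))
  have tN : ∀ i, IsScalarTower Γ(S, W₀) Γ(X, U') ((ΓU hU').obj (G i)) := fun i =>
    IsScalarTower.of_compHom _ _ _
  have flatN : ∀ i, Module.Flat Γ(S, W₀) ((ΓU hU').obj (G i)) := fun i => by
    have hfl := flat_sections_of_isFlatOverAt p (G i) hW₀ hU' eU (fun x => hG i x)
    let m1 : Module Γ(S, W₀) Γ(G i, U') := Module.compHom _ (p.appLE W₀ U' eU).hom
    have t2' : IsScalarTower Γ(S, W₀) Γ(X, U') Γ(G i, U') := IsScalarTower.of_compHom _ _ _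
    let ε : (ΓU hU').obj (G i) ≃ₗ[Γ(X, U')] Γ(G i, U') := sectionsFromSpecTopEquiv hU' (G i)
    exact Module.Flat.of_linearEquiv (ε.restrictScalars Γ(S, W₀))
  have Hfib : ∀ (𝔭 : Ideal Γ(S, W₀)) [𝔭.IsPrime],
      JI (R := Γ(X, U')) (M := (ΓU hU').obj F) (Nl := fun i => (ΓU hU').obj (G i))
        (fun i => ((ΓU hU').map (u i)).hom) (Γ(X, U') ⊗[Γ(S, W₀)] 𝔭.ResidueField) := by
    intro 𝔭 h𝔭
    have := JI_residueField_of_fibre_sep p u W₀ hW₀ U' hU' eU (pointOfPrime hW₀ ⟨𝔭, h𝔭⟩) (hfib _)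
    rw [primeIdealOf_pointOfPrime] at this
    exact this
  have hJI := JI_of_fibrewise Hfib Γ(S', T)
  have hJP : JI (R := Γ(X, U')) (M := (ΓU hU').obj F) (Nl := fun i => (ΓU hU').obj (G i))
      (fun i => ((ΓU hU').map (u i)).hom) Γ(pullback p g, O) :=
    JI.of_isPushout (A := Γ(S, W₀)) (B₀ := Γ(S', T)) hJI
  have key : extEquiv ((pullback.fst p g).appLE U' ((pullback p g).basicOpen r) e).hom
      ((ΓU hU').obj F) x = 0 := by
    refine hJP.eq_zero_of_away r Γ(pullback p g, (pullback p g).basicOpen r) _ (fun i => ?_)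
    have := lTensor_extEquiv ((pullback.fst p g).appLE U' ((pullback p g).basicOpen r) e).hom
      ((ΓU hU').map (u i)) x
    rw [hx i, map_zero] at this
    exact this
  exact (extEquiv ((pullback.fst p g).appLE U' ((pullback p g).basicOpen r) e).hom
    ((ΓU hU').obj F)).injective (key.trans (map_zero _).symm)

/-- **EGA IV 11.9.16 (⇐), case `Z_λ = X`**: fibrewise separating implies universally separating. -/
theorem isSeparating_pullback_fst_of_fibrewise {X S S' : Scheme.{u}} [IsLocallyNoetherian X]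
    (p : X ⟶ S) (g : S' ⟶ S)
    {F : X.Modules} [F.IsQuasicoherent] (hFft : SheafOfModules.IsFiniteType (R := X.ringCatSheaf) F)
    {ι : Type u} {G : ι → X.Modules} [∀ i, (G i).IsQuasicoherent]
    (hG : ∀ i, FlatMod.IsFlatOver p (G i)) (u : ∀ i, F ⟶ G i)
    (hfib : ∀ s : S, IsSeparating (fun i => (Scheme.Modules.pullback (p.fiberι s)).map (u i))) :
    IsSeparating (fun i => (Scheme.Modules.pullback (pullback.fst p g)).map (u i)) := by
  let B : Set (pullback p g).Opens := {W | ∃ (W₀ : S.Opens) (U' : X.Opens) (T : S'.Opens)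
    (_ : IsAffineOpen W₀) (_ : IsAffineOpen U') (_ : IsAffineOpen T) (_ : U' ≤ p ⁻¹ᵁ W₀)
    (_ : T ≤ g ⁻¹ᵁ W₀)
    (r : Γ(pullback p g, pullback.fst p g ⁻¹ᵁ U' ⊓ pullback.snd p g ⁻¹ᵁ T)),
    W = (pullback p g).basicOpen r}
  have hB : Opens.IsBasis B := by
    rw [Opens.isBasis_iff_nbhd]
    intro V x hx
    obtain ⟨W₀, hW₀, hxW₀, -⟩ := exists_isAffineOpen_mem_and_subset
      (x := p ((pullback.fst p g) x)) (U := ⊤) trivial
    have hxW₀' : g ((pullback.snd p g) x) ∈ W₀ := by
      rw [← Scheme.Hom.comp_apply, ← pullback.condition, Scheme.Hom.comp_apply]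
      exact hxW₀
    obtain ⟨U', hU', hxU', eU⟩ := exists_isAffineOpen_mem_and_subset
      (x := (pullback.fst p g) x) (U := p ⁻¹ᵁ W₀) hxW₀
    obtain ⟨T, hT, hxT, eT⟩ := exists_isAffineOpen_mem_and_subset
      (x := (pullback.snd p g) x) (U := g ⁻¹ᵁ W₀) hxW₀'
    have H : IsPullback (pullback.fst p g) (pullback.snd p g) p g := IsPullback.of_hasPullback p g
    have hO : IsAffineOpen (pullback.fst p g ⁻¹ᵁ U' ⊓ pullback.snd p g ⁻¹ᵁ T) := by
      have : IsAffine (Scheme.Opens.toScheme W₀) := hW₀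
      have : IsAffine (Scheme.Opens.toScheme T) := hT
      have : IsAffine (Scheme.Opens.toScheme U') := hU'
      exact .of_isIso (Scheme.Hom.isPullback_resLE H eT eU rfl).isoPullback.hom
    obtain ⟨r, hrV, hxr⟩ := hO.exists_basicOpen_le ⟨x, hx⟩ ⟨hxU', hxT⟩
    exact ⟨_, ⟨W₀, U', T, hW₀, hU', hT, eU, eT, r, rfl⟩, hxr, hrV⟩
  refine isSeparating_of_basis _ B hB ?_
  rintro W ⟨W₀, U', T, hW₀, hU', hT, eU, eT, r, rfl⟩ t ht
  exact local_claim_fib_sep p g hFft hG u hfib W₀ hW₀ U' hU' eU T hT eT _ rfl r t ht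

end Groth.Agent.Lib.Helper24.FibGlueMod
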