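import Groth.Agent.Lib.Helper24.CMFibreBaseChange

/-!
# Properties of local rings of fibres and base change, generic form (helper24)

Let `P` be a property of commutative rings which is invariant under ring isomorphisms and, for a
Noetherian `k`-algebra `A` and a field extension `K/k` with `A ⊗[k] K` Noetherian and either `K/k` or
`A/k` essentially of finite type, satisfies `P ((A ⊗ K)_𝔓) ↔ P (A_{𝔓 ∩ A})`
(`FieldBaseChangeProp P`).  Then:

* `FieldBaseChangeProp.stalk_pullback_field_iff` / `stalk_iff_of_isPullback_field`: for a locally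
  Noetherian `k`-scheme `Z`, `P` holds for a local ring of `Z_K` iff it does for the local ring of
  `Z` at the image point;
* `FieldBaseChangeProp.fibre_stalk_iff_of_isPullback`: the same for the fibres of a morphism and of
  its base change.
-/

set_option autoImplicit false
universe u
open AlgebraicGeometry CategoryTheory CategoryTheory.Limits TensorProduct

namespace Groth.Agent.Lib.Helper24

open Groth.Agent.Lib.Helper55 Groth.Agent.Lib.Helper29

/-- A property of commutative rings, invariant under isomorphisms and under extension of the base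
field for local rings of Noetherian algebras. -/
structure FieldBaseChangeProp (P : ∀ (R : Type u) [CommRing R], Prop) : Prop where
  of_ringEquiv : ∀ {R S : Type u} [CommRing R] [CommRing S], (R ≃+* S) → P R → P S
  tensor_iff : ∀ (k K A : Type u) [Field k] [Field K] [Algebra k K] [CommRing A] [Algebra k A]
    [IsNoetherianRing A] [IsNoetherianRing (A ⊗[k] K)],
    (Algebra.EssFiniteType k K ∨ Algebra.EssFiniteType k A) →
    ∀ (𝔓 : Ideal (A ⊗[k] K)) [𝔓.IsPrime],
      (P (Localization.AtPrime 𝔓) ↔ P (Localization.AtPrime (𝔓.under A)))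

namespace FieldBaseChangeProp

variable {P : ∀ (R : Type u) [CommRing R], Prop} (hP : FieldBaseChangeProp P)
include hP

theorem iff_of_ringEquiv {R S : Type u} [CommRing R] [CommRing S] (e : R ≃+* S) : P R ↔ P S :=
  ⟨hP.of_ringEquiv e, hP.of_ringEquiv e.symm⟩

section scheme

variable {k : Type u} [Field k] (K : Type u) [Field K] [Algebra k K] {Z : Scheme.{u}}
  (q : Z ⟶ Spec (CommRingCat.of k)) [IsLocallyNoetherian Z]

/-- Invariance of `P` for local rings under extension of the base field. -/
theorem stalk_pullback_field_iff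
    (hKq : Algebra.EssFiniteType k K ∨ LocallyOfFiniteType q)
    (z : ↥(pullback q (Spec.map (CommRingCat.ofHom (algebraMap k K))))) :
    P ((pullback q (Spec.map (CommRingCat.ofHom (algebraMap k K)))).presheaf.stalk z) ↔
      P (Z.presheaf.stalk (pullback.fst q (Spec.map (CommRingCat.ofHom (algebraMap k K))) z)) := by
  let g := Spec.map (CommRingCat.ofHom (algebraMap k K))
  change P ((pullback q g).presheaf.stalk z) ↔ P (Z.presheaf.stalk (pullback.fst q g z))
  obtain ⟨U, hU, hxU, -⟩ :=
    exists_isAffineOpen_mem_and_subset (x := pullback.fst q g z) (U := ⊤) trivial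
  let φA : CommRingCat.of k ⟶ Γ(Z, U) := Spec.preimage (hU.fromSpec ≫ q)
  let _ : Algebra k Γ(Z, U) := φA.hom.toAlgebra
  have ha : hU.fromSpec ≫ q = Spec.map (CommRingCat.ofHom (algebraMap k Γ(Z, U))) :=
    (Spec.map_preimage _).symm
  have hb : 𝟙 (Spec (CommRingCat.of K)) ≫ g = Spec.map (CommRingCat.ofHom (algebraMap k K)) :=
    Category.id_comp _
  have hNA : IsNoetherianRing Γ(Z, U) := IsLocallyNoetherian.component_noetherian ⟨U, hU⟩
  have hftA : LocallyOfFiniteType q → Algebra.FiniteType k Γ(Z, U) := by
    intro h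
    have h1 : LocallyOfFiniteType (hU.fromSpec ≫ q) := inferInstance
    rw [ha, HasRingHomProperty.Spec_iff (P := @LocallyOfFiniteType)] at h1
    exact h1
  have hNC : IsNoetherianRing (Γ(Z, U) ⊗[k] K) := by
    rcases hKq with h | h
    · exact isNoetherianRing_tensor_of_essFiniteType k K _
    · have := hftA h
      exact isNoetherianRing_tensor_of_essFiniteType_left k K _
  set c := pullbackChart q g hU.fromSpec (𝟙 (Spec (CommRingCat.of K))) ha hb with hc
  have hzc : z ∈ Set.range c := by
    rw [hc, range_pullbackChart, hU.range_fromSpec]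
    refine ⟨hxU, ?_⟩
    simp
  obtain ⟨𝔓, rfl⟩ := hzc
  have h𝔓 : (𝔓 : PrimeSpectrum (Γ(Z, U) ⊗[k] K)).asIdeal.IsPrime := 𝔓.2
  have hfst : pullback.fst q g (c 𝔓) =
      hU.fromSpec (Spec.map (CommRingCat.ofHom (Algebra.TensorProduct.includeLeftRingHom :
        Γ(Z, U) →+* Γ(Z, U) ⊗[k] K)) 𝔓) := by
    have := congr(($(pullbackChart_fst q g hU.fromSpec (𝟙 (Spec (CommRingCat.of K))) ha hb)) 𝔓)
    exact this
  obtain ⟨e1⟩ := nonempty_stalk_ringEquiv_localization c 𝔓
  obtain ⟨e2⟩ := nonempty_stalk_ringEquiv_localization hU.fromSpec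
    (Spec.map (CommRingCat.ofHom (Algebra.TensorProduct.includeLeftRingHom :
        Γ(Z, U) →+* Γ(Z, U) ⊗[k] K)) 𝔓)
  have hiff : P (Localization.AtPrime 𝔓.asIdeal) ↔
      P (Localization.AtPrime (𝔓.asIdeal.under Γ(Z, U))) := by
    rcases hKq with h | h
    · exact hP.tensor_iff k K _ (Or.inl h) 𝔓.asIdeal
    · have := hftA h
      exact hP.tensor_iff k K _ (Or.inr inferInstance) 𝔓.asIdeal
  rw [hfst, hP.iff_of_ringEquiv e1, hP.iff_of_ringEquiv e2]
  exact hiff

/-- Invariance of `P` for local rings under extension of the base field, for an arbitrary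
cartesian square. -/
theorem stalk_iff_of_isPullback_field {W : Scheme.{u}} (p₁ : W ⟶ Z)
    (p₂ : W ⟶ Spec (CommRingCat.of K))
    (h : IsPullback p₁ p₂ q (Spec.map (CommRingCat.ofHom (algebraMap k K))))
    (hKq : Algebra.EssFiniteType k K ∨ LocallyOfFiniteType q) (z : W) :
    P (W.presheaf.stalk z) ↔ P (Z.presheaf.stalk (p₁ z)) := by
  have h3 : pullback.fst q (Spec.map (CommRingCat.ofHom (algebraMap k K))) (h.isoPullback.hom z) =
      p₁ z := by
    have := congr(($(h.isoPullback_hom_fst)) z)
    exact this
  let e : ↑((pullback q (Spec.map (CommRingCat.ofHom (algebraMap k K)))).presheaf.stalk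
      (h.isoPullback.hom z)) ≃+* ↑(W.presheaf.stalk z) :=
    (asIso (h.isoPullback.hom.stalkMap z)).commRingCatIsoToRingEquiv
  rw [← h3, ← hP.iff_of_ringEquiv e]
  exact hP.stalk_pullback_field_iff K q hKq _

end scheme

section fibre

variable {X Y X' Y' : Scheme.{u}} {f : X ⟶ Y} {f' : X' ⟶ Y'} {g' : X' ⟶ X} {g : Y' ⟶ Y}

set_option backward.isDefEq.respectTransparency.types false in
/-- **`P` for the local rings of the fibres is invariant under base change** (the base change
map being locally of finite type, or the morphism itself being locally of finite type). -/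
theorem fibre_stalk_iff_of_isPullback (hc : IsPullback g' f' f g)
    (x' : X') (hN : IsLocallyNoetherian (f.fiber (g (f' x'))))
    (hgf : LocallyOfFiniteType g ∨ LocallyOfFiniteType f) :
    P ((f'.fiber (f' x')).presheaf.stalk (f'.asFiber x')) ↔
      P ((f.fiber (f (g' x'))).presheaf.stalk (f.asFiber (g' x'))) := by
  have hpb := isPullback_fiberToSpecResidueField_of_isPullback hc (f' x')
  let _ : Algebra ↑(Y.residueField (g (f' x'))) ↑(Y'.residueField (f' x')) :=
    (g.residueFieldMap (f' x')).hom.toAlgebra
  have hKq : Algebra.EssFiniteType ↑(Y.residueField (g (f' x'))) ↑(Y'.residueField (f' x')) ∨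
      LocallyOfFiniteType (f.fiberToSpecResidueField (g (f' x'))) := by
    rcases hgf with h | h
    · left
      exact RingHom.EssFiniteType.residueFieldMap (LocallyOfFiniteType.stalkMap g (f' x'))
    · right
      exact MorphismProperty.pullback_snd (P := @LocallyOfFiniteType) _ _ h
  have h1 := hP.stalk_iff_of_isPullback_field
    (k := ↑(Y.residueField (g (f' x')))) (↑(Y'.residueField (f' x')))
    (f.fiberToSpecResidueField (g (f' x'))) _ _ hpb hKq (f'.asFiber x')
  refine Iff.trans h1 ?_
  have hx : f (g' x') = g (f' x') := by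
    have := congr(($(hc.w)) x')
    exact this
  refine fibre_stalk_prop_congr f (fun R => P R)
    (g (f' x')) (g' x') hx _ ?_
  have h2 : pullback.map f' (Y'.fromSpecResidueField (f' x')) f
      (Y.fromSpecResidueField (g (f' x'))) g' (Spec.map (g.residueFieldMap (f' x'))) g
      hc.w.symm (by simp) ≫ f.fiberι (g (f' x')) = f'.fiberι (f' x') ≫ g' :=
    pullback.lift_fst _ _ _
  have := congr(($h2) (f'.asFiber x'))
  rw [Scheme.Hom.comp_apply, Scheme.Hom.comp_apply, f'.fiberι_asFiber] at this
  exact this

end fibre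

end FieldBaseChangeProp

end Groth.Agent.Lib.Helper24
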