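import Mathlib
import Groth.Agent.Lib.Helper90.SmoothRegular3
import Groth.Agent.Lib.Helper29.FlatAscent4
import Groth.Agent.Lib.Helper29.RkDescent
import Groth.Agent.Lib.Helper73.RegularNormal

/-!
# Fibres of a formally smooth map with Noetherian target are regular; `(S_k)`, `(R_k)` transfer

* `isRegularLocalRing_localization_fiber_of_formallySmooth`: for `A → B` formally smooth with
  `B` Noetherian, every local ring of every fibre ring `κ(p) ⊗ B` is regular.
* `hasSk_hasRk_iff_of_flat_of_formallySmooth`: for a flat, formally smooth local homomorphism of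
  Noetherian local rings, `(S_k)` and `(R_k)` hold for the source iff they hold for the target.
-/

set_option autoImplicit false
universe u

namespace Groth.Agent.Lib.Helper24

open TensorProduct IsLocalRing

/-- A (discretely) formally smooth algebra is formally smooth for every adic topology. -/
theorem isAdicFormallySmooth_of_formallySmooth (R S : Type u) [CommRing R] [CommRing S]
    [Algebra R S] [Algebra.FormallySmooth R S] (𝔫 : Ideal S) :
    CAlgX.IsAdicFormallySmooth R S 𝔫 := by
  intro A _ _ J hJ ψ _
  exact Algebra.FormallySmooth.exists_lift J ⟨2, hJ⟩ ψ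

/-- The local rings of the fibre rings of a formally smooth map with Noetherian target are
regular. -/
theorem isRegularLocalRing_localization_fiber_of_formallySmooth (A B : Type u) [CommRing A]
    [CommRing B] [Algebra A B] [IsNoetherianRing B] [Algebra.FormallySmooth A B]
    (p : Ideal A) [p.IsPrime] (q : Ideal (p.Fiber B)) [q.IsPrime] :
    IsRegularLocalRing (Localization.AtPrime q) := by
  have hN : IsNoetherianRing (p.Fiber B) := Groth.Agent.Lib.Helper29.isNoetherianRing_fiber A B p
  have hNq : IsNoetherianRing (Localization.AtPrime q) :=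
    IsLocalization.isNoetherianRing q.primeCompl _ inferInstance
  have h1 : Algebra.FormallySmooth p.ResidueField (p.Fiber B) :=
    inferInstanceAs (Algebra.FormallySmooth p.ResidueField (p.ResidueField ⊗[A] B))
  have h2 : Algebra.FormallySmooth (p.Fiber B) (Localization.AtPrime q) :=
    Algebra.FormallySmooth.of_isLocalization q.primeCompl
  have h3 : Algebra.FormallySmooth p.ResidueField (Localization.AtPrime q) :=
    Algebra.FormallySmooth.comp p.ResidueField (p.Fiber B) (Localization.AtPrime q)
  exact Groth.Agent.Lib.Helper90.SmoothRegular.regular_of_smooth_general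
    (k := p.ResidueField) (isAdicFormallySmooth_of_formallySmooth _ _ _)

/-- The fibre rings of a formally smooth map with Noetherian target satisfy `(R_k)`. -/
theorem hasRk_fiber_of_formallySmooth (A B : Type u) [CommRing A]
    [CommRing B] [Algebra A B] [IsNoetherianRing B] [Algebra.FormallySmooth A B]
    (p : Ideal A) [p.IsPrime] (k : ℕ) : LocCoh.HasRk k (p.Fiber B) :=
  fun q _ _ => isRegularLocalRing_localization_fiber_of_formallySmooth A B p q

/-- The fibre rings of a formally smooth map with Noetherian target satisfy `(S_k)`. -/
theorem hasSk_fiber_of_formallySmooth (A B : Type u) [CommRing A]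
    [CommRing B] [Algebra A B] [IsNoetherianRing B] [Algebra.FormallySmooth A B]
    (p : Ideal A) [p.IsPrime] (k : ℕ) : LocCoh.HasSk k (p.Fiber B) (p.Fiber B) := by
  rw [Groth.Agent.Lib.Helper29.hasSk_self_iff]
  intro q hq
  have hreg := isRegularLocalRing_localization_fiber_of_formallySmooth A B p q
  have h1 := Groth.Agent.Lib.Helper73.RegularNormal.depth_self_of_isRegularLocalRing
    (Localization.AtPrime q)
  rw [IsLocalization.AtPrime.ringKrullDim_eq_height q (Localization.AtPrime q)] at h1
  have h2 : LocCoh.depth (Localization.AtPrime q) (Localization.AtPrime q) = q.height :=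
    WithBot.coe_injective h1
  rw [h2]
  exact min_le_right _ _

/-- For a flat, formally smooth local homomorphism of Noetherian local rings, `(S_k)` and `(R_k)`
hold for the target iff they hold for the source. -/
theorem hasSk_hasRk_iff_of_flat_of_formallySmooth (A B : Type u) [CommRing A] [CommRing B]
    [IsLocalRing A] [IsLocalRing B] [IsNoetherianRing A] [IsNoetherianRing B] [Algebra A B]
    [IsLocalHom (algebraMap A B)] [Module.Flat A B] [Algebra.FormallySmooth A B] (k : ℕ) :
    (LocCoh.HasSk k B B ↔ LocCoh.HasSk k A A) ∧ (LocCoh.HasRk k B ↔ LocCoh.HasRk k A) := by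
  have hff : Module.FaithfullyFlat A B := Module.FaithfullyFlat.of_flat_of_isLocalHom
  refine ⟨⟨fun h => (Groth.Agent.Lib.Helper29.hasSk_of_faithfullyFlat (R := A) (S := B) k h).2,
    fun h => Groth.Agent.Lib.Helper29.hasSk_of_flat_of_fibers k h
      (fun p _ => hasSk_fiber_of_formallySmooth A B p k)⟩,
    ⟨fun h => (Groth.Agent.Lib.Helper29.hasRk_of_faithfullyFlat (R := A) (S := B) k h).2,
    fun h => Groth.Agent.Lib.Helper29.hasRk_of_flat_of_fibers k h
      (fun p _ => hasRk_fiber_of_formallySmooth A B p k)⟩⟩

end Groth.Agent.Lib.Helper24
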