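/-
Helper library (helper24): normality of local rings of `S ⊗[k] k'` versus local rings of `S`
(EGA IV 6.7.4, normal case).
-/
import Mathlib
import Groth.Agent.Lib.Helper24.FieldBaseChangeLocal

set_option autoImplicit false
universe u
open TensorProduct IsLocalRing

namespace Groth.Agent.Lib.Helper24

section

variable (k S k' : Type u) [Field k] [CommRing S] [Algebra k S] [Field k'] [Algebra k k']

/-- Descent of normality from `(S ⊗[k] k')_{q'}` to `S_q`. -/
theorem isNormal_comap_of_tensor_field [IsNoetherianRing (S ⊗[k] k')]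
    (q' : Ideal (S ⊗[k] k')) [q'.IsPrime]
    (h : IsDomain (Localization.AtPrime q') ∧ IsIntegrallyClosed (Localization.AtPrime q')) :
    IsDomain (Localization.AtPrime (q'.comap (algebraMap S (S ⊗[k] k')))) ∧
      IsIntegrallyClosed (Localization.AtPrime (q'.comap (algebraMap S (S ⊗[k] k')))) := by
  have hlies : q'.LiesOver (q'.comap (algebraMap S (S ⊗[k] k'))) := ⟨rfl⟩
  let _ := Localization.AtPrime.algebraOfLiesOver (q'.comap (algebraMap S (S ⊗[k] k'))) q'
  have hflat : Module.Flat (Localization.AtPrime (q'.comap (algebraMap S (S ⊗[k] k'))))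
      (Localization.AtPrime q') := inferInstance
  have hloc : IsLocalHom (algebraMap (Localization.AtPrime (q'.comap (algebraMap S (S ⊗[k] k'))))
      (Localization.AtPrime q')) := by
    rw [Localization.AtPrime.IsLiesOverAlgebra.algebraMap_eq]
    exact Localization.isLocalHom_localRingHom _ _ _ _
  have hff : Module.FaithfullyFlat (Localization.AtPrime (q'.comap (algebraMap S (S ⊗[k] k'))))
      (Localization.AtPrime q') := Module.FaithfullyFlat.of_flat_of_isLocalHom
  have hNq : IsNoetherianRing (Localization.AtPrime q') :=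
    IsLocalization.isNoetherianRing q'.primeCompl _ inferInstance
  obtain ⟨h1, h2⟩ := h
  have hn : EGA4.IsNormalRing (Localization.AtPrime q') :=
    Groth.Agent.Lib.Helper29.isNormalRing_of_isIntegrallyClosed _
  obtain ⟨_, hn'⟩ := Groth.Agent.Lib.Helper29.isNormalRing_of_faithfullyFlat
    (R := Localization.AtPrime (q'.comap (algebraMap S (S ⊗[k] k'))))
    (S := Localization.AtPrime q') hn
  exact Groth.Agent.Lib.Helper29.isDomain_and_isIntegrallyClosed_of_isNormalRing _ hn'

/-- Ascent of normality from `S_q` to `(S ⊗[k] k')_{q'}` for `k'/k` separable. -/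
theorem isNormal_tensor_field_of_comap [IsNoetherianRing S] [IsNoetherianRing (S ⊗[k] k')]
    (hsep : Algebra.IsGeometricallyReduced k k')
    (q' : Ideal (S ⊗[k] k')) [q'.IsPrime]
    (h : IsDomain (Localization.AtPrime (q'.comap (algebraMap S (S ⊗[k] k')))) ∧
      IsIntegrallyClosed (Localization.AtPrime (q'.comap (algebraMap S (S ⊗[k] k'))))) :
    IsDomain (Localization.AtPrime q') ∧ IsIntegrallyClosed (Localization.AtPrime q') := by
  obtain ⟨h1, h2⟩ := h
  refine Groth.Agent.Lib.Helper29.isNormal_localization_of_flat_of_fibLoc S (S ⊗[k] k') ?_ q'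
  intro Q hQ
  have hreg := isRegularLocalRing_fibLocRing_tensor_field k S k' hsep Q
  exact Groth.Agent.Lib.Helper73.RegularNormal.isIntegrallyClosed_of_isRegularLocalRing _

end

end Groth.Agent.Lib.Helper24
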