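import Mathlib

/-!
# Finite étale morphisms are étale-locally split (helper24)

* `IsSplitOver h`: `h : Z ⟶ U` is a finite disjoint union of copies of `U`.
* `isSplitOver_pullback_snd_of_isFiniteSplit`: affine case from `Algebra.IsFiniteSplit`.
* `exists_etale_isSplitOver_of_finite_etale`: finite étale `f : X ⟶ S`, `s : S` ⇒ ∃ étale `g : U ⟶ S`,
  `u ↦ s`, with `X ×_S U` split over `U` (Mathlib `Algebra.IsFiniteSplit.exists_tensorProduct_of_etale`).
-/

set_option autoImplicit false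
universe u
open AlgebraicGeometry CategoryTheory Limits TensorProduct

namespace Groth.Agent.Lib.Helper24

/-- `h : Z ⟶ U` is a finite disjoint union of copies of `U`. -/
def IsSplitOver {Z U : Scheme.{u}} (h : Z ⟶ U) : Prop :=
  ∃ (n : ℕ) (V : Fin n → Scheme.{u}) (c : ∀ j, V j ⟶ U) (_ : ∀ j, IsIso (c j))
    (e : (∐ V) ≅ Z), ∀ j, Sigma.ι V j ≫ e.hom ≫ h = c j

theorem IsSplitOver.of_iso {Z Z' U : Scheme.{u}} {h : Z ⟶ U} {h' : Z' ⟶ U} (θ : Z ≅ Z')
    (w : θ.hom ≫ h' = h) (H : IsSplitOver h) : IsSplitOver h' := by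
  obtain ⟨n, V, c, hc, e, he⟩ := H
  refine ⟨n, V, c, hc, e ≪≫ θ, fun j => ?_⟩
  rw [Iso.trans_hom, Category.assoc, w]
  exact he j

/-- Affine case: if `T ⊗[R] B` is a finite split `T`-algebra, then `Spec B ×_{Spec R} Spec T` is
split over `Spec T`. -/
theorem isSplitOver_pullback_snd_of_isFiniteSplit (R B T : Type u) [CommRing R] [CommRing B]
    [CommRing T] [Algebra R B] [Algebra R T] [Algebra.IsFiniteSplit T (T ⊗[R] B)] :
    IsSplitOver (pullback.snd (Spec.map (CommRingCat.ofHom (algebraMap R B)))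
      (Spec.map (CommRingCat.ofHom (algebraMap R T)))) := by
  obtain ⟨m, ⟨ε⟩⟩ := Algebra.IsFiniteSplit.nonempty_algEquiv_fun T (T ⊗[R] B)
  let ι' := ULift.{u} (Fin m)
  let ε' : T ⊗[R] B ≃ₐ[T] (ι' → T) :=
    ε.trans (AlgEquiv.piCongrLeft' T (fun _ : Fin m => T) Equiv.ulift.symm)
  let θ : B ⊗[R] T ≃+* (ι' → T) :=
    (Algebra.TensorProduct.comm R B T).toRingEquiv.trans ε'.toRingEquiv
  let θc : CommRingCat.of (B ⊗[R] T) ≅ CommRingCat.of (ι' → T) := θ.toCommRingCatIso
  let σ : (∐ fun _ : ι' => Spec (CommRingCat.of T)) ≅ Spec (.of (ι' → T)) :=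
    asIso (sigmaSpec (fun _ : ι' => CommRingCat.of T))
  let r : (∐ fun _ : Fin m => Spec (CommRingCat.of T)) ≅
      (∐ fun _ : ι' => Spec (CommRingCat.of T)) :=
    (Sigma.reindex (Equiv.ulift : ι' ≃ Fin m) (fun _ : Fin m => Spec (CommRingCat.of T))).symm
  let e : (∐ fun _ : Fin m => Spec (CommRingCat.of T)) ≅
      pullback (Spec.map (CommRingCat.ofHom (algebraMap R B)))
        (Spec.map (CommRingCat.ofHom (algebraMap R T))) :=
    r ≪≫ σ ≪≫ Scheme.Spec.mapIso θc.op ≪≫ (pullbackSpecIso R B T).symm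
  refine ⟨m, fun _ => Spec (CommRingCat.of T), fun _ => 𝟙 _, fun _ => inferInstance, e, fun j => ?_⟩
  have hr : Sigma.ι (fun _ : Fin m => Spec (CommRingCat.of T)) j ≫ r.hom =
      Sigma.ι (fun _ : ι' => Spec (CommRingCat.of T)) (Equiv.ulift.symm j) :=
    Sigma.ι_reindex_inv (Equiv.ulift : ι' ≃ Fin m) (fun _ : Fin m => Spec (CommRingCat.of T))
      (Equiv.ulift.symm j)
  simp only [e, Iso.trans_hom, Category.assoc]
  rw [reassoc_of% hr]
  simp only [σ, asIso_hom, Iso.symm_hom, pullbackSpecIso_inv_snd, Functor.mapIso_hom, Iso.op_hom,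
    Scheme.Spec_map, Quiver.Hom.unop_op]
  rw [ι_sigmaSpec_assoc, ← Spec.map_comp, ← Spec.map_comp, ← Spec.map_id]
  congr 1
  ext t
  change (ε' ((Algebra.TensorProduct.comm R B T) ((1 : B) ⊗ₜ[R] t))) (Equiv.ulift.symm j) = t
  rw [Algebra.TensorProduct.comm_tmul]
  have : (t ⊗ₜ[R] (1 : B)) = algebraMap T (T ⊗[R] B) t := rfl
  rw [this, ε'.commutes]
  rfl


set_option backward.isDefEq.respectTransparency.types false in
/-- A finite étale morphism is split after base change to an étale neighbourhood of any point of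
the base. -/
theorem exists_etale_isSplitOver_of_finite_etale {X S : Scheme.{u}} (f : X ⟶ S) [IsFinite f]
    [Etale f] (s : S) :
    ∃ (U : Scheme.{u}) (g : U ⟶ S) (_ : Etale g) (u : U) (_ : g.base u = s),
      IsSplitOver (pullback.snd f g) := by
  have hlc := Scheme.Hom.isLocallyConstant_finrank f
  let W : S.Opens := ⟨{y | f.finrank y = f.finrank s}, hlc.isOpen_fiber _⟩
  obtain ⟨R, j₀, hj₀, ⟨y, hy⟩, hsub⟩ :=
    Scheme.exists_affine_mem_range_and_range_subset (show s ∈ W from rfl)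
  let f₁ := pullback.snd f j₀
  have hrank₁ : ∀ y', f₁.finrank y' = f.finrank s := fun y' => by
    rw [Scheme.Hom.finrank_pullback_snd]
    exact hsub ⟨y', rfl⟩
  have : IsAffine (pullback f j₀) := isAffine_of_isAffineHom f₁
  let f₂ := (pullback f j₀).isoSpec.inv ≫ f₁
  have hrank₂ : ∀ y', f₂.finrank y' = f.finrank s := by
    intro y'
    rw [Scheme.Hom.finrank_comp_left_of_isIso]
    exact hrank₁ y'
  obtain ⟨φ, hφ⟩ := Spec.map_surjective f₂
  have hfin : φ.hom.Finite := by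
    rw [← IsFinite.SpecMap_iff, hφ]
    infer_instance
  have het : φ.hom.Etale := by
    rw [← HasRingHomProperty.Spec_iff (P := @Etale), hφ]
    infer_instance
  algebraize [φ.hom]
  have hf₂ : f₂ = Spec.map (CommRingCat.ofHom (algebraMap R Γ(pullback f j₀, ⊤))) := hφ.symm
  have hn : Module.rankAtStalk (R := R) Γ(pullback f j₀, ⊤) = (f.finrank s : ℕ) := by
    ext p
    rw [← Scheme.Hom.finrank_SpecMap_algebraMap, ← hf₂]
    exact hrank₂ p
  obtain ⟨T, _, _, hff, hfinT, hetT, hsplit⟩ :=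
    Algebra.IsFiniteSplit.exists_tensorProduct_of_etale (R := R) (S := Γ(pullback f j₀, ⊤)) hn
  let g₂ : Spec (.of T) ⟶ Spec R := Spec.map (CommRingCat.ofHom (algebraMap R T))
  have hg₂ : Etale g₂ :=
    (HasRingHomProperty.Spec_iff (P := @Etale)).mpr (RingHom.etale_algebraMap.mpr hetT)
  obtain ⟨u, hu⟩ := PrimeSpectrum.comap_surjective_of_faithfullyFlat (A := R) (B := T) y
  refine ⟨Spec (.of T), g₂ ≫ j₀, inferInstance, u, ?_, ?_⟩
  · rw [← hy]
    change j₀ (g₂ u) = j₀ y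
    congr 1
  · have h0 := isSplitOver_pullback_snd_of_isFiniteSplit R Γ(pullback f j₀, ⊤) T
    rw [← hf₂] at h0
    let θ₁ : pullback f₂ g₂ ≅ pullback f₁ g₂ :=
      asIso (pullback.map f₂ g₂ f₁ g₂ (pullback f j₀).isoSpec.inv (𝟙 _) (𝟙 _)
        (by simp [f₂]) (by simp))
    have h2 : IsSplitOver (pullback.snd f₁ g₂) := h0.of_iso θ₁ (by
      simp only [θ₁, asIso_hom]
      rw [pullback.lift_snd, Category.comp_id])
    exact h2.of_iso (pullbackLeftPullbackSndIso f j₀ g₂) (pullbackLeftPullbackSndIso_hom_snd f j₀ g₂)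

end Groth.Agent.Lib.Helper24
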