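import Groth.Agent.Lib.Helper24.SmoothLocusField

/-!
# Finite closed subsets of a scheme locally of finite type over a field have finite preimage under
# extension of the base field (helper24)
-/

universe u

open CategoryTheory CategoryTheory.Limits AlgebraicGeometry

namespace Groth.Agent.Lib.Helper24

variable {X X' : Scheme.{u}}

/-- A finite closed subset of a Jacobson space consists of closed points. -/
theorem subset_closedPoints_of_finite_of_isClosed {T : Type*} [TopologicalSpace T] [JacobsonSpace T]
    (F : Set T) (hF : F.Finite) (hFc : IsClosed F) : F ⊆ closedPoints T := by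
  have h1 : closure (F ∩ closedPoints T) = F := JacobsonSpace.closure_inter_closedPoints hFc
  have h2 : IsClosed (F ∩ closedPoints T) := by
    rw [← (F ∩ closedPoints T).biUnion_of_singleton]
    exact (hF.subset Set.inter_subset_left).isClosed_biUnion fun x hx => hx.2
  rw [h2.closure_eq] at h1
  intro x hx
  rw [← h1] at hx
  exact hx.2

theorem finite_of_isFinite_to_subsingleton {W T : Scheme.{u}} (f : W ⟶ T) [IsFinite f] [Subsingleton ↥T] :
    Finite ↥W := by
  cases isEmpty_or_nonempty ↥W
  · infer_instance
  · obtain ⟨w⟩ := ‹Nonempty ↥W›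
    have h := f.finite_preimage_singleton (f w)
    have huniv : f ⁻¹' {f w} = Set.univ := by
      ext z
      simp only [Set.mem_preimage, Set.mem_singleton_iff, Set.mem_univ, iff_true]
      exact Subsingleton.elim _ _
    rw [huniv] at h
    exact Set.finite_univ_iff.mp h

set_option backward.isDefEq.respectTransparency.types false in
/-- Finite closed subsets have finite preimages under extension of the base field. -/
theorem finite_preimage_of_finite_of_isClosed {k Ω : Type u} [Field k] [Field Ω]
    {p : X ⟶ Spec (CommRingCat.of k)} {q : X' ⟶ Spec (CommRingCat.of Ω)} {i₀ : X' ⟶ X}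
    {t' : Spec (CommRingCat.of Ω) ⟶ Spec (CommRingCat.of k)} (hi : IsPullback i₀ q p t')
    [LocallyOfFiniteType p] (F : Set ↥X) (hF : F.Finite) (hFc : IsClosed F) : (i₀ ⁻¹' F).Finite := by
  have hJ : JacobsonSpace ↥X := LocallyOfFiniteType.jacobsonSpace p
  have hcl := subset_closedPoints_of_finite_of_isClosed F hF hFc
  have hpre : i₀ ⁻¹' F = ⋃ x ∈ F, i₀ ⁻¹' {x} := by
    ext z
    simp
  rw [hpre]
  refine hF.biUnion fun x hx => ?_
  have hxc : IsClosed ({x} : Set ↥X) := hcl hx
  have hlft : LocallyOfFiniteType (X.fromSpecResidueField x) :=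
    isClosed_singleton_iff_locallyOfFiniteType.mp hxc
  have hfin : IsFinite (X.fromSpecResidueField x ≫ p) :=
    (isFinite_iff_locallyOfFiniteType_of_jacobsonSpace
      (f := X.fromSpecResidueField x ≫ p)).mpr inferInstance
  have hpb : IsPullback (pullback.fst i₀ (X.fromSpecResidueField x))
      (pullback.snd i₀ (X.fromSpecResidueField x)) i₀ (X.fromSpecResidueField x) :=
    IsPullback.of_hasPullback _ _
  have hpaste : IsPullback (pullback.fst i₀ (X.fromSpecResidueField x) ≫ q)
      (pullback.snd i₀ (X.fromSpecResidueField x)) t' (X.fromSpecResidueField x ≫ p) :=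
    hpb.paste_horiz hi.flip
  have hfin' : IsFinite (pullback.fst i₀ (X.fromSpecResidueField x) ≫ q) :=
    MorphismProperty.of_isPullback hpaste.flip hfin
  have hW : Finite ↥(pullback i₀ (X.fromSpecResidueField x)) :=
    finite_of_isFinite_to_subsingleton (pullback.fst i₀ (X.fromSpecResidueField x) ≫ q)
  have hrange : Set.range (pullback.fst i₀ (X.fromSpecResidueField x)) = i₀ ⁻¹' {x} := by
    rw [Scheme.Pullback.range_fst, Scheme.range_fromSpecResidueField]
  rw [← hrange]
  exact Set.finite_range _

end Groth.Agent.Lib.Helper24
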