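import Mathlib
set_option autoImplicit false
universe u
open CategoryTheory CategoryTheory.Limits AlgebraicGeometry TopologicalSpace

/-!
# Finite unramified morphisms with a one-point fibre with trivial residue field extension

`exists_opens_forall_le_mono_restrict`: if `f : X ⟶ S` is finite and unramified, the fibre over `s`
is a single point `x`, and `κ(s) → κ(x)` is surjective, then `f` is a monomorphism over an open
neighbourhood of `s` (hence a closed immersion there).
-/

namespace Groth.Agent.Lib.Helper24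

set_option backward.isDefEq.respectTransparency.types false in
set_option backward.defeqAttrib.useBackward true in
theorem eq_of_comp_eq_of_fiber_singleton {X S : Scheme.{u}} (f : X ⟶ S) (s : S) (x : X)
    (hx : f.base ⁻¹' {s} = {x}) (hκ : Function.Surjective (f.residueFieldMap x))
    (K : Type u) [Field K] (g₁ g₂ : Spec (.of K) ⟶ X) (hg : g₁ ≫ f = g₂ ≫ f)
    (h₁ : f (g₁ (IsLocalRing.closedPoint K)) = s) : g₁ = g₂ := by
  have e₁ : g₁ (IsLocalRing.closedPoint K) = x := by
    have : g₁ (IsLocalRing.closedPoint K) ∈ f.base ⁻¹' {s} := h₁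
    rw [hx] at this; exact this
  have e₂ : g₂ (IsLocalRing.closedPoint K) = x := by
    have h₂ : f (g₂ (IsLocalRing.closedPoint K)) = s := by
      rw [← Scheme.Hom.comp_apply, ← hg, Scheme.Hom.comp_apply]; exact h₁
    have : g₂ (IsLocalRing.closedPoint K) ∈ f.base ⁻¹' {s} := h₂
    rw [hx] at this; exact this
  subst e₁
  obtain ⟨e, h⟩ := Scheme.SpecToEquivOfField_eq_iff.mp congr((S.SpecToEquivOfField K) $(hg))
  apply (X.SpecToEquivOfField K).injective
  dsimp at e h
  simp only [Scheme.descResidueField_stalkClosedPointTo_comp] at e h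
  rw [← f.residueFieldMap_congr'_assoc e₂.symm, CommRingCat.hom_ext_iff] at h
  rw [Scheme.SpecToEquivOfField_eq_iff]
  refine ⟨e₂.symm, CommRingCat.hom_ext ?_⟩
  simp only [CommRingCat.hom_comp] at h
  have h' := (RingHom.cancel_right hκ).mp h
  rw [CommRingCat.hom_comp]
  exact h'


set_option backward.isDefEq.respectTransparency.types false in
set_option backward.defeqAttrib.useBackward true in
theorem mem_range_diagonal_of_fiber_singleton {X S : Scheme.{u}} (f : X ⟶ S) (s : S) (x : X)
    (hx : f.base ⁻¹' {s} = {x}) (hκ : Function.Surjective (f.residueFieldMap x))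
    (z : ↥(pullback f f)) (hz : f (pullback.fst f f z) = s) :
    z ∈ Set.range (pullback.diagonal f) := by
  let φ := (pullback f f).fromSpecResidueField z
  have hg : (φ ≫ pullback.fst f f) ≫ f = (φ ≫ pullback.snd f f) ≫ f := by
    simp [pullback.condition]
  have h₁ : f ((φ ≫ pullback.fst f f) (IsLocalRing.closedPoint ((pullback f f).residueField z)))
      = s := by
    rw [Scheme.Hom.comp_apply, Scheme.fromSpecResidueField_apply]; exact hz
  have hφ₁ : φ ≫ pullback.fst f f = φ ≫ pullback.snd f f :=
    eq_of_comp_eq_of_fiber_singleton f s x hx hκ ((pullback f f).residueField z) _ _ hg h₁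
  have hφ₂ : φ = (φ ≫ pullback.fst f f) ≫ pullback.diagonal f := by cat_disch
  refine ⟨(φ ≫ pullback.fst f f) (IsLocalRing.closedPoint _), ?_⟩
  rw [← Scheme.Hom.comp_apply, ← hφ₂, Scheme.fromSpecResidueField_apply]


theorem exists_opens_forall_le_mono_restrict {X S : Scheme.{u}} (f : X ⟶ S) [IsFinite f]
    [FormallyUnramified f] (s : S) (x : X)
    (hx : f.base ⁻¹' {s} = {x}) (hκ : Function.Surjective (f.residueFieldMap x)) :
    ∃ U : S.Opens, s ∈ U ∧ ∀ U' : S.Opens, U' ≤ U → Mono (f ∣_ U') := by
  have hΔ : IsOpenImmersion (pullback.diagonal f) := inferInstance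
  let π : pullback f f ⟶ S := pullback.fst f f ≫ f
  have hπ : IsFinite π := inferInstance
  let Z : Set ↥(pullback f f) := (Set.range (pullback.diagonal f))ᶜ
  have hZ : IsClosed Z := (pullback.diagonal f).isOpenEmbedding.isOpen_range.isClosed_compl
  have hπZ : IsClosed (π '' Z) := π.isClosedMap _ hZ
  refine ⟨⟨(π '' Z)ᶜ, hπZ.isOpen_compl⟩, ?_, ?_⟩
  · rintro ⟨z, hzZ, hzs⟩
    exact hzZ (mem_range_diagonal_of_fiber_singleton f s x hx hκ z hzs)
  · intro U' hU'
    constructor
    intro T a b hab
    have h1 : (a ≫ (f ⁻¹ᵁ U').ι) ≫ f = (b ≫ (f ⁻¹ᵁ U').ι) ≫ f := by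
      rw [Category.assoc, Category.assoc, ← morphismRestrict_ι, ← Category.assoc,
        ← Category.assoc, hab]
    let l : T ⟶ pullback f f := pullback.lift _ _ h1
    have hrange : Set.range l ⊆ Set.range (pullback.diagonal f) := by
      rintro _ ⟨t, rfl⟩
      by_contra hnot
      have hmem : π (l t) ∈ π '' Z := ⟨_, hnot, rfl⟩
      have hπl : π (l t) = f ((f ⁻¹ᵁ U').ι (a t)) := by
        change (pullback.fst f f ≫ f) (l t) = _
        rw [← Scheme.Hom.comp_apply, ← Category.assoc, pullback.lift_fst]
        simp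
      have hU'mem : f ((f ⁻¹ᵁ U').ι (a t)) ∈ U' := (a t).2
      exact hU' (hπl ▸ hU'mem) hmem
    let c : T ⟶ X := IsOpenImmersion.lift (pullback.diagonal f) l hrange
    have hc : c ≫ pullback.diagonal f = l := IsOpenImmersion.lift_fac _ _ _
    have ha : a ≫ (f ⁻¹ᵁ U').ι = c := by
      have := congr($hc ≫ pullback.fst f f)
      rw [Category.assoc, pullback.diagonal_fst, Category.comp_id, pullback.lift_fst] at this
      exact this.symm
    have hb : b ≫ (f ⁻¹ᵁ U').ι = c := by
      have := congr($hc ≫ pullback.snd f f)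
      rw [Category.assoc, pullback.diagonal_snd, Category.comp_id, pullback.lift_snd] at this
      exact this.symm
    exact (cancel_mono (f ⁻¹ᵁ U').ι).mp (ha.trans hb.symm)

end Groth.Agent.Lib.Helper24
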