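import Mathlib

/-!
# Minimal number of generators of the maximal ideal under flat unramified local maps

* `tensorIdealEquiv`: for a flat `R`-algebra `S` and an ideal `I` of `R`, `S ⊗[R] I ≃ₗ[S] I S`.
* `spanFinrank_maximalIdeal_eq_of_flat_of_map_eq`: if `R → S` is a flat local homomorphism of
  Noetherian local rings with `𝔪_R S = 𝔪_S`, the maximal ideals of `R` and `S` have the same minimal
  number of generators.
-/

set_option autoImplicit false

namespace Groth.Agent.Lib.Helper24

open TensorProduct IsLocalRing

section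
variable (R S : Type*) [CommRing R] [CommRing S] [Algebra R S] (I : Ideal R)

/-- The multiplication map `S ⊗[R] I → S`. -/
noncomputable def tensorIdealHom : S ⊗[R] I →ₗ[S] S :=
  (AlgebraTensorModule.rid R S S).toLinearMap ∘ₗ
    (AlgebraTensorModule.lTensor S S (Submodule.subtype I : I →ₗ[R] R))

@[simp]
theorem tensorIdealHom_tmul (s : S) (i : I) :
    tensorIdealHom R S I (s ⊗ₜ[R] i) = algebraMap R S i * s := by
  simp [tensorIdealHom, Algebra.smul_def]

theorem tensorIdealHom_injective [Module.Flat R S] : Function.Injective (tensorIdealHom R S I) := by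
  have h1 : Function.Injective ((Submodule.subtype I : I →ₗ[R] R).lTensor S) :=
    Module.Flat.lTensor_preserves_injective_linearMap _ (Submodule.injective_subtype I)
  have h2 : ⇑(tensorIdealHom R S I) = ⇑(TensorProduct.rid R S) ∘
      ⇑((Submodule.subtype I : I →ₗ[R] R).lTensor S) := by
    ext x
    induction x using TensorProduct.induction_on with
    | zero => simp
    | tmul s i => simp [Algebra.smul_def]
    | add x y hx hy => simp only [map_add, Function.comp_apply] at hx hy ⊢; rw [hx, hy]
  rw [h2]
  exact (TensorProduct.rid R S).injective.comp h1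

theorem range_tensorIdealHom :
    LinearMap.range (tensorIdealHom R S I) = I.map (algebraMap R S) := by
  apply le_antisymm
  · rintro _ ⟨x, rfl⟩
    induction x using TensorProduct.induction_on with
    | zero => simp
    | tmul s i =>
      rw [tensorIdealHom_tmul]
      exact Ideal.mul_mem_right _ _ (Ideal.mem_map_of_mem _ i.2)
    | add x y hx hy => rw [map_add]; exact Ideal.add_mem _ hx hy
  · rw [Ideal.map, Ideal.span_le]
    rintro _ ⟨i, hi, rfl⟩
    exact ⟨1 ⊗ₜ ⟨i, hi⟩, by simp⟩

/-- For a flat algebra, `S ⊗[R] I ≃ I S`. -/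
noncomputable def tensorIdealEquiv [Module.Flat R S] :
    S ⊗[R] I ≃ₗ[S] ↥(I.map (algebraMap R S)) :=
  (LinearEquiv.ofInjective (tensorIdealHom R S I) (tensorIdealHom_injective R S I)).trans
    (LinearEquiv.ofEq _ _ (range_tensorIdealHom R S I))

end

theorem spanFinrank_maximalIdeal_eq_of_flat_of_map_eq {R S : Type*} [CommRing R] [CommRing S]
    [IsLocalRing R] [IsLocalRing S] [Algebra R S] [IsLocalHom (algebraMap R S)] [Module.Flat R S]
    [IsNoetherianRing R] [IsNoetherianRing S]
    (h : (maximalIdeal R).map (algebraMap R S) = maximalIdeal S) :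
    (maximalIdeal S).spanFinrank = (maximalIdeal R).spanFinrank := by
  have fgR : (maximalIdeal R).FG := (maximalIdeal R).fg_of_isNoetherianRing
  have fgS : (maximalIdeal S).FG := (maximalIdeal S).fg_of_isNoetherianRing
  rw [← TensorProduct.spanFinrank_top_eq_of_residueField (maximalIdeal S) fgS,
    ← TensorProduct.spanFinrank_top_eq_of_residueField (maximalIdeal R) fgR,
    ← Module.finrank_eq_spanFinrank_of_free, ← Module.finrank_eq_spanFinrank_of_free]
  let e : S ⊗[R] (maximalIdeal R) ≃ₗ[S] ↥(maximalIdeal S) :=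
    (tensorIdealEquiv R S (maximalIdeal R)).trans (LinearEquiv.ofEq _ _ h)
  have e1 : ResidueField S ⊗[S] ↥(maximalIdeal S) ≃ₗ[ResidueField S]
      ResidueField S ⊗[S] (S ⊗[R] ↥(maximalIdeal R)) :=
    AlgebraTensorModule.congr (LinearEquiv.refl (ResidueField S) (ResidueField S)) e.symm
  have e2 : ResidueField S ⊗[S] (S ⊗[R] ↥(maximalIdeal R)) ≃ₗ[ResidueField S]
      ResidueField S ⊗[R] ↥(maximalIdeal R) :=
    AlgebraTensorModule.cancelBaseChange R S (ResidueField S) (ResidueField S) ↥(maximalIdeal R)
  have e3 : ResidueField S ⊗[ResidueField R] (ResidueField R ⊗[R] ↥(maximalIdeal R))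
      ≃ₗ[ResidueField S] ResidueField S ⊗[R] ↥(maximalIdeal R) :=
    AlgebraTensorModule.cancelBaseChange R (ResidueField R) (ResidueField S) (ResidueField S)
      ↥(maximalIdeal R)
  rw [e1.finrank_eq, e2.finrank_eq, ← e3.finrank_eq, Module.finrank_baseChange]

end Groth.Agent.Lib.Helper24
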