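import Mathlib

/-!
# Factoring a nilpotent thickening through `Spec 𝒪_{X,x}`

If `l : Spec C ⟶ X` restricted to `Spec (C ⧸ J)` (`J` nilpotent) factors through
`X.fromSpecStalk x`, then so does `l`.
-/

set_option autoImplicit false
universe u

namespace Groth.Agent.Lib.Helper24

open AlgebraicGeometry CategoryTheory

/-- every point of `Spec C` comes from `Spec (C ⧸ J)` when `J` is nilpotent. -/
theorem exists_spec_quotient_point {C : Type u} [CommRing C] (J : Ideal C) (hJ : IsNilpotent J)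
    (q : Spec (CommRingCat.of C)) :
    ∃ q' : Spec (CommRingCat.of (C ⧸ J)),
      (Spec.map (CommRingCat.ofHom (Ideal.Quotient.mk J))) q' = q := by
  obtain ⟨n, hn⟩ := hJ
  have hle : J ≤ q.asIdeal := by
    apply Ideal.IsPrime.le_of_pow_le (n := n)
    rw [hn]; exact bot_le
  have hq : q ∈ Set.range (PrimeSpectrum.comap (Ideal.Quotient.mk J)) := by
    rw [range_comap_of_surjective _ _ Ideal.Quotient.mk_surjective]
    rw [Ideal.mk_ker]
    exact hle
  obtain ⟨q', hq'⟩ := hq
  exact ⟨q', hq'⟩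

theorem exists_fac_fromSpecStalk_of_nilpotent {X : Scheme.{u}} (x : X) (C : Type u) [CommRing C]
    (J : Ideal C) (hJ : IsNilpotent J)
    (l : Spec (CommRingCat.of C) ⟶ X) (ψ₀ : X.presheaf.stalk x ⟶ CommRingCat.of (C ⧸ J))
    (h : Spec.map (CommRingCat.ofHom (Ideal.Quotient.mk J)) ≫ l =
      Spec.map ψ₀ ≫ X.fromSpecStalk x) :
    ∃ χ₀ : X.presheaf.stalk x ⟶ CommRingCat.of C, Spec.map χ₀ ≫ X.fromSpecStalk x = l := by
  obtain ⟨U, hU, hxU, -⟩ := TopologicalSpace.Opens.isBasis_iff_nbhd.mp X.isBasis_affineOpens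
    (U := ⊤) (x := x) trivial
  have hU' : IsAffineOpen U := hU
  -- the range of `l` is in `U`
  have hrange : Set.range l ⊆ Set.range hU'.fromSpec := by
    rw [hU'.range_fromSpec]
    rintro _ ⟨q, rfl⟩
    obtain ⟨q', rfl⟩ := exists_spec_quotient_point J hJ q
    have h1 : l ((Spec.map (CommRingCat.ofHom (Ideal.Quotient.mk J))) q') =
        (X.fromSpecStalk x) ((Spec.map ψ₀) q') := by
      have := congrArg (fun g => g q') h
      simpa using this
    rw [h1]
    have h2 : (X.fromSpecStalk x) ((Spec.map ψ₀) q') ∈ Set.range (X.fromSpecStalk x) := ⟨_, rfl⟩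
    rw [Scheme.range_fromSpecStalk] at h2
    exact h2.mem_open U.2 hxU
  let l₀ : Spec (CommRingCat.of C) ⟶ Spec Γ(X, U) := IsOpenImmersion.lift hU'.fromSpec l hrange
  have hl₀ : l₀ ≫ hU'.fromSpec = l := IsOpenImmersion.lift_fac _ _ _
  let lam : Γ(X, U) ⟶ CommRingCat.of C := Spec.preimage l₀
  have hlam : Spec.map lam = l₀ := Spec.map_preimage _
  have hstalk : X.fromSpecStalk x = Spec.map (X.presheaf.germ U x hxU) ≫ hU'.fromSpec :=
    (hU'.fromSpecStalk_eq_fromSpecStalk hxU).symm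
  -- the ring-level square
  have hcomp : lam ≫ CommRingCat.ofHom (Ideal.Quotient.mk J) = X.presheaf.germ U x hxU ≫ ψ₀ := by
    apply Spec.map_injective
    rw [Spec.map_comp, Spec.map_comp, hlam, ← cancel_mono hU'.fromSpec, Category.assoc,
      Category.assoc, hl₀, h, hstalk]
  let := X.presheaf.algebra_section_stalk ⟨x, hxU⟩
  have hloc : IsLocalization.AtPrime (X.presheaf.stalk x) (hU'.primeIdealOf ⟨x, hxU⟩).asIdeal :=
    hU'.isLocalization_stalk ⟨x, hxU⟩
  have hunits : ∀ s : (hU'.primeIdealOf ⟨x, hxU⟩).asIdeal.primeCompl, IsUnit (lam.hom s) := by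
    intro s
    have h1 : IsUnit (algebraMap Γ(X, U) (X.presheaf.stalk x) s) :=
      IsLocalization.map_units (X.presheaf.stalk x) s
    have h2 : IsUnit (ψ₀.hom (algebraMap Γ(X, U) (X.presheaf.stalk x) s)) := h1.map ψ₀.hom
    have h3 : Ideal.Quotient.mk J (lam.hom s) =
        ψ₀.hom (algebraMap Γ(X, U) (X.presheaf.stalk x) s) := by
      have := congrArg (fun g => g.hom (s : Γ(X, U))) hcomp
      exact this
    rw [← h3] at h2
    exact (IsNilpotent.isUnit_quotient_mk_iff hJ).mp h2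
  let χ : X.presheaf.stalk x →+* C := IsLocalization.lift (M := (hU'.primeIdealOf ⟨x, hxU⟩).asIdeal.primeCompl) (g := lam.hom) hunits
  have hχ : χ.comp (algebraMap Γ(X, U) (X.presheaf.stalk x)) = lam.hom :=
    IsLocalization.lift_comp hunits
  refine ⟨CommRingCat.ofHom χ, ?_⟩
  rw [hstalk, ← hl₀, ← hlam, ← Category.assoc, ← Spec.map_comp]
  congr 2
  ext s
  exact congrArg (fun g => g s) hχ

end Groth.Agent.Lib.Helper24
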