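import Mathlib
import Groth.Prelude.Def_MoreMor
import Groth.Agent.Lib.Helper24.StalkFactor
import Groth.Agent.Lib.Helper90.SmoothRegular3
import Groth.Agent.Lib.Helper85.RegularLocal
import Groth.Agent.Lib.Helper12.LengthTensor

/-!
# Stalk maps of formally smooth morphisms of schemes are formally smooth

* `formallySmooth_stalkMap_of_isFormallySmoothHom`: the infinitesimal lifting property of a
  morphism of schemes gives ring-level formal smoothness of every stalk map.
* `isAdicFormallySmooth_quotient_of_formallySmooth`: `A ⧸ 𝔞 → B ⧸ 𝔞B` inherits formal smoothness.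
* `map_maximalIdeal_eq_of_formallySmooth_of_isArtinianRing`: a formally smooth local map to an
  Artinian local ring is unramified in the naive sense `𝔪_A B = 𝔪_B`.
* `length_eq_of_flat_of_map_maximalIdeal_eq`: for flat local `A → B` with `𝔪_A B = 𝔪_B`,
  `length_B B = length_A A`.
-/

set_option autoImplicit false
universe u

namespace Groth.Agent.Lib.Helper24

open AlgebraicGeometry CategoryTheory IsLocalRing

theorem formallySmooth_stalkMap_of_isFormallySmoothHom {X' X : Scheme.{u}} (f : X' ⟶ X)
    (hf : MoreMor.IsFormallySmoothHom f) (x' : X') :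
    (f.stalkMap x').hom.FormallySmooth := by
  algebraize [(f.stalkMap x').hom]
  rw [RingHom.FormallySmooth]
  apply Algebra.FormallySmooth.of_comp_surjective
  intro C _ _ J hJ ψ
  let a : Spec (CommRingCat.of (C ⧸ J)) ⟶ X' :=
    Spec.map (CommRingCat.ofHom ψ.toRingHom) ≫ X'.fromSpecStalk x'
  let b : Spec (CommRingCat.of C) ⟶ X :=
    Spec.map (CommRingCat.ofHom (algebraMap (X.presheaf.stalk (f x')) C)) ≫
      X.fromSpecStalk (f x')
  have hsq : Spec.map (CommRingCat.ofHom (Ideal.Quotient.mk J)) ≫ b = a ≫ f := by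
    simp only [a, b, Category.assoc]
    rw [← Scheme.SpecMap_stalkMap_fromSpecStalk, ← Category.assoc, ← Category.assoc,
      ← Spec.map_comp, ← Spec.map_comp]
    congr 2
    ext r
    exact (ψ.commutes r).symm
  obtain ⟨l, hl1, hl2⟩ := hf C J hJ a b hsq
  obtain ⟨χ₀, hχ₀⟩ := exists_fac_fromSpecStalk_of_nilpotent x' C J ⟨2, hJ⟩ l
    (CommRingCat.ofHom ψ.toRingHom) hl1
  have h1 : (f.stalkMap x') ≫ χ₀ =
      CommRingCat.ofHom (algebraMap (X.presheaf.stalk (f x')) C) := by
    apply Spec.map_injective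
    rw [← cancel_mono (X.fromSpecStalk (f x')), Spec.map_comp, Category.assoc,
      Scheme.SpecMap_stalkMap_fromSpecStalk, ← Category.assoc, hχ₀, hl2]
  have h2 : χ₀ ≫ CommRingCat.ofHom (Ideal.Quotient.mk J) = CommRingCat.ofHom ψ.toRingHom := by
    apply Spec.map_injective
    rw [← cancel_mono (X'.fromSpecStalk x'), Spec.map_comp, Category.assoc, hχ₀, hl1]
  refine ⟨{ toRingHom := χ₀.hom, commutes' := fun r => congrArg (fun g => g.hom r) h1 }, ?_⟩
  ext b
  exact congrArg (fun g => g.hom b) h2

/-- Formal smoothness passes to `A ⧸ 𝔞 → B ⧸ 𝔞B`. -/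
theorem isAdicFormallySmooth_quotient_of_formallySmooth (A B : Type u) [CommRing A] [CommRing B]
    [Algebra A B] [Algebra.FormallySmooth A B] (𝔞 : Ideal A)
    (𝔫 : Ideal (B ⧸ 𝔞.map (algebraMap A B))) :
    CAlgX.IsAdicFormallySmooth (A ⧸ 𝔞) (B ⧸ 𝔞.map (algebraMap A B)) 𝔫 := by
  intro C _ _ J hJ ψ _
  let _ : Algebra A C := Algebra.compHom C (Ideal.Quotient.mk 𝔞)
  have : IsScalarTower A (A ⧸ 𝔞) C := IsScalarTower.of_algebraMap_eq (fun _ => rfl)
  let ψ' : B →ₐ[A] C ⧸ J :=
    (ψ.restrictScalars A).comp (IsScalarTower.toAlgHom A B (B ⧸ 𝔞.map (algebraMap A B)))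
  obtain ⟨χ₀, hχ₀⟩ := Algebra.FormallySmooth.exists_lift J ⟨2, hJ⟩ ψ'
  have hker : ∀ b ∈ 𝔞.map (algebraMap A B), χ₀.toRingHom b = 0 := by
    intro b hb
    have hle : 𝔞.map (algebraMap A B) ≤ RingHom.ker χ₀.toRingHom := by
      rw [Ideal.map_le_iff_le_comap]
      intro a ha
      rw [Ideal.mem_comap, RingHom.mem_ker]
      change χ₀ (algebraMap A B a) = 0
      rw [χ₀.commutes]
      change algebraMap (A ⧸ 𝔞) C (Ideal.Quotient.mk 𝔞 a) = 0
      rw [Ideal.Quotient.eq_zero_iff_mem.mpr ha, map_zero]
    exact hle hb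
  let χ : (B ⧸ 𝔞.map (algebraMap A B)) →ₐ[A ⧸ 𝔞] C :=
    { toRingHom := Ideal.Quotient.lift _ χ₀.toRingHom hker
      commutes' := by
        intro r
        obtain ⟨a, rfl⟩ := Ideal.Quotient.mk_surjective r
        change Ideal.Quotient.lift _ χ₀.toRingHom hker
          (Ideal.Quotient.mk _ (algebraMap A B a)) = _
        rw [Ideal.Quotient.lift_mk]
        change χ₀ (algebraMap A B a) = _
        rw [χ₀.commutes]
        rfl }
  refine ⟨χ, ?_⟩
  ext bb
  obtain ⟨b, rfl⟩ := Ideal.Quotient.mk_surjective bb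
  have := congrArg (fun g => g b) hχ₀
  exact this

/-- A formally smooth local homomorphism into an Artinian local ring satisfies `𝔪_A B = 𝔪_B`. -/
theorem map_maximalIdeal_eq_of_formallySmooth_of_isArtinianRing (A B : Type u) [CommRing A]
    [CommRing B] [IsLocalRing A] [IsLocalRing B] [Algebra A B] [IsLocalHom (algebraMap A B)]
    [IsArtinianRing B] [Algebra.FormallySmooth A B] :
    (maximalIdeal A).map (algebraMap A B) = maximalIdeal B := by
  have hle : (maximalIdeal A).map (algebraMap A B) ≤ maximalIdeal B :=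
    ((IsLocalRing.local_hom_TFAE (algebraMap A B)).out 0 2).mp
      (inferInstance : IsLocalHom (algebraMap A B))
  have hne : (maximalIdeal A).map (algebraMap A B) ≠ ⊤ :=
    fun h => (maximalIdeal.isMaximal B).ne_top (top_le_iff.mp (h ▸ hle))
  have : Nontrivial (B ⧸ (maximalIdeal A).map (algebraMap A B)) :=
    Ideal.Quotient.nontrivial_iff.mpr hne
  have : IsLocalRing (B ⧸ (maximalIdeal A).map (algebraMap A B)) :=
    IsLocalRing.of_surjective' (Ideal.Quotient.mk _) Ideal.Quotient.mk_surjective
  let _ : Algebra (ResidueField A) (B ⧸ (maximalIdeal A).map (algebraMap A B)) :=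
    inferInstanceAs (Algebra (A ⧸ maximalIdeal A) (B ⧸ (maximalIdeal A).map (algebraMap A B)))
  have hsm : CAlgX.IsAdicFormallySmooth (ResidueField A)
      (B ⧸ (maximalIdeal A).map (algebraMap A B))
      (maximalIdeal (B ⧸ (maximalIdeal A).map (algebraMap A B))) :=
    isAdicFormallySmooth_quotient_of_formallySmooth A B (maximalIdeal A) _
  have hreg : IsRegularLocalRing (B ⧸ (maximalIdeal A).map (algebraMap A B)) :=
    Groth.Agent.Lib.Helper90.SmoothRegular.regular_of_smooth_general (k := ResidueField A) hsm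
  have hdom : IsDomain (B ⧸ (maximalIdeal A).map (algebraMap A B)) :=
    Groth.Agent.Lib.Helper85.isDomain_of_isRegularLocalRing _
  have hart : IsArtinianRing (B ⧸ (maximalIdeal A).map (algebraMap A B)) :=
    (Ideal.Quotient.mk_surjective (I := (maximalIdeal A).map (algebraMap A B))).isArtinianRing
  have hfield : IsField (B ⧸ (maximalIdeal A).map (algebraMap A B)) :=
    IsArtinianRing.isField_of_isDomain _
  have hmax : ((maximalIdeal A).map (algebraMap A B)).IsMaximal :=
    Ideal.Quotient.maximal_of_isField _ hfield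
  exact IsLocalRing.eq_maximalIdeal hmax

open TensorProduct in
/-- For a flat local homomorphism `A → B` with `𝔪_A B = 𝔪_B`, `length_B B = length_A A`. -/
theorem length_eq_of_flat_of_map_maximalIdeal_eq (A B : Type u) [CommRing A]
    [CommRing B] [IsLocalRing A] [IsLocalRing B] [Algebra A B] [IsLocalHom (algebraMap A B)]
    [Module.Flat A B] (h : (maximalIdeal A).map (algebraMap A B) = maximalIdeal B) :
    Module.length B B = Module.length A A := by
  have hff : Module.FaithfullyFlat A B := Module.FaithfullyFlat.of_flat_of_isLocalHom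
  have key := Groth.Agent.Lib.Helper12.LengthTensor.length_tensor (A := A) (B := B) B A
  have e1 : (B ⊗[A] A) ≃ₗ[B] B := AlgebraTensorModule.rid A B B
  rw [e1.length_eq, h] at key
  have e2 : (maximalIdeal B • (⊤ : Submodule B B)) = maximalIdeal B := by
    rw [Ideal.smul_eq_mul, Ideal.mul_top]
  have h3 : Module.length B (B ⧸ (maximalIdeal B • (⊤ : Submodule B B))) = 1 := by
    rw [Module.length_eq_one_iff, e2]
    exact isSimpleModule_iff_isCoatom.mpr (Ideal.isMaximal_def.mp inferInstance)
  rw [h3, mul_one] at key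
  exact key

end Groth.Agent.Lib.Helper24
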