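import Mathlib

/-!
# Noetherian G-domains, and points that are open in their closure

* `eq_of_le_of_ne_bot_of_forall_mem`: a Noetherian domain `D` in which a nonzero element `f` lies in
  every nonzero prime has dimension `≤ 1`.
* `finite_primeSpectrum_of_forall_mem`: and `Spec D` is finite.
-/

set_option autoImplicit false
universe u

namespace Groth.Agent.Lib.Helper24

open Ideal

/-- There is no chain of primes `P₃ < P₂ < P₁` with `P₁` minimal over a principal ideal. -/
theorem not_lt_lt_of_mem_minimalPrimes_span_singleton {D : Type*} [CommRing D] [IsNoetherianRing D]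
    {g : D} {P₁ P₂ P₃ : Ideal D} [P₂.IsPrime] [P₃.IsPrime]
    (h₁ : P₁ ∈ (Ideal.span {g}).minimalPrimes) (h₃₂ : P₃ < P₂) (h₂₁ : P₂ < P₁) : False := by
  have : P₁.IsPrime := h₁.1.1
  have hh : P₁.height ≤ 1 :=
    Ideal.height_le_one_of_isPrincipal_of_mem_minimalPrimes (Ideal.span {g}) P₁ h₁
  have h1 := Ideal.height_add_one_le_of_lt_of_isPrime h₃₂
  have h2 := Ideal.height_add_one_le_of_lt_of_isPrime h₂₁
  have h3 : (1 : ℕ∞) ≤ P₂.height := le_trans le_add_self h1
  have h4 : (1 : ℕ∞) + 1 ≤ 1 := le_trans (add_le_add_left h3 1) (le_trans h2 hh)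
  exact absurd h4 (by decide)

/-- A Noetherian domain in which some nonzero `f` lies in every nonzero prime has dimension at most
one: nonzero primes are maximal among primes. -/
theorem eq_of_le_of_ne_bot_of_forall_mem {D : Type*} [CommRing D] [IsDomain D]
    [IsNoetherianRing D] {f : D} (hf : f ≠ 0)
    (H : ∀ P : Ideal D, P.IsPrime → P ≠ ⊥ → f ∈ P)
    {P Q : Ideal D} [hP : P.IsPrime] [hQ : Q.IsPrime] (hP0 : P ≠ ⊥) (hPQ : P ≤ Q) : Q = P := by
  by_contra hne
  have hlt : P < Q := lt_of_le_of_ne hPQ (Ne.symm hne)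
  have hQ0 : Q ≠ ⊥ := fun h => hP0 (le_bot_iff.mp (h ▸ hPQ))
  have hfQ : f ∈ Q := H Q hQ hQ0
  have hfin := Ideal.finite_minimalPrimes_of_isNoetherianRing D (Ideal.span {f})
  have hbot : (⊥ : Ideal D).IsPrime := Ideal.isPrime_bot
  -- `Q` is not contained in any minimal prime over `(f)`
  have hnot : ¬ ∃ P' ∈ (Ideal.span {f}).minimalPrimes, Q ≤ id P' := by
    rintro ⟨P', hP', hQP'⟩
    exact not_lt_lt_of_mem_minimalPrimes_span_singleton hP' (bot_lt_iff_ne_bot.mpr hP0)
      (lt_of_lt_of_le hlt hQP')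
  rw [← Ideal.subset_union_prime_finite hfin (f := id) ⊥ ⊥ (fun I hI _ _ => hI.1.1)] at hnot
  obtain ⟨g, hgQ, hg⟩ := Set.not_subset.mp hnot
  simp only [id, Set.mem_iUnion, not_exists] at hg
  -- a minimal prime over `(f)` inside `Q`, to see that `g ≠ 0`
  obtain ⟨P₀, hP₀, -⟩ := Ideal.exists_minimalPrimes_le (I := Ideal.span {f}) (J := Q)
    ((Ideal.span_singleton_le_iff_mem _).mpr hfQ)
  have hg0 : g ≠ 0 := fun h => hg P₀ hP₀ (h ▸ P₀.zero_mem)
  -- a minimal prime over `(g)` inside `Q`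
  obtain ⟨P₁, hP₁, -⟩ := Ideal.exists_minimalPrimes_le (I := Ideal.span {g}) (J := Q)
    ((Ideal.span_singleton_le_iff_mem _).mpr hgQ)
  have hP₁p : P₁.IsPrime := hP₁.1.1
  have hgP₁ : g ∈ P₁ := (Ideal.span_singleton_le_iff_mem _).mp hP₁.1.2
  have hP₁0 : P₁ ≠ ⊥ := fun h => hg0 (by simpa [h] using hgP₁)
  have hfP₁ : f ∈ P₁ := H P₁ hP₁p hP₁0
  obtain ⟨P₂, hP₂, hP₂₁⟩ := Ideal.exists_minimalPrimes_le (I := Ideal.span {f}) (J := P₁)
    ((Ideal.span_singleton_le_iff_mem _).mpr hfP₁)
  have hP₂p : P₂.IsPrime := hP₂.1.1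
  have hfP₂ : f ∈ P₂ := (Ideal.span_singleton_le_iff_mem _).mp hP₂.1.2
  have hP₂0 : P₂ ≠ ⊥ := fun h => hf (by simpa [h] using hfP₂)
  rcases eq_or_lt_of_le hP₂₁ with heq | hlt'
  · exact hg P₂ hP₂ (heq ▸ hgP₁)
  · exact not_lt_lt_of_mem_minimalPrimes_span_singleton hP₁ (bot_lt_iff_ne_bot.mpr hP₂0) hlt'

/-- In the situation of `eq_of_le_of_ne_bot_of_forall_mem`, every nonzero prime is minimal over
`(f)`. -/
theorem mem_minimalPrimes_of_ne_bot_of_forall_mem {D : Type*} [CommRing D] [IsDomain D]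
    [IsNoetherianRing D] {f : D} (hf : f ≠ 0)
    (H : ∀ P : Ideal D, P.IsPrime → P ≠ ⊥ → f ∈ P)
    {P : Ideal D} [hP : P.IsPrime] (hP0 : P ≠ ⊥) : P ∈ (Ideal.span {f}).minimalPrimes := by
  obtain ⟨P₂, hP₂, hP₂₁⟩ := Ideal.exists_minimalPrimes_le (I := Ideal.span {f}) (J := P)
    ((Ideal.span_singleton_le_iff_mem _).mpr (H P hP hP0))
  have hP₂p : P₂.IsPrime := hP₂.1.1
  have hfP₂ : f ∈ P₂ := (Ideal.span_singleton_le_iff_mem _).mp hP₂.1.2
  have hP₂0 : P₂ ≠ ⊥ := fun h => hf (by simpa [h] using hfP₂)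
  have := eq_of_le_of_ne_bot_of_forall_mem hf H hP₂0 hP₂₁
  exact this ▸ hP₂


/-- A Noetherian domain whose generic point is open in its spectrum: nonzero primes have no proper
specialisations, and the spectrum is finite. -/
theorem primeSpectrum_of_isOpen_bot {D : Type*} [CommRing D] [IsDomain D] [IsNoetherianRing D]
    (h : IsOpen ({⊥} : Set (PrimeSpectrum D))) :
    (∀ s s' : PrimeSpectrum D, s ≠ ⊥ → s ⤳ s' → s' = s) ∧ Finite (PrimeSpectrum D) := by
  obtain ⟨_, ⟨f, rfl⟩, hf1, hf2⟩ :=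
    PrimeSpectrum.isTopologicalBasis_basic_opens.exists_subset_of_mem_open
      (Set.mem_singleton (⊥ : PrimeSpectrum D)) h
  have hf : f ≠ 0 := by
    rintro rfl
    exact hf1 (Ideal.zero_mem _)
  have H : ∀ P : Ideal D, P.IsPrime → P ≠ ⊥ → f ∈ P := by
    intro P hP hP0
    by_contra hfP
    have : (⟨P, hP⟩ : PrimeSpectrum D) ∈ ({⊥} : Set (PrimeSpectrum D)) := hf2 hfP
    exact hP0 (congrArg PrimeSpectrum.asIdeal (Set.mem_singleton_iff.mp this))
  refine ⟨?_, ?_⟩
  · intro s s' hs hss'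
    have hs0 : s.asIdeal ≠ ⊥ := fun h0 => hs (PrimeSpectrum.ext h0)
    have hle : s.asIdeal ≤ s'.asIdeal := (PrimeSpectrum.le_iff_specializes s s').mpr hss'
    exact PrimeSpectrum.ext (eq_of_le_of_ne_bot_of_forall_mem hf H hs0 hle)
  · have hfin := (Ideal.finite_minimalPrimes_of_isNoetherianRing D (Ideal.span {f})).insert ⊥
    have hinj : Set.InjOn (PrimeSpectrum.asIdeal (R := D))
        (PrimeSpectrum.asIdeal ⁻¹' (insert ⊥ (Ideal.span {f}).minimalPrimes)) :=
      fun a _ b _ hab => PrimeSpectrum.ext hab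
    have h1 := hfin.preimage hinj
    refine Set.finite_univ_iff.mp (h1.subset ?_)
    intro s _
    by_cases hs0 : s.asIdeal = ⊥
    · exact Set.mem_insert_iff.mpr (Or.inl hs0)
    · exact Set.mem_insert_iff.mpr (Or.inr (mem_minimalPrimes_of_ne_bot_of_forall_mem hf H hs0))

open AlgebraicGeometry in
/-- Local form: in a locally Noetherian scheme, let `x` be a point which is open in its closure
(`U` is an open set meeting `closure {x}` only in `x`), and `V` an affine open containing `x`. Then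
inside `V` the proper specialisations of `x` are closed, and there are finitely many of them. -/
theorem specializes_of_isAffineOpen {X : Scheme.{u}} [IsLocallyNoetherian X] {x : X}
    {U : Set X} (hUo : IsOpen U) (hxU : x ∈ U) (hU : ∀ y, x ⤳ y → y ∈ U → y = x)
    {V : X.Opens} (hV : IsAffineOpen V) (hxV : x ∈ V) :
    (∀ y y' : X, y' ∈ V → x ⤳ y → y ≠ x → y ⤳ y' → y' = y) ∧
      ({y : X | x ⤳ y} ∩ V).Finite := by
  have hA : IsNoetherianRing Γ(X, V) := IsLocallyNoetherian.component_noetherian ⟨V, hV⟩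
  obtain ⟨p, hp⟩ : ∃ p : PrimeSpectrum Γ(X, V), hV.fromSpec p = x := by
    have : x ∈ Set.range hV.fromSpec := by rw [hV.range_fromSpec]; exact hxV
    exact this
  let D := Γ(X, V) ⧸ p.asIdeal
  let q : Γ(X, V) →+* D := Ideal.Quotient.mk p.asIdeal
  have hq : Function.Surjective q := Ideal.Quotient.mk_surjective
  let ψ : PrimeSpectrum D → X := fun s => hV.fromSpec (PrimeSpectrum.comap q s)
  have hψ : Topology.IsEmbedding ψ :=
    hV.fromSpec.isOpenEmbedding.isEmbedding.comp
      (PrimeSpectrum.isEmbedding_comap_of_surjective _ q hq)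
  have hbot : PrimeSpectrum.comap q ⊥ = p := by
    apply PrimeSpectrum.ext
    change Ideal.comap q ⊥ = p.asIdeal
    rw [← RingHom.ker_eq_comap_bot, Ideal.mk_ker]
  have hψbot : ψ ⊥ = x := by
    change hV.fromSpec (PrimeSpectrum.comap q ⊥) = x
    rw [hbot, hp]
  have hrange : ∀ y : X, y ∈ V → x ⤳ y → y ∈ Set.range ψ := by
    intro y hyV hxy
    obtain ⟨r, hr⟩ : ∃ r : PrimeSpectrum Γ(X, V), hV.fromSpec r = y := by
      have : y ∈ Set.range hV.fromSpec := by rw [hV.range_fromSpec]; exact hyV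
      exact this
    have hpr : p ⤳ r := by
      have h1 : hV.fromSpec p ⤳ hV.fromSpec r := by rw [hp, hr]; exact hxy
      exact (hV.fromSpec.isOpenEmbedding.isInducing.specializes_iff (x := p) (y := r)).mp h1
    have : r ∈ Set.range (PrimeSpectrum.comap q) := by
      rw [range_comap_of_surjective _ q hq, Ideal.mk_ker, ← PrimeSpectrum.closure_singleton]
      exact specializes_iff_mem_closure.mp hpr
    obtain ⟨s, hs⟩ := this
    exact ⟨s, by change hV.fromSpec (PrimeSpectrum.comap q s) = y; rw [hs, hr]⟩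
  have hopen : IsOpen ({⊥} : Set (PrimeSpectrum D)) := by
    have : ({⊥} : Set (PrimeSpectrum D)) = ψ ⁻¹' U := by
      ext s
      simp only [Set.mem_singleton_iff, Set.mem_preimage]
      constructor
      · rintro rfl
        rw [hψbot]; exact hxU
      · intro hs
        have h1 : x ⤳ ψ s := by
          rw [← hψbot, hψ.isInducing.specializes_iff, ← PrimeSpectrum.le_iff_specializes]
          exact bot_le
        have h2 := hU _ h1 hs
        exact hψ.injective (h2.trans hψbot.symm)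
    rw [this]
    exact hUo.preimage hψ.continuous
  obtain ⟨H1, H2⟩ := primeSpectrum_of_isOpen_bot hopen
  refine ⟨?_, ?_⟩
  · intro y y' hy'V hxy hyx hyy'
    have hyV : y ∈ V := hyy'.mem_open V.2 hy'V
    obtain ⟨s, rfl⟩ := hrange y hyV hxy
    obtain ⟨s', rfl⟩ := hrange y' hy'V (hxy.trans hyy')
    have hs : s ≠ ⊥ := by
      rintro rfl
      exact hyx hψbot
    rw [hψ.isInducing.specializes_iff] at hyy'
    rw [H1 s s' hs hyy']
  · refine (Set.finite_range ψ).subset ?_
    rintro y ⟨hxy, hyV⟩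
    exact hrange y hyV hxy


open AlgebraicGeometry in
/-- In a locally Noetherian scheme, if `x` is open in its closure then every proper specialisation
of `x` is a closed point (it has no proper specialisation). -/
theorem eq_of_specializes_of_isOpen_inter_closure {X : Scheme.{u}} [IsLocallyNoetherian X] {x : X}
    {U : Set X} (hUo : IsOpen U) (hxU : x ∈ U) (hU : ∀ y, x ⤳ y → y ∈ U → y = x)
    {y y' : X} (hxy : x ⤳ y) (hyx : y ≠ x) (hyy' : y ⤳ y') : y' = y := by
  obtain ⟨_, ⟨V, hV : IsAffineOpen V, rfl⟩, hy'V, -⟩ :=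
    X.isBasis_affineOpens.exists_subset_of_mem_open (Set.mem_univ y') isOpen_univ
  have hxV : x ∈ V := (hxy.trans hyy').mem_open V.2 hy'V
  exact (specializes_of_isAffineOpen hUo hxU hU hV hxV).1 y y' hy'V hxy hyx hyy'

open AlgebraicGeometry in
/-- In a Noetherian scheme, a point which is open in its closure has finite closure. -/
theorem finite_closure_of_isOpen_inter_closure {X : Scheme.{u}} [IsNoetherian X] {x : X}
    {U : Set X} (hUo : IsOpen U) (hxU : x ∈ U) (hU : ∀ y, x ⤳ y → y ∈ U → y = x) :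
    (closure ({x} : Set X)).Finite := by
  let 𝒰 := X.affineCover.finiteSubcover
  have hfin : ∀ i : 𝒰.I₀, ({y : X | x ⤳ y} ∩ (𝒰.f i).opensRange).Finite := by
    intro i
    have hV : IsAffineOpen (𝒰.f i).opensRange := isAffineOpen_opensRange (𝒰.f i)
    by_cases hxV : x ∈ (𝒰.f i).opensRange
    · exact (specializes_of_isAffineOpen hUo hxU hU hV hxV).2
    · convert Set.finite_empty
      ext y
      simp only [Set.mem_inter_iff, Set.mem_ofPred_eq, Set.mem_empty_iff_false, iff_false, not_and]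
      intro hxy hy
      exact hxV (hxy.mem_open (𝒰.f i).opensRange.2 hy)
  refine (Set.finite_iUnion hfin).subset ?_
  intro y hy
  have hxy : x ⤳ y := specializes_iff_mem_closure.mpr hy
  obtain ⟨i, z, hz⟩ := 𝒰.exists_eq y
  exact Set.mem_iUnion.mpr ⟨i, hxy, ⟨z, hz⟩⟩

end Groth.Agent.Lib.Helper24
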