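import Groth.Agent.Lib.Helper24.GeomFibPlumbing
import Mathlib.AlgebraicGeometry.Geometrically.Connected

/-!
# Geometric properties over a field can be tested on algebraically closed points

For `p : X ⟶ Y` and a property `P` of schemes which descends along the base change of
`Spec K̄ ⟶ Spec K` (`K̄` an algebraic closure): `p` is geometrically `P` as soon as every cartesian square over an
algebraically closed point has `P`.
-/

universe u

open CategoryTheory CategoryTheory.Limits AlgebraicGeometry

namespace Groth.Agent.Lib.Helper24

/-- The morphism `Spec K̄ ⟶ Spec K`. -/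
noncomputable abbrev specAlgClosure (K : Type u) [Field K] :
    Spec (CommRingCat.of (AlgebraicClosure K)) ⟶ Spec (CommRingCat.of K) :=
  Spec.map (CommRingCat.ofHom (algebraMap K (AlgebraicClosure K)))

instance surjective_specAlgClosure (K : Type u) [Field K] : Surjective (specAlgClosure K) :=
  ⟨fun _ => ⟨IsLocalRing.closedPoint (AlgebraicClosure K), Subsingleton.elim _ _⟩⟩

theorem isReduced_Spec_field (K : Type u) [Field K] : IsReduced (Spec (CommRingCat.of K)) := by
  have hK : _root_.IsReduced (CommRingCat.of K) := by
    change _root_.IsReduced K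
    infer_instance
  exact (AlgebraicGeometry.affine_isReduced_iff (CommRingCat.of K)).mpr hK

instance isSchemeTheoreticallyDominant_specAlgClosure (K : Type u) [Field K] :
    IsSchemeTheoreticallyDominant (specAlgClosure K) := by
  have := isReduced_Spec_field K
  have : IsDominant (specAlgClosure K) := inferInstance
  exact IsSchemeTheoreticallyDominant.of_isDominant _

/-- Testing a geometric property on algebraically closed points. -/
theorem geometrically_of_forall_algClosed {X Y : Scheme.{u}} (p : X ⟶ Y) (P : ObjectProperty Scheme.{u})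
    (hdesc : ∀ (K : Type u) [Field K] (Z : Scheme.{u}) (snd : Z ⟶ Spec (CommRingCat.of K)),
      P (pullback snd (specAlgClosure K)) → P Z)
    (h : ∀ (Ω : Type u) [Field Ω] [IsAlgClosed Ω] (t' : Spec (CommRingCat.of Ω) ⟶ Y) (X' : Scheme.{u})
        (q : X' ⟶ Spec (CommRingCat.of Ω)) (i₀ : X' ⟶ X), IsPullback i₀ q p t' → P X') :
    geometrically P p := by
  intro K _ y Z fst snd hZ
  have hpb : IsPullback (pullback.fst snd (specAlgClosure K)) (pullback.snd snd (specAlgClosure K)) snd
      (specAlgClosure K) := IsPullback.of_hasPullback snd _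
  have hpaste := hpb.paste_horiz hZ
  exact hdesc K Z snd (h (AlgebraicClosure K) (specAlgClosure K ≫ y) _ _ _ hpaste)

/-- Reducedness descends from the base change to an algebraic closure. -/
theorem isReduced_of_pullback_specAlgClosure (K : Type u) [Field K] (Z : Scheme.{u})
    (snd : Z ⟶ Spec (CommRingCat.of K)) (h : IsReduced (pullback snd (specAlgClosure K))) : IsReduced Z := by
  have : IsSchemeTheoreticallyDominant (pullback.fst snd (specAlgClosure K)) := inferInstance
  exact IsSchemeTheoreticallyDominant.isReduced (pullback.fst snd (specAlgClosure K))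

/-- Connectedness descends from the base change to an algebraic closure. -/
theorem connectedSpace_of_pullback_specAlgClosure (K : Type u) [Field K] (Z : Scheme.{u})
    (snd : Z ⟶ Spec (CommRingCat.of K)) (h : ConnectedSpace ↥(pullback snd (specAlgClosure K))) :
    ConnectedSpace ↥Z := by
  have : Surjective (pullback.fst snd (specAlgClosure K)) := inferInstance
  exact Function.Surjective.connectedSpace (pullback.fst snd (specAlgClosure K)).surjective
    (pullback.fst snd (specAlgClosure K)).continuous

theorem geometricallyReduced_of_forall_algClosed {X Y : Scheme.{u}} (p : X ⟶ Y)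
    (h : ∀ (Ω : Type u) [Field Ω] [IsAlgClosed Ω] (t' : Spec (CommRingCat.of Ω) ⟶ Y) (X' : Scheme.{u})
        (q : X' ⟶ Spec (CommRingCat.of Ω)) (i₀ : X' ⟶ X), IsPullback i₀ q p t' → IsReduced X') :
    GeometricallyReduced p :=
  ⟨geometrically_of_forall_algClosed p _ isReduced_of_pullback_specAlgClosure h⟩

theorem geometricallyConnected_of_forall_algClosed {X Y : Scheme.{u}} (p : X ⟶ Y)
    (h : ∀ (Ω : Type u) [Field Ω] [IsAlgClosed Ω] (t' : Spec (CommRingCat.of Ω) ⟶ Y) (X' : Scheme.{u})
        (q : X' ⟶ Spec (CommRingCat.of Ω)) (i₀ : X' ⟶ X), IsPullback i₀ q p t' → ConnectedSpace ↥X') :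
    GeometricallyConnected p :=
  ⟨geometrically_of_forall_algClosed p _ connectedSpace_of_pullback_specAlgClosure h⟩

end Groth.Agent.Lib.Helper24
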