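import Groth.Prelude.Def_StCurv2
import Mathlib.AlgebraicGeometry.Geometrically.Reduced

/-!
# Plumbing for `CurvSt.GeomFib` on the sheaf family of a scheme over a field point

For the family `A = toSpFam ⟨Over.mk t, X, p, ∅⟩` (the scheme `X` over `T`, base `t : T ⟶ S`):
* a cartesian square of sheaves exhibiting `h_{X'}` as a geometric fibre of `A` comes from a cartesian square of
  schemes (`isPullback_of_geomFib_square`);
* conversely every cartesian square of schemes gives such a square of sheaves (`geomFib_square_of_isPullback`).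
Hence `GeomFib P A` for a property `P` not depending on the marked points (there are none) is "for every
algebraically closed `Ω`, every cartesian square of schemes over `Spec Ω ⟶ T` has `P`".
-/

universe u

open CategoryTheory CategoryTheory.Limits AlgebraicGeometry

namespace Groth.Agent.Lib.Helper24

variable (S : Scheme.{u})

/-- The object of `CurvSt.SpFam S 0` attached to a scheme `X` over a scheme `T` over `S`. -/
noncomputable abbrev spFamOf {T : Scheme.{u}} (t : T ⟶ S) (X : Scheme.{u}) (p : X ⟶ T) :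
    CurvSt.SpFamObj S 0 :=
  (CurvSt.toSpFam S 0).obj ⟨Over.mk t, X, p, Fin.elim0, fun i => i.elim0⟩

variable {S}

/-- A cartesian square of sheaves exhibiting `h_{X'}` as the fibre of the family of `X` over `t'` comes from a
cartesian square of schemes. -/
theorem isPullback_of_geomFib_square {T : Scheme.{u}} (t : T ⟶ S) (X : Scheme.{u}) (p : X ⟶ T)
    {T' : Scheme.{u}} (t' : T' ⟶ T) {X' : Scheme.{u}} (q : X' ⟶ T')
    (i : (AlgSp.yon S).obj ((spFamOf S t X p).ptOver (q ≫ t')) ⟶ (spFamOf S t X p).X)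
    (hP : IsPullback i ((AlgSp.yon S).map ((spFamOf S t X p).fibHom t' q)) (spFamOf S t X p).f
      ((AlgSp.yon S).map ((spFamOf S t X p).ptHom t'))) :
    ∃ i₀ : X' ⟶ X, IsPullback i₀ q p t' := by
  let A : CurvSt.PtFamObj S 0 := ⟨Over.mk t, X, p, Fin.elim0, fun i => i.elim0⟩
  let i₀ : (spFamOf S t X p).ptOver (q ≫ t') ⟶ A.totOver := (AlgSp.yon S).preimage i
  have hi₀ : (AlgSp.yon S).map i₀ = i := (AlgSp.yon S).map_preimage _
  have hO : IsPullback i₀ ((spFamOf S t X p).fibHom t' q) A.fOver ((spFamOf S t X p).ptHom t') := by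
    refine IsPullback.of_map (AlgSp.yon S) ?_ ?_
    · apply (AlgSp.yon S).map_injective
      rw [Functor.map_comp, Functor.map_comp, hi₀]
      exact hP.w
    · rw [hi₀]; exact hP
  exact ⟨i₀.left, hO.map (Over.forget S)⟩

/-- A cartesian square of schemes gives a cartesian square of sheaves of the shape tested by `CurvSt.GeomFib`. -/
theorem geomFib_square_of_isPullback {T : Scheme.{u}} (t : T ⟶ S) (X : Scheme.{u}) (p : X ⟶ T)
    {T' : Scheme.{u}} (t' : T' ⟶ T) {X' : Scheme.{u}} (q : X' ⟶ T') (i₀ : X' ⟶ X)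
    (h : IsPullback i₀ q p t') :
    ∃ i : (AlgSp.yon S).obj ((spFamOf S t X p).ptOver (q ≫ t')) ⟶ (spFamOf S t X p).X,
      IsPullback i ((AlgSp.yon S).map ((spFamOf S t X p).fibHom t' q)) (spFamOf S t X p).f
        ((AlgSp.yon S).map ((spFamOf S t X p).ptHom t')) := by
  let A : CurvSt.PtFamObj S 0 := ⟨Over.mk t, X, p, Fin.elim0, fun i => i.elim0⟩
  let iO : (spFamOf S t X p).ptOver (q ≫ t') ⟶ A.totOver :=
    Over.homMk i₀ (by
      dsimp only [CurvSt.PtFamObj.totOver, Over.mk_hom]
      rw [reassoc_of% h.w]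
      rfl)
  have hO : IsPullback iO ((spFamOf S t X p).fibHom t' q) A.fOver ((spFamOf S t X p).ptHom t') :=
    IsPullback.of_map (Over.forget S) (Over.OverMorphism.ext h.w) h
  exact ⟨(AlgSp.yon S).map iO, hO.map (AlgSp.yon S)⟩

/-- `GeomFib` for the family of a scheme over a scheme, for a property not depending on marked points: it is
the same as testing all cartesian squares of schemes over algebraically closed points. -/
theorem geomFib_spFamOf_iff {T : Scheme.{u}} (t : T ⟶ S) (X : Scheme.{u}) (p : X ⟶ T)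
    (P : ∀ (Ω : Type u) [Field Ω] [IsAlgClosed Ω] (X' : Scheme.{u}),
      (X' ⟶ Spec (CommRingCat.of Ω)) → Prop) :
    CurvSt.GeomFib (fun Ω _ _ X' q _ => P Ω X' q) (spFamOf S t X p) ↔
      ∀ (Ω : Type u) [Field Ω] [IsAlgClosed Ω] (t' : Spec (CommRingCat.of Ω) ⟶ T) (X' : Scheme.{u})
        (q : X' ⟶ Spec (CommRingCat.of Ω)) (i₀ : X' ⟶ X), IsPullback i₀ q p t' → P Ω X' q := by
  constructor
  · intro h Ω _ _ t' X' q i₀ hi
    obtain ⟨i, hP⟩ := geomFib_square_of_isPullback t X p t' q i₀ hi
    exact h Ω t' X' q i hP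
  · intro h Ω _ _ t' X' q i hP
    obtain ⟨i₀, hi⟩ := isPullback_of_geomFib_square t X p t' q i hP
    exact h Ω t' X' q i₀ hi

end Groth.Agent.Lib.Helper24
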