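import Groth.Agent.Lib.Helper24.GorenFlat
import Groth.Agent.H46.CMAt2
import Groth.Prelude.Def_Dual3

/-!
# Gorenstein morphisms: pointwise criteria, composition (helper24)

Mirrors helper46's `H46.CMAt`/`H46.CMFlatLocal` for the Gorenstein property.
-/

set_option autoImplicit false
universe u

open AlgebraicGeometry CategoryTheory Limits

namespace Groth.Agent.Lib.Helper24

open IsLocalRing Groth.Agent.H46.CMFlatLocal Groth.Agent.H46.CMAt

section Comp

variable (A B C : Type u) [CommRing A] [CommRing B] [CommRing C] [IsLocalRing A] [IsLocalRing B]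
  [IsLocalRing C] [Algebra A B] [Algebra B C] [Algebra A C] [IsScalarTower A B C]
  [IsLocalHom (algebraMap A B)] [IsLocalHom (algebraMap B C)]

/-- composition: `A → B` with Gorenstein closed fibre and `B → C` flat with Gorenstein closed fibre
implies `A → C` has Gorenstein closed fibre (given it is Noetherian). -/
theorem gor_comp [Module.Flat B C]
    (hB : LocCoh.IsGorensteinLocalRing (B ⧸ (maximalIdeal A).map (algebraMap A B)))
    (hC : LocCoh.IsGorensteinLocalRing (C ⧸ (maximalIdeal B).map (algebraMap B C)))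
    (hN : IsNoetherianRing (C ⧸ (maximalIdeal A).map (algebraMap A C))) :
    LocCoh.IsGorensteinLocalRing (C ⧸ (maximalIdeal A).map (algebraMap A C)) := by
  have hI : (maximalIdeal A).map (algebraMap A B) ≤ maximalIdeal B :=
    map_maximalIdeal_le (algebraMap A B)
  have hJ := map_map_maximalIdeal A B C
  have hlB := isLocalRing_quot B _ hI
  have hlC := isLocalRing_quot C _ (map_le_maximalIdeal B C _ hI)
  have := isLocalHom_quot B C _ hI
  have := flat_quotient B C ((maximalIdeal A).map (algebraMap A B))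
  have : IsNoetherianRing (B ⧸ (maximalIdeal A).map (algebraMap A B)) := hB.toIsNoetherian
  have : IsNoetherianRing
      (C ⧸ ((maximalIdeal A).map (algebraMap A B)).map (algebraMap B C)) :=
    isNoetherianRing_of_ringEquiv _ (Ideal.quotEquivOfEq hJ.symm)
  have hF : LocCoh.IsGorensteinLocalRing
      (EGA4.FibRing (B ⧸ (maximalIdeal A).map (algebraMap A B))
        (C ⧸ ((maximalIdeal A).map (algebraMap A B)).map (algebraMap B C))) :=
    isGorensteinLocalRing_of_ringEquiv (fibRingQuotEquiv B C _ hI).symm hC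
  have h := (isGorensteinLocalRing_iff_of_flat_local
    (B ⧸ (maximalIdeal A).map (algebraMap A B))
    (C ⧸ ((maximalIdeal A).map (algebraMap A B)).map (algebraMap B C))).mpr ⟨hB, hF⟩
  exact isGorensteinLocalRing_of_ringEquiv (Ideal.quotEquivOfEq hJ) h

/-- converse: `A → C` with Gorenstein closed fibre and `B → C` flat implies `A → B` and `B → C`
have Gorenstein closed fibres. -/
theorem gor_of_comp [Module.Flat B C]
    (hC : LocCoh.IsGorensteinLocalRing (C ⧸ (maximalIdeal A).map (algebraMap A C)))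
    (hNB : IsNoetherianRing (B ⧸ (maximalIdeal A).map (algebraMap A B))) :
    LocCoh.IsGorensteinLocalRing (B ⧸ (maximalIdeal A).map (algebraMap A B)) ∧
      LocCoh.IsGorensteinLocalRing (C ⧸ (maximalIdeal B).map (algebraMap B C)) := by
  have hI : (maximalIdeal A).map (algebraMap A B) ≤ maximalIdeal B :=
    map_maximalIdeal_le (algebraMap A B)
  have hJ := map_map_maximalIdeal A B C
  have hlB := isLocalRing_quot B _ hI
  have hlC := isLocalRing_quot C _ (map_le_maximalIdeal B C _ hI)
  have := isLocalHom_quot B C _ hI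
  have := flat_quotient B C ((maximalIdeal A).map (algebraMap A B))
  have hC' : LocCoh.IsGorensteinLocalRing
      (C ⧸ ((maximalIdeal A).map (algebraMap A B)).map (algebraMap B C)) :=
    isGorensteinLocalRing_of_ringEquiv (Ideal.quotEquivOfEq hJ.symm) hC
  have : IsNoetherianRing
      (C ⧸ ((maximalIdeal A).map (algebraMap A B)).map (algebraMap B C)) :=
    hC'.toIsNoetherian
  obtain ⟨h1, h2⟩ := (isGorensteinLocalRing_iff_of_flat_local
    (B ⧸ (maximalIdeal A).map (algebraMap A B))
    (C ⧸ ((maximalIdeal A).map (algebraMap A B)).map (algebraMap B C))).mp hC'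
  exact ⟨h1, isGorensteinLocalRing_of_ringEquiv (fibRingQuotEquiv B C _ hI) h2⟩

end Comp

section At

/-- `IsGorensteinAt` in terms of the closed-fibre ring of the stalk map. -/
theorem isGorensteinAt_iff {X S : Scheme.{u}} (f : X ⟶ S) (x : X) :
    Dual3.IsGorensteinAt f x ↔ (f.stalkMap x).hom.Flat ∧
      LocCoh.IsGorensteinLocalRing (X.presheaf.stalk x ⧸
        Ideal.map (f.stalkMap x).hom (IsLocalRing.maximalIdeal (S.presheaf.stalk (f.base x)))) := by
  unfold Dual3.IsGorensteinAt
  refine and_congr Iff.rfl ?_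
  obtain ⟨e⟩ := nonempty_fibreStalk_equiv f x
  exact (isGorensteinLocalRing_iff_of_ringEquiv e).symm

/-- A flat morphism of locally Noetherian schemes with Gorenstein source is Gorenstein at every
point, and the target is Gorenstein at every image point. -/
theorem isGorensteinAt_and_base_of_flat_of_gorenstein_source {X Y : Scheme.{u}} (f : X ⟶ Y)
    [IsLocallyNoetherian X] [IsLocallyNoetherian Y] [Flat f]
    (hX : ∀ x : X, LocCoh.IsGorensteinLocalRing ↑(X.presheaf.stalk x)) (x : X) :
    Dual3.IsGorensteinAt f x ∧ LocCoh.IsGorensteinLocalRing ↑(Y.presheaf.stalk (f x)) := by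
  rw [isGorensteinAt_iff]
  have hfl : (f.stalkMap x).hom.Flat := Flat.stalkMap f x
  algebraize [(f.stalkMap x).hom]
  have : IsLocalHom (algebraMap (Y.presheaf.stalk (f.base x)) (X.presheaf.stalk x)) :=
    inferInstanceAs (IsLocalHom (f.stalkMap x).hom)
  obtain ⟨hA, hF⟩ := (isGorensteinLocalRing_iff_of_flat_local (Y.presheaf.stalk (f.base x))
    (X.presheaf.stalk x)).mp (hX x)
  exact ⟨⟨hfl, hF⟩, hA⟩

theorem isGorensteinAt_comp {X Y Z : Scheme.{u}} (f : X ⟶ Y) (g : Y ⟶ Z) (x : X)
    (hN : IsLocallyNoetherian ((f ≫ g).fiber (g (f x))))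
    (hf : Dual3.IsGorensteinAt f x) (hg : Dual3.IsGorensteinAt g (f x)) :
    Dual3.IsGorensteinAt (f ≫ g) x := by
  rw [isGorensteinAt_iff] at hf hg ⊢
  obtain ⟨hf1, hf2⟩ := hf
  obtain ⟨hg1, hg2⟩ := hg
  have hcomp : ((f ≫ g).stalkMap x) = g.stalkMap (f x) ≫ f.stalkMap x :=
    Scheme.Hom.stalkMap_comp f g x
  obtain ⟨e⟩ := nonempty_fibreStalk_equiv (f ≫ g) x
  have hN' : IsNoetherianRing
      (((f ≫ g).fiber ((f ≫ g).base x)).presheaf.stalk ((f ≫ g).asFiber x)) := by
    have : IsLocallyNoetherian ((f ≫ g).fiber ((f ≫ g).base x)) := hN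
    infer_instance
  have hN'' := isNoetherianRing_of_ringEquiv _ e.symm
  let algAB : Algebra (Z.presheaf.stalk (g.base (f.base x))) (Y.presheaf.stalk (f.base x)) :=
    (g.stalkMap (f.base x)).hom.toAlgebra
  let algBC : Algebra (Y.presheaf.stalk (f.base x)) (X.presheaf.stalk x) :=
    (f.stalkMap x).hom.toAlgebra
  let algAC : Algebra (Z.presheaf.stalk (g.base (f.base x))) (X.presheaf.stalk x) :=
    ((f.stalkMap x).hom.comp (g.stalkMap (f.base x)).hom).toAlgebra
  have : IsScalarTower (Z.presheaf.stalk (g.base (f.base x))) (Y.presheaf.stalk (f.base x))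
      (X.presheaf.stalk x) := IsScalarTower.of_algebraMap_eq (fun _ => rfl)
  have : IsLocalHom (algebraMap (Z.presheaf.stalk (g.base (f.base x)))
      (Y.presheaf.stalk (f.base x))) :=
    inferInstanceAs (IsLocalHom (g.stalkMap (f.base x)).hom)
  have : IsLocalHom (algebraMap (Y.presheaf.stalk (f.base x)) (X.presheaf.stalk x)) :=
    inferInstanceAs (IsLocalHom (f.stalkMap x).hom)
  have : Module.Flat (Y.presheaf.stalk (f.base x)) (X.presheaf.stalk x) := hf1
  have hmapeq : ((f ≫ g).stalkMap x).hom =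
      (f.stalkMap x).hom.comp (g.stalkMap (f.base x)).hom := by
    rw [hcomp]; rfl
  refine ⟨?_, ?_⟩
  · rw [hmapeq]
    exact RingHom.Flat.comp hg1 hf1
  · have hideal : Ideal.map ((f ≫ g).stalkMap x).hom
        (maximalIdeal (Z.presheaf.stalk ((f ≫ g).base x))) =
        Ideal.map (algebraMap (Z.presheaf.stalk (g.base (f.base x))) (X.presheaf.stalk x))
          (maximalIdeal (Z.presheaf.stalk (g.base (f.base x)))) := by
      rw [hmapeq]; rfl
    have h := gor_comp (Z.presheaf.stalk (g.base (f.base x))) (Y.presheaf.stalk (f.base x))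
      (X.presheaf.stalk x) hg2 hf2
      (isNoetherianRing_of_ringEquiv _ (Ideal.quotEquivOfEq hideal))
    exact isGorensteinLocalRing_of_ringEquiv (Ideal.quotEquivOfEq hideal.symm) h

theorem isGorensteinAt_of_comp {X Y Z : Scheme.{u}} (f : X ⟶ Y) (g : Y ⟶ Z) (x : X)
    (hNg : IsLocallyNoetherian (g.fiber (g (f x))))
    (h : Dual3.IsGorensteinAt (f ≫ g) x) (hfl : (f.stalkMap x).hom.Flat) :
    Dual3.IsGorensteinAt f x ∧ Dual3.IsGorensteinAt g (f x) := by
  rw [isGorensteinAt_iff, isGorensteinAt_iff]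
  rw [isGorensteinAt_iff] at h
  obtain ⟨h1, h2⟩ := h
  have hcomp : ((f ≫ g).stalkMap x) = g.stalkMap (f x) ≫ f.stalkMap x :=
    Scheme.Hom.stalkMap_comp f g x
  obtain ⟨e⟩ := nonempty_fibreStalk_equiv g (f.base x)
  have hN' : IsNoetherianRing
      ((g.fiber (g.base (f.base x))).presheaf.stalk (g.asFiber (f.base x))) := by
    have : IsLocallyNoetherian (g.fiber (g.base (f.base x))) := hNg
    infer_instance
  have hNB := isNoetherianRing_of_ringEquiv _ e.symm
  let algAB : Algebra (Z.presheaf.stalk (g.base (f.base x))) (Y.presheaf.stalk (f.base x)) :=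
    (g.stalkMap (f.base x)).hom.toAlgebra
  let algBC : Algebra (Y.presheaf.stalk (f.base x)) (X.presheaf.stalk x) :=
    (f.stalkMap x).hom.toAlgebra
  let algAC : Algebra (Z.presheaf.stalk (g.base (f.base x))) (X.presheaf.stalk x) :=
    ((f.stalkMap x).hom.comp (g.stalkMap (f.base x)).hom).toAlgebra
  have : IsScalarTower (Z.presheaf.stalk (g.base (f.base x))) (Y.presheaf.stalk (f.base x))
      (X.presheaf.stalk x) := IsScalarTower.of_algebraMap_eq (fun _ => rfl)
  have : IsLocalHom (algebraMap (Z.presheaf.stalk (g.base (f.base x)))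
      (Y.presheaf.stalk (f.base x))) :=
    inferInstanceAs (IsLocalHom (g.stalkMap (f.base x)).hom)
  have : IsLocalHom (algebraMap (Y.presheaf.stalk (f.base x)) (X.presheaf.stalk x)) :=
    inferInstanceAs (IsLocalHom (f.stalkMap x).hom)
  have : Module.Flat (Y.presheaf.stalk (f.base x)) (X.presheaf.stalk x) := hfl
  have hmapeq : ((f ≫ g).stalkMap x).hom =
      (f.stalkMap x).hom.comp (g.stalkMap (f.base x)).hom := by
    rw [hcomp]; rfl
  have : Module.Flat (Z.presheaf.stalk (g.base (f.base x))) (X.presheaf.stalk x) := by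
    rw [hmapeq] at h1
    exact h1
  have : Module.FaithfullyFlat (Y.presheaf.stalk (f.base x)) (X.presheaf.stalk x) :=
    Module.FaithfullyFlat.of_flat_of_isLocalHom
  have hflAB : Module.Flat (Z.presheaf.stalk (g.base (f.base x))) (Y.presheaf.stalk (f.base x)) :=
    Groth.Agent.Lib.Helper7.flat_of_faithfullyFlat_of_flat_comp _ _ (X.presheaf.stalk x)
  have hideal : Ideal.map ((f ≫ g).stalkMap x).hom
      (maximalIdeal (Z.presheaf.stalk ((f ≫ g).base x))) =
      Ideal.map (algebraMap (Z.presheaf.stalk (g.base (f.base x))) (X.presheaf.stalk x))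
        (maximalIdeal (Z.presheaf.stalk (g.base (f.base x)))) := by
    rw [hmapeq]; rfl
  have h2' := isGorensteinLocalRing_of_ringEquiv (Ideal.quotEquivOfEq hideal) h2
  obtain ⟨k1, k2⟩ := gor_of_comp (Z.presheaf.stalk (g.base (f.base x)))
    (Y.presheaf.stalk (f.base x)) (X.presheaf.stalk x) h2' hNB
  exact ⟨⟨hfl, k2⟩, ⟨hflAB, k1⟩⟩

end At

end Groth.Agent.Lib.Helper24
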