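import Groth.Agent.Lib.Helper24.CMEtaleField
import Groth.Agent.Lib.Helper24.GorenFlat
import Groth.Agent.S0342
import Groth.Prelude.Def_Dual3

/-!
# Gorenstein morphisms over fields and étale maps (helper24)

* `isGorensteinLocalRing_stalk_of_etale`: Gorenstein-ness ascends along étale morphisms.
* `isGorensteinAt_iff_of_maximalIdeal_eq_bot`: if the local ring of the base at `h u` has zero
  maximal ideal, `h` is Gorenstein at `u` iff `O_{U,u}` is Gorenstein.
-/

set_option autoImplicit false
universe u
open AlgebraicGeometry CategoryTheory CategoryTheory.Limits IsLocalRing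

namespace Groth.Agent.Lib.Helper24

/-- A field is a Gorenstein local ring. -/
theorem isGorensteinLocalRing_of_field (K : Type u) [Field K] : LocCoh.IsGorensteinLocalRing K :=
  Groth.Agent.S0342.result K

/-- Gorenstein-ness of local rings ascends along étale morphisms. -/
theorem isGorensteinLocalRing_stalk_of_etale {U X : Scheme.{u}} (a : U ⟶ X) [Etale a] (u : U)
    (h : LocCoh.IsGorensteinLocalRing ↑(X.presheaf.stalk (a u))) :
    LocCoh.IsGorensteinLocalRing ↑(U.presheaf.stalk u) := by
  have hflat : (a.stalkMap u).hom.Flat := Flat.stalkMap a u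
  have hess : (a.stalkMap u).hom.EssFiniteType := LocallyOfFiniteType.stalkMap a u
  have h1 := ((formallyUnramified_stalkMap_iff_residue a u).mp
    (FormallyUnramified.stalkMap a u)).1
  algebraize [(a.stalkMap u).hom]
  have : IsLocalHom (algebraMap ↑(X.presheaf.stalk (a u)) ↑(U.presheaf.stalk u)) :=
    inferInstanceAs (IsLocalHom (a.stalkMap u).hom)
  have hNA : IsNoetherianRing ↑(X.presheaf.stalk (a u)) := h.toIsNoetherian
  have hNB : IsNoetherianRing ↑(U.presheaf.stalk u) :=
    Algebra.EssFiniteType.isNoetherianRing ↑(X.presheaf.stalk (a u)) _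
  refine (isGorensteinLocalRing_iff_of_flat_local ↑(X.presheaf.stalk (a u))
    ↑(U.presheaf.stalk u)).mpr ⟨h, ?_⟩
  have hmB : EGA4.mB ↑(X.presheaf.stalk (a u)) ↑(U.presheaf.stalk u) =
      maximalIdeal ↑(U.presheaf.stalk u) := h1
  let e : ResidueField ↑(U.presheaf.stalk u) ≃+*
      EGA4.FibRing ↑(X.presheaf.stalk (a u)) ↑(U.presheaf.stalk u) :=
    Ideal.quotEquivOfEq hmB.symm
  exact isGorensteinLocalRing_of_ringEquiv e (isGorensteinLocalRing_of_field _)

/-- If the local ring of the base at `h u` has zero maximal ideal, `h` is Gorenstein at `u` iff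
the local ring of the source at `u` is Gorenstein. -/
theorem isGorensteinAt_iff_of_maximalIdeal_eq_bot {U V : Scheme.{u}} (h : U ⟶ V) (u : U)
    (hm : maximalIdeal ↑(V.presheaf.stalk (h u)) = ⊥) :
    Dual3.IsGorensteinAt h u ↔ LocCoh.IsGorensteinLocalRing ↑(U.presheaf.stalk u) := by
  obtain ⟨e⟩ := nonempty_fibre_stalk_ringEquiv_quotient h u
  let e' : (↑(U.presheaf.stalk u) ⧸
      (maximalIdeal ↑(V.presheaf.stalk (h u))).map (h.stalkMap u).hom) ≃+*
      ↑(U.presheaf.stalk u) :=
    (Ideal.quotEquivOfEq (by rw [hm, Ideal.map_bot])).trans (RingEquiv.quotientBot _)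
  unfold Dual3.IsGorensteinAt
  rw [isGorensteinLocalRing_iff_of_ringEquiv (e.trans e')]
  exact ⟨fun h => h.2, fun h' => ⟨flat_of_maximalIdeal_eq_bot _ hm, h'⟩⟩

end Groth.Agent.Lib.Helper24
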