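/-
Helper library (helper24): lengths of the local rings of `Ω ⊗[k] K` for a finite field extension
`K/k` and an algebraically closed field `Ω`: each local ring has length `[K : k]_i`
(the inseparable degree).
-/
import Mathlib

set_option autoImplicit false
universe u
open TensorProduct IsLocalRing Polynomial

namespace Groth.Agent.Lib.Helper24

/-- The length of a ring as a module over itself is invariant under ring isomorphisms. -/
theorem length_self_eq_of_ringEquiv {R S : Type*} [CommRing R] [CommRing S] (e : R ≃+* S) :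
    Module.length R R = Module.length S S := by
  let _ : Algebra R S := e.toRingHom.toAlgebra
  have h1 : Module.length R S = Module.length S S :=
    Module.length_eq_of_surjective (S := R) (R := S) (M := S) e.surjective
  let l : R ≃ₗ[R] S :=
    { e.toAddEquiv with
      map_smul' := fun r x => by
        change e (r * x) = e.toRingHom r * e x
        exact map_mul e r x }
  rw [← h1]
  exact l.length_eq

section purelyInsep

variable (F K Ω : Type u) [Field F] [Field K] [Field Ω] [Algebra F K] [Algebra F Ω]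
  [FiniteDimensional F K] [IsPurelyInseparable F K]

/-- For `K/F` purely inseparable, `Ω ⊗[F] K` is a local ring. -/
theorem isLocalRing_tensor_of_isPurelyInseparable : IsLocalRing (Ω ⊗[F] K) := by
  have hh := PrimeSpectrum.isHomeomorph_comap_of_isPurelyInseparable F K Ω
  have hinj : Function.Injective (PrimeSpectrum.comap (algebraMap Ω (Ω ⊗[F] K))) := hh.injective
  have hsub : Subsingleton (PrimeSpectrum (Ω ⊗[F] K)) := by
    constructor
    intro a b
    apply hinj
    exact Subsingleton.elim _ _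
  have hne : Nonempty (PrimeSpectrum (Ω ⊗[F] K)) := by
    obtain ⟨y, -⟩ := hh.surjective (⊥ : PrimeSpectrum Ω)
    exact ⟨y⟩
  have hnt : Nontrivial (Ω ⊗[F] K) := (PrimeSpectrum.nonempty_iff_nontrivial).mp hne
  apply IsLocalRing.of_unique_max_ideal
  obtain ⟨m, hm⟩ := Ideal.exists_maximal (Ω ⊗[F] K)
  refine ⟨m, hm, fun m' hm' => ?_⟩
  have := hsub.elim (⟨m', hm'.isPrime⟩ : PrimeSpectrum (Ω ⊗[F] K)) ⟨m, hm.isPrime⟩
  exact congrArg PrimeSpectrum.asIdeal this

/-- For `K/F` finite purely inseparable and an `F`-embedding of `K` in `Ω`, the local ring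
`Ω ⊗[F] K` has length `[K : F]`. -/
theorem length_tensor_of_isPurelyInseparable (σ : K →ₐ[F] Ω) :
    Module.length (Ω ⊗[F] K) (Ω ⊗[F] K) = Module.finrank F K := by
  have hloc : IsLocalRing (Ω ⊗[F] K) := isLocalRing_tensor_of_isPurelyInseparable F K Ω
  let χ' : Ω ⊗[F] K →ₐ[Ω] Ω :=
    Algebra.TensorProduct.lift (AlgHom.id Ω Ω) σ (fun _ _ => Commute.all _ _)
  have hχ'alg : ∀ ω : Ω, χ' (algebraMap Ω (Ω ⊗[F] K) ω) = ω := fun ω => by
    simp [χ', Algebra.TensorProduct.algebraMap_apply]
  have hlh : IsLocalHom (algebraMap Ω (Ω ⊗[F] K)) := by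
    constructor
    intro a ha
    have : a ≠ 0 := by
      rintro rfl
      rw [map_zero] at ha
      exact not_isUnit_zero ha
    exact isUnit_iff_ne_zero.mpr this
  have hker : RingHom.ker χ'.toRingHom = maximalIdeal (Ω ⊗[F] K) := by
    have hsurj : Function.Surjective χ'.toRingHom := fun ω => ⟨algebraMap Ω _ ω, hχ'alg ω⟩
    have : (RingHom.ker χ'.toRingHom).IsMaximal := RingHom.ker_isMaximal_of_surjective _ hsurj
    exact IsLocalRing.eq_maximalIdeal this
  have h1 := IsLocalRing.length_restrictScalars Ω (Ω ⊗[F] K) (Ω ⊗[F] K)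
  have h2 : Module.length Ω (Ω ⊗[F] K) = Module.finrank F K := by
    rw [Module.length_eq_finrank, Module.finrank_baseChange]
  have h3 : Module.length (ResidueField Ω) (ResidueField (Ω ⊗[F] K)) = 1 := by
    have hs : Function.Surjective (algebraMap (ResidueField Ω) (ResidueField (Ω ⊗[F] K))) := by
      intro y
      obtain ⟨l, rfl⟩ := IsLocalRing.residue_surjective y
      refine ⟨IsLocalRing.residue Ω (χ' l), ?_⟩
      have hmem : l - algebraMap Ω (Ω ⊗[F] K) (χ' l) ∈ maximalIdeal (Ω ⊗[F] K) := by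
        rw [← hker, RingHom.mem_ker]
        simp only [AlgHom.toRingHom_eq_coe, RingHom.coe_coe, map_sub]
        rw [hχ'alg, sub_self]
      have h0 := (IsLocalRing.residue_eq_zero_iff _).mpr hmem
      rw [map_sub, sub_eq_zero] at h0
      rw [h0]
      rfl
    rw [Module.length_eq_of_surjective (S := ResidueField Ω) (R := ResidueField (Ω ⊗[F] K)) hs,
      Module.length_eq_finrank, Module.finrank_self]
    rfl
  rw [h2, h3, mul_one] at h1
  exact h1.symm

end purelyInsep

section localization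

variable (k F K Ω : Type u) [Field k] [Field F] [Field K] [Field Ω]
  [Algebra k F] [Algebra F K] [Algebra k K] [IsScalarTower k F K]
  [Algebra k Ω] [Algebra F Ω] [IsScalarTower k F Ω] [Algebra.IsSeparable k F]
  [FiniteDimensional F K] [IsPurelyInseparable F K]

/-- The `Ω`-point of `Ω ⊗[k] K` attached to an embedding `σ`. -/
noncomputable def tensorPoint (σ : K →ₐ[F] Ω) : Ω ⊗[k] K →ₐ[Ω] Ω :=
  Algebra.TensorProduct.lift (AlgHom.id Ω Ω) (σ.restrictScalars k) (fun _ _ => Commute.all _ _)

set_option maxHeartbeats 800000 in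
/-- The localization of `Ω ⊗[k] K` at the kernel of the point `σ` is `Ω ⊗[F] K`, for `F/k`
separable and `K/F` purely inseparable. -/
theorem nonempty_localization_tensorPoint_ringEquiv (σ : K →ₐ[F] Ω)
    (𝔮 : Ideal (Ω ⊗[k] K)) [𝔮.IsPrime]
    (h𝔮 : ∀ t, t ∈ 𝔮 ↔ tensorPoint k F K Ω σ t = 0) :
    Nonempty (Localization.AtPrime 𝔮 ≃+* Ω ⊗[F] K) := by
  classical
  set χ := tensorPoint k F K Ω σ with hχ
  have hloc : IsLocalRing (Ω ⊗[F] K) := isLocalRing_tensor_of_isPurelyInseparable F K Ω
  let χ' : Ω ⊗[F] K →ₐ[Ω] Ω :=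
    Algebra.TensorProduct.lift (AlgHom.id Ω Ω) σ (fun _ _ => Commute.all _ _)
  let π : Ω ⊗[k] K →ₐ[Ω] Ω ⊗[F] K := Algebra.TensorProduct.mapOfCompatibleSMul F k Ω Ω K
  have hπ_tmul : ∀ (ω : Ω) (a : K), π (ω ⊗ₜ[k] a) = ω ⊗ₜ[F] a := fun ω a => rfl
  have hχ_tmul : ∀ (ω : Ω) (a : K), χ (ω ⊗ₜ[k] a) = ω * σ a := fun ω a => by
    simp [hχ, tensorPoint]
  have hχ'_tmul : ∀ (ω : Ω) (a : K), χ' (ω ⊗ₜ[F] a) = ω * σ a := fun ω a => by
    simp [χ']
  have hχχ' : ∀ t, χ' (π t) = χ t := by
    intro t
    induction t using TensorProduct.induction_on with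
    | zero => simp
    | tmul ω a => rw [hπ_tmul, hχ_tmul, hχ'_tmul]
    | add x y hx hy => rw [map_add, map_add, map_add, hx, hy]
  have hχ'alg : ∀ ω : Ω, χ' (algebraMap Ω (Ω ⊗[F] K) ω) = ω := fun ω => by
    simp [χ', Algebra.TensorProduct.algebraMap_apply]
  have hker : RingHom.ker χ'.toRingHom = maximalIdeal (Ω ⊗[F] K) := by
    have hsurj : Function.Surjective χ'.toRingHom := fun ω => ⟨algebraMap Ω _ ω, hχ'alg ω⟩
    have : (RingHom.ker χ'.toRingHom).IsMaximal := RingHom.ker_isMaximal_of_surjective _ hsurj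
    exact IsLocalRing.eq_maximalIdeal this
  -- elements outside `𝔮` become units in `Ω ⊗[F] K`
  have hunit : ∀ y : 𝔮.primeCompl, IsUnit (π.toRingHom y) := by
    intro y
    have hy : (y : Ω ⊗[k] K) ∉ 𝔮 := y.2
    rw [h𝔮] at hy
    have : π.toRingHom y ∉ maximalIdeal (Ω ⊗[F] K) := by
      rw [← hker, RingHom.mem_ker]
      simpa [hχχ'] using hy
    exact (IsLocalRing.notMem_maximalIdeal).mp this
  let φ : Localization.AtPrime 𝔮 →+* Ω ⊗[F] K := IsLocalization.lift (M := 𝔮.primeCompl) hunit
  have hφ : ∀ t, φ (algebraMap _ (Localization.AtPrime 𝔮) t) = π t := fun t =>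
    IsLocalization.lift_eq hunit t
  -- the key identity in the localization
  have hstar : ∀ c : F, algebraMap (Ω ⊗[k] K) (Localization.AtPrime 𝔮)
      ((algebraMap F Ω c) ⊗ₜ[k] (1 : K)) =
      algebraMap (Ω ⊗[k] K) (Localization.AtPrime 𝔮) ((1 : Ω) ⊗ₜ[k] (algebraMap F K c)) := by
    intro c
    set s := algebraMap F Ω c with hs
    set u : Ω ⊗[k] K := (1 : Ω) ⊗ₜ[k] (algebraMap F K c) with hu
    set f := minpoly k c with hf
    have hfsep : f.Separable := Algebra.IsSeparable.isSeparable k c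
    set P := f.map (algebraMap k Ω) with hP
    have hPsep : P.Separable := hfsep.map
    have hroot : P.IsRoot s := by
      rw [IsRoot, hP, eval_map, ← aeval_def, hs, aeval_algebraMap_apply, hf, minpoly.aeval,
        map_zero]
    have hfac : (X - C s) * (P /ₘ (X - C s)) = P := mul_divByMonic_eq_iff_isRoot.mpr hroot
    set g := P /ₘ (X - C s) with hg
    have haev : aeval u P = 0 := by
      rw [hP, aeval_map_algebraMap]
      have : u = (Algebra.TensorProduct.includeRight : K →ₐ[k] Ω ⊗[k] K) (algebraMap F K c) := rfl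
      rw [this, aeval_algHom_apply, aeval_algebraMap_apply, hf, minpoly.aeval, map_zero,
        map_zero]
    have hprod : (u - algebraMap Ω (Ω ⊗[k] K) s) * aeval u g = 0 := by
      rw [← haev, ← hfac, map_mul, map_sub, aeval_X, aeval_C]
    have hgs : eval s g ≠ 0 := by
      have hder : eval s (derivative P) ≠ 0 := by
        have h := hPsep.eval₂_derivative_ne_zero (RingHom.id Ω) (x := s)
          (by simpa [eval₂_id] using hroot)
        simpa [eval₂_id] using h
      intro h0
      apply hder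
      rw [← hfac, derivative_mul, eval_add, eval_mul, eval_mul, h0, mul_zero, zero_add, eval_sub,
        eval_X, eval_C, sub_self, zero_mul]
    have hχu : χ u = s := by
      rw [hu, hχ_tmul, one_mul, AlgHom.commutes]
    have hnot : aeval u g ∉ 𝔮 := by
      rw [h𝔮]
      rw [← aeval_algHom_apply, hχu]
      simpa [aeval_def, eval₂_id] using hgs
    have hu' : IsUnit (algebraMap (Ω ⊗[k] K) (Localization.AtPrime 𝔮) (aeval u g)) :=
      IsLocalization.map_units (Localization.AtPrime 𝔮) (⟨aeval u g, hnot⟩ : 𝔮.primeCompl)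
    have h0 := congrArg (algebraMap (Ω ⊗[k] K) (Localization.AtPrime 𝔮)) hprod
    rw [map_mul, map_zero] at h0
    have h1 := (hu'.mul_left_eq_zero).mp h0
    rw [map_sub, sub_eq_zero] at h1
    rw [h1, Algebra.TensorProduct.algebraMap_apply]
    rfl
  -- the map `ψ : Ω ⊗[F] K → (Ω ⊗[k] K)_𝔮`
  have halgF : ∀ c : F, algebraMap F (Localization.AtPrime 𝔮) c =
      algebraMap (Ω ⊗[k] K) (Localization.AtPrime 𝔮) ((algebraMap F Ω c) ⊗ₜ[k] (1 : K)) := by
    intro c
    rw [IsScalarTower.algebraMap_apply F (Ω ⊗[k] K) (Localization.AtPrime 𝔮),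
      Algebra.TensorProduct.algebraMap_apply]
  let fΩ : Ω →ₐ[F] Localization.AtPrime 𝔮 :=
    { (algebraMap (Ω ⊗[k] K) (Localization.AtPrime 𝔮)).comp
        (Algebra.TensorProduct.includeLeftRingHom : Ω →+* Ω ⊗[k] K) with
      commutes' := fun c => by
        simp only [RingHom.toMonoidHom_eq_coe, OneHom.toFun_eq_coe, MonoidHom.toOneHom_coe,
          MonoidHom.coe_coe, RingHom.coe_comp, Function.comp_apply,
          Algebra.TensorProduct.includeLeftRingHom_apply]
        exact (halgF c).symm }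
  let gK : K →ₐ[F] Localization.AtPrime 𝔮 :=
    { (algebraMap (Ω ⊗[k] K) (Localization.AtPrime 𝔮)).comp
        (Algebra.TensorProduct.includeRight : K →ₐ[k] Ω ⊗[k] K).toRingHom with
      commutes' := fun c => by
        rw [halgF c, hstar c]
        rfl }
  let ψ : Ω ⊗[F] K →ₐ[F] Localization.AtPrime 𝔮 :=
    Algebra.TensorProduct.lift fΩ gK (fun _ _ => Commute.all _ _)
  have hψ_tmul : ∀ (ω : Ω) (a : K), ψ (ω ⊗ₜ[F] a) =
      algebraMap (Ω ⊗[k] K) (Localization.AtPrime 𝔮) (ω ⊗ₜ[k] a) := by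
    intro ω a
    have : ψ (ω ⊗ₜ[F] a) = fΩ ω * gK a := Algebra.TensorProduct.lift_tmul _ _ _ _ _
    rw [this]
    change algebraMap (Ω ⊗[k] K) (Localization.AtPrime 𝔮) (ω ⊗ₜ[k] (1 : K)) *
      algebraMap (Ω ⊗[k] K) (Localization.AtPrime 𝔮) ((1 : Ω) ⊗ₜ[k] a) = _
    rw [← map_mul, Algebra.TensorProduct.tmul_mul_tmul, mul_one, one_mul]
  have hψπ : ∀ t, ψ (π t) = algebraMap (Ω ⊗[k] K) (Localization.AtPrime 𝔮) t := by
    intro t
    induction t using TensorProduct.induction_on with
    | zero => simp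
    | tmul ω a => rw [hπ_tmul, hψ_tmul]
    | add x y hx hy => rw [map_add, map_add, map_add, hx, hy]
  refine ⟨RingEquiv.ofRingHom φ ψ.toRingHom ?_ ?_⟩
  · -- φ ∘ ψ = id
    refine RingHom.ext fun x => ?_
    simp only [AlgHom.toRingHom_eq_coe, RingHom.coe_comp, RingHom.coe_coe, Function.comp_apply,
      RingHom.id_apply]
    induction x using TensorProduct.induction_on with
    | zero => simp
    | tmul ω a => rw [hψ_tmul, hφ, hπ_tmul]
    | add x y hx hy => rw [map_add, map_add, hx, hy]
  · -- ψ ∘ φ = id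
    apply IsLocalization.ringHom_ext 𝔮.primeCompl
    refine RingHom.ext fun t => ?_
    simp only [AlgHom.toRingHom_eq_coe, RingHom.coe_comp, RingHom.coe_coe, Function.comp_apply,
      RingHom.id_apply]
    rw [hφ, hψπ]

end localization

end Groth.Agent.Lib.Helper24
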