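/-
Helper library (helper24): for a finite field extension `K/k` and an algebraically closed field
`Ω ⊇ k`, every local ring of `Ω ⊗[k] K` has length `[K : k]_i`.
-/
import Groth.Agent.Lib.Helper24.InsepLength

set_option autoImplicit false
universe u
open TensorProduct IsLocalRing Polynomial

namespace Groth.Agent.Lib.Helper24

set_option maxHeartbeats 800000 in
/-- Every local ring of `Ω ⊗[k] K` (`K/k` finite, `Ω` algebraically closed) has length the
inseparable degree of `K/k`. -/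
theorem length_localization_tensor_eq_finInsepDegree (k K Ω : Type u) [Field k] [Field K]
    [Field Ω] [Algebra k K] [Algebra k Ω] [FiniteDimensional k K] [IsAlgClosed Ω]
    (𝔮 : Ideal (Ω ⊗[k] K)) [𝔮.IsPrime] :
    Module.length (Localization.AtPrime 𝔮) (Localization.AtPrime 𝔮) =
      Field.finInsepDegree k K := by
  classical
  -- the residue field at `𝔮` is `Ω`
  have hfinT : Module.Finite Ω (Ω ⊗[k] K) := inferInstance
  have hfinQ : Module.Finite Ω ((Ω ⊗[k] K) ⧸ 𝔮) := inferInstance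
  have hint : Algebra.IsIntegral Ω ((Ω ⊗[k] K) ⧸ 𝔮) := Algebra.IsIntegral.of_finite Ω _
  have hdom : IsDomain ((Ω ⊗[k] K) ⧸ 𝔮) := Ideal.Quotient.isDomain 𝔮
  have hbij : Function.Bijective (algebraMap Ω ((Ω ⊗[k] K) ⧸ 𝔮)) :=
    IsAlgClosed.algebraMap_bijective_of_isIntegral
  let e : Ω ≃ₐ[Ω] ((Ω ⊗[k] K) ⧸ 𝔮) := AlgEquiv.ofBijective (Algebra.ofId Ω _) hbij
  let χ₀ : Ω ⊗[k] K →ₐ[Ω] Ω := e.symm.toAlgHom.comp (Ideal.Quotient.mkₐ Ω 𝔮)
  have hχ₀ : ∀ t, t ∈ 𝔮 ↔ χ₀ t = 0 := by
    intro t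
    have h1 : χ₀ t = e.symm (Ideal.Quotient.mk 𝔮 t) := rfl
    rw [h1, EmbeddingLike.map_eq_zero_iff, Ideal.Quotient.eq_zero_iff_mem]
  let σ₀ : K →ₐ[k] Ω :=
    (χ₀.restrictScalars k).comp (Algebra.TensorProduct.includeRight : K →ₐ[k] Ω ⊗[k] K)
  -- the separable closure of `k` in `K`
  let F : IntermediateField k K := separableClosure k K
  let algFΩ : Algebra F Ω := (σ₀.comp F.val).toRingHom.toAlgebra
  have tower : IsScalarTower k F Ω := by
    refine IsScalarTower.of_algebraMap_eq fun c => ?_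
    change algebraMap k Ω c = σ₀ (algebraMap k K c)
    rw [AlgHom.commutes]
  let σ : K →ₐ[F] Ω := { σ₀.toRingHom with commutes' := fun c => rfl }
  have hsep : Algebra.IsSeparable k F := inferInstance
  have hpi : IsPurelyInseparable F K := inferInstance
  have hfd : FiniteDimensional F K := inferInstance
  have hpt : ∀ t, tensorPoint k F K Ω σ t = χ₀ t := by
    intro t
    induction t using TensorProduct.induction_on with
    | zero => simp
    | tmul ω a =>
      have h1 : tensorPoint k F K Ω σ (ω ⊗ₜ[k] a) = ω * σ a := by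
        simp [tensorPoint]
      have h2 : χ₀ (ω ⊗ₜ[k] a) = ω * σ₀ a := by
        have : ω ⊗ₜ[k] a = ω • ((1 : Ω) ⊗ₜ[k] a) := by
          rw [TensorProduct.smul_tmul', smul_eq_mul, mul_one]
        rw [this, map_smul, smul_eq_mul]
        rfl
      rw [h1, h2]
      rfl
    | add x y hx hy => rw [map_add, map_add, hx, hy]
  have h𝔮 : ∀ t, t ∈ 𝔮 ↔ tensorPoint k F K Ω σ t = 0 := fun t => by rw [hpt, hχ₀]
  obtain ⟨eq⟩ := nonempty_localization_tensorPoint_ringEquiv k F K Ω σ 𝔮 h𝔮
  rw [length_self_eq_of_ringEquiv eq, length_tensor_of_isPurelyInseparable F K Ω σ]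
  rfl

end Groth.Agent.Lib.Helper24
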