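import Mathlib
import Groth.Agent.Lib.Helper55.JacobsonDim
import Groth.Agent.Lib.Helper55.ClosedSubschemeDim
import Groth.Agent.Lib.Helper55.DimSup
import Groth.Agent.Lib.Helper89.DenseOpenDim
import Groth.Agent.S9126

/-!
# Dimension theory over Jacobson universally catenary bases: irreducible closed subsets (helper24)

Let `S` be locally Noetherian, Jacobson, with universally catenary local rings and equidimensional
irreducible components, and `g : X ⟶ S` locally of finite type.  Built on helper55's `JacobsonDim`: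

* `ringKrullDim_stalk_eq_of_isClosed`: for `Z` irreducible l.f.t. over `S`, `dim O_{Z,z} = dim Z`
  at closed points;
* `dim_eq_dim_generizations_of_isClosed`: for `C ⊆ X` irreducible closed and `c ∈ C` a closed point,
  `dim C = dim {t ∈ C | t ⤳ c}`;
* `dim_eq_dim_closure_add`: `dim C = dim cl{x} + dim {t ∈ C | t ⤳ x}` for every `x ∈ C`;
* `dim_open_inter_eq`: nonempty opens of `C` have dimension `dim C`.
-/

set_option autoImplicit false
set_option linter.style.haveILetI false
universe u

namespace Groth.Agent.Lib.Helper24.JacDimA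

open AlgebraicGeometry CategoryTheory Topology TopologicalSpace Groth.Agent.Lib.Helper55

section Irr

variable {Z S : Scheme.{u}} [IsLocallyNoetherian S] [JacobsonSpace S]
  (r : Z ⟶ S) [LocallyOfFiniteType r] [IrreducibleSpace Z]

/-- cancellation of a natural number in `WithBot ℕ∞` -/
theorem withBot_add_nat_cancel {a b : WithBot ℕ∞} (d : ℕ)
    (h : a + (d : WithBot ℕ∞) = b + (d : WithBot ℕ∞)) : a = b := by
  induction a with
  | bot =>
    induction b with
    | bot => rfl
    | coe b =>
      exfalso
      rw [WithBot.bot_add] at h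
      have : ((b + (d : ℕ∞) : ℕ∞) : WithBot ℕ∞) = ⊥ := by
        rw [h]; push_cast; rfl
      exact WithBot.coe_ne_bot this
  | coe a =>
    induction b with
    | bot =>
      exfalso
      rw [WithBot.bot_add] at h
      have : ((a + (d : ℕ∞) : ℕ∞) : WithBot ℕ∞) = ⊥ := by
        rw [← h]; push_cast; rfl
      exact WithBot.coe_ne_bot this
    | coe b =>
      have h' : ((a + (d : ℕ∞) : ℕ∞) : WithBot ℕ∞) = ((b + (d : ℕ∞) : ℕ∞) : WithBot ℕ∞) := by
        push_cast
        exact h
      have h'' : a + (d : ℕ∞) = b + (d : ℕ∞) := WithBot.coe_injective h'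
      have : a = b := ENat.add_left_injective_of_ne_top (ENat.natCast_ne_top d) h''
      rw [this]

include r in
/-- For `Z` irreducible, locally of finite type over `S`: the local rings at the closed points all
have dimension `dim Z`. -/
theorem ringKrullDim_stalk_eq_of_isClosed
    (h2 : ∀ s : S, CAlg.IsUniversallyCatenary (S.presheaf.stalk s))
    (h3 : ∀ S' ∈ irreducibleComponents (S : Type u), ∀ s ∈ S', IsClosed ({s} : Set S) →
      topologicalKrullDim (↥S' : Type u) = topologicalKrullDim ↥{t : S | t ∈ S' ∧ t ⤳ s})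
    (z : Z) (hz : IsClosed ({z} : Set Z)) :
    ringKrullDim (Z.presheaf.stalk z) = topologicalKrullDim ↥Z := by
  obtain ⟨σ, hστ, hσmax⟩ :=
    Groth.Agent.Lib.Helper89.DenseOpenDim.exists_maximal_generization S (r (genericPoint ↥Z))
  have hσ : closure ({σ} : Set S) ∈ irreducibleComponents (S : Type u) :=
    closure_mem_irreducibleComponents_of_maximal σ (fun y hy => (hσmax y hy) ▸ specializes_rfl)
  obtain ⟨m, -, hm⟩ := exists_dim_closure_asFiber_eq_trdeg r (genericPoint ↥Z)
  obtain ⟨d, hd⟩ := exists_nat_topologicalKrullDim_between σ (r (genericPoint ↥Z)) hστ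
  have e1 := ringKrullDim_stalk_add_between_eq r h2 h3 σ hσ hστ z hz m hm
  have e2 := topologicalKrullDim_add_between_eq r h2 h3 σ hσ hστ m hm
  rw [hd] at e1 e2
  exact withBot_add_nat_cancel d (e1.trans e2.symm)

end Irr

section Sub

variable {X S : Scheme.{u}} [IsLocallyNoetherian S] [JacobsonSpace S]
  (g : X ⟶ S) [LocallyOfFiniteType g]

/-- points of an irreducible closed set generizing to a point of it, as an interval -/
theorem setOf_mem_and_specializes_eq {T : Type*} [TopologicalSpace T] (C : Set T) (ξ : T)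
    (hξ : IsGenericPoint ξ C) (c : T) :
    {t : T | t ∈ C ∧ t ⤳ c} = {t : T | ξ ⤳ t ∧ t ⤳ c} := by
  ext t
  simp only [Set.mem_ofPred_eq]
  have h : ξ ⤳ t ↔ t ∈ C := by rw [specializes_iff_mem_closure, hξ.def]
  rw [h]

include g in
/-- **Equidimensionality of irreducible closed subsets.**  For `C ⊆ X` irreducible closed and a
closed point `c` of `X` in `C`: `dim C` is the dimension of the space of generizations of `c` in
`C`. -/
theorem dim_eq_dim_generizations_of_isClosed
    (h2 : ∀ s : S, CAlg.IsUniversallyCatenary (S.presheaf.stalk s))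
    (h3 : ∀ S' ∈ irreducibleComponents (S : Type u), ∀ s ∈ S', IsClosed ({s} : Set S) →
      topologicalKrullDim (↥S' : Type u) = topologicalKrullDim ↥{t : S | t ∈ S' ∧ t ⤳ s})
    (C : Set X) (hC : IsClosed C) (hirr : IsIrreducible C) (c : X) (hc : c ∈ C)
    (hcl : IsClosed ({c} : Set X)) :
    topologicalKrullDim ↥C = topologicalKrullDim ↥{t : X | t ∈ C ∧ t ⤳ c} := by
  let I := Scheme.IdealSheafData.vanishingIdeal (⟨C, hC⟩ : Closeds X)
  let ι : I.subscheme ⟶ X := I.subschemeι
  have hrange : Set.range ι = C := by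
    rw [Scheme.IdealSheafData.range_subschemeι, Scheme.IdealSheafData.coe_support_vanishingIdeal]
    rfl
  haveI : IrreducibleSpace ↥I.subscheme :=
    irreducibleSpace_of_isEmbedding ι ι.isEmbedding (hrange ▸ hirr)
  obtain ⟨z, rfl⟩ : ∃ z, ι z = c := by
    rw [← hrange] at hc
    exact hc
  have hz : IsClosed ({z} : Set ↥I.subscheme) := by
    have h1 : ({z} : Set ↥I.subscheme) = ι ⁻¹' {ι z} := by
      ext w
      simp only [Set.mem_singleton_iff, Set.mem_preimage]
      exact ⟨fun h => h ▸ rfl, fun h => ι.isEmbedding.injective h⟩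
    rw [h1]
    exact hcl.preimage ι.continuous
  have e1 := ringKrullDim_stalk_eq_of_isClosed (ι ≫ g) h2 h3 z hz
  haveI : IsLocallyNoetherian I.subscheme := LocallyOfFiniteType.isLocallyNoetherian (ι ≫ g)
  rw [ringKrullDim_stalk_eq_dim_between z,
    topologicalKrullDim_between_eq_of_isClosedEmbedding ι ι.isClosedEmbedding
      (genericPoint ↥I.subscheme) z] at e1
  have hη : IsGenericPoint (ι (genericPoint ↥I.subscheme)) C := by
    have h1 := (genericPoint_spec ↥I.subscheme).image ι.continuous
    rw [Set.image_univ, hrange, hC.closure_eq] at h1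
    exact h1
  have hZC : topologicalKrullDim ↥I.subscheme = topologicalKrullDim ↥C := by
    have h1 := IsHomeomorph.topologicalKrullDim_eq _ ι.isEmbedding.toHomeomorph.isHomeomorph
    rw [h1]
    exact IsHomeomorph.topologicalKrullDim_eq _ (Homeomorph.setCongr hrange).isHomeomorph
  rw [setOf_mem_and_specializes_eq C _ hη, ← hZC, ← e1]

omit [IsLocallyNoetherian S] [JacobsonSpace S] in
include g in
/-- The local rings of a scheme locally of finite type over a scheme with universally catenary
local rings are universally catenary. -/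
theorem stalk_isUniversallyCatenary
    (h2 : ∀ s : S, CAlg.IsUniversallyCatenary (S.presheaf.stalk s)) (x : X) :
    CAlg.IsUniversallyCatenary (X.presheaf.stalk x) := by
  letI := (g.stalkMap x).hom.toAlgebra
  haveI : Algebra.EssFiniteType (S.presheaf.stalk (g x)) (X.presheaf.stalk x) :=
    LocallyOfFiniteType.stalkMap g x
  exact Groth.Agent.S9126.result _ _ (h2 (g x))

/-- Additivity of the dimensions of intervals of points in a locally Noetherian scheme with
universally catenary local rings. -/
theorem dim_between_add {X : Scheme.{u}} [IsLocallyNoetherian X]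
    (h2 : ∀ x : X, CAlg.IsUniversallyCatenary (X.presheaf.stalk x)) (σ τ s : X) (hστ : σ ⤳ τ)
    (hτs : τ ⤳ s) :
    topologicalKrullDim ↥{t : X | σ ⤳ t ∧ t ⤳ s} =
      topologicalKrullDim ↥{t : X | τ ⤳ t ∧ t ⤳ s} +
        topologicalKrullDim ↥{t : X | σ ⤳ t ∧ t ⤳ τ} := by
  obtain ⟨V, hV, hsV, -⟩ := exists_isAffineOpen_mem_and_subset (x := s) (U := ⊤) trivial
  have hτV : τ ∈ V := hτs.mem_open V.2 hsV
  have hσV : σ ∈ V := hστ.mem_open V.2 hτV
  rw [topologicalKrullDim_between_eq_height hV σ s hσV hsV (hστ.trans hτs),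
    topologicalKrullDim_between_eq_height hV τ s hτV hsV hτs,
    topologicalKrullDim_between_eq_height hV σ τ hσV hτV hστ,
    chart_height_map_quotient_add hV h2 σ τ s hσV hτV hsV hστ hτs]
  push_cast
  rfl

include g in
/-- `dim C = dim cl{x} + dim {t ∈ C | t ⤳ x}` for `C` irreducible closed and `x ∈ C`. -/
theorem dim_eq_dim_closure_add
    (h2 : ∀ s : S, CAlg.IsUniversallyCatenary (S.presheaf.stalk s))
    (h3 : ∀ S' ∈ irreducibleComponents (S : Type u), ∀ s ∈ S', IsClosed ({s} : Set S) →
      topologicalKrullDim (↥S' : Type u) = topologicalKrullDim ↥{t : S | t ∈ S' ∧ t ⤳ s})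
    (C : Set X) (hC : IsClosed C) (hirr : IsIrreducible C) (x : X) (hx : x ∈ C) :
    topologicalKrullDim ↥C = topologicalKrullDim ↥(closure ({x} : Set X)) +
      topologicalKrullDim ↥{t : X | t ∈ C ∧ t ⤳ x} := by
  haveI : IsLocallyNoetherian X := LocallyOfFiniteType.isLocallyNoetherian g
  have hX2 : ∀ x : X, CAlg.IsUniversallyCatenary (X.presheaf.stalk x) :=
    stalk_isUniversallyCatenary g h2
  obtain ⟨c, hccl, hxc⟩ := exists_isClosed_specializes g x
  obtain ⟨ξ, hξ⟩ := QuasiSober.sober hirr hC
  have hξx : ξ ⤳ x := by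
    rw [specializes_iff_mem_closure, hξ.def]
    exact hx
  have hcC : c ∈ C := hxc.mem_closed hC hx
  rw [dim_eq_dim_generizations_of_isClosed g h2 h3 C hC hirr c hcC hccl,
    setOf_mem_and_specializes_eq C ξ hξ c, setOf_mem_and_specializes_eq C ξ hξ x,
    dim_between_add hX2 ξ x c hξx hxc,
    dim_eq_dim_generizations_of_isClosed g h2 h3 (closure {x}) isClosed_closure
      isIrreducible_singleton.closure c (specializes_iff_mem_closure.mp hxc) hccl,
    setOf_mem_and_specializes_eq (closure {x}) x isGenericPoint_closure c]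

include g in
/-- Nonempty open subsets of an irreducible closed subset have full dimension. -/
theorem dim_open_inter_eq
    (h2 : ∀ s : S, CAlg.IsUniversallyCatenary (S.presheaf.stalk s))
    (h3 : ∀ S' ∈ irreducibleComponents (S : Type u), ∀ s ∈ S', IsClosed ({s} : Set S) →
      topologicalKrullDim (↥S' : Type u) = topologicalKrullDim ↥{t : S | t ∈ S' ∧ t ⤳ s})
    (C : Set X) (hC : IsClosed C) (hirr : IsIrreducible C) (U : Set X) (hU : IsOpen U)
    (hne : (U ∩ C).Nonempty) :
    topologicalKrullDim ↥(U ∩ C) = topologicalKrullDim ↥C := by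
  haveI : JacobsonSpace X := LocallyOfFiniteType.jacobsonSpace g
  apply le_antisymm (topologicalKrullDim_mono_set Set.inter_subset_right)
  obtain ⟨c, ⟨hcU, hcC⟩, hccl⟩ := nonempty_inter_closedPoints (X := X) (Z := U ∩ C) hne
    (hU.isLocallyClosed.inter hC.isLocallyClosed)
  rw [dim_eq_dim_generizations_of_isClosed g h2 h3 C hC hirr c hcC hccl]
  exact topologicalKrullDim_mono_set (fun t ht => ⟨ht.2.mem_open hU hcU, ht.1⟩)

end Sub

end Groth.Agent.Lib.Helper24.JacDimA
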