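import Mathlib
import Groth.Prelude.Def_Flat
import Groth.Agent.Lib.Helper55.DimSup
import Groth.Agent.Lib.Helper55.DimPoint

/-!
# Local dimension in terms of irreducible components (helper24)

Purely topological: for a quasi-sober `T0` space `T` in which
* (H1) nonempty open subsets of irreducible components have full dimension,
* (H2) `dim D = dim cl{t} + dim {s ∈ D | s ⤳ t}` for irreducible components `D ∋ t`,
* (H3) every point `t` has an open neighbourhood all of whose points lie on a common irreducible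
  component with `t`,
the local dimension at `t` is the supremum of the dimensions of the irreducible components through
`t`, equals `dim cl{t} + dim {s | s ⤳ t}`, and equals `dim V` for every open `V ∋ t` meeting no
irreducible component avoiding `t`.
-/

set_option autoImplicit false
universe u

namespace Groth.Agent.Lib.Helper24.JacDimB

open Topology TopologicalSpace Groth.Agent.Lib.Helper55

variable {T : Type*} [TopologicalSpace T]

/-- The space of generizations of a point of a quasi-sober space is quasi-sober. -/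
theorem quasiSober_generizations [QuasiSober T] (t : T) : QuasiSober ↥{s : T | s ⤳ t} := by
  refine ⟨fun {K} hK hKcl => ?_⟩
  have hind : IsInducing (Subtype.val : ↥{s : T | s ⤳ t} → T) := IsInducing.subtypeVal
  have hK' : IsIrreducible (Subtype.val '' K) := hK.image _ continuous_subtype_val.continuousOn
  obtain ⟨η, hη⟩ := QuasiSober.sober hK'.closure isClosed_closure
  have hKeq : K = Subtype.val ⁻¹' closure (Subtype.val '' K) := by
    have h1 := hind.closure_eq_preimage_closure_image K
    rw [hKcl.closure_eq] at h1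
    exact h1
  obtain ⟨k, hk⟩ := hK.nonempty
  have hηk : η ⤳ k.1 := by
    rw [specializes_iff_mem_closure, hη.def]
    exact subset_closure ⟨k, hk, rfl⟩
  have hηt : η ⤳ t := hηk.trans k.2
  refine ⟨⟨η, hηt⟩, ?_⟩
  show closure {(⟨η, hηt⟩ : ↥{s : T | s ⤳ t})} = K
  rw [hind.closure_eq_preimage_closure_image, Set.image_singleton, hη.def]
  exact hKeq.symm

/-- Local finiteness of the irreducible components near a point with a Noetherian open
neighbourhood. -/
theorem exists_open_common_component (t : T) (N : Set T) (hN : IsOpen N) (htN : t ∈ N)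
    [NoetherianSpace ↥N] :
    ∃ V : Set T, IsOpen V ∧ t ∈ V ∧
      ∀ s ∈ V, ∃ D ∈ irreducibleComponents T, s ∈ D ∧ t ∈ D := by
  classical
  let 𝓑 : Set (Set ↥N) := {E | E ∈ irreducibleComponents ↥N ∧ (⟨t, htN⟩ : ↥N) ∉ E}
  have hfin : 𝓑.Finite :=
    (NoetherianSpace.finite_irreducibleComponents (α := ↥N)).subset (fun E hE => hE.1)
  have hBcl : IsClosed (⋃₀ 𝓑) := by
    rw [Set.sUnion_eq_biUnion]
    exact hfin.isClosed_biUnion (fun E hE => isClosed_of_mem_irreducibleComponents E hE.1)
  refine ⟨Subtype.val '' (⋃₀ 𝓑)ᶜ, hN.isOpenMap_subtype_val _ hBcl.isOpen_compl, ?_, ?_⟩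
  · refine ⟨⟨t, htN⟩, ?_, rfl⟩
    rintro ⟨E, hE, htE⟩
    exact hE.2 htE
  · rintro _ ⟨s', hs', rfl⟩
    obtain ⟨E, hE, hsE⟩ := exists_mem_irreducibleComponents_subset_of_isIrreducible
      ({s'} : Set ↥N) isIrreducible_singleton
    have htE : (⟨t, htN⟩ : ↥N) ∈ E := by
      by_contra h
      exact hs' ⟨E, ⟨hE, h⟩, hsE rfl⟩
    have hE' : IsIrreducible (Subtype.val '' E) :=
      hE.1.image _ continuous_subtype_val.continuousOn
    obtain ⟨D, hD, hED⟩ := exists_mem_irreducibleComponents_subset_of_isIrreducible _ hE'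
    exact ⟨D, hD, hED ⟨s', hsE rfl, rfl⟩, hED ⟨⟨t, htN⟩, htE, rfl⟩⟩

section Main

variable [QuasiSober T] [T0Space T]

/-- The dimension of an open set all of whose points share an irreducible component with `t` is
bounded by the dimensions of the irreducible components through `t`. -/
theorem dim_le_iSup_components (t : T) (V : Set T) (hV : IsOpen V)
    (h : ∀ s ∈ V, ∃ D ∈ irreducibleComponents T, s ∈ D ∧ t ∈ D) :
    topologicalKrullDim ↥V ≤
      ⨆ D ∈ {D : Set T | D ∈ irreducibleComponents T ∧ t ∈ D}, topologicalKrullDim ↥D := by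
  have : QuasiSober ↥V := hV.isOpenEmbedding_subtypeVal.quasiSober
  refine topologicalKrullDim_le_iSup_closure.trans (iSup_le fun s => ?_)
  obtain ⟨D, hD, hsD, htD⟩ := h s.1 s.2
  refine le_trans ?_ (le_biSup (fun D : Set T => topologicalKrullDim ↥D)
    (show D ∈ {D : Set T | D ∈ irreducibleComponents T ∧ t ∈ D} from ⟨hD, htD⟩))
  have hDcl : IsClosed D := isClosed_of_mem_irreducibleComponents D hD
  have hmem : ∀ w : ↥(closure ({s} : Set ↥V)), (w.1.1 : T) ∈ D := by
    intro w
    have h1 : (w.1.1 : T) ∈ closure D :=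
      map_mem_closure continuous_subtype_val w.2 (by rintro _ rfl; exact hsD)
    rwa [hDcl.closure_eq] at h1
  let j : ↥(closure ({s} : Set ↥V)) → ↥D := fun w => ⟨w.1.1, hmem w⟩
  have hj : IsInducing j := by
    refine IsInducing.of_comp ?_ continuous_subtype_val ?_
    · exact (continuous_subtype_val.comp continuous_subtype_val).subtype_mk _
    · exact (IsInducing.subtypeVal.comp IsInducing.subtypeVal :
        IsInducing ((Subtype.val : ↥V → T) ∘ (Subtype.val : ↥(closure ({s} : Set ↥V)) → ↥V)))
  exact hj.topologicalKrullDim_le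

variable
  (H1 : ∀ D ∈ irreducibleComponents T, ∀ V : Set T, IsOpen V → (V ∩ D).Nonempty →
    topologicalKrullDim ↥(V ∩ D) = topologicalKrullDim ↥D)
  (H2 : ∀ D ∈ irreducibleComponents T, ∀ t ∈ D, topologicalKrullDim ↥D =
    topologicalKrullDim ↥(closure ({t} : Set T)) + topologicalKrullDim ↥{s : T | s ∈ D ∧ s ⤳ t})
  (H3 : ∀ t : T, ∃ V : Set T, IsOpen V ∧ t ∈ V ∧
    ∀ s ∈ V, ∃ D ∈ irreducibleComponents T, s ∈ D ∧ t ∈ D)

omit [QuasiSober T] [T0Space T] in
include H1 in
theorem iSup_components_le_dim_open (t : T) (V : Set T) (hV : IsOpen V) (htV : t ∈ V) :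
    (⨆ D ∈ {D : Set T | D ∈ irreducibleComponents T ∧ t ∈ D}, topologicalKrullDim ↥D) ≤
      topologicalKrullDim ↥V := by
  refine iSup₂_le fun D hD => ?_
  rw [← H1 D hD.1 V hV ⟨t, htV, hD.2⟩]
  exact topologicalKrullDim_mono_set Set.inter_subset_left

include H1 H3 in
theorem localDim_eq_iSup (t : T) :
    FlatMor.localDim T t =
      ⨆ D ∈ {D : Set T | D ∈ irreducibleComponents T ∧ t ∈ D}, topologicalKrullDim ↥D := by
  apply le_antisymm
  · obtain ⟨V, hV, htV, h⟩ := H3 t
    exact iInf_le_of_le (⟨⟨V, hV⟩, htV⟩ : {U : Opens T // t ∈ U})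
      (dim_le_iSup_components t V hV h)
  · exact le_iInf fun U => iSup_components_le_dim_open H1 t U.1 U.1.2 U.2

include H1 H3 in
theorem dim_open_eq_localDim (t : T) (V : Set T) (hV : IsOpen V) (htV : t ∈ V)
    (hdisj : ∀ D ∈ irreducibleComponents T, t ∉ D → Disjoint V D) :
    topologicalKrullDim ↥V = FlatMor.localDim T t := by
  apply le_antisymm
  · rw [localDim_eq_iSup H1 H3 t]
    refine dim_le_iSup_components t V hV ?_
    intro s hs
    obtain ⟨D, hD, hsD⟩ := exists_mem_irreducibleComponents_subset_of_isIrreducible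
      ({s} : Set T) isIrreducible_singleton
    refine ⟨D, hD, hsD rfl, ?_⟩
    by_contra htD
    exact Set.disjoint_left.mp (hdisj D hD htD) hs (hsD rfl)
  · exact iInf_le_of_le (⟨⟨V, hV⟩, htV⟩ : {U : Opens T // t ∈ U}) le_rfl

include H1 H2 H3 in
theorem localDim_eq_add (t : T) :
    FlatMor.localDim T t = topologicalKrullDim ↥(closure ({t} : Set T)) +
      topologicalKrullDim ↥{s : T | s ⤳ t} := by
  rw [localDim_eq_iSup H1 H3 t]
  apply le_antisymm
  · refine iSup₂_le fun D hD => ?_
    rw [H2 D hD.1 t hD.2]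
    exact add_le_add_right (topologicalKrullDim_mono_set (fun s hs => hs.2)) _
  · have : QuasiSober ↥{s : T | s ⤳ t} := quasiSober_generizations t
    have key : topologicalKrullDim ↥{s : T | s ⤳ t} ≤
        ⨆ D ∈ {D : Set T | D ∈ irreducibleComponents T ∧ t ∈ D},
          topologicalKrullDim ↥{s : T | s ∈ D ∧ s ⤳ t} := by
      refine topologicalKrullDim_le_iSup_closure.trans (iSup_le fun s => ?_)
      obtain ⟨D, hD, hsD⟩ := exists_mem_irreducibleComponents_subset_of_isIrreducible
        ({s.1} : Set T) isIrreducible_singleton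
      have hDcl : IsClosed D := isClosed_of_mem_irreducibleComponents D hD
      have htD : t ∈ D := s.2.mem_closed hDcl (hsD rfl)
      refine le_trans ?_ (le_biSup (fun D : Set T => topologicalKrullDim ↥{s : T | s ∈ D ∧ s ⤳ t})
        (show D ∈ {D : Set T | D ∈ irreducibleComponents T ∧ t ∈ D} from ⟨hD, htD⟩))
      have hmem : ∀ w : ↥(closure ({s} : Set ↥{s : T | s ⤳ t})), (w.1.1 : T) ∈ D := by
        intro w
        have h1 : (w.1.1 : T) ∈ closure D :=
          map_mem_closure continuous_subtype_val w.2 (by rintro _ rfl; exact hsD rfl)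
        rwa [hDcl.closure_eq] at h1
      let j : ↥(closure ({s} : Set ↥{s : T | s ⤳ t})) → ↥{s : T | s ∈ D ∧ s ⤳ t} :=
        fun w => ⟨w.1.1, hmem w, w.1.2⟩
      have hj : IsInducing j := by
        refine IsInducing.of_comp ?_ continuous_subtype_val ?_
        · exact (continuous_subtype_val.comp continuous_subtype_val).subtype_mk _
        · exact (IsInducing.subtypeVal.comp IsInducing.subtypeVal :
            IsInducing ((Subtype.val : ↥{s : T | s ⤳ t} → T) ∘
              (Subtype.val : ↥(closure ({s} : Set ↥{s : T | s ⤳ t})) → ↥{s : T | s ⤳ t})))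
      exact hj.topologicalKrullDim_le
    have h2 := iSup_add_iSup_le_withBot
      (fun _ : Unit => topologicalKrullDim ↥(closure ({t} : Set T)))
      (fun D : {D : Set T // D ∈ irreducibleComponents T ∧ t ∈ D} =>
        topologicalKrullDim ↥{s : T | s ∈ D.1 ∧ s ⤳ t})
      (⨆ D ∈ {D : Set T | D ∈ irreducibleComponents T ∧ t ∈ D}, topologicalKrullDim ↥D) ?_
    · rw [iSup_const] at h2
      refine le_trans (add_le_add_right ?_ _) h2
      refine key.trans ?_
      rw [iSup_subtype']
      exact le_rfl
    · rintro _ ⟨D, hD⟩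
      rw [← H2 D hD.1 t hD.2]
      exact le_biSup (fun D : Set T => topologicalKrullDim ↥D)
        (show D ∈ {D : Set T | D ∈ irreducibleComponents T ∧ t ∈ D} from hD)

end Main

end Groth.Agent.Lib.Helper24.JacDimB
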