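import Mathlib
import Groth.Agent.Lib.Helper24.JacDimA
import Groth.Agent.Lib.Helper24.JacDimB

/-!
# Local dimension of closed subsets over Jacobson universally catenary bases (helper24)

EGA IV 10.6.x: for `S` locally Noetherian, Jacobson, with universally catenary local rings and
equidimensional irreducible components, `g : X ⟶ S` locally of finite type, `Y ⊆ X` closed and
`x ∈ Y`: `dim_x Y = dim cl{x} + dim {t ∈ Y | t ⤳ x} = sup of dim of the components through x`.
-/

set_option autoImplicit false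
set_option linter.style.haveILetI false
universe u

namespace Groth.Agent.Lib.Helper24.JacDimC

open AlgebraicGeometry CategoryTheory Topology TopologicalSpace Groth.Agent.Lib.Helper55
  Groth.Agent.Lib.Helper24.JacDimA Groth.Agent.Lib.Helper24.JacDimB

/-- the image of a subset of a subspace has the same dimension -/
theorem dim_image_val {α : Type*} [TopologicalSpace α] (Y : Set α) (A : Set ↥Y) :
    topologicalKrullDim ↥(Subtype.val '' A) = topologicalKrullDim ↥A :=
  (IsHomeomorph.topologicalKrullDim_eq _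
    (IsEmbedding.subtypeVal.homeomorphImage A).isHomeomorph).symm

variable {X S : Scheme.{u}} [IsLocallyNoetherian S] [JacobsonSpace S]
  (g : X ⟶ S) [LocallyOfFiniteType g]
  (h2 : ∀ s : S, CAlg.IsUniversallyCatenary (S.presheaf.stalk s))
  (h3 : ∀ S' ∈ irreducibleComponents (S : Type u), ∀ s ∈ S', IsClosed ({s} : Set S) →
    topologicalKrullDim (↥S' : Type u) = topologicalKrullDim ↥{t : S | t ∈ S' ∧ t ⤳ s})
  (Y : Set X) (hY : IsClosed Y)

include g h2 h3 hY in
theorem H1_sub : ∀ D ∈ irreducibleComponents ↥Y, ∀ V : Set ↥Y, IsOpen V → (V ∩ D).Nonempty →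
    topologicalKrullDim ↥(V ∩ D) = topologicalKrullDim ↥D := by
  intro D hD V hV hne
  have hDcl : IsClosed D := isClosed_of_mem_irreducibleComponents D hD
  have hD'irr : IsIrreducible (Subtype.val '' D) :=
    hD.1.image _ continuous_subtype_val.continuousOn
  have hD'cl : IsClosed (Subtype.val '' D) := hY.isClosedEmbedding_subtypeVal.isClosedMap D hDcl
  obtain ⟨U, hU, rfl⟩ := isOpen_induced_iff.mp hV
  have himg : Subtype.val '' (Subtype.val ⁻¹' U ∩ D) = U ∩ Subtype.val '' D :=
    Set.image_preimage_inter _ _ _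
  have hne' : (U ∩ Subtype.val '' D).Nonempty := by
    rw [← himg]
    exact hne.image _
  rw [← dim_image_val Y (Subtype.val ⁻¹' U ∩ D), himg,
    dim_open_inter_eq g h2 h3 _ hD'cl hD'irr U hU hne', dim_image_val]

include g h2 h3 hY in
theorem H2_sub : ∀ D ∈ irreducibleComponents ↥Y, ∀ t ∈ D, topologicalKrullDim ↥D =
    topologicalKrullDim ↥(closure ({t} : Set ↥Y)) +
      topologicalKrullDim ↥{s : ↥Y | s ∈ D ∧ s ⤳ t} := by
  intro D hD t ht
  have hDcl : IsClosed D := isClosed_of_mem_irreducibleComponents D hD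
  have hD'irr : IsIrreducible (Subtype.val '' D) :=
    hD.1.image _ continuous_subtype_val.continuousOn
  have hD'cl : IsClosed (Subtype.val '' D) := hY.isClosedEmbedding_subtypeVal.isClosedMap D hDcl
  have h := dim_eq_dim_closure_add g h2 h3 _ hD'cl hD'irr t.1 ⟨t, ht, rfl⟩
  have e1 : closure ({t.1} : Set X) = Subtype.val '' closure ({t} : Set ↥Y) := by
    rw [← hY.isClosedEmbedding_subtypeVal.closure_image_eq, Set.image_singleton]
  have e2 : {s : X | s ∈ Subtype.val '' D ∧ s ⤳ t.1} =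
      Subtype.val '' {s : ↥Y | s ∈ D ∧ s ⤳ t} := by
    ext s
    constructor
    · rintro ⟨⟨s', hs'D, rfl⟩, hs⟩
      exact ⟨s', ⟨hs'D, (subtype_specializes_iff _ _).mpr hs⟩, rfl⟩
    · rintro ⟨s', ⟨hs'D, hs'⟩, rfl⟩
      exact ⟨⟨s', hs'D, rfl⟩, (subtype_specializes_iff _ _).mp hs'⟩
  rw [e1, e2, dim_image_val, dim_image_val, dim_image_val] at h
  exact h

include g in
omit [JacobsonSpace S] in
theorem H3_sub : ∀ t : ↥Y, ∃ V : Set ↥Y, IsOpen V ∧ t ∈ V ∧
    ∀ s ∈ V, ∃ D ∈ irreducibleComponents ↥Y, s ∈ D ∧ t ∈ D := by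
  intro t
  haveI : IsLocallyNoetherian X := LocallyOfFiniteType.isLocallyNoetherian g
  obtain ⟨_, ⟨W, hW : IsAffineOpen W, rfl⟩, htW, -⟩ :=
    X.isBasis_affineOpens.exists_subset_of_mem_open (Set.mem_univ t.1) isOpen_univ
  haveI : IsNoetherianRing Γ(X, W) := IsLocallyNoetherian.component_noetherian ⟨W, hW⟩
  haveI : NoetherianSpace ↥W := noetherianSpace_of_isAffineOpen W hW
  let N : Set ↥Y := Subtype.val ⁻¹' (W : Set X)
  have hN : IsOpen N := W.2.preimage continuous_subtype_val
  let j : ↥N → ↥W := fun s => ⟨s.1.1, s.2⟩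
  have hj : IsInducing j := by
    refine IsInducing.of_comp ?_ continuous_subtype_val ?_
    · exact (continuous_subtype_val.comp continuous_subtype_val).subtype_mk _
    · exact (IsInducing.subtypeVal.comp IsInducing.subtypeVal :
        IsInducing ((Subtype.val : ↥Y → X) ∘ (Subtype.val : ↥N → ↥Y)))
  haveI : NoetherianSpace ↥N := hj.noetherianSpace
  exact exists_open_common_component t N hN htW

include g h2 h3 hY in
/-- **EGA IV 10.6.x** for closed subsets of schemes locally of finite type over `S`. -/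
theorem localDim_closed (x : X) (hx : x ∈ Y) :
    FlatMor.localDim ↥Y ⟨x, hx⟩ =
        topologicalKrullDim ↥(closure ({x} : Set X)) +
          topologicalKrullDim ↥{t : X | t ∈ Y ∧ t ⤳ x} ∧
      FlatMor.localDim ↥Y ⟨x, hx⟩ =
        ⨆ C ∈ {C : Set ↥Y | C ∈ irreducibleComponents ↥Y ∧ (⟨x, hx⟩ : ↥Y) ∈ C},
          topologicalKrullDim ↥C ∧
      ∀ U : Set X, IsOpen U → x ∈ U →
        (∀ C ∈ irreducibleComponents ↥Y, (⟨x, hx⟩ : ↥Y) ∉ C →
          Disjoint (Subtype.val ⁻¹' U) C) →
        topologicalKrullDim ↥(U ∩ Y) = FlatMor.localDim ↥Y ⟨x, hx⟩ := by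
  haveI : QuasiSober X := inferInstance
  haveI : QuasiSober ↥Y := hY.isClosedEmbedding_subtypeVal.quasiSober
  have H1 := H1_sub g h2 h3 Y hY
  have H2 := H2_sub g h2 h3 Y hY
  have H3 := H3_sub g Y
  refine ⟨?_, localDim_eq_iSup H1 H3 ⟨x, hx⟩, ?_⟩
  · rw [localDim_eq_add H1 H2 H3 ⟨x, hx⟩]
    have e1 : closure ({x} : Set X) = Subtype.val '' closure ({(⟨x, hx⟩ : ↥Y)} : Set ↥Y) := by
      rw [← hY.isClosedEmbedding_subtypeVal.closure_image_eq, Set.image_singleton]
    have e2 : {t : X | t ∈ Y ∧ t ⤳ x} =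
        Subtype.val '' {s : ↥Y | s ⤳ (⟨x, hx⟩ : ↥Y)} := by
      ext s
      constructor
      · rintro ⟨hsY, hs⟩
        exact ⟨⟨s, hsY⟩, (subtype_specializes_iff _ _).mpr hs, rfl⟩
      · rintro ⟨s', hs', rfl⟩
        exact ⟨s'.2, (subtype_specializes_iff _ _).mp hs'⟩
    rw [e1, e2, dim_image_val, dim_image_val]
  · intro U hU hxU hdisj
    rw [← dim_open_eq_localDim H1 H3 ⟨x, hx⟩ (Subtype.val ⁻¹' U)
      (hU.preimage continuous_subtype_val) hxU hdisj, ← dim_image_val Y (Subtype.val ⁻¹' U),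
      Subtype.image_preimage_coe, Set.inter_comm]

end Groth.Agent.Lib.Helper24.JacDimC
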