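import Mathlib
import Groth.Agent.Lib.Helper24.JacDimC
import Groth.Agent.Lib.Helper85.IntMult.LocLen
import Groth.Agent.Lib.Helper45.QCohStalk
import Groth.Agent.Lib.Helper49.PullbackSupport
import Groth.Agent.Lib.Helper55.ZeroLocusDim
import Groth.Agent.Lib.Helper1.SupportClosed

/-!
# The dimension of a stalk of a coherent module as a dimension of generizations (helper24)

`dim (F_x) = dim {t ∈ Supp F | t ⤳ x}` and EGA IV 10.8.x in the form
`dim cl{x} + dim F_x = dim_x (Supp F)`.
-/

set_option autoImplicit false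
set_option linter.style.haveILetI false
universe u

namespace Groth.Agent.Lib.Helper24.JacDimD

open AlgebraicGeometry CategoryTheory Topology TopologicalSpace Groth.Agent.Lib.Helper45

attribute [local instance] stalkModuleSections

section Length

variable {X : Scheme.{u}} (F : X.Modules) [F.IsQuasicoherent]

/-- (after helper85's `StalkLen.length_stalk_aux`) the length of the stalk at a generization. -/
theorem length_stalk_eq_locLen {U : X.Opens} (hU : IsAffineOpen U) (z y : U)
    (𝔭 : PrimeSpectrum (X.presheaf.stalk (z : X)))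
    (hq : (hU.primeIdealOf y).asIdeal =
      𝔭.asIdeal.comap (algebraMap Γ(X, U) (X.presheaf.stalk (z : X)))) :
    Module.length (X.presheaf.stalk (y : X)) (F.presheaf.stalk (y : X)) =
      Module.length (Localization.AtPrime 𝔭.asIdeal)
        (LocalizedModule 𝔭.asIdeal.primeCompl (F.presheaf.stalk (z : X))) := by
  haveI ly := hU.isLocalization_stalk y
  haveI lmy := isLocalizedModule_germₗ hU F y
  have h1 := Groth.Agent.Lib.Helper85.LocLen.length_eq_of_isLocalizedModule
    (hU.primeIdealOf y).asIdeal (X.presheaf.stalk (y : X)) (germₗ F y)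
  haveI lz := hU.isLocalization_stalk z
  haveI lmz := isLocalizedModule_germₗ hU F z
  have h2 := Groth.Agent.Lib.Helper85.LocLen.length_localizedModule_eq
    (hU.primeIdealOf z).asIdeal (X.presheaf.stalk (z : X)) (germₗ F z) 𝔭.asIdeal
  have h3 : ∀ (p p' : Ideal Γ(X, U)) [hp : p.IsPrime] [hp' : p'.IsPrime] (_ : p = p'),
      Module.length (Localization.AtPrime p) (LocalizedModule p.primeCompl Γ(F, U)) =
        Module.length (Localization.AtPrime p') (LocalizedModule p'.primeCompl Γ(F, U)) := by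
    intro p p' _ _ h
    subst h
    rfl
  exact h1.trans ((h3 _ _ hq).trans h2.symm)

/-- A prime of the local ring at `x` is in the support of `F_x` iff the stalk of `F` at the
corresponding generization of `x` is nonzero. -/
theorem mem_support_stalk_iff (x : X) (𝔭 : PrimeSpectrum (X.presheaf.stalk x)) :
    𝔭 ∈ Module.support (X.presheaf.stalk x) (F.presheaf.stalk x) ↔
      ¬ Subsingleton (F.presheaf.stalk (X.fromSpecStalk x 𝔭)) := by
  obtain ⟨_, ⟨U, hU : IsAffineOpen U, rfl⟩, hxU, -⟩ :=
    X.isBasis_affineOpens.exists_subset_of_mem_open (Set.mem_univ x) isOpen_univ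
  obtain ⟨xU, rfl⟩ : ∃ xU : U, (xU : X) = x := ⟨⟨x, hxU⟩, rfl⟩
  have hspec : X.fromSpecStalk (xU : X) 𝔭 ⤳ (xU : X) := by
    have h : X.fromSpecStalk (xU : X) 𝔭 ∈ Set.range (X.fromSpecStalk (xU : X)) := ⟨𝔭, rfl⟩
    rw [Scheme.range_fromSpecStalk] at h
    exact h
  have htU : X.fromSpecStalk (xU : X) 𝔭 ∈ U := hspec.mem_open U.2 hxU
  have hpt : X.fromSpecStalk (xU : X) 𝔭 = hU.fromSpec (Spec.map (X.presheaf.germ U (xU : X) hxU) 𝔭) := by
    rw [← hU.fromSpecStalk_eq_fromSpecStalk hxU]
    rfl
  have h1 : hU.fromSpec (hU.primeIdealOf ⟨X.fromSpecStalk (xU : X) 𝔭, htU⟩) =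
      hU.fromSpec (Spec.map (X.presheaf.germ U (xU : X) hxU) 𝔭) := by
    rw [hU.fromSpec_primeIdealOf]
    exact hpt
  have h2 := hU.fromSpec.isOpenEmbedding.injective h1
  have hq : (hU.primeIdealOf ⟨X.fromSpecStalk (xU : X) 𝔭, htU⟩).asIdeal =
      𝔭.asIdeal.comap (algebraMap Γ(X, U) (X.presheaf.stalk (xU : X))) := by
    rw [h2]
    rfl
  have hlen := length_stalk_eq_locLen F hU xU ⟨X.fromSpecStalk (xU : X) 𝔭, htU⟩ 𝔭 hq
  rw [Module.mem_support_iff, ← not_subsingleton_iff_nontrivial, ← Module.length_eq_zero_iff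
    (R := Localization.AtPrime 𝔭.asIdeal), ← hlen, Module.length_eq_zero_iff]

end Length

section Dim

variable {X : Scheme.{u}}

/-- The dimension of the stalk `F_x` of a coherent module is the dimension of the space of
generizations of `x` in the support of `F`. -/
theorem supportDim_stalk_eq (F : X.Modules) (hF : Coh.IsCoh F) (x : X) :
    Module.supportDim (X.presheaf.stalk x) (F.presheaf.stalk x) =
      topologicalKrullDim ↥{t : X | t ∈ CohB1.support F ∧ t ⤳ x} := by
  haveI := hF.1
  haveI : Module.Finite (X.presheaf.stalk x) (F.presheaf.stalk x) :=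
    Groth.Agent.Lib.Helper49.finite_stalk_of_isFiniteType F hF.2 x
  rw [Module.supportDim_eq_ringKrullDim_quotient_annihilator,
    ← Groth.Agent.Lib.Helper55.topologicalKrullDim_zeroLocus_eq_ringKrullDim_quotient,
    ← Module.support_eq_zeroLocus]
  have hemb : IsEmbedding ⇑(X.fromSpecStalk x) := (X.fromSpecStalk x).isEmbedding
  have himg : ⇑(X.fromSpecStalk x) ''
      (Module.support (X.presheaf.stalk x) (F.presheaf.stalk x)) =
      {t : X | t ∈ CohB1.support F ∧ t ⤳ x} := by
    ext t
    constructor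
    · rintro ⟨𝔭, h𝔭, rfl⟩
      refine ⟨(mem_support_stalk_iff F x 𝔭).mp h𝔭, ?_⟩
      have h : X.fromSpecStalk x 𝔭 ∈ Set.range (X.fromSpecStalk x) := ⟨𝔭, rfl⟩
      rwa [Scheme.range_fromSpecStalk] at h
    · rintro ⟨ht, hspec⟩
      have h : t ∈ Set.range (X.fromSpecStalk x) := by
        rw [Scheme.range_fromSpecStalk]
        exact hspec
      obtain ⟨𝔭, rfl⟩ := h
      exact ⟨𝔭, (mem_support_stalk_iff F x 𝔭).mpr ht, rfl⟩
  rw [← himg]
  exact IsHomeomorph.topologicalKrullDim_eq _ (hemb.homeomorphImage _).isHomeomorph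

variable {S : Scheme.{u}} [IsLocallyNoetherian S] [JacobsonSpace S]
  (g : X ⟶ S) [LocallyOfFiniteType g]

include g in
/-- EGA IV 10.8.x: `dim cl{x} + dim F_x = dim_x (Supp F)`. -/
theorem dim_closure_add_supportDim
    (h2 : ∀ s : S, CAlg.IsUniversallyCatenary (S.presheaf.stalk s))
    (h3 : ∀ S' ∈ irreducibleComponents (S : Type u), ∀ s ∈ S', IsClosed ({s} : Set S) →
      topologicalKrullDim (↥S' : Type u) = topologicalKrullDim ↥{t : S | t ∈ S' ∧ t ⤳ s})
    (F : X.Modules) (hF : Coh.IsCoh F) (x : X) (hx : x ∈ CohB1.support F) :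
    topologicalKrullDim ↥(closure ({x} : Set X)) +
        Module.supportDim (X.presheaf.stalk x) (F.presheaf.stalk x) =
      FlatMor.localDim ↥(CohB1.support F) ⟨x, hx⟩ := by
  have hcl := Groth.Agent.Lib.Helper1.isClosed_support_of_isFiniteType F hF.2
  rw [(Groth.Agent.Lib.Helper24.JacDimC.localDim_closed g h2 h3 _ hcl x hx).1,
    supportDim_stalk_eq F hF x]

end Dim

end Groth.Agent.Lib.Helper24.JacDimD
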