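/-
Helper library (helper24): for a smooth morphism `h : X ⟶ S` and a point `x`, the module of
Kähler differentials of the stalk map `O_{S,h x} → O_{X,x}` is free of finite rank equal to the
local dimension at `x` of the fibre of `h` through `x`.
-/
import Groth.Agent.Lib.Helper24.KaehlerStalk
import Groth.Agent.H52.SmoothDim

set_option autoImplicit false
universe u
open CategoryTheory CategoryTheory.Limits AlgebraicGeometry Opposite TensorProduct

namespace Groth.Agent.Lib.Helper24

theorem kaehler_stalk_free_finrank_of_smooth {X S : Scheme.{u}} (h : X ⟶ S) [Smooth h] (x : X) :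
    letI := (h.stalkMap x).hom.toAlgebra
    Module.Free (X.presheaf.stalk x) Ω[X.presheaf.stalk x⁄S.presheaf.stalk (h x)] ∧
    Module.Finite (X.presheaf.stalk x) Ω[X.presheaf.stalk x⁄S.presheaf.stalk (h x)] ∧
    ((Module.finrank (X.presheaf.stalk x) Ω[X.presheaf.stalk x⁄S.presheaf.stalk (h x)] : ℕ) :
      WithBot ℕ∞) = FlatMor.fibreDimAt h x := by
  obtain ⟨V₀, hV₀, U₀, hU₀, hu, e, hss⟩ := Smooth.exists_isStandardSmooth h x
  obtain ⟨n, hn⟩ := Groth.Agent.H52.exists_relDim_of_isStandardSmooth _ hss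
  have hdim : FlatMor.fibreDimAt h x = (n : WithBot ℕ∞) := by
    have : IsAffine (U₀ : Scheme.{u}) := hU₀
    have : IsAffine (V₀ : Scheme.{u}) := hV₀
    have hg : SmoothOfRelativeDimension n (h.resLE V₀ U₀ e) := by
      rw [HasRingHomProperty.iff_of_isAffine (P := @SmoothOfRelativeDimension n)]
      apply RingHom.locally_of RingHom.isStandardSmoothOfRelativeDimension_respectsIso
      change ((h.resLE V₀ U₀ e).app ⊤).hom.IsStandardSmoothOfRelativeDimension _
      rw [Scheme.Hom.resLE_app_top]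
      have hri := RingHom.isStandardSmoothOfRelativeDimension_respectsIso (n := n)
      exact hri.2 _ V₀.topIso.commRingCatIsoToRingEquiv
        (hri.1 _ U₀.topIso.symm.commRingCatIsoToRingEquiv hn)
    have key := Groth.Agent.S7408.result h (h.resLE V₀ U₀ e) U₀.ι V₀.ι
      (Scheme.Hom.resLE_comp_ι h e) ⟨x, hu⟩
    have key2 := Groth.Agent.S2768.result n (h.resLE V₀ U₀ e) ⟨x, hu⟩
    rw [← key2, ← key]
    rfl
  let algAB : Algebra Γ(S, V₀) Γ(X, U₀) := (h.appLE V₀ U₀ e).hom.toAlgebra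
  let algBT : Algebra Γ(X, U₀) (X.presheaf.stalk x) :=
    X.presheaf.algebra_section_stalk ⟨x, hu⟩
  let algAR : Algebra Γ(S, V₀) (S.presheaf.stalk (h x)) :=
    S.presheaf.algebra_section_stalk ⟨h x, e hu⟩
  let algRT : Algebra (S.presheaf.stalk (h x)) (X.presheaf.stalk x) :=
    (h.stalkMap x).hom.toAlgebra
  let algAT : Algebra Γ(S, V₀) (X.presheaf.stalk x) :=
    ((h.stalkMap x).hom.comp (algebraMap Γ(S, V₀) (S.presheaf.stalk (h x)))).toAlgebra
  have t1 : IsScalarTower Γ(S, V₀) (S.presheaf.stalk (h x)) (X.presheaf.stalk x) :=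
    IsScalarTower.of_algebraMap_eq' rfl
  have t2 : IsScalarTower Γ(S, V₀) Γ(X, U₀) (X.presheaf.stalk x) := by
    refine IsScalarTower.of_algebraMap_eq' ?_
    ext a
    simp only [RingHom.algebraMap_toAlgebra, RingHom.coe_comp, Function.comp_apply]
    simp only [Scheme.Hom.germ_stalkMap_apply, Scheme.Hom.appLE,
      homOfLE_leOfHom, CommRingCat.hom_comp, RingHom.coe_comp, Function.comp_apply,
      X.presheaf.germ_res_apply]
  have locT : IsLocalization.AtPrime (X.presheaf.stalk x) (hU₀.primeIdealOf ⟨x, hu⟩).asIdeal :=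
    hU₀.isLocalization_stalk ⟨x, hu⟩
  have locR : IsLocalization.AtPrime (S.presheaf.stalk (h x))
      (hV₀.primeIdealOf ⟨h x, e hu⟩).asIdeal :=
    hV₀.isLocalization_stalk ⟨h x, e hu⟩
  have feT : Algebra.FormallyEtale Γ(X, U₀) (X.presheaf.stalk x) :=
    Algebra.FormallyEtale.of_isLocalization (hU₀.primeIdealOf ⟨x, hu⟩).asIdeal.primeCompl
  have feR : Algebra.FormallyEtale Γ(S, V₀) (S.presheaf.stalk (h x)) :=
    Algebra.FormallyEtale.of_isLocalization (hV₀.primeIdealOf ⟨h x, e hu⟩).asIdeal.primeCompl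
  have fuR : Algebra.FormallyUnramified Γ(S, V₀) (S.presheaf.stalk (h x)) := inferInstance
  have hn' : Algebra.IsStandardSmoothOfRelativeDimension n Γ(S, V₀) Γ(X, U₀) := hn
  obtain ⟨h1, h2, h3⟩ := kaehler_free_finrank_of_chart Γ(S, V₀) Γ(X, U₀)
    (S.presheaf.stalk (h x)) (X.presheaf.stalk x) n
  exact ⟨h1, h2, by rw [h3, hdim]⟩

end Groth.Agent.Lib.Helper24
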