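/-
Helper library (helper24): for a local `k`-algebra `T` with principal maximal ideal `(s)`, residue
field formally unramified over `k` and `Ω[T⁄k]` finite free of rank one, `d s` is a basis of
`Ω[T⁄k]`.
-/
import Mathlib

set_option autoImplicit false
universe u
open TensorProduct IsLocalRing

namespace Groth.Agent.Lib.Helper24

/-- A surjective linear map between finite free modules of the same rank is bijective. -/
theorem bijective_of_surjective_of_finrank_eq' {T M N : Type u} [CommRing T] [Nontrivial T]
    [AddCommGroup M] [Module T M] [AddCommGroup N] [Module T N]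
    [Module.Free T M] [Module.Finite T M] [Module.Free T N] [Module.Finite T N]
    (φ : M →ₗ[T] N) (hφ : Function.Surjective φ)
    (hr : Module.finrank T M = Module.finrank T N) : Function.Bijective φ := by
  let e : N ≃ₗ[T] M := LinearEquiv.ofFinrankEq N M hr.symm
  have hs : Function.Surjective (e.toLinearMap.comp φ) := e.surjective.comp hφ
  have hi : Function.Injective (e.toLinearMap.comp φ) :=
    OrzechProperty.injective_of_surjective_endomorphism _ hs
  refine ⟨?_, hφ⟩
  intro a b hab
  exact hi (by simp [hab])

/-- The differential of a uniformizer spans `Ω[T⁄k]` when the residue field is formally unramified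
over `k`. -/
theorem span_D_uniformizer_eq_top (k T : Type u) [Field k] [CommRing T] [IsLocalRing T]
    [Algebra k T] [Module.Finite T Ω[T⁄k]]
    [Algebra.FormallyUnramified k (ResidueField T)]
    (s : T) (hs : maximalIdeal T = Ideal.span {s}) :
    Submodule.span T {KaehlerDifferential.D k T s} = ⊤ := by
  rw [← IsLocalRing.map_tensorProduct_mk_eq_top, eq_top_iff]
  intro z _
  -- `z` is in the range of the conormal map
  have hsurj : Function.Surjective (algebraMap T (ResidueField T)) :=
    IsLocalRing.residue_surjective
  have hex := KaehlerDifferential.exact_kerCotangentToTensor_mapBaseChange k T (ResidueField T) hsurj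
  have hz : KaehlerDifferential.mapBaseChange k T (ResidueField T) z = 0 :=
    Subsingleton.elim _ _
  obtain ⟨c, rfl⟩ := (hex z).mp hz
  obtain ⟨y, rfl⟩ := Ideal.toCotangent_surjective _ c
  rw [KaehlerDifferential.kerCotangentToTensor_toCotangent]
  have hy : (y : T) ∈ maximalIdeal T := by
    have := y.2
    change (y : T) ∈ RingHom.ker (IsLocalRing.residue T) at this
    rwa [IsLocalRing.ker_residue] at this
  rw [hs, Ideal.mem_span_singleton'] at hy
  obtain ⟨a, ha⟩ := hy
  rw [← ha, Derivation.leibniz, TensorProduct.tmul_add, TensorProduct.tmul_smul,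
    TensorProduct.tmul_smul]
  have h2 : s • ((1 : ResidueField T) ⊗ₜ[T] KaehlerDifferential.D k T a) = 0 := by
    rw [TensorProduct.smul_tmul', Algebra.smul_def, mul_one]
    have : algebraMap T (ResidueField T) s = 0 := by
      change IsLocalRing.residue T s = 0
      rw [IsLocalRing.residue_eq_zero_iff, hs]
      exact Ideal.mem_span_singleton_self s
    rw [this, TensorProduct.zero_tmul]
  rw [h2, add_zero]
  refine Submodule.smul_mem _ a ?_
  exact Submodule.mem_map_of_mem (Submodule.mem_span_singleton_self _)

/-- `d s` is a basis of `Ω[T⁄k]`. -/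
theorem bijective_smul_D_uniformizer (k T : Type u) [Field k] [CommRing T] [IsLocalRing T]
    [Algebra k T] [Module.Finite T Ω[T⁄k]] [Module.Free T Ω[T⁄k]]
    (hrk : Module.finrank T Ω[T⁄k] = 1)
    [Algebra.FormallyUnramified k (ResidueField T)]
    (s : T) (hs : maximalIdeal T = Ideal.span {s}) :
    Function.Bijective (fun a : T => a • KaehlerDifferential.D k T s) := by
  let φ : T →ₗ[T] Ω[T⁄k] := LinearMap.toSpanSingleton T _ (KaehlerDifferential.D k T s)
  have hφ : Function.Surjective φ := by
    rw [← LinearMap.range_eq_top, LinearMap.range_toSpanSingleton]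
    exact span_D_uniformizer_eq_top k T s hs
  have := bijective_of_surjective_of_finrank_eq' φ hφ (by rw [Module.finrank_self, hrk])
  exact this

end Groth.Agent.Lib.Helper24
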