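import Mathlib
import Groth.Agent.Lib.Helper79.LenMult

/-!
# Lengths at the non-closed points of a one-dimensional support (helper24)

Algebraic input for EGA IV 15.x (`S4980`): for a finite module `M` over a Noetherian local ring
`R` and `t ∈ 𝔪`, the sum of the lengths of `M_p` over finitely many primes `p ∈ Supp M` not
containing `t` is at most the length of `M / t M` (built on helper79's `LenMult.main_ineq`), and
the maximal ideal is associated to `M / t M` as soon as it is the only prime containing
`p + (t)` for some `p ∈ Ass M` (`t` being `M`-regular).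
-/

set_option autoImplicit false
universe u

namespace Groth.Agent.Lib.Helper24.LenFibA

open Groth.Agent.Lib.Helper79.LenMult

variable {R : Type u} [CommRing R]

/-- Sum of the local lengths over primes of the support avoiding `t` is bounded by the length of
`M / t M`. -/
theorem sum_locLen_le [IsNoetherianRing R] [IsLocalRing R] (M : Type u) [AddCommGroup M]
    [Module R M] [Module.Finite R M] (t : R) (ht : t ∈ IsLocalRing.maximalIdeal R)
    (T : Finset (PrimeSpectrum R))
    (hT : ∀ p ∈ T, p ∈ Module.support R M ∧ t ∉ p.asIdeal) :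
    ∑ p ∈ T, locLen p M ≤
      Module.length R (M ⧸ (Ideal.span {t} • (⊤ : Submodule R M))) := by
  by_cases hfin : Module.length R (M ⧸ (Ideal.span {t} • (⊤ : Submodule R M))) = ⊤
  · rw [hfin]; exact le_top
  by_cases hdim : 0 < Module.supportDim R M
  · have h1 := fl_h1 t ht M hdim hfin
    have h0 := fl_h0 t M hfin
    rw [length_span_smul_top]
    refine le_trans ?_ (main_ineq M t ht h1 h0)
    refine Finset.sum_le_sum_of_subset ?_
    intro p hp
    rw [Set.Finite.mem_toFinset]
    exact ⟨(hT p hp).1, fun h => (hT p hp).2 (h ▸ ht)⟩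
  · have hT' : T = ∅ := by
      rw [Finset.eq_empty_iff_forall_notMem]
      intro p hp
      obtain ⟨hps, htp⟩ := hT p hp
      have hle : Module.supportDim R M ≤ 0 := not_lt.mp hdim
      have hmax := Order.krullDim_nonpos_iff_forall_isMax.mp hle ⟨p, hps⟩
      have hm : IsLocalRing.closedPoint R ∈ Module.support R M :=
        Module.mem_support_mono (IsLocalRing.le_maximalIdeal p.2.ne_top) hps
      have hle' : (⟨p, hps⟩ : Module.support R M) ≤ ⟨IsLocalRing.closedPoint R, hm⟩ :=
        IsLocalRing.le_maximalIdeal p.2.ne_top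
      have h2 : IsLocalRing.maximalIdeal R ≤ p.asIdeal := hmax hle'
      exact htp (h2 ht)
    rw [hT']
    simp

/-- If `t` is `M`-regular, `p ∈ Ass M` and `𝔪` is the only prime containing `p + (t)`, then
`𝔪 ∈ Ass (M / t M)`. -/
theorem maximalIdeal_mem_associatedPrimes_quot [IsNoetherianRing R] [IsLocalRing R] (M : Type u)
    [AddCommGroup M] [Module R M] [Module.Finite R M] (t : R)
    (ht : t ∈ IsLocalRing.maximalIdeal R) (hreg : IsSMulRegular M t) (p : Ideal R)
    (hp : p ∈ associatedPrimes R M)
    (hmin : ∀ q : Ideal R, q.IsPrime → p ≤ q → t ∈ q → q = IsLocalRing.maximalIdeal R) :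
    IsLocalRing.maximalIdeal R ∈
      associatedPrimes R (M ⧸ (Ideal.span {t} • (⊤ : Submodule R M))) := by
  obtain ⟨hPprime, n₀, hn₀⟩ := isAssociatedPrime_iff.mp hp
  let N' : Submodule R M :=
    { carrier := {n | ∀ a ∈ p, a • n = 0}
      add_mem' := fun {u v} hu hv a ha => by
        show a • (u + v) = 0
        rw [smul_add, hu a ha, hv a ha, add_zero]
      zero_mem' := fun a _ => smul_zero a
      smul_mem' := fun c u hu a ha => by
        show a • c • u = 0
        rw [smul_comm, hu a ha, smul_zero] }
  have hn₀N' : n₀ ∈ N' := by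
    intro a ha
    rw [hn₀, Submodule.mem_colon_singleton, Submodule.mem_bot] at ha
    exact ha
  have hn₀ne : n₀ ≠ 0 := by
    intro h0
    apply hPprime.ne_top
    rw [hn₀, h0]
    ext a
    simp [Submodule.mem_colon_singleton]
  have hN'ne : N' ≠ ⊥ := fun hbot => hn₀ne ((Submodule.mem_bot R).mp (hbot ▸ hn₀N'))
  have hjac : t ∈ (⊥ : Ideal R).jacobson := by
    rw [IsLocalRing.jacobson_eq_maximalIdeal _ bot_ne_top]
    exact ht
  have hnot : ¬ N' ≤ Ideal.span {t} • N' := by
    intro hle
    apply hN'ne
    exact Submodule.eq_bot_of_le_smul_of_le_jacobson_bot (Ideal.span {t}) N'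
      (IsNoetherian.noetherian N') hle ((Ideal.span_singleton_le_iff_mem _).mpr hjac)
  obtain ⟨n, hnN', hnx⟩ := SetLike.not_le_iff_exists.mp hnot
  have hnbar : (Submodule.mkQ (Ideal.span {t} • (⊤ : Submodule R M)) n) ≠ 0 := by
    intro h0
    rw [← LinearMap.mem_ker, Submodule.ker_mkQ, Submodule.ideal_span_singleton_smul,
      Submodule.mem_smul_pointwise_iff_exists] at h0
    obtain ⟨m, -, hm⟩ := h0
    apply hnx
    have hmN' : m ∈ N' := by
      intro a ha
      apply hreg
      show t • a • m = t • (0 : M)
      rw [smul_zero, smul_comm, hm]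
      exact hnN' a ha
    rw [← hm]
    exact Submodule.smul_mem_smul (Ideal.mem_span_singleton_self t) hmN'
  obtain ⟨P', hP', hle⟩ := exists_le_isAssociatedPrime_of_isNoetherianRing R _ hnbar
  have hpP' : p ≤ P' := by
    intro a ha
    apply hle
    rw [Submodule.mem_colon_singleton, Submodule.mem_bot, ← map_smul, hnN' a ha, map_zero]
  have htP' : t ∈ P' := by
    apply hle
    rw [Submodule.mem_colon_singleton, Submodule.mem_bot, ← map_smul]
    rw [← LinearMap.mem_ker, Submodule.ker_mkQ]
    exact Submodule.smul_mem_smul (Ideal.mem_span_singleton_self t) Submodule.mem_top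
  have hP'prime : P'.IsPrime := hP'.isPrime
  have := hmin P' hP'prime hpP' htP'
  rw [← this]
  exact hP'

end Groth.Agent.Lib.Helper24.LenFibA
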