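import Mathlib
import Groth.Agent.Lib.Helper24.LenFibA
import Groth.Agent.Lib.Helper85.IntMult.LocLen
import Groth.Agent.Lib.Helper45.QCohStalk
import Groth.Agent.Lib.Helper45.AffinePoints
import Groth.Agent.Lib.Helper45.CoprimarySheaf
import Groth.Agent.Lib.Helper70.DVRConnC
import Groth.Agent.Lib.Helper97.AssFibre
import Groth.Agent.Lib.Helper49.PullbackSupport

/-!
# Lengths of a flat coherent module on the fibres over a DVR: local statements (helper24)

For `f : X ⟶ Spec A`, `A` a DVR with uniformizer `ϖ`, `X` locally Noetherian and `F` coherent: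

* `sum_length_le`: for a point `x` of the closed fibre and finitely many generizations `x'` of `x`
  in `Supp F` outside the closed fibre, `∑ ℓ(F_{x'}) ≤ ℓ(F_x / 𝔪_y F_x)`;
* `exists_fibAssAt`: if `F` is `f`-flat and `x' ⤳ z` with `x'` an associated point of `F` and `z`
  in the closed fibre, there is a specialization `x` of `x'` in the closed fibre which is an
  associated point of the restriction of `F` to the closed fibre.
-/

set_option autoImplicit false
set_option linter.style.haveILetI false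
universe u

namespace Groth.Agent.Lib.Helper24.LenFibB

open AlgebraicGeometry CategoryTheory TopologicalSpace
open Groth.Agent.Lib.Helper45 Groth.Agent.Lib.Helper70.DVRConnC Groth.Agent.Lib.Helper79.LenMult
  Groth.Agent.Lib.Helper24.LenFibA Groth.Agent.Lib.Helper97.AssFibre Groth.Agent.Lib.Helper49
  Groth.Agent.Lib.Helper45.CoprimarySheaf

attribute [local instance] stalkModuleSections

section Length

variable {X : Scheme.{u}} (F : X.Modules) [F.IsQuasicoherent]

/-- (after helper85's `StalkLen.length_stalk_aux`) the length of the stalk at a generization. -/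
theorem length_stalk_eq_locLen {U : X.Opens} (hU : IsAffineOpen U) (z y : U)
    (𝔭 : PrimeSpectrum (X.presheaf.stalk (z : X)))
    (hq : (hU.primeIdealOf y).asIdeal =
      𝔭.asIdeal.comap (algebraMap Γ(X, U) (X.presheaf.stalk (z : X)))) :
    Module.length (X.presheaf.stalk (y : X)) (F.presheaf.stalk (y : X)) =
      Module.length (Localization.AtPrime 𝔭.asIdeal)
        (LocalizedModule 𝔭.asIdeal.primeCompl (F.presheaf.stalk (z : X))) := by
  haveI ly := hU.isLocalization_stalk y
  haveI lmy := isLocalizedModule_germₗ hU F y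
  have h1 := Groth.Agent.Lib.Helper85.LocLen.length_eq_of_isLocalizedModule
    (hU.primeIdealOf y).asIdeal (X.presheaf.stalk (y : X)) (germₗ F y)
  haveI lz := hU.isLocalization_stalk z
  haveI lmz := isLocalizedModule_germₗ hU F z
  have h2 := Groth.Agent.Lib.Helper85.LocLen.length_localizedModule_eq
    (hU.primeIdealOf z).asIdeal (X.presheaf.stalk (z : X)) (germₗ F z) 𝔭.asIdeal
  have h3 : ∀ (p p' : Ideal Γ(X, U)) [hp : p.IsPrime] [hp' : p'.IsPrime] (_ : p = p'),
      Module.length (Localization.AtPrime p) (LocalizedModule p.primeCompl Γ(F, U)) =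
        Module.length (Localization.AtPrime p') (LocalizedModule p'.primeCompl Γ(F, U)) := by
    intro p p' _ _ h
    subst h
    rfl
  exact h1.trans ((h3 _ _ hq).trans h2.symm)

end Length

variable {A : Type u} [CommRing A] [IsDomain A] [IsDiscreteValuationRing A]
  {X : Scheme.{u}} (f : X ⟶ Spec (CommRingCat.of A))

/-- The extension to `O_{X,x}` of the maximal ideal of the base at a point of the closed fibre is
generated by the germ of the uniformizer. -/
theorem map_maximalIdeal_eq_span {ϖ : A} (hϖ : Irreducible ϖ) (x : X)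
    (hx : ϖ ∈ (f.base x).asIdeal) (U : X.Opens) (hxU : x ∈ U) :
    (IsLocalRing.maximalIdeal ((Spec (CommRingCat.of A)).presheaf.stalk (f.base x))).map
        (f.stalkMap x).hom =
      Ideal.span {X.presheaf.germ U x hxU (pb f U ϖ)} := by
  rw [maximalIdeal_stalk_closedPoint hϖ (f.base x) hx, Ideal.map_span, Set.image_singleton,
    germ_pb]

omit [IsDomain A] [IsDiscreteValuationRing A] in
/-- The maximal ideal of the local ring of `Spec A` at the generic point is zero. -/
theorem maximalIdeal_stalk_eq_bot (y : Spec (CommRingCat.of A)) (hy : y.asIdeal = ⊥) :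
    IsLocalRing.maximalIdeal ((Spec (CommRingCat.of A)).presheaf.stalk y) = ⊥ := by
  have : IsLocalRing ((structurePresheafInCommRingCat A).stalk y) :=
    inferInstanceAs (IsLocalRing ((Spec (CommRingCat.of A)).presheaf.stalk y))
  have h1 := (IsLocalization.AtPrime.map_eq_maximalIdeal y.asIdeal
    ((structurePresheafInCommRingCat A).stalk y)).symm
  rw [hy, Ideal.map_bot] at h1
  exact h1

/-- The local inequality. -/
theorem sum_length_le [IsLocallyNoetherian X] {ϖ : A} (hϖ : Irreducible ϖ) (F : X.Modules)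
    (hF : Coh.IsCoh F) (x : X) (hx : ϖ ∈ (f.base x).asIdeal) (T : Finset X)
    (hT : ∀ x' ∈ T, x' ⤳ x ∧ ϖ ∉ (f.base x').asIdeal ∧ Nontrivial (F.presheaf.stalk x')) :
    ∑ x' ∈ T, Module.length (X.presheaf.stalk x') (F.presheaf.stalk x') ≤
      Module.length (X.presheaf.stalk x) (F.presheaf.stalk x ⧸
        ((IsLocalRing.maximalIdeal
          ((Spec (CommRingCat.of A)).presheaf.stalk (f.base x))).map (f.stalkMap x).hom) •
          (⊤ : Submodule (X.presheaf.stalk x) (F.presheaf.stalk x))) := by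
  classical
  haveI : F.IsQuasicoherent := hF.1
  obtain ⟨_, ⟨U, hU : IsAffineOpen U, rfl⟩, hxU, -⟩ :=
    X.isBasis_affineOpens.exists_subset_of_mem_open (Set.mem_univ x) isOpen_univ
  rw [map_maximalIdeal_eq_span f hϖ x hx U hxU]
  obtain ⟨xU, rfl⟩ : ∃ xU : U, (xU : X) = x := ⟨⟨x, hxU⟩, rfl⟩
  haveI : Module.Finite (X.presheaf.stalk (xU : X)) (F.presheaf.stalk (xU : X)) :=
    finite_stalk_of_isFiniteType F hF.2 (xU : X)
  haveI := hU.isLocalization_stalk xU
  have hex : ∀ x' ∈ T, ∃ 𝔭 : PrimeSpectrum (X.presheaf.stalk (xU : X)), ∃ hx'U : x' ∈ U,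
      (hU.primeIdealOf ⟨x', hx'U⟩).asIdeal =
        𝔭.asIdeal.comap (algebraMap Γ(X, U) (X.presheaf.stalk (xU : X))) := by
    intro x' hx'
    have hx'U : x' ∈ U := (hT x' hx').1.mem_open U.2 hxU
    have hle : (hU.primeIdealOf ⟨x', hx'U⟩).asIdeal ≤ (hU.primeIdealOf xU).asIdeal :=
      (primeIdealOf_le_iff hU xU ⟨x', hx'U⟩).mpr (hT x' hx').1
    have hdisj : Disjoint ((hU.primeIdealOf xU).asIdeal.primeCompl : Set Γ(X, U))
        ((hU.primeIdealOf ⟨x', hx'U⟩).asIdeal : Set Γ(X, U)) := by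
      rw [Set.disjoint_left]
      intro a ha ha'
      exact ha (hle ha')
    refine ⟨⟨Ideal.map (algebraMap Γ(X, U) (X.presheaf.stalk (xU : X)))
      (hU.primeIdealOf ⟨x', hx'U⟩).asIdeal,
      IsLocalization.isPrime_of_isPrime_disjoint _ _ _ (hU.primeIdealOf ⟨x', hx'U⟩).2 hdisj⟩,
      hx'U, ?_⟩
    exact (IsLocalization.under_map_of_isPrime_disjoint _ _ (hU.primeIdealOf ⟨x', hx'U⟩).2
      hdisj).symm
  choose! g hgU hg using hex
  have hlen : ∀ x' ∈ T, Module.length (X.presheaf.stalk x') (F.presheaf.stalk x') =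
      locLen (g x') (F.presheaf.stalk (xU : X)) :=
    fun x' hx' => length_stalk_eq_locLen F hU xU ⟨x', hgU x' hx'⟩ (g x') (hg x' hx')
  have hinj : Set.InjOn g T := by
    intro a ha b hb hab
    have h1 := hg a ha
    have h2 := hg b hb
    rw [hab, ← h2] at h1
    have := primeIdealOf_injective hU (PrimeSpectrum.ext h1)
    exact congrArg Subtype.val this
  rw [Finset.sum_congr rfl hlen,
    ← Finset.sum_image (f := fun 𝔭 => locLen 𝔭 (F.presheaf.stalk (xU : X))) hinj]
  refine sum_locLen_le (F.presheaf.stalk (xU : X)) _ ?_ (T.image g) ?_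
  · rw [IsLocalRing.mem_maximalIdeal, mem_nonunits_iff, ← Scheme.mem_basicOpen _ _ _ hxU,
      mem_basicOpen_pb_iff]
    exact fun h => h.2 hx
  · intro 𝔭 h𝔭
    obtain ⟨x', hx', rfl⟩ := Finset.mem_image.mp h𝔭
    refine ⟨?_, ?_⟩
    · rw [Module.mem_support_iff]
      have h1 := hlen x' hx'
      haveI := (hT x' hx').2.2
      have hpos : Module.length (X.presheaf.stalk x') (F.presheaf.stalk x') ≠ 0 :=
        Module.length_pos.ne'
      rw [h1] at hpos
      by_contra hnt
      rw [not_nontrivial_iff_subsingleton] at hnt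
      exact hpos (Module.length_eq_zero_iff.mpr hnt)
    · intro ht
      have h1 : pb f U ϖ ∈ (hU.primeIdealOf ⟨x', hgU x' hx'⟩).asIdeal := by
        rw [hg x' hx']
        exact ht
      have h2 : x' ∈ X.basicOpen (pb f U ϖ) :=
        (mem_basicOpen_pb_iff f U ϖ x').mpr ⟨hgU x' hx', (hT x' hx').2.1⟩
      exact (mem_basicOpen_iff_not_mem_primeIdealOf hU ⟨x', hgU x' hx'⟩ (pb f U ϖ)).mp h2 h1

omit [IsDiscreteValuationRing A] in
/-- The uniformizer is a nonzerodivisor on the stalks of an `f`-flat module. -/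
theorem isSMulRegular_germ_pb {ϖ : A} (hϖ : Irreducible ϖ) (F : X.Modules)
    (hflat : FlatMod.IsFlatOver f F) (U : X.Opens) (x : X) (hxU : x ∈ U) :
    IsSMulRegular (F.presheaf.stalk x) (X.presheaf.germ U x hxU (pb f U ϖ)) := by
  letI := FlatMod.moduleStalkOver f F x
  haveI : Module.Flat ((Spec (CommRingCat.of A)).presheaf.stalk (f.base x))
    (F.presheaf.stalk x) := hflat x
  have hne : (Spec (CommRingCat.of A)).presheaf.germ ⊤ (f.base x) trivial
      ((Scheme.ΓSpecIso (CommRingCat.of A)).inv ϖ) ≠ 0 := by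
    intro h0
    have hinj := AlgebraicGeometry.germ_injective_of_isIntegral (Spec (CommRingCat.of A))
      (U := ⊤) (f.base x) trivial
    rw [← map_zero ((Spec (CommRingCat.of A)).presheaf.germ ⊤ (f.base x) trivial).hom] at h0
    have h1 := hinj h0
    have h2 : Function.Injective (Scheme.ΓSpecIso (CommRingCat.of A)).inv.hom :=
      (ConcreteCategory.bijective_of_isIso (Scheme.ΓSpecIso (CommRingCat.of A)).inv).1
    rw [← map_zero (Scheme.ΓSpecIso (CommRingCat.of A)).inv.hom] at h1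
    exact hϖ.ne_zero (h2 h1)
  have hreg : IsSMulRegular (F.presheaf.stalk x)
      ((Spec (CommRingCat.of A)).presheaf.germ ⊤ (f.base x) trivial
        ((Scheme.ΓSpecIso (CommRingCat.of A)).inv ϖ)) :=
    Module.Flat.isSMulRegular_of_nonZeroDivisors (mem_nonZeroDivisors_of_ne_zero hne)
  intro m₁ m₂ h
  apply hreg
  rw [germ_pb] at h
  exact h

/-- Existence of a specialization in the closed fibre which is associated to the restriction of
`F` to the closed fibre. -/
theorem exists_fibAssAt [IsLocallyNoetherian X] {ϖ : A} (hϖ : Irreducible ϖ) (F : X.Modules)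
    (hF : Coh.IsCoh F) (hflat : FlatMod.IsFlatOver f F) (x' z : X) (hx'z : x' ⤳ z)
    (hz : ϖ ∈ (f.base z).asIdeal) (hass : Curv2.IsAssPoint F x') :
    ∃ x, x' ⤳ x ∧ ϖ ∈ (f.base x).asIdeal ∧ FibAssAt f F x := by
  haveI : F.IsQuasicoherent := hF.1
  obtain ⟨_, ⟨U, hU : IsAffineOpen U, rfl⟩, hzU, -⟩ :=
    X.isBasis_affineOpens.exists_subset_of_mem_open (Set.mem_univ z) isOpen_univ
  have hx'U : x' ∈ U := hx'z.mem_open U.2 hzU
  haveI : IsNoetherianRing Γ(X, U) := IsLocallyNoetherian.component_noetherian ⟨U, hU⟩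
  set P' := (hU.primeIdealOf ⟨x', hx'U⟩).asIdeal with hP'
  have htz : pb f U ϖ ∈ (hU.primeIdealOf ⟨z, hzU⟩).asIdeal := by
    by_contra h
    have h1 := (mem_basicOpen_iff_not_mem_primeIdealOf hU ⟨z, hzU⟩ (pb f U ϖ)).mpr h
    rw [mem_basicOpen_pb_iff] at h1
    exact h1.2 hz
  have hle : P' ⊔ Ideal.span {pb f U ϖ} ≤ (hU.primeIdealOf ⟨z, hzU⟩).asIdeal :=
    sup_le ((primeIdealOf_le_iff hU ⟨z, hzU⟩ ⟨x', hx'U⟩).mpr hx'z)
      ((Ideal.span_singleton_le_iff_mem _).mpr htz)
  obtain ⟨𝔮, h𝔮, -⟩ := Ideal.exists_minimalPrimes_le hle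
  obtain ⟨x, hxq⟩ := exists_primeIdealOf_eq hU ⟨𝔮, h𝔮.1.1⟩
  have hxq' : (hU.primeIdealOf x).asIdeal = 𝔮 := congrArg PrimeSpectrum.asIdeal hxq
  have hP'q : P' ≤ 𝔮 := le_sup_left.trans h𝔮.1.2
  have htq : pb f U ϖ ∈ 𝔮 := h𝔮.1.2 (Ideal.mem_sup_right (Ideal.mem_span_singleton_self _))
  have hx1 : x' ⤳ (x : X) :=
    (primeIdealOf_le_iff hU x ⟨x', hx'U⟩).mp (by rw [hxq']; exact hP'q)
  have hx2 : ϖ ∈ (f.base (x : X)).asIdeal := by
    by_contra h
    have h3 : (x : X) ∈ X.basicOpen (pb f U ϖ) := (mem_basicOpen_pb_iff f U ϖ x).mpr ⟨x.2, h⟩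
    rw [mem_basicOpen_iff_not_mem_primeIdealOf hU x, hxq'] at h3
    exact h3 htq
  refine ⟨x, hx1, hx2, ?_⟩
  unfold FibAssAt
  rw [map_maximalIdeal_eq_span f hϖ x hx2 U x.2]
  haveI := finite_stalk_of_isFiniteType F hF.2 (x : X)
  haveI := hU.isLocalization_stalk x
  haveI := isLocalizedModule_germₗ hU F x
  have hdisj : Disjoint ((hU.primeIdealOf x).asIdeal.primeCompl : Set Γ(X, U))
      (P' : Set Γ(X, U)) := by
    rw [Set.disjoint_left]
    intro a ha ha'
    exact ha (hxq' ▸ hP'q ha')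
  have hP'prime : P'.IsPrime := (hU.primeIdealOf ⟨x', hx'U⟩).2
  refine maximalIdeal_mem_associatedPrimes_quot (F.presheaf.stalk (x : X)) _ ?_
    (isSMulRegular_germ_pb f hϖ F hflat U x x.2)
    (Ideal.map (algebraMap Γ(X, U) (X.presheaf.stalk (x : X))) P') ?_ ?_
  · rw [IsLocalRing.mem_maximalIdeal, mem_nonunits_iff, ← Scheme.mem_basicOpen _ _ _ x.2,
      mem_basicOpen_pb_iff]
    exact fun h => h.2 hx2
  · have hP'ass : P' ∈ associatedPrimes Γ(X, U) Γ(F, U) :=
      (isAssPoint_iff_of_isAffineOpen hU F ⟨x', hx'U⟩).mp hass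
    apply Module.associatedPrimes.mem_associatedPrimes_of_comap_mem_associatedPrimes_of_isLocalizedModule
      (hU.primeIdealOf x).asIdeal.primeCompl (germₗ F x)
    have h1 := IsLocalization.under_map_of_isPrime_disjoint
      (hU.primeIdealOf x).asIdeal.primeCompl (X.presheaf.stalk (x : X)) hP'prime hdisj
    rw [Ideal.under_def] at h1
    rw [h1]
    exact hP'ass
  · intro 𝔯 h𝔯 hp𝔯 ht𝔯
    have h1 : P' ≤ 𝔯.comap (algebraMap Γ(X, U) (X.presheaf.stalk (x : X))) :=
      Ideal.map_le_iff_le_comap.mp hp𝔯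
    have h2 : pb f U ϖ ∈ 𝔯.comap (algebraMap Γ(X, U) (X.presheaf.stalk (x : X))) := ht𝔯
    have h3 : 𝔯.comap (algebraMap Γ(X, U) (X.presheaf.stalk (x : X))) ≤ 𝔮 := by
      have h0 := IsLocalization.AtPrime.under_maximalIdeal (X.presheaf.stalk (x : X))
        (hU.primeIdealOf x).asIdeal
      rw [Ideal.under_def] at h0
      rw [← hxq', ← h0]
      exact Ideal.comap_mono (IsLocalRing.le_maximalIdeal h𝔯.ne_top)
    have h4 : 𝔮 ≤ 𝔯.comap (algebraMap Γ(X, U) (X.presheaf.stalk (x : X))) :=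
      h𝔮.2 ⟨Ideal.comap_isPrime _ _, sup_le h1 ((Ideal.span_singleton_le_iff_mem _).mpr h2)⟩ h3
    have h5 : 𝔯.comap (algebraMap Γ(X, U) (X.presheaf.stalk (x : X))) = 𝔮 := le_antisymm h3 h4
    rw [← IsLocalization.map_under (hU.primeIdealOf x).asIdeal.primeCompl
      (X.presheaf.stalk (x : X)) 𝔯, Ideal.under_def, h5, ← hxq',
      IsLocalization.AtPrime.map_eq_maximalIdeal]

end Groth.Agent.Lib.Helper24.LenFibB
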