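import Mathlib
import Groth.Agent.Lib.Helper24.LenFibB
import Groth.Agent.Lib.Helper97.AssFibreLength
import Groth.Agent.Lib.Helper45.NowhereDense
import Groth.Agent.Lib.Helper80.PullbackFiniteType
import Groth.Agent.S1576

/-!
# Sum of the lengths at the maximal points of the fibres over a DVR (helper24)

EGA IV 15.x (`S4980`): for `f : X ⟶ Spec A` proper over a DVR and `F` coherent, `f`-flat, whose
restriction to the closed fibre has no embedded points, the sum of the lengths of `F` at the
maximal points of the support on the generic fibre is at most the analogous sum on the closed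
fibre.
-/

set_option autoImplicit false
set_option linter.style.haveILetI false
universe u

namespace Groth.Agent.Lib.Helper24.LenFibC

open AlgebraicGeometry CategoryTheory TopologicalSpace
open Groth.Agent.Lib.Helper45 Groth.Agent.Lib.Helper45.NowhereDense
  Groth.Agent.Lib.Helper24.LenFibB Groth.Agent.Lib.Helper97.AssFibre Groth.Agent.Lib.Helper49

section General

variable {Z : Scheme.{u}}

/-- `v` is a maximal point of the support of `G`. -/
def IsMaxSupp (G : Z.Modules) (v : Z) : Prop :=
  Nontrivial (G.presheaf.stalk v) ∧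
    ∀ w : Z, Nontrivial (G.presheaf.stalk w) → v ∈ closure {w} → w = v

variable [IsLocallyNoetherian Z] (G : Z.Modules) (hG : Coh.IsCoh G)

include hG in
theorem isAssPoint_of_isMaxSupp {v : Z} (hv : IsMaxSupp G v) : Curv2.IsAssPoint G v := by
  obtain ⟨a, ha, -, hav⟩ := exists_minimal_ass_specializes G hG (z := v)
    (not_subsingleton_iff_nontrivial.mpr hv.1)
  have ha' : Nontrivial (G.presheaf.stalk a) :=
    not_subsingleton_iff_nontrivial.mp (mem_support_of_isAssPoint G ha)
  have h := hv.2 a ha' (specializes_iff_mem_closure.mp hav)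
  exact h ▸ ha

include hG in
theorem isMaxSupp_of_isAssPoint (hemb : AssSch.NoEmbedded G) {v : Z}
    (hv : Curv2.IsAssPoint G v) : IsMaxSupp G v := by
  refine ⟨not_subsingleton_iff_nontrivial.mp (mem_support_of_isAssPoint G hv), ?_⟩
  intro w hw hvw
  obtain ⟨a, ha, -, haw⟩ := exists_minimal_ass_specializes G hG (z := w)
    (not_subsingleton_iff_nontrivial.mpr hw)
  have hwv : w ⤳ v := specializes_iff_mem_closure.mpr hvw
  have h1 : v = a := hemb v hv a ha (haw.trans hwv)
  rw [← h1] at haw
  exact (hwv.antisymm haw).eq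

include hG in
theorem finite_isMaxSupp [CompactSpace Z] : {v : Z | IsMaxSupp G v}.Finite := by
  have h := Groth.Agent.S1576.result Z G hG ⊤ (by simpa using isCompact_univ)
  refine h.subset ?_
  intro v hv
  exact ⟨trivial, isAssPoint_of_isMaxSupp G hG hv⟩

end General

/-- Abstract summation lemma. -/
theorem finsum_le_finsum_of_map {I' I : Type*} [Finite I'] [Finite I] (g' : I' → ℕ∞)
    (g : I → ℕ∞) (φ : I' → I)
    (h : ∀ i : I, ∀ S : Finset I', (∀ i' ∈ S, φ i' = i) → ∑ i' ∈ S, g' i' ≤ g i) :
    ∑ᶠ i', g' i' ≤ ∑ᶠ i, g i := by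
  classical
  haveI := Fintype.ofFinite I'
  haveI := Fintype.ofFinite I
  rw [finsum_eq_sum_of_fintype, finsum_eq_sum_of_fintype,
    ← Finset.sum_fiberwise (s := Finset.univ) (g := φ) (f := g')]
  refine Finset.sum_le_sum fun i _ => h i _ ?_
  intro i' hi'
  exact (Finset.mem_filter.mp hi').2

section Fibre

variable {X Y : Scheme.{u}} (f : X ⟶ Y) (s : Y)

theorem nontrivial_stalk_fiber_iff (F : X.Modules) (hF : Coh.IsCoh F) (v : ↥(f.fiber s)) :
    Nontrivial (((Scheme.Modules.pullback (f.fiberι s)).obj F).presheaf.stalk v) ↔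
      Nontrivial (F.presheaf.stalk (f.fiberι s v)) := by
  haveI := hF.1
  rw [← not_subsingleton_iff_nontrivial, ← not_subsingleton_iff_nontrivial,
    subsingleton_stalk_pullback_iff (f.fiberι s) F hF.2 v]

theorem specializes_fiberι_iff (v w : ↥(f.fiber s)) :
    f.fiberι s w ⤳ f.fiberι s v ↔ w ⤳ v :=
  (f.fiberι s).isEmbedding.isInducing.specializes_iff

theorem fiberι_injective : Function.Injective (f.fiberι s) :=
  (f.fiberι s).isEmbedding.injective

theorem base_fiberι (v : ↥(f.fiber s)) : f.base (f.fiberι s v) = s := by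
  have : (f.fiberι s) v ∈ Set.range (f.fiberι s) := ⟨v, rfl⟩
  rw [f.range_fiberι s] at this
  exact this

theorem exists_fiberι_eq (x : X) (hx : f.base x = s) : ∃ v : ↥(f.fiber s), f.fiberι s v = x := by
  have : x ∈ Set.range (f.fiberι s) := by
    rw [f.range_fiberι s]
    exact hx
  exact this

end Fibre

section DVR

variable {A : Type u} [CommRing A] [IsDomain A] [IsDiscreteValuationRing A]
  {X : Scheme.{u}} (f : X ⟶ Spec (CommRingCat.of A))

theorem eq_closedPoint_of_mem {ϖ : A} (hϖ : Irreducible ϖ) (y : Spec (CommRingCat.of A))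
    (hy : ϖ ∈ y.asIdeal) : y = IsLocalRing.closedPoint A := by
  apply PrimeSpectrum.ext
  have : IsLocalRing.maximalIdeal A ≤ y.asIdeal := by
    rw [hϖ.maximalIdeal_eq, Ideal.span_singleton_le_iff_mem]
    exact hy
  exact ((IsLocalRing.maximalIdeal.isMaximal A).eq_of_le y.2.ne_top this).symm

theorem mem_closedPoint {ϖ : A} (hϖ : Irreducible ϖ) :
    ϖ ∈ (IsLocalRing.closedPoint A).asIdeal := by
  change ϖ ∈ IsLocalRing.maximalIdeal A
  rw [hϖ.maximalIdeal_eq]
  exact Ideal.mem_span_singleton_self ϖ

omit [IsDiscreteValuationRing A] in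
theorem asIdeal_genericPoint :
    (genericPoint (Spec (CommRingCat.of A))).asIdeal = ⊥ := by
  rw [genericPoint_eq_bot_of_affine]
  rfl

omit [IsDomain A] [IsDiscreteValuationRing A] in
theorem smul_top_eq_bot_of_generic (F : X.Modules) (x' : X) (hx' : (f.base x').asIdeal = ⊥) :
    ((IsLocalRing.maximalIdeal
      ((Spec (CommRingCat.of A)).presheaf.stalk (f.base x'))).map (f.stalkMap x').hom) •
      (⊤ : Submodule (X.presheaf.stalk x') (F.presheaf.stalk x')) = ⊥ := by
  rw [maximalIdeal_stalk_eq_bot _ hx', Ideal.map_bot, Submodule.bot_smul]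

/-- Every maximal point of the support on the generic fibre specializes to a maximal point of the
support on the closed fibre. -/
theorem exists_isMaxSupp_specializes [IsProper f] (F : X.Modules) (hF : Coh.IsCoh F)
    (hflat : FlatMod.IsFlatOver f F)
    (hemb : AssSch.NoEmbedded
      ((Scheme.Modules.pullback (f.fiberι (IsLocalRing.closedPoint A))).obj F))
    (y' : Spec (CommRingCat.of A)) (hy'bot : y'.asIdeal = ⊥)
    (hy'spec : y' ⤳ (IsLocalRing.closedPoint A : Spec (CommRingCat.of A)))
    (v' : ↥(f.fiber y'))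
    (hv' : IsMaxSupp ((Scheme.Modules.pullback (f.fiberι y')).obj F) v') :
    ∃ v : ↥(f.fiber (IsLocalRing.closedPoint A)),
      IsMaxSupp ((Scheme.Modules.pullback (f.fiberι (IsLocalRing.closedPoint A))).obj F) v ∧
        f.fiberι y' v' ⤳ f.fiberι (IsLocalRing.closedPoint A) v := by
  obtain ⟨ϖ, hϖ⟩ := IsDiscreteValuationRing.exists_irreducible A
  haveI : IsLocallyNoetherian X := LocallyOfFiniteType.isLocallyNoetherian f
  haveI : F.IsQuasicoherent := hF.1
  have hG' : Coh.IsCoh ((Scheme.Modules.pullback (f.fiberι y')).obj F) :=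
    Groth.Agent.Lib.Helper80.isCoh_pullback (f.fiberι y') F hF
  have hG : Coh.IsCoh ((Scheme.Modules.pullback
      (f.fiberι (IsLocalRing.closedPoint A))).obj F) :=
    Groth.Agent.Lib.Helper80.isCoh_pullback (f.fiberι (IsLocalRing.closedPoint A)) F hF
  have hass' := isAssPoint_of_isMaxSupp _ hG' hv'
  have hfx' : f.base (f.fiberι y' v') = y' := base_fiberι f y' v'
  have hbot : (f.base (f.fiberι y' v')).asIdeal = ⊥ := by rw [hfx']; exact hy'bot
  have hassX : Curv2.IsAssPoint F (f.fiberι y' v') := by
    have h1 := (isAssPoint_fiber_iff f F y' v').mp hass'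
    unfold FibAssAt at h1
    rw [LinearEquiv.AssociatedPrimes.eq (Submodule.quotEquivOfEqBot _
      (smul_top_eq_bot_of_generic f F (f.fiberι y' v') hbot))] at h1
    exact h1
  -- a specialization in the closed fibre
  obtain ⟨z, hx'z, hfz⟩ : ∃ z, f.fiberι y' v' ⤳ z ∧ f.base z = IsLocalRing.closedPoint A := by
    have hcl : IsClosed (f.base '' closure {f.fiberι y' v'}) :=
      f.isClosedMap _ isClosed_closure
    have h1 : y' ∈ f.base '' closure {f.fiberι y' v'} :=
      ⟨f.fiberι y' v', subset_closure rfl, hfx'⟩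
    obtain ⟨z, hz, hfz⟩ := hy'spec.mem_closed hcl h1
    exact ⟨z, specializes_iff_mem_closure.mpr hz, hfz⟩
  have hz : ϖ ∈ (f.base z).asIdeal := by rw [hfz]; exact mem_closedPoint hϖ
  obtain ⟨x, hx'x, hxϖ, hfib⟩ :=
    exists_fibAssAt f hϖ F hF hflat (f.fiberι y' v') z hx'z hz hassX
  have hfx : f.base x = IsLocalRing.closedPoint A := eq_closedPoint_of_mem hϖ _ hxϖ
  obtain ⟨v, rfl⟩ := exists_fiberι_eq f (IsLocalRing.closedPoint A) x hfx
  exact ⟨v, isMaxSupp_of_isAssPoint _ hG hemb
    ((isAssPoint_fiber_iff f F (IsLocalRing.closedPoint A) v).mpr hfib), hx'x⟩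

/-- The inequality between the sums of lengths over the maximal points of the supports on the
two fibres (general form: `y'` any point of `Spec A` with zero prime ideal). -/
theorem sum_length_le_aux [IsProper f] (F : X.Modules) (hF : Coh.IsCoh F)
    (hflat : FlatMod.IsFlatOver f F)
    (hemb : AssSch.NoEmbedded
      ((Scheme.Modules.pullback (f.fiberι (IsLocalRing.closedPoint A))).obj F))
    (y' : Spec (CommRingCat.of A)) (hy'bot : y'.asIdeal = ⊥)
    (hy'spec : y' ⤳ (IsLocalRing.closedPoint A : Spec (CommRingCat.of A))) :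
    ∑ᶠ z' : {v : ↥(f.fiber y') //
        IsMaxSupp ((Scheme.Modules.pullback (f.fiberι y')).obj F) v},
        Module.length ((f.fiber y').presheaf.stalk z'.1)
          (((Scheme.Modules.pullback (f.fiberι y')).obj F).presheaf.stalk z'.1) ≤
      ∑ᶠ z : {v : ↥(f.fiber (IsLocalRing.closedPoint A)) //
        IsMaxSupp ((Scheme.Modules.pullback (f.fiberι (IsLocalRing.closedPoint A))).obj F) v},
        Module.length ((f.fiber (IsLocalRing.closedPoint A)).presheaf.stalk z.1)
          (((Scheme.Modules.pullback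
            (f.fiberι (IsLocalRing.closedPoint A))).obj F).presheaf.stalk z.1) := by
  classical
  obtain ⟨ϖ, hϖ⟩ := IsDiscreteValuationRing.exists_irreducible A
  haveI : IsLocallyNoetherian X := LocallyOfFiniteType.isLocallyNoetherian f
  haveI : F.IsQuasicoherent := hF.1
  have hG' : Coh.IsCoh ((Scheme.Modules.pullback (f.fiberι y')).obj F) :=
    Groth.Agent.Lib.Helper80.isCoh_pullback (f.fiberι y') F hF
  have hG : Coh.IsCoh ((Scheme.Modules.pullback
      (f.fiberι (IsLocalRing.closedPoint A))).obj F) :=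
    Groth.Agent.Lib.Helper80.isCoh_pullback (f.fiberι (IsLocalRing.closedPoint A)) F hF
  haveI : Finite {v : ↥(f.fiber y') //
      IsMaxSupp ((Scheme.Modules.pullback (f.fiberι y')).obj F) v} :=
    (finite_isMaxSupp _ hG').to_subtype
  haveI : Finite {v : ↥(f.fiber (IsLocalRing.closedPoint A)) //
      IsMaxSupp ((Scheme.Modules.pullback (f.fiberι (IsLocalRing.closedPoint A))).obj F) v} :=
    (finite_isMaxSupp _ hG).to_subtype
  choose φv hφ1 hφ2 using fun (i' : {v : ↥(f.fiber y') //
      IsMaxSupp ((Scheme.Modules.pullback (f.fiberι y')).obj F) v}) =>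
    exists_isMaxSupp_specializes f F hF hflat hemb y' hy'bot hy'spec i'.1 i'.2
  refine finsum_le_finsum_of_map _ _ (fun i' => ⟨φv i', hφ1 i'⟩) ?_
  rintro ⟨v, hv⟩ S hS
  have hbot : ∀ v' : ↥(f.fiber y'), (f.base (f.fiberι y' v')).asIdeal = ⊥ := by
    intro v'
    rw [base_fiberι f y' v']
    exact hy'bot
  have hterm' : ∀ i' : {v : ↥(f.fiber y') //
      IsMaxSupp ((Scheme.Modules.pullback (f.fiberι y')).obj F) v},
      Module.length ((f.fiber y').presheaf.stalk i'.1)
        (((Scheme.Modules.pullback (f.fiberι y')).obj F).presheaf.stalk i'.1) =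
      Module.length (X.presheaf.stalk (f.fiberι y' i'.1))
        (F.presheaf.stalk (f.fiberι y' i'.1)) := by
    intro i'
    rw [length_stalk_fiber f F y' i'.1]
    exact (Submodule.quotEquivOfEqBot _
      (smul_top_eq_bot_of_generic f F _ (hbot i'.1))).length_eq
  rw [length_stalk_fiber f F (IsLocalRing.closedPoint A) v,
    Finset.sum_congr rfl (fun i' _ => hterm' i')]
  have hinj : Set.InjOn (fun i' : {v : ↥(f.fiber y') //
      IsMaxSupp ((Scheme.Modules.pullback (f.fiberι y')).obj F) v} => f.fiberι y' i'.1) S :=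
    fun a _ b _ h => Subtype.ext (fiberι_injective f y' h)
  rw [← Finset.sum_image
    (f := fun x' => Module.length (X.presheaf.stalk x') (F.presheaf.stalk x')) hinj]
  refine sum_length_le f hϖ F hF (f.fiberι (IsLocalRing.closedPoint A) v) ?_ _ ?_
  · rw [base_fiberι]
    exact mem_closedPoint hϖ
  · intro x' hx'
    obtain ⟨i', hi', rfl⟩ := Finset.mem_image.mp hx'
    refine ⟨?_, ?_, ?_⟩
    · have h1 := hφ2 i'
      have h2 : φv i' = v := congrArg Subtype.val (hS i' hi')
      rw [h2] at h1
      exact h1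
    · rw [hbot i'.1]
      exact fun h => hϖ.ne_zero ((Ideal.mem_bot).mp h)
    · exact (nontrivial_stalk_fiber_iff f y' F hF i'.1).mp i'.2.1

/-- EGA IV 15.x: the inequality between the sums of lengths on the generic and closed fibres. -/
theorem sum_length_generic_le_closed [IsProper f] (F : X.Modules) (hF : Coh.IsCoh F)
    (hflat : FlatMod.IsFlatOver f F)
    (hemb : AssSch.NoEmbedded
      ((Scheme.Modules.pullback (f.fiberι (IsLocalRing.closedPoint A))).obj F)) :
    ∑ᶠ z' : {v : ↥(f.fiber (genericPoint (Spec (CommRingCat.of A)))) //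
        IsMaxSupp ((Scheme.Modules.pullback
          (f.fiberι (genericPoint (Spec (CommRingCat.of A))))).obj F) v},
        Module.length ((f.fiber (genericPoint (Spec (CommRingCat.of A)))).presheaf.stalk z'.1)
          (((Scheme.Modules.pullback
            (f.fiberι (genericPoint (Spec (CommRingCat.of A))))).obj F).presheaf.stalk z'.1) ≤
      ∑ᶠ z : {v : ↥(f.fiber (IsLocalRing.closedPoint A)) //
        IsMaxSupp ((Scheme.Modules.pullback (f.fiberι (IsLocalRing.closedPoint A))).obj F) v},
        Module.length ((f.fiber (IsLocalRing.closedPoint A)).presheaf.stalk z.1)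
          (((Scheme.Modules.pullback
            (f.fiberι (IsLocalRing.closedPoint A))).obj F).presheaf.stalk z.1) :=
  sum_length_le_aux f F hF hflat hemb (genericPoint (Spec (CommRingCat.of A)))
    asIdeal_genericPoint (genericPoint_specializes _)

end DVR

end Groth.Agent.Lib.Helper24.LenFibC
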