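import Groth.Agent.Lib.Helper5.SiteCoh
import Groth.Agent.Lib.Helper1.ShCohTop
import Groth.Prelude.Def_CohTop
import Mathlib.CategoryTheory.Sites.SheafCohomology.MayerVietoris
import Mathlib.Topology.Sheaves.MayerVietoris

/-!
# The Mayer–Vietoris boundary map `F(U ∩ V) → H¹(X, F)` for `U ∪ V = X`, with naturality in `F`
(helper24; the kernel computation follows `Helper67.MVH1`)
-/

set_option autoImplicit false
universe u
open CategoryTheory Limits Opposite TopologicalSpace Abelian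

namespace Groth.Agent.Lib.Helper24.MVLin

open Groth.Agent.Lib.Helper5.SiteCoh

variable {X : TopCat.{u}}

/-- The Mayer–Vietoris boundary on sections, for a Mayer–Vietoris square. -/
noncomputable def deltaSq (F : CohTop.Ab X)
    (S : (Opens.grothendieckTopology X).MayerVietorisSquare) :
    F.obj.obj (op S.X₁) →+ (F.H' 1 S.X₄ : AddCommGrpCat.{u}) :=
  (S.δ F 0 1 rfl).hom.comp
    ((zeroIso (J := Opens.grothendieckTopology X) F).inv.app (op S.X₁)).hom

theorem deltaSq_apply (F : CohTop.Ab X)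
    (S : (Opens.grothendieckTopology X).MayerVietorisSquare) (s : F.obj.obj (op S.X₁)) :
    deltaSq F S s = S.shortComplex_shortExact.extClass.comp
      (Ext.mk₀ ((βAdd S.X₁ F).symm s)) (zero_add 1) := rfl

theorem deltaSq_eq_zero_iff (F : CohTop.Ab X)
    (S : (Opens.grothendieckTopology X).MayerVietorisSquare) (s : F.obj.obj (op S.X₁)) :
    deltaSq F S s = 0 ↔ ∃ (a : F.obj.obj (op S.X₂)) (b : F.obj.obj (op S.X₃)),
        s = (F.obj.map S.f₁₂.op).hom a - (F.obj.map S.f₁₃.op).hom b := by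
  have hex1 := (S.sequence_exact F 0 1 rfl).exact 1
  rw [ShortComplex.ab_exact_iff] at hex1
  have hzero1 : ∀ w, (S.δ F 0 1 rfl).hom ((S.fromBiprod F 0).hom w) = 0 := fun w =>
    ConcreteCategory.congr_hom (S.fromBiprod_δ F 0 1 rfl) w
  let z := zeroIso (J := Opens.grothendieckTopology X) F
  have hnat : ∀ {W W' : (Opens X)ᵒᵖ} (i : W ⟶ W') (y : (F.cohomologyPresheaf 0).obj W),
      (z.hom.app W').hom (((F.cohomologyPresheaf 0).map i).hom y) =
        (F.obj.map i).hom ((z.hom.app W).hom y) := fun i y =>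
    ConcreteCategory.congr_hom (z.hom.naturality i) y
  have hzi : ∀ (W : (Opens X)ᵒᵖ) (s : F.obj.obj W),
      (z.hom.app W).hom ((z.inv.app W).hom s) = s := fun W s =>
    ConcreteCategory.congr_hom (z.inv_hom_id_app W) s
  have hiz : ∀ (W : (Opens X)ᵒᵖ) (y : (F.cohomologyPresheaf 0).obj W),
      (z.inv.app W).hom ((z.hom.app W).hom y) = y := fun W y =>
    ConcreteCategory.congr_hom (z.hom_inv_id_app W) y
  constructor
  · intro hs
    obtain ⟨w, hw⟩ := hex1 ((z.inv.app (op S.X₁)).hom s) hs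
    obtain ⟨⟨y₁, y₂⟩, rfl⟩ :=
      (AddCommGrpCat.biprodIsoProd _ _).addCommGroupIsoToAddEquiv.symm.surjective w
    have hw' : ((F.cohomologyPresheaf 0).map S.f₁₂.op).hom y₁ -
        ((F.cohomologyPresheaf 0).map S.f₁₃.op).hom y₂
        = (z.inv.app (op S.X₁)).hom s := by
      rw [← hw]
      exact (S.fromBiprod_biprodIsoProd_inv_apply F y₁ y₂).symm
    refine ⟨(z.hom.app (op S.X₂)).hom y₁, (z.hom.app (op S.X₃)).hom y₂, ?_⟩
    have h1 := congrArg (z.hom.app (op S.X₁)).hom hw'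
    rw [hzi, map_sub, hnat, hnat] at h1
    exact h1.symm
  · rintro ⟨a, b, rfl⟩
    show (S.δ F 0 1 rfl).hom ((z.inv.app (op S.X₁)).hom _) = 0
    have h2 : (z.inv.app (op S.X₁)).hom
        ((F.obj.map S.f₁₂.op).hom a - (F.obj.map S.f₁₃.op).hom b) =
        (S.fromBiprod F 0).hom ((AddCommGrpCat.biprodIsoProd _ _).inv
          ⟨(z.inv.app (op S.X₂)).hom a, (z.inv.app (op S.X₃)).hom b⟩) := by
      have h4 := S.fromBiprod_biprodIsoProd_inv_apply F
        ((z.inv.app (op S.X₂)).hom a) ((z.inv.app (op S.X₃)).hom b)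
      refine Eq.trans ?_ h4.symm
      have h3 : ∀ (W : (Opens X)ᵒᵖ) (y y' : (F.cohomologyPresheaf 0).obj W),
          (z.hom.app W).hom y = (z.hom.app W).hom y' → y = y' := fun W y y' h => by
        rw [← hiz W y, ← hiz W y', h]
      apply h3
      rw [hzi, map_sub]
      have h5 := hnat S.f₁₂.op ((z.inv.app (op S.X₂)).hom a)
      have h6 := hnat S.f₁₃.op ((z.inv.app (op S.X₃)).hom b)
      rw [hzi] at h5 h6
      exact (congrArg₂ (· - ·) h5 h6).symm
    exact (congrArg _ h2).trans (hzero1 _)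

theorem comp_mk₀_comp {C : Type*} [Category C] [Abelian C] [HasExt.{u} C] {A B F G : C} {n : ℕ}
    (c : Ext.{u} B A n) (g : A ⟶ F) (φ : F ⟶ G) :
    c.comp (Ext.mk₀ (g ≫ φ)) (add_zero n) =
      (c.comp (Ext.mk₀ g) (add_zero n)).comp (Ext.mk₀ φ) (add_zero n) := by
  rw [← Ext.mk₀_comp_mk₀]
  exact (Ext.comp_assoc _ _ _ (add_zero n) (add_zero 0) (by omega)).symm

/-- Naturality of the boundary in the sheaf. -/
theorem deltaSq_naturality {F G : CohTop.Ab X} (φ : F ⟶ G)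
    (S : (Opens.grothendieckTopology X).MayerVietorisSquare) (s : F.obj.obj (op S.X₁)) :
    deltaSq G S (φ.hom.app (op S.X₁) s) = (deltaSq F S s).comp (Ext.mk₀ φ) (add_zero 1) := by
  rw [deltaSq_apply, deltaSq_apply]
  have h1 : (βAdd S.X₁ G).symm (φ.hom.app (op S.X₁) s) = (βAdd S.X₁ F).symm s ≫ φ :=
    βAdd_symm_naturality S.X₁ φ s
  have h2 := comp_mk₀_comp S.shortComplex_shortExact.extClass ((βAdd S.X₁ F).symm s) φ
  have h3 : Ext.mk₀.{u} ((βAdd S.X₁ G).symm (φ.hom.app (op S.X₁) s)) =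
      Ext.mk₀ ((βAdd S.X₁ F).symm s ≫ φ) := congrArg _ h1
  exact (congrArg (fun e => S.shortComplex_shortExact.extClass.comp e (add_zero 1)) h3).trans h2

/-- The Mayer–Vietoris boundary `F(U ∩ V) → H¹(U ∪ V, F)`. -/
noncomputable def deltaUV (F : CohTop.Ab X) (U V : Opens X) :
    F.obj.obj (op (U ⊓ V)) →+ CohTop.HU F 1 (U ⊔ V) :=
  deltaSq F (Opens.mayerVietorisSquare U V)

theorem deltaUV_eq_zero_iff (F : CohTop.Ab X) (U V : Opens X) (s : F.obj.obj (op (U ⊓ V))) :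
    deltaUV F U V s = 0 ↔ ∃ (a : F.obj.obj (op U)) (b : F.obj.obj (op V)),
      s = (F.obj.map (homOfLE (inf_le_left : U ⊓ V ≤ U)).op).hom a -
        (F.obj.map (homOfLE (inf_le_right : U ⊓ V ≤ V)).op).hom b :=
  deltaSq_eq_zero_iff F (Opens.mayerVietorisSquare U V) s

theorem deltaUV_naturality {F G : CohTop.Ab X} (φ : F ⟶ G) (U V : Opens X)
    (s : F.obj.obj (op (U ⊓ V))) :
    deltaUV G U V (φ.hom.app (op (U ⊓ V)) s) =
      (deltaUV F U V s).comp (Ext.mk₀ φ) (add_zero 1) :=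
  deltaSq_naturality φ (Opens.mayerVietorisSquare U V) s

/-- The Mayer–Vietoris boundary `F(U ∩ V) → H¹(X, F)` for a cover `U ∪ V = X`. -/
noncomputable def deltaTop (F : CohTop.Ab X) (U V : Opens X) (h : U ⊔ V = ⊤) :
    F.obj.obj (op (U ⊓ V)) →+ CohTop.H F 1 :=
  (Groth.Agent.Lib.Helper1.HUTopEquivH F 1).toAddMonoidHom.comp
    ((CohTop.res F 1 (le_of_eq h.symm)).comp (deltaUV F U V))

theorem deltaTop_apply (F : CohTop.Ab X) (U V : Opens X) (h : U ⊔ V = ⊤)
    (s : F.obj.obj (op (U ⊓ V))) :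
    deltaTop F U V h s = (Groth.Agent.Lib.Helper1.HUTopEquivH F 1)
      (CohTop.res F 1 (le_of_eq h.symm) (deltaUV F U V s)) := rfl

theorem res_injective_of_eq (F : CohTop.Ab X) (n : ℕ) {U V : Opens X} (h : V ≤ U) (h' : U ≤ V) :
    Function.Injective (CohTop.res F n h) := by
  intro x y hxy
  have key : ∀ z : CohTop.HU F n U, CohTop.res F n h' (CohTop.res F n h z) = z := by
    intro z
    change ((Sheaf.cohomologyPresheaf.{u} F n).map (homOfLE h).op ≫
      (Sheaf.cohomologyPresheaf.{u} F n).map (homOfLE h').op).hom z = z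
    rw [← Functor.map_comp]
    have : (homOfLE h).op ≫ (homOfLE h').op = 𝟙 (op U) := Subsingleton.elim _ _
    rw [this, CategoryTheory.Functor.map_id]
    rfl
  rw [← key x, ← key y, hxy]

theorem deltaTop_eq_zero_iff (F : CohTop.Ab X) (U V : Opens X) (h : U ⊔ V = ⊤)
    (s : F.obj.obj (op (U ⊓ V))) :
    deltaTop F U V h s = 0 ↔ ∃ (a : F.obj.obj (op U)) (b : F.obj.obj (op V)),
      s = (F.obj.map (homOfLE (inf_le_left : U ⊓ V ≤ U)).op).hom a -
        (F.obj.map (homOfLE (inf_le_right : U ⊓ V ≤ V)).op).hom b := by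
  rw [← deltaUV_eq_zero_iff F U V s, deltaTop_apply]
  constructor
  · intro h0
    have h1 : CohTop.res F 1 (le_of_eq h.symm) (deltaUV F U V s) = 0 := by
      apply (Groth.Agent.Lib.Helper1.HUTopEquivH F 1).injective
      exact h0.trans (map_zero _).symm
    apply res_injective_of_eq F 1 (le_of_eq h.symm) le_top
    exact h1.trans (map_zero _).symm
  · intro h0
    rw [h0, map_zero, map_zero]

theorem mk₀_comp_comp_mk₀ {C : Type*} [Category C] [Abelian C] [HasExt.{u} C] {A B F G : C} {n : ℕ}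
    (g : A ⟶ B) (c : Ext.{u} B F n) (φ : F ⟶ G) :
    (Ext.mk₀ g).comp (c.comp (Ext.mk₀ φ) (add_zero n)) (zero_add n) =
      ((Ext.mk₀ g).comp c (zero_add n)).comp (Ext.mk₀ φ) (add_zero n) :=
  (Ext.comp_assoc _ _ _ (zero_add n) (add_zero n) (by omega)).symm

theorem res_comp_mk₀ {F G : CohTop.Ab X} (φ : F ⟶ G) (n : ℕ) {U V : Opens X} (h : V ≤ U)
    (c : CohTop.HU F n U) :
    CohTop.res G n h (c.comp (Ext.mk₀ φ) (add_zero n)) =
      (CohTop.res F n h c).comp (Ext.mk₀ φ) (add_zero n) :=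
  mk₀_comp_comp_mk₀ _ c φ

theorem HUTopEquivH_comp_mk₀ {F G : CohTop.Ab X} (φ : F ⟶ G) (n : ℕ) (c : CohTop.HU F n ⊤) :
    (Groth.Agent.Lib.Helper1.HUTopEquivH G n) (c.comp (Ext.mk₀ φ) (add_zero n)) =
      ((Groth.Agent.Lib.Helper1.HUTopEquivH F n) c).comp (Ext.mk₀ φ) (add_zero n) :=
  mk₀_comp_comp_mk₀ _ c φ

theorem deltaTop_naturality {F G : CohTop.Ab X} (φ : F ⟶ G) (U V : Opens X) (h : U ⊔ V = ⊤)
    (s : F.obj.obj (op (U ⊓ V))) :
    deltaTop G U V h (φ.hom.app (op (U ⊓ V)) s) = Sheaf.H.map φ 1 (deltaTop F U V h s) := by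
  rw [deltaTop_apply, deltaTop_apply, deltaUV_naturality, res_comp_mk₀, HUTopEquivH_comp_mk₀,
    Sheaf.H.map_apply]

end Groth.Agent.Lib.Helper24.MVLin
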