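import Groth.Agent.Lib.Helper24.FibreStalkQuot
import Groth.Agent.Lib.Helper24.FormallySmoothStalk

/-!
# Lengths of local rings at maximal points under flat base change with reduced fibres (helper24)

* `maximalIdeal_eq_of_forall_specializes`: the local ring at a maximal point has a unique prime ideal;
* `map_maximalIdeal_eq_of_isReduced_fiber`: for `π : X'' ⟶ X'` with reduced fibre through a maximal point `x''`,
  `𝔪_{π x''} O_{X'',x''} = 𝔪_{x''}`;
* `length_stalk_eq_of_flat_of_isReduced_fiber`: if moreover `π` is flat, the two local rings have the same length.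
-/

universe u

open CategoryTheory CategoryTheory.Limits AlgebraicGeometry IsLocalRing

namespace Groth.Agent.Lib.Helper24

variable {X Y : Scheme.{u}}

/-- At a maximal point (a point without proper generizations) every prime of the local ring is the maximal ideal. -/
theorem eq_maximalIdeal_of_forall_specializes (x : X) (hx : ∀ z : X, z ⤳ x → z = x)
    (p : Ideal (X.presheaf.stalk x)) [hp : p.IsPrime] : p = maximalIdeal (X.presheaf.stalk x) := by
  let P : Spec (X.presheaf.stalk x) := ⟨p, hp⟩
  have h1 : X.fromSpecStalk x P ∈ Set.range (X.fromSpecStalk x) := ⟨P, rfl⟩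
  rw [Scheme.range_fromSpecStalk] at h1
  have h2 : X.fromSpecStalk x P = x := hx _ h1
  have h3 : X.fromSpecStalk x P = X.fromSpecStalk x (closedPoint (X.presheaf.stalk x)) := by
    rw [h2, Scheme.fromSpecStalk_closedPoint]
  have hinj : Function.Injective (X.fromSpecStalk x) := (X.fromSpecStalk x).isEmbedding.injective
  have h4 : P = closedPoint (X.presheaf.stalk x) := hinj h3
  exact congrArg PrimeSpectrum.asIdeal h4

/-- A reduced local ring all of whose primes are maximal is a field. -/
theorem isField_of_isReduced_of_forall_prime_eq (R : Type u) [CommRing R] [IsLocalRing R] [IsReduced R]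
    (h : ∀ (p : Ideal R) [p.IsPrime], p = maximalIdeal R) : IsField R := by
  have h0 : maximalIdeal R = ⊥ := by
    have h1 : nilradical R = maximalIdeal R := by
      rw [nilradical_eq_sInf]
      apply le_antisymm
      · exact sInf_le (inferInstanceAs (maximalIdeal R).IsPrime)
      · refine le_sInf fun p hp => ?_
        have : p.IsPrime := hp
        rw [h p]
    rw [← h1]
    exact nilradical_eq_zero R
  exact IsLocalRing.isField_iff_maximalIdeal_eq.mpr h0

set_option backward.isDefEq.respectTransparency.types false in
/-- If the fibre of `π` through a maximal point `x''` is reduced, then the maximal ideal of the base point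
generates the maximal ideal at `x''`. -/
theorem map_maximalIdeal_eq_of_isReduced_fiber (π : X ⟶ Y) (x : X) (hx : ∀ z : X, z ⤳ x → z = x)
    (hred : IsReduced (π.fiber (π x))) :
    (maximalIdeal (Y.presheaf.stalk (π x))).map (π.stalkMap x).hom = maximalIdeal (X.presheaf.stalk x) := by
  obtain ⟨e⟩ := nonempty_fibre_stalk_ringEquiv_quotient π x
  set I := (maximalIdeal (Y.presheaf.stalk (π x))).map (π.stalkMap x).hom with hI
  have hIne : I ≠ ⊤ := by
    intro htop
    have h1 : I ≤ maximalIdeal (X.presheaf.stalk x) := by
      rw [hI, Ideal.map_le_iff_le_comap]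
      intro a ha
      exact map_nonunit (π.stalkMap x).hom a ha
    rw [htop] at h1
    exact (maximalIdeal.isMaximal (X.presheaf.stalk x)).ne_top (top_le_iff.mp h1)
  have hnt : Nontrivial (X.presheaf.stalk x ⧸ I) := Ideal.Quotient.nontrivial_iff.mpr hIne
  have hloc : IsLocalRing (X.presheaf.stalk x ⧸ I) :=
    IsLocalRing.of_surjective' (Ideal.Quotient.mk I) Ideal.Quotient.mk_surjective
  have hredQ : IsReduced (X.presheaf.stalk x ⧸ I) := by
    have : IsReduced ((π.fiber (π x)).presheaf.stalk (π.asFiber x)) := inferInstance
    exact isReduced_of_injective e.symm e.symm.injective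
  have hprime : ∀ (p : Ideal (X.presheaf.stalk x ⧸ I)) [p.IsPrime],
      p = maximalIdeal (X.presheaf.stalk x ⧸ I) := by
    intro p hp
    have h1 : (p.comap (Ideal.Quotient.mk I)).IsPrime := Ideal.comap_isPrime _ _
    have h2 := eq_maximalIdeal_of_forall_specializes x hx (p.comap (Ideal.Quotient.mk I))
    have hmax : (p.comap (Ideal.Quotient.mk I)).IsMaximal := h2 ▸ maximalIdeal.isMaximal _
    have h3 : p.IsMaximal := by
      have := Ideal.map_eq_top_or_isMaximal_of_surjective (Ideal.Quotient.mk I)
        Ideal.Quotient.mk_surjective hmax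
      rw [Ideal.map_comap_of_surjective _ Ideal.Quotient.mk_surjective] at this
      rcases this with h | h
      · exact absurd h hp.ne_top
      · exact h
    exact IsLocalRing.eq_maximalIdeal h3
  have hfield : IsField (X.presheaf.stalk x ⧸ I) := isField_of_isReduced_of_forall_prime_eq _ hprime
  have hmax : I.IsMaximal := Ideal.Quotient.maximal_of_isField I hfield
  exact IsLocalRing.eq_maximalIdeal hmax

set_option backward.isDefEq.respectTransparency.types false in
/-- Equality of lengths of the local rings at a maximal point and its image, for a flat morphism with reduced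
fibre through the point. -/
theorem length_stalk_eq_of_flat_of_isReduced_fiber (π : X ⟶ Y) [Flat π] (x : X)
    (hx : ∀ z : X, z ⤳ x → z = x) (hred : IsReduced (π.fiber (π x))) :
    Module.length (X.presheaf.stalk x) (X.presheaf.stalk x) =
      Module.length (Y.presheaf.stalk (π x)) (Y.presheaf.stalk (π x)) := by
  let _ : Algebra (Y.presheaf.stalk (π x)) (X.presheaf.stalk x) := (π.stalkMap x).hom.toAlgebra
  have hloc : IsLocalHom (algebraMap (Y.presheaf.stalk (π x)) (X.presheaf.stalk x)) :=
    inferInstanceAs (IsLocalHom (π.stalkMap x).hom)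
  have hflat : Module.Flat (Y.presheaf.stalk (π x)) (X.presheaf.stalk x) := Flat.stalkMap π x
  exact length_eq_of_flat_of_map_maximalIdeal_eq _ _ (map_maximalIdeal_eq_of_isReduced_fiber π x hx hred)

end Groth.Agent.Lib.Helper24
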