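import Mathlib
import Groth.Agent.Lib.Helper12.LengthTensor
import Groth.Agent.Lib.Helper49.FiberStalk
import Groth.Agent.Lib.Helper50.RedBC
import Groth.Agent.Lib.Helper24.MaxPointLength

/-!
# Multiplicativity of lengths of local rings at maximal points (helper24)

For a cartesian square `Z'' = Z' ×_{X'} X''` with `Z' → X'` a closed immersion and `X'' → X'` flat, at a
point `z''` where the local ring of `Z'` is a field:
`ℓ(O_{X'',x''}) = ℓ(O_{X',x'}) · ℓ(O_{Z'',z''})`.
-/

set_option autoImplicit false
universe u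

open CategoryTheory CategoryTheory.Limits AlgebraicGeometry IsLocalRing TensorProduct

namespace Groth.Agent.Lib.Helper24


open IsLocalRing TensorProduct

/-- For a flat local homomorphism `A → B` and a surjection `φ : B → C` with kernel `m_A B`:
`ℓ(B) = ℓ(A) · ℓ(C)`. -/
theorem length_eq_mul_length_of_flat_of_ker_eq {A B C : Type u} [CommRing A] [CommRing B]
    [CommRing C] [Algebra A B] [IsLocalRing A] [IsLocalRing B] [IsLocalHom (algebraMap A B)]
    [Module.Flat A B] (φ : B →+* C) (hφ : Function.Surjective φ)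
    (hker : RingHom.ker φ = (maximalIdeal A).map (algebraMap A B)) :
    Module.length B B = Module.length A A * Module.length C C := by
  have hff : Module.FaithfullyFlat A B := Module.FaithfullyFlat.of_flat_of_isLocalHom
  have h1 := Groth.Agent.Lib.Helper12.LengthTensor.length_tensor (A := A) (B := B) B A
  have e1 : (B ⊗[A] A) ≃ₗ[B] B := AlgebraTensorModule.rid A B B
  rw [e1.length_eq] at h1
  rw [h1]
  congr 1
  let _ : Algebra B C := φ.toAlgebra
  have hsurj : Function.Surjective (Algebra.linearMap B C) := hφ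
  have hk : LinearMap.ker (Algebra.linearMap B C) =
      (maximalIdeal A).map (algebraMap A B) • (⊤ : Submodule B B) := by
    rw [Ideal.smul_top_eq_map, Algebra.algebraMap_self, Ideal.map_id]
    ext b
    rw [LinearMap.mem_ker, Submodule.restrictScalars_mem, ← hker, RingHom.mem_ker]
    rfl
  have e2 : (B ⧸ ((maximalIdeal A).map (algebraMap A B) • (⊤ : Submodule B B))) ≃ₗ[B] C :=
    (Submodule.quotEquivOfEq _ _ hk.symm).trans
      ((Algebra.linearMap B C).quotKerEquivOfSurjective hsurj)
  rw [e2.length_eq]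
  exact Module.length_eq_of_surjective hφ



variable {Z'' X'' Z' X' : Scheme.{u}} {j : Z'' ⟶ X''} {q : Z'' ⟶ Z'} {π : X'' ⟶ X'} {i : Z' ⟶ X'}

/-- In a cartesian square with `i` a closed immersion, at a point `z''` where the local ring of `Z'`
is a field, the extension of the maximal ideal of the local ring of `X'` dies in the local ring of
`Z''`. -/
theorem map_maximalIdeal_le_ker_stalkMap_of_isPullback (h : IsPullback j q π i) (z'' : Z'')
    (hfield : IsField (Z'.presheaf.stalk (q z''))) :
    (maximalIdeal (X'.presheaf.stalk (π (j z'')))).map (π.stalkMap (j z'')).hom ≤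
      RingHom.ker (j.stalkMap z'').hom := by
  rw [Ideal.map_le_iff_le_comap]
  intro a ha
  rw [Ideal.mem_comap, RingHom.mem_ker]
  have e1 : (j ≫ π).stalkMap z'' = π.stalkMap (j z'') ≫ j.stalkMap z'' :=
    Scheme.Hom.stalkMap_comp j π z''
  have e2 := Scheme.Hom.stalkMap_congr_hom (j ≫ π) (q ≫ i) h.w z''
  have e3 : (q ≫ i).stalkMap z'' = i.stalkMap (q z'') ≫ q.stalkMap z'' :=
    Scheme.Hom.stalkMap_comp q i z''
  have key : (j.stalkMap z'').hom ((π.stalkMap (j z'')).hom a) =
      ((j ≫ π).stalkMap z'').hom a := by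
    rw [e1]; rfl
  rw [key, e2, e3]
  change (q.stalkMap z'').hom ((i.stalkMap (q z'')).hom
    ((X'.presheaf.stalkCongr _).hom.hom a)) = 0
  have hna : (X'.presheaf.stalkCongr (.of_eq (h.w ▸ rfl :
      (j ≫ π) z'' = (q ≫ i) z''))).hom.hom a ∈
        maximalIdeal (X'.presheaf.stalk ((q ≫ i) z'')) := by
    have := _root_.map_nonunit (X'.presheaf.stalkCongr (.of_eq (h.w ▸ rfl :
      (j ≫ π) z'' = (q ≫ i) z''))).hom.hom a ha
    exact this
  have hnb : (i.stalkMap (q z'')).hom ((X'.presheaf.stalkCongr (.of_eq (h.w ▸ rfl :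
      (j ≫ π) z'' = (q ≫ i) z''))).hom.hom a) ∈ maximalIdeal (Z'.presheaf.stalk (q z'')) :=
    _root_.map_nonunit (i.stalkMap (q z'')).hom _ hna
  let _ := hfield.toField
  rw [IsLocalRing.maximalIdeal_eq_bot, Ideal.mem_bot] at hnb
  exact (congrArg (q.stalkMap z'').hom hnb).trans (map_zero _)

/-- In a cartesian square with `i` a closed immersion, at a point `z''` where the local ring of `Z'`
is a field, the kernel of `O_{X'',j z''} → O_{Z'',z''}` is the extension of the maximal ideal of the
local ring of `X'`. -/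
theorem ker_stalkMap_le_map_maximalIdeal_of_isPullback (h : IsPullback j q π i)
    [IsClosedImmersion i] (z'' : Z'') :
    RingHom.ker (j.stalkMap z'').hom ≤
      (maximalIdeal (X'.presheaf.stalk (π (j z'')))).map (π.stalkMap (j z'')).hom := by
  have hj : IsClosedImmersion j :=
    MorphismProperty.of_isPullback (P := @IsClosedImmersion) h.flip inferInstance
  have e : π (j z'') = i (q z'') := by
    have := congr(($h.w) z'')
    simpa using this
  have hspec : π (j z'') ⤳ i (q z'') := specializes_of_eq e
  -- notation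
  let I : Ideal (X''.presheaf.stalk (j z'')) :=
    (maximalIdeal (X'.presheaf.stalk (π (j z'')))).map (π.stalkMap (j z'')).hom
  have hI : I ≠ ⊤ := (IsLocalRing.map_maximalIdeal_lt_top (π.stalkMap (j z'')).hom).ne
  have hnt : Nontrivial (X''.presheaf.stalk (j z'') ⧸ I) := Ideal.Quotient.nontrivial_iff.mpr hI
  have hloc : IsLocalRing (X''.presheaf.stalk (j z'') ⧸ I) :=
    IsLocalRing.of_surjective' (Ideal.Quotient.mk I) Ideal.Quotient.mk_surjective
  have hπl : IsLocalHom (Ideal.Quotient.mk I) :=
    IsLocalHom.of_surjective (Ideal.Quotient.mk I) Ideal.Quotient.mk_surjective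
  let τ : X'.presheaf.stalk (i (q z'')) ⟶ X'.presheaf.stalk (π (j z'')) :=
    X'.presheaf.stalkSpecializes hspec
  have hτ : ∀ a : X'.presheaf.stalk (i (q z'')), IsUnit (τ.hom a) → IsUnit a := by
    intro a ha
    have hinv : (X'.presheaf.stalkSpecializes (specializes_of_eq e.symm)).hom (τ.hom a) = a := by
      change (τ ≫ X'.presheaf.stalkSpecializes (specializes_of_eq e.symm)).hom a = a
      rw [TopCat.Presheaf.stalkSpecializes_comp, TopCat.Presheaf.stalkSpecializes_refl]
      rfl
    rw [← hinv]
    exact ha.map _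
  let φ : X'.presheaf.stalk (i (q z'')) →+* Z'.presheaf.stalk (q z'') := (i.stalkMap (q z'')).hom
  have hφs : Function.Surjective φ := i.stalkMap_surjective (q z'')
  let ψ : X'.presheaf.stalk (i (q z'')) →+* (X''.presheaf.stalk (j z'') ⧸ I) :=
    (Ideal.Quotient.mk I).comp ((π.stalkMap (j z'')).hom.comp τ.hom)
  have hle : RingHom.ker φ ≤ RingHom.ker ψ := by
    intro a ha
    rw [RingHom.mem_ker] at ha ⊢
    have hna : ¬ IsUnit a := by
      intro hu
      have := hu.map φ
      rw [ha] at this
      exact not_isUnit_zero this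
    have hτa : τ.hom a ∈ maximalIdeal (X'.presheaf.stalk (π (j z''))) := fun hu => hna (hτ a hu)
    change Ideal.Quotient.mk I ((π.stalkMap (j z'')).hom (τ.hom a)) = 0
    rw [Ideal.Quotient.eq_zero_iff_mem]
    exact Ideal.mem_map_of_mem _ hτa
  let ℓ : Z'.presheaf.stalk (q z'') →+* (X''.presheaf.stalk (j z'') ⧸ I) :=
    RingHom.liftOfSurjective φ hφs ⟨ψ, hle⟩
  have hℓ : ℓ.comp φ = ψ := RingHom.liftOfRightInverse_comp _ _ _ _
  let t : Spec (CommRingCat.of (X''.presheaf.stalk (j z'') ⧸ I)) ⟶ X'' :=
    Spec.map (CommRingCat.ofHom (Ideal.Quotient.mk I)) ≫ X''.fromSpecStalk (j z'')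
  let g : Spec (CommRingCat.of (X''.presheaf.stalk (j z'') ⧸ I)) ⟶ Z' :=
    Spec.map (CommRingCat.ofHom ℓ) ≫ Z'.fromSpecStalk (q z'')
  have w : t ≫ π = g ≫ i := by
    change (Spec.map (CommRingCat.ofHom (Ideal.Quotient.mk I)) ≫ X''.fromSpecStalk (j z'')) ≫ π =
      (Spec.map (CommRingCat.ofHom ℓ) ≫ Z'.fromSpecStalk (q z'')) ≫ i
    rw [Category.assoc, Category.assoc, ← Scheme.SpecMap_stalkMap_fromSpecStalk,
      ← Scheme.SpecMap_stalkMap_fromSpecStalk, ← Spec.map_comp_assoc, ← Spec.map_comp_assoc,
      ← Scheme.SpecMap_stalkSpecializes_fromSpecStalk hspec, ← Spec.map_comp_assoc]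
    congr 2
    ext a
    exact (congrArg (fun f : _ →+* _ => f a) hℓ).symm
  have hh : h.lift t g w ≫ j = Spec.map (CommRingCat.ofHom (Ideal.Quotient.mk I)) ≫
      X''.fromSpecStalk (j z'') := h.lift_fst t g w
  have hπl' : IsLocalHom (CommRingCat.ofHom (Ideal.Quotient.mk I)).hom := hπl
  have hloc' : IsLocalRing (CommRingCat.of (X''.presheaf.stalk (j z'') ⧸ I)) := hloc
  have := Groth.Agent.Lib.Helper49.core j j.isEmbedding.injective z''
    (CommRingCat.ofHom (Ideal.Quotient.mk I)) (h.lift t g w) hh
  refine this.trans (le_of_eq ?_)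
  exact Ideal.mk_ker


/-- Length multiplicativity in a cartesian square (closed immersion `i`, flat `π`) at a point where
the local ring of `Z'` is a field. -/
theorem length_stalk_eq_mul_of_isPullback_of_isField (h : IsPullback j q π i)
    [IsClosedImmersion i] [Flat π] (z'' : Z'') (hfield : IsField (Z'.presheaf.stalk (q z''))) :
    Module.length (X''.presheaf.stalk (j z'')) (X''.presheaf.stalk (j z'')) =
      Module.length (X'.presheaf.stalk (π (j z''))) (X'.presheaf.stalk (π (j z''))) *
        Module.length (Z''.presheaf.stalk z'') (Z''.presheaf.stalk z'') := by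
  have hj : IsClosedImmersion j :=
    MorphismProperty.of_isPullback (P := @IsClosedImmersion) h.flip inferInstance
  let _ : Algebra (X'.presheaf.stalk (π (j z''))) (X''.presheaf.stalk (j z'')) :=
    (π.stalkMap (j z'')).hom.toAlgebra
  have hloc : IsLocalHom (algebraMap (X'.presheaf.stalk (π (j z''))) (X''.presheaf.stalk (j z''))) :=
    inferInstanceAs (IsLocalHom (π.stalkMap (j z'')).hom)
  have hflat : Module.Flat (X'.presheaf.stalk (π (j z''))) (X''.presheaf.stalk (j z'')) :=
    Flat.stalkMap π (j z'')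
  have hker : RingHom.ker (j.stalkMap z'').hom =
      (maximalIdeal (X'.presheaf.stalk (π (j z'')))).map
        (algebraMap (X'.presheaf.stalk (π (j z''))) (X''.presheaf.stalk (j z''))) :=
    le_antisymm (ker_stalkMap_le_map_maximalIdeal_of_isPullback h z'')
      (map_maximalIdeal_le_ker_stalkMap_of_isPullback h z'' hfield)
  exact length_eq_mul_length_of_flat_of_ker_eq (j.stalkMap z'').hom
    (j.stalkMap_surjective z'') hker

/-- The local ring of `X_red` at a maximal point of `X` is a field. -/
theorem isField_stalk_nilradical_subscheme_of_maximal (X : Scheme.{u})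
    (z : X.nilradical.subscheme)
    (hmax : ∀ y : X, y ⤳ X.nilradical.subschemeι z → y = X.nilradical.subschemeι z) :
    IsField (X.nilradical.subscheme.presheaf.stalk z) := by
  have hred : IsReduced X.nilradical.subscheme :=
    Groth.Agent.Lib.Helper50.isReduced_subscheme_nilradical' X
  have hmax' : ∀ y : X.nilradical.subscheme, y ⤳ z → y = z := by
    intro y hy
    have h1 := hmax _ (hy.map X.nilradical.subschemeι.continuous)
    exact X.nilradical.subschemeι.isEmbedding.injective h1
  exact isField_of_isReduced_of_forall_prime_eq _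
    (fun p _ => eq_maximalIdeal_of_forall_specializes z hmax' p)

/-- A flat morphism maps maximal points to maximal points. -/
theorem forall_specializes_eq_of_flat {X Y : Scheme.{u}} (π : X ⟶ Y) [Flat π] (x : X)
    (hx : ∀ z : X, z ⤳ x → z = x) : ∀ y : Y, y ⤳ π x → y = π x := by
  intro y hy
  obtain ⟨x', hx', rfl⟩ := Flat.generalizingMap π hy
  rw [hx x' hx']

end Groth.Agent.Lib.Helper24
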