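import Mathlib

/-!
# Formally unramified local homomorphisms, in terms of the fibre ring

For a local homomorphism `φ : R →+* S` of local rings, essentially of finite type, `φ` is formally
unramified iff `S ⧸ 𝔪_R S` is a field, finite and separable over `R ⧸ 𝔪_R`.
-/

set_option autoImplicit false
universe u

namespace Groth.Agent.Lib.Helper24

open IsLocalRing

theorem formallyUnramified_iff_fibre_field_finite_separable
    {R S : Type u} [CommRing R] [CommRing S] [IsLocalRing R] [IsLocalRing S]
    (φ : R →+* S) [IsLocalHom φ] (hφ : φ.EssFiniteType) :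
    φ.FormallyUnramified ↔
      (letI := (Ideal.quotientMap ((maximalIdeal R).map φ) φ Ideal.le_comap_map).toAlgebra
      IsField (S ⧸ (maximalIdeal R).map φ) ∧
        Module.Finite (R ⧸ maximalIdeal R) (S ⧸ (maximalIdeal R).map φ) ∧
        Algebra.IsSeparable (R ⧸ maximalIdeal R) (S ⧸ (maximalIdeal R).map φ)) := by
  algebraize [φ]
  have hloc : IsLocalHom (algebraMap R S) := ‹IsLocalHom φ›
  have hess : Algebra.EssFiniteType R S := hφ
  let alg' : Algebra (R ⧸ maximalIdeal R) (S ⧸ (maximalIdeal R).map φ) :=
    (Ideal.quotientMap ((maximalIdeal R).map φ) φ Ideal.le_comap_map).toAlgebra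
  let fld : Field (R ⧸ maximalIdeal R) := Ideal.Quotient.field _
  show Algebra.FormallyUnramified R S ↔ _
  constructor
  · intro h
    have H : (maximalIdeal R).map φ = maximalIdeal S :=
      Algebra.FormallyUnramified.map_maximalIdeal (R := R) (S := S)
    have hfield : IsField (S ⧸ (maximalIdeal R).map φ) :=
      Algebra.FormallyUnramified.isField_quotient_map_maximalIdeal (R := R) (S := S)
    let e₂ : ResidueField S ≃+* S ⧸ (maximalIdeal R).map φ := Ideal.quotEquivOfEq H.symm
    let e₁ : ResidueField R ≃+* (R ⧸ maximalIdeal R) := RingEquiv.refl (R ⧸ maximalIdeal R)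
    have he : RingHom.comp (algebraMap (R ⧸ maximalIdeal R) (S ⧸ (maximalIdeal R).map φ))
          (e₁ : ResidueField R →+* (R ⧸ maximalIdeal R)) =
        RingHom.comp (e₂ : ResidueField S →+* _)
          (algebraMap (ResidueField R) (ResidueField S)) := by
      apply Ideal.Quotient.ringHom_ext
      ext r
      rfl
    refine ⟨hfield, ?_, ?_⟩
    · exact Module.Finite.of_equiv_equiv e₁ e₂ he
    · exact Algebra.IsSeparable.of_equiv_equiv (A₁ := ResidueField R) (B₁ := ResidueField S)
        (A₂ := R ⧸ maximalIdeal R) (B₂ := S ⧸ (maximalIdeal R).map φ) e₁ e₂ he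
  · rintro ⟨hfield, hfin, hsep⟩
    have hmax : ((maximalIdeal R).map φ).IsMaximal := Ideal.Quotient.maximal_of_isField _ hfield
    have H : (maximalIdeal R).map (algebraMap R S) = maximalIdeal S := eq_maximalIdeal hmax
    let e₂ : S ⧸ (maximalIdeal R).map φ ≃+* ResidueField S := Ideal.quotEquivOfEq H
    let e₁ : (R ⧸ maximalIdeal R) ≃+* ResidueField R := RingEquiv.refl (R ⧸ maximalIdeal R)
    have he : RingHom.comp (algebraMap (ResidueField R) (ResidueField S))
          (e₁ : (R ⧸ maximalIdeal R) →+* ResidueField R) =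
        RingHom.comp (e₂ : _ →+* ResidueField S)
          (algebraMap (R ⧸ maximalIdeal R) (S ⧸ (maximalIdeal R).map φ)) := by
      apply Ideal.Quotient.ringHom_ext
      ext r
      rfl
    have : Algebra.IsSeparable (ResidueField R) (ResidueField S) :=
      Algebra.IsSeparable.of_equiv_equiv (A₂ := ResidueField R) (B₂ := ResidueField S)
        (A₁ := R ⧸ maximalIdeal R) (B₁ := S ⧸ (maximalIdeal R).map φ) e₁ e₂ he
    exact Algebra.FormallyUnramified.of_map_maximalIdeal H

end Groth.Agent.Lib.Helper24
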