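import Mathlib
import Groth.Agent.Lib.Helper24.UnramifiedLocal

/-!
# Local homomorphisms whose fibre ring is the residue field
-/

set_option autoImplicit false
universe u

namespace Groth.Agent.Lib.Helper24

open IsLocalRing

/-- If `R/𝔪_R → S/𝔪_R S` is bijective then `φ` is formally unramified and the residue field map is
surjective. -/
theorem formallyUnramified_and_surjective_of_bijective_quotientMap
    {R S : Type u} [CommRing R] [CommRing S] [IsLocalRing R] [IsLocalRing S]
    (φ : R →+* S) [IsLocalHom φ] (hφ : φ.EssFiniteType)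
    (hq : Function.Bijective
      (Ideal.quotientMap ((maximalIdeal R).map φ) φ Ideal.le_comap_map)) :
    φ.FormallyUnramified ∧ Function.Surjective (ResidueField.map φ) := by
  constructor
  · rw [formallyUnramified_iff_fibre_field_finite_separable φ hφ]
    let alg' : Algebra (R ⧸ maximalIdeal R) (S ⧸ (maximalIdeal R).map φ) :=
      (Ideal.quotientMap ((maximalIdeal R).map φ) φ Ideal.le_comap_map).toAlgebra
    let fld : Field (R ⧸ maximalIdeal R) := Ideal.Quotient.field _
    let e₂ : (R ⧸ maximalIdeal R) ≃+* (S ⧸ (maximalIdeal R).map φ) := RingEquiv.ofBijective _ hq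
    refine ⟨?_, ?_, ?_⟩
    · exact MulEquiv.isField (Field.toIsField (R ⧸ maximalIdeal R)) e₂.symm.toMulEquiv
    · exact Module.Finite.of_surjective
        (Algebra.linearMap (R ⧸ maximalIdeal R) (S ⧸ (maximalIdeal R).map φ)) hq.2
    · have he : RingHom.comp (algebraMap (R ⧸ maximalIdeal R) (S ⧸ (maximalIdeal R).map φ))
            ((RingEquiv.refl (R ⧸ maximalIdeal R)) : (R ⧸ maximalIdeal R) →+* (R ⧸ maximalIdeal R)) =
          RingHom.comp (e₂ : _ →+* _) (algebraMap (R ⧸ maximalIdeal R) (R ⧸ maximalIdeal R)) := by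
        apply Ideal.Quotient.ringHom_ext
        ext r
        rfl
      exact Algebra.IsSeparable.of_equiv_equiv (A₁ := R ⧸ maximalIdeal R) (B₁ := R ⧸ maximalIdeal R)
        (A₂ := R ⧸ maximalIdeal R) (B₂ := S ⧸ (maximalIdeal R).map φ)
        (RingEquiv.refl (R ⧸ maximalIdeal R)) e₂ he
  · intro x
    obtain ⟨s, rfl⟩ := residue_surjective x
    obtain ⟨r, hr⟩ := hq.2 (Ideal.Quotient.mk _ s)
    obtain ⟨r, rfl⟩ := Ideal.Quotient.mk_surjective r
    refine ⟨residue R r, ?_⟩
    have h1 : Ideal.Quotient.mk ((maximalIdeal R).map φ) (φ r) = Ideal.Quotient.mk _ s := hr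
    rw [Ideal.Quotient.eq] at h1
    have h2 : φ r - s ∈ maximalIdeal S :=
      (((local_hom_TFAE φ).out 0 2 rfl rfl).mp ‹_›) h1
    show residue S (φ r) = residue S s
    rw [← sub_eq_zero, ← map_sub]
    exact (residue_eq_zero_iff _).mpr h2

/-- If `φ` is formally unramified and the residue field extension is purely inseparable, then
`R/𝔪_R → S/𝔪_R S` is bijective. -/
theorem bijective_quotientMap_of_formallyUnramified_of_isPurelyInseparable
    {R S : Type u} [CommRing R] [CommRing S] [IsLocalRing R] [IsLocalRing S]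
    (φ : R →+* S) [IsLocalHom φ] (hφ : φ.EssFiniteType) (hun : φ.FormallyUnramified)
    (hpi : (ResidueField.map φ).IsPurelyInseparable) :
    Function.Bijective (Ideal.quotientMap ((maximalIdeal R).map φ) φ Ideal.le_comap_map) := by
  algebraize [φ]
  have hloc : IsLocalHom (algebraMap R S) := ‹IsLocalHom φ›
  have hess : Algebra.EssFiniteType R S := hφ
  have hun' : Algebra.FormallyUnramified R S := hun
  have H : (maximalIdeal R).map φ = maximalIdeal S :=
    Algebra.FormallyUnramified.map_maximalIdeal (R := R) (S := S)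
  have hsep : Algebra.IsSeparable (ResidueField R) (ResidueField S) := inferInstance
  have he : RingHom.comp (ResidueField.map φ)
        ((RingEquiv.refl (ResidueField R)) : ResidueField R →+* ResidueField R) =
      RingHom.comp ((RingEquiv.refl (ResidueField S)) : ResidueField S →+* ResidueField S)
        (algebraMap (ResidueField R) (ResidueField S)) := by
    apply Ideal.Quotient.ringHom_ext
    ext r
    rfl
  have hsep2 : @Algebra.IsSeparable (ResidueField R) (ResidueField S) _ _
      (ResidueField.map φ).toAlgebra :=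
    @Algebra.IsSeparable.of_equiv_equiv (ResidueField R) (ResidueField S) (ResidueField R)
      (ResidueField S) _ _ _ _ _ (ResidueField.map φ).toAlgebra
      (RingEquiv.refl (ResidueField R)) (RingEquiv.refl (ResidueField S)) he hsep
  have hsurj : Function.Surjective (ResidueField.map φ) :=
    @IsPurelyInseparable.surjective_algebraMap_of_isSeparable (ResidueField R) (ResidueField S) _ _
      (ResidueField.map φ).toAlgebra hpi hsep2
  have hne : (maximalIdeal R).map φ ≠ ⊤ := by
    rw [H]; exact (maximalIdeal.isMaximal S).ne_top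
  let fld : Field (R ⧸ maximalIdeal R) := Ideal.Quotient.field _
  have : Nontrivial (S ⧸ (maximalIdeal R).map φ) := Ideal.Quotient.nontrivial_iff.mpr hne
  refine ⟨RingHom.injective _, ?_⟩
  intro y
  obtain ⟨s, rfl⟩ := Ideal.Quotient.mk_surjective y
  obtain ⟨r, hr⟩ := hsurj (residue S s)
  obtain ⟨r, rfl⟩ := residue_surjective r
  refine ⟨Ideal.Quotient.mk _ r, ?_⟩
  show Ideal.Quotient.mk ((maximalIdeal R).map φ) (φ r) = Ideal.Quotient.mk _ s
  rw [Ideal.Quotient.eq, H]
  have h1 : residue S (φ r) = residue S s := hr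
  rw [← sub_eq_zero, ← map_sub] at h1
  exact (residue_eq_zero_iff _).mp h1

end Groth.Agent.Lib.Helper24
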