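import Mathlib
import Groth.Agent.Lib.Helper24.RelNormA

/-!
# Integral closure of a Dedekind-like base in a finite étale algebra over its fraction field
(helper24; ring-level input for the Néron model of a finite étale group scheme)
-/

set_option autoImplicit false
universe u

namespace Groth.Agent.Lib.Helper24.NeronFEt

open Polynomial

section Finite

variable {A K C : Type u} [CommRing A] [IsDomain A] [IsIntegrallyClosed A] [IsNoetherianRing A]
  [Field K] [Algebra A K] [IsFractionRing A K] [CommRing C] [Algebra K C] [Algebra A C]
  [IsScalarTower A K C] [Module.Finite K C] [Algebra.FormallyUnramified K C]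

include K in
theorem finite_integralClosure_quotient (p : Ideal C) [p.IsPrime] :
    Module.Finite A (integralClosure A (C ⧸ p)) := by
  have : IsArtinianRing C := IsArtinianRing.of_finite K C
  have : p.IsMaximal := IsArtinianRing.isMaximal_of_isPrime p
  let _ : Field (C ⧸ p) := Ideal.Quotient.field p
  have : Algebra.IsSeparable K (C ⧸ p) := Algebra.FormallyUnramified.isSeparable K (C ⧸ p)
  exact IsIntegralClosure.finite A K (C ⧸ p) (integralClosure A (C ⧸ p))

include K in
/-- The integral closure of a Noetherian normal domain in a finite étale algebra over its fraction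
field is finite. -/
theorem finite_integralClosure : Module.Finite A (integralClosure A C) := by
  classical
  have : IsArtinianRing C := IsArtinianRing.of_finite K C
  have : IsNoetherianRing C := inferInstance
  have : IsReduced C := Algebra.FormallyUnramified.isReduced_of_field K C
  have hfin : (minimalPrimes C).Finite := minimalPrimes.finite_of_isNoetherianRing C
  have : Finite (minimalPrimes C) := hfin
  have hprime : ∀ p : minimalPrimes C, p.1.IsPrime := fun p => p.2.1.1
  have hfinp : ∀ p : minimalPrimes C, Module.Finite A (integralClosure A (C ⧸ p.1)) :=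
    fun p => finite_integralClosure_quotient (K := K) p.1
  have : IsNoetherian A (∀ p : minimalPrimes C, integralClosure A (C ⧸ p.1)) :=
    isNoetherian_of_isNoetherianRing_of_finite A _
  let ρ : ∀ p : minimalPrimes C, C →ₐ[A] (C ⧸ p.1) :=
    fun p => IsScalarTower.toAlgHom A C (C ⧸ p.1)
  let f : integralClosure A C →ₗ[A] ∀ p : minimalPrimes C, integralClosure A (C ⧸ p.1) :=
    { toFun := fun x p => ⟨ρ p x.1, x.2.map (ρ p)⟩
      map_add' := fun x y => by
        funext p; apply Subtype.ext
        exact map_add (ρ p) _ _
      map_smul' := fun a x => by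
        funext p; apply Subtype.ext
        exact map_smul (ρ p) _ _ }
  refine Module.Finite.of_injective f (fun x y hxy => Subtype.ext ?_)
  have h1 : ∀ p : minimalPrimes C, (x.1 - y.1) ∈ p.1 := by
    intro p
    have := congrArg (fun g : ∀ p : minimalPrimes C, integralClosure A (C ⧸ p.1) =>
      ((g p : integralClosure A (C ⧸ p.1)) : C ⧸ p.1)) hxy
    have h2 : Ideal.Quotient.mk p.1 x.1 = Ideal.Quotient.mk p.1 y.1 := this
    rw [← Ideal.Quotient.eq_zero_iff_mem, map_sub, h2, sub_self]
  have h3 : x.1 - y.1 ∈ sInf (minimalPrimes C) := by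
    rw [Ideal.mem_sInf]
    intro p hp
    exact h1 ⟨p, hp⟩
  have h4 : sInf (minimalPrimes C) = nilradical C := Ideal.sInf_minimalPrimes
  rw [h4, nilradical_eq_zero] at h3
  exact sub_eq_zero.mp h3

end Finite

section Loc

variable {A K C : Type u} [CommRing A]
  [Field K] [Algebra A K] [IsFractionRing A K] [CommRing C] [Algebra K C] [Algebra A C]
  [IsScalarTower A K C]

include K in
theorem isUnit_algebraMap_of_mem_nonZeroDivisors {a : A} (ha : a ∈ nonZeroDivisors A) :
    IsUnit (algebraMap A C a) := by
  rw [IsScalarTower.algebraMap_apply A K C]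
  refine IsUnit.map (algebraMap K C) ?_
  exact IsLocalization.map_units K (⟨a, ha⟩ : nonZeroDivisors A)

include K in
/-- `C` is the localization of the integral closure of `A` in `C` at the nonzero elements of
`A`. -/
theorem isLocalization_integralClosure [Algebra.IsIntegral K C] :
    IsLocalization (Algebra.algebraMapSubmonoid (integralClosure A C) (nonZeroDivisors A)) C := by
  refine ⟨⟨?_, ?_, ?_⟩⟩
  · rintro ⟨_, a, ha, rfl⟩
    exact isUnit_algebraMap_of_mem_nonZeroDivisors (A := A) (K := K) (C := C) ha
  · intro c
    obtain ⟨⟨m, hm⟩, hmc⟩ := IsIntegral.exists_multiple_integral_of_isLocalization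
      (nonZeroDivisors A) c (Algebra.IsIntegral.isIntegral (R := K) c)
    refine ⟨⟨⟨(⟨m, hm⟩ : nonZeroDivisors A) • c, hmc⟩,
      ⟨algebraMap A (integralClosure A C) m, m, hm, rfl⟩⟩, ?_⟩
    show c * algebraMap A C m = (⟨m, hm⟩ : nonZeroDivisors A) • c
    rw [Submonoid.smul_def, Algebra.smul_def, mul_comm]
  · intro x y h
    exact ⟨1, by rw [Subtype.ext h]⟩

variable {B : Type u} [CommRing B] [Algebra A B] [Algebra B C] [IsScalarTower A B C]

include K in
/-- If `C` (formally smooth over `K = Frac A`) is the localization of the `A`-algebra `B` at the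
nonzero elements of `A`, the local rings of `B` at primes coming from `C` are formally smooth over
`A`. -/
theorem formallySmooth_localization_comap
    [IsLocalization (Algebra.algebraMapSubmonoid B (nonZeroDivisors A)) C]
    [Algebra.FormallySmooth K C] (Q : Ideal C) [Q.IsPrime] :
    Algebra.FormallySmooth A (Localization.AtPrime (Q.comap (algebraMap B C))) := by
  set q := Q.comap (algebraMap B C) with hq
  let M : Submonoid B := Algebra.algebraMapSubmonoid B (nonZeroDivisors A)
  have hMq : M ≤ q.primeCompl := by
    rintro _ ⟨a, ha, rfl⟩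
    show algebraMap A B a ∉ q
    intro hmem
    have h1 : algebraMap B C (algebraMap A B a) ∈ Q := hmem
    have h2 : IsUnit (algebraMap B C (algebraMap A B a)) := by
      rw [← IsScalarTower.algebraMap_apply A B C]
      exact isUnit_algebraMap_of_mem_nonZeroDivisors (A := A) (K := K) (C := C) ha
    exact (Ideal.IsPrime.ne_top inferInstance) (Ideal.eq_top_of_isUnit_mem _ h1 h2)
  have hunits : ∀ y : M, IsUnit (algebraMap B (Localization.AtPrime q) y) := fun y =>
    IsLocalization.map_units (Localization.AtPrime q) (⟨y.1, hMq y.2⟩ : q.primeCompl)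
  let φ : C →+* Localization.AtPrime q := IsLocalization.lift (M := M) hunits
  let _ : Algebra C (Localization.AtPrime q) := φ.toAlgebra
  have hφ : ∀ b : B, algebraMap C (Localization.AtPrime q) (algebraMap B C b) =
      algebraMap B (Localization.AtPrime q) b := fun b => IsLocalization.lift_eq hunits b
  have : IsScalarTower B C (Localization.AtPrime q) :=
    IsScalarTower.of_algebraMap_eq fun b => (hφ b).symm
  have hloc2 : IsLocalization (q.primeCompl.map (algebraMap B C)) (Localization.AtPrime q) :=
    IsLocalization.isLocalization_of_submonoid_le C (Localization.AtPrime q) M q.primeCompl hMq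
  have h1 : Algebra.FormallySmooth C (Localization.AtPrime q) :=
    Algebra.FormallySmooth.of_isLocalization (q.primeCompl.map (algebraMap B C))
  let _ : Algebra K (Localization.AtPrime q) :=
    ((algebraMap C (Localization.AtPrime q)).comp (algebraMap K C)).toAlgebra
  have : IsScalarTower K C (Localization.AtPrime q) := IsScalarTower.of_algebraMap_eq fun _ => rfl
  have h2 : Algebra.FormallySmooth K (Localization.AtPrime q) :=
    Algebra.FormallySmooth.comp K C (Localization.AtPrime q)
  have h3 : Algebra.FormallySmooth A K := Algebra.FormallySmooth.of_isLocalization (nonZeroDivisors A)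
  have : IsScalarTower A K (Localization.AtPrime q) := by
    refine IsScalarTower.of_algebraMap_eq fun a => ?_
    show algebraMap A (Localization.AtPrime q) a =
      algebraMap C (Localization.AtPrime q) (algebraMap K C (algebraMap A K a))
    rw [← IsScalarTower.algebraMap_apply A K C, IsScalarTower.algebraMap_apply A B C, hφ,
      ← IsScalarTower.algebraMap_apply A B (Localization.AtPrime q)]
  exact Algebra.FormallySmooth.comp A K (Localization.AtPrime q)

end Loc

section Normal

variable {A K C : Type u} [CommRing A]
  [Field K] [CommRing C] [Algebra K C] [Algebra A C]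
  [Module.Finite K C] [Algebra.FormallyUnramified K C]

include K in
/-- The local rings of the integral closure of `A` in a finite étale algebra over a field are
normal domains. -/
theorem isNormalDomain_localization_integralClosure (p : Ideal (integralClosure A C)) [p.IsPrime] :
    IsDomain (Localization.AtPrime p) ∧ IsIntegrallyClosed (Localization.AtPrime p) := by
  classical
  have : IsArtinianRing C := IsArtinianRing.of_finite K C
  have : IsReduced C := Algebra.FormallyUnramified.isReduced_of_field K C
  have : Fintype (MaximalSpectrum C) := Fintype.ofFinite _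
  let E := IsArtinianRing.equivPi C
  let e : MaximalSpectrum C → C := fun m => E.symm (Pi.single m 1)
  have hEe : ∀ m, E (e m) = Pi.single m 1 := fun m => E.apply_symm_apply _
  have he : ∀ m, e m * e m = e m := by
    intro m
    apply E.injective
    rw [map_mul, hEe, ← Pi.single_mul, mul_one]
  have hsum : ∑ m, e m = 1 := by
    apply E.injective
    rw [map_sum, map_one]
    simp only [hEe]
    exact Finset.univ_sum_single 1
  let eB : MaximalSpectrum C → integralClosure A C := fun m =>
    ⟨e m, RelNorm.isIntegral_of_idempotent (e m) (he m)⟩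
  have hsumB : ∑ m, eB m = 1 := by
    apply Subtype.ext
    rw [AddSubmonoidClass.coe_finsetSum]
    exact hsum
  obtain ⟨m, hm⟩ : ∃ m, eB m ∉ p := by
    by_contra hcon
    push Not at hcon
    have h1 : ∑ m, eB m ∈ p := Ideal.sum_mem _ fun m _ => hcon m
    rw [hsumB] at h1
    exact (Ideal.IsPrime.ne_top inferInstance) ((Ideal.eq_top_iff_one _).mpr h1)
  let _ : Field (C ⧸ m.asIdeal) := Ideal.Quotient.field m.asIdeal
  refine RelNorm.isNormalDomain_localization_integralClosure (A := A) (B := C)
    (D := C ⧸ m.asIdeal) (e m) (he m) (Ideal.Quotient.mk m.asIdeal)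
    Ideal.Quotient.mk_surjective (fun b => ?_) p hm
  have hEb : ∀ b : C, E b m = Ideal.Quotient.mk m.asIdeal b := fun b => rfl
  constructor
  · intro hb
    apply E.injective
    rw [map_mul, hEe, map_zero]
    funext m'
    by_cases hmm : m' = m
    · subst hmm
      rw [Pi.mul_apply, hEb, hb, mul_zero]; rfl
    · rw [Pi.mul_apply, Pi.single_eq_of_ne hmm, zero_mul]; rfl
  · intro hb
    have h1 := congrArg (fun g => g m) (congrArg E hb)
    simp only [map_mul, hEe, map_zero, Pi.mul_apply, Pi.single_eq_same, one_mul] at h1
    rw [← hEb]
    exact h1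

end Normal

section IntegralElem

/-- Let `ρ : A → A'` be an injective ring map from a normal domain, and `σ ∈ A'` integral over
`A` with `ρ a * σ = ρ b` for some `a` with `ρ a` a unit. Then `σ` comes from `A`. -/
theorem exists_of_isIntegralElem_of_mul_eq {A A' : Type u} [CommRing A] [IsDomain A]
    [IsIntegrallyClosed A] [CommRing A'] (ρ : A →+* A') (hρ : Function.Injective ρ) (σ : A')
    (hσ : ρ.IsIntegralElem σ) (a b : A) (ha : IsUnit (ρ a)) (hab : ρ a * σ = ρ b) :
    ∃ t : A, ρ t = σ := by
  have ha0 : a ≠ 0 := by
    rintro rfl
    rw [map_zero] at ha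
    have : Subsingleton A' := subsingleton_of_zero_eq_one (isUnit_zero_iff.mp ha)
    have : Subsingleton A := hρ.subsingleton
    exact one_ne_zero (Subsingleton.elim (1 : A) 0)
  obtain ⟨p, hp, hpσ⟩ := hσ
  -- `b` is a root of the scaled polynomial
  have hb : Polynomial.eval b (Polynomial.scaleRoots p a) = 0 := by
    apply hρ
    rw [map_zero, ← Polynomial.eval₂_hom, ← hab, Polynomial.scaleRoots_eval₂_mul, hpσ, mul_zero]
  let F := FractionRing A
  let ι : A →+* F := algebraMap A F
  have hι : Function.Injective ι := IsFractionRing.injective A F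
  have hιa : ι a ≠ 0 := fun h => ha0 (hι (h.trans (map_zero ι).symm))
  let x : F := ι b / ι a
  have hx : ι a * x = ι b := mul_div_cancel₀ _ hιa
  have hint : IsIntegral A x := by
    refine ⟨p, hp, ?_⟩
    have h1 : Polynomial.eval₂ ι (ι a * x) (Polynomial.scaleRoots p a) =
        ι a ^ p.natDegree * Polynomial.eval₂ ι x p := Polynomial.scaleRoots_eval₂_mul ι x a
    rw [hx, Polynomial.eval₂_hom, hb, map_zero] at h1
    exact (mul_eq_zero.mp h1.symm).resolve_left (pow_ne_zero _ hιa)
  obtain ⟨t, ht⟩ := IsIntegrallyClosed.isIntegral_iff.mp hint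
  refine ⟨t, ?_⟩
  have h2 : a * t = b := by
    apply hι
    rw [map_mul]
    show ι a * algebraMap A F t = ι b
    rw [ht, hx]
  have h3 : ρ a * ρ t = ρ a * σ := by rw [← map_mul, h2, hab]
  exact ha.mul_left_cancel h3

end IntegralElem

end Groth.Agent.Lib.Helper24.NeronFEt
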