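import Mathlib
import Groth.Prelude.Def_Neron
import Groth.Agent.Lib.Helper70.NeronClosA
import Groth.Agent.Lib.Helper70.GenFibE
import Groth.Agent.Lib.Helper24.NeronFEtA
import Groth.Agent.Lib.Helper24.RelNormB
import Groth.Agent.Lib.Helper24.NeronFinA
import Groth.Agent.Lib.Helper24.AlignedEtale

/-!
# Extending integral sections from the generic fibre of a smooth scheme over a Dedekind domain
(helper24)
-/

set_option autoImplicit false
universe u
open CategoryTheory AlgebraicGeometry Limits TopologicalSpace Opposite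

namespace Groth.Agent.Lib.Helper24.NeronFEt

/-- Sheaf gluing: if `d.app W` is injective for all opens `W` and the global section `σ` of `P`
locally on `X` comes from sections of `X`, then it comes from a global section. -/
theorem exists_appTop_eq_of_locally {X P : Scheme.{u}} (d : P ⟶ X)
    (hinj : ∀ W : X.Opens, Function.Injective (d.app W)) (σ : Γ(P, ⊤))
    (hloc : ∀ x : X, ∃ (U : X.Opens) (_ : x ∈ U) (τ : Γ(X, U)),
      d.app U τ = P.presheaf.map (homOfLE le_top).op σ) :
    ∃ τ : Γ(X, ⊤), d.appTop τ = σ := by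
  choose U hxU τ hτ using hloc
  have hcover : (⊤ : X.Opens) ≤ iSup U := fun x _ => Opens.mem_iSup.mpr ⟨x, hxU x⟩
  have hres : ∀ (x : X) (W : X.Opens) (hW : W ≤ U x),
      d.app W (X.presheaf.map (homOfLE hW).op (τ x)) = P.presheaf.map (homOfLE le_top).op σ := by
    intro x W hW
    have h1 := d.naturality (homOfLE hW).op
    have h2 := congr($(h1) (τ x))
    rw [CommRingCat.comp_apply, CommRingCat.comp_apply, hτ x] at h2
    rw [h2, ← CommRingCat.comp_apply, ← Functor.map_comp]
    rfl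
  have hcompat : TopCat.Presheaf.IsCompatible X.sheaf.1 U τ := by
    intro x y
    apply hinj (U x ⊓ U y)
    exact (hres x _ inf_le_left).trans (hres y _ inf_le_right).symm
  obtain ⟨g, hg, -⟩ := X.sheaf.existsUnique_gluing' U ⊤ (fun x => homOfLE le_top) hcover τ hcompat
  refine ⟨g, ?_⟩
  have hcoverP : (⊤ : P.Opens) ≤ iSup fun x => d ⁻¹ᵁ U x := fun p _ =>
    Opens.mem_iSup.mpr ⟨d p, hxU (d p)⟩
  refine P.sheaf.eq_of_locally_eq' (fun x => d ⁻¹ᵁ U x) ⊤ (fun x => homOfLE le_top) hcoverP _ _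
    fun x => ?_
  have h1 := d.naturality (homOfLE (le_top : U x ≤ ⊤)).op
  have h2 : d.app (U x) (X.presheaf.map (homOfLE (le_top : U x ≤ ⊤)).op g) =
      P.presheaf.map ((Opens.map d.base).map (homOfLE (le_top : U x ≤ ⊤))).op (d.app ⊤ g) :=
    congr($(h1) g)
  have h3 : X.presheaf.map (homOfLE (le_top : U x ≤ ⊤)).op g = τ x := hg x
  rw [h3, hτ x] at h2
  exact h2.symm

/-- A quasi-compact morphism with trivial kernel ideal sheaf is injective on sections over every
open. -/
theorem app_injective_of_ker_eq_bot {X P : Scheme.{u}} (d : P ⟶ X) [QuasiCompact d]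
    (hd : d.ker = ⊥) (W : X.Opens) : Function.Injective (d.app W) := by
  rw [injective_iff_map_eq_zero]
  intro b hb
  have hloc : ∀ x : W, ∃ U : X.Opens, IsAffineOpen U ∧ x.1 ∈ U ∧ U ≤ W := by
    intro x
    obtain ⟨_, ⟨U, hU, rfl⟩, hxU, hUW⟩ :=
      X.isBasis_affineOpens.exists_subset_of_mem_open x.2 W.isOpen
    exact ⟨U, hU, hxU, hUW⟩
  choose U hU hxU hUW using hloc
  have hcover : W ≤ iSup U := fun x hx => Opens.mem_iSup.mpr ⟨⟨x, hx⟩, hxU ⟨x, hx⟩⟩
  refine X.sheaf.eq_of_locally_eq' U W (fun x => homOfLE (hUW x)) hcover b 0 fun x => ?_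
  have h0 : X.presheaf.map (homOfLE (hUW x)).op (0 : Γ(X, W)) = 0 := map_zero _
  refine Eq.trans ?_ h0.symm
  have h1 := d.naturality (homOfLE (hUW x)).op
  have h2 : d.app (U x) (X.presheaf.map (homOfLE (hUW x)).op b) =
      P.presheaf.map ((Opens.map d.base).map (homOfLE (hUW x))).op (d.app W b) :=
    congr($(h1) b)
  rw [hb, map_zero] at h2
  have h3 : X.presheaf.map (homOfLE (hUW x)).op b ∈ d.ker.ideal ⟨U x, hU x⟩ := by
    rw [Scheme.Hom.ker_apply, RingHom.mem_ker]
    exact h2
  rw [hd, Scheme.IdealSheafData.ideal_bot] at h3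
  exact h3


/-- `Spec B` is a normal scheme if all localizations of `B` at primes are normal domains. -/
theorem isNormalScheme_Spec (B : Type u) [CommRing B]
    (h : ∀ (p : Ideal B) [p.IsPrime],
      IsDomain (Localization.AtPrime p) ∧ IsIntegrallyClosed (Localization.AtPrime p)) :
    Pi1.IsNormalScheme (Spec (CommRingCat.of B)) := by
  intro y
  let y' : PrimeSpectrum B := y
  have hy' : y'.asIdeal.IsPrime := y'.2
  have h1 : IsLocalization.AtPrime ((Spec.structureSheaf B).presheaf.stalk y') y'.asIdeal :=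
    StructureSheaf.IsLocalization.to_stalk B y'
  let e : Localization.AtPrime y'.asIdeal ≃ₐ[B] (Spec.structureSheaf B).presheaf.stalk y' :=
    IsLocalization.algEquiv y'.asIdeal.primeCompl _ _
  obtain ⟨hd, hic⟩ := h y'.asIdeal
  have h2 : IsDomain ((Spec.structureSheaf B).presheaf.stalk y') :=
    e.symm.toRingEquiv.toMulEquiv.isDomain (Localization.AtPrime y'.asIdeal)
  have h3 : IsIntegrallyClosed ((Spec.structureSheaf B).presheaf.stalk y') :=
    IsIntegrallyClosed.of_equiv e.toRingEquiv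
  exact ⟨h2, h3⟩

/-- `Spec` of a normal domain is a normal scheme. -/
theorem isNormalScheme_Spec_of_isIntegrallyClosed (B : Type u) [CommRing B] [IsDomain B]
    [IsIntegrallyClosed B] : Pi1.IsNormalScheme (Spec (CommRingCat.of B)) := by
  refine isNormalScheme_Spec B fun p _ => ⟨?_, ?_⟩
  · exact IsLocalization.isDomain_of_le_nonZeroDivisors _ p.primeCompl_le_nonZeroDivisors
  · exact isIntegrallyClosed_of_isLocalization _ p.primeCompl p.primeCompl_le_nonZeroDivisors


section Extend

open Groth.Agent.Lib.Helper70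

variable (R : Type u) [CommRing R] [IsDedekindDomain R]

/-- Local step: over an affine open `U` of `X` (flat over `Spec R`) whose ring of sections is a
normal domain, a section over the generic fibre which is integral over `R` comes from `U`. -/
theorem exists_app_eq_of_isIntegralElem {X P : Scheme.{u}} (f : X ⟶ Spec (CommRingCat.of R))
    (d : P ⟶ X) (s : P ⟶ Spec (CommRingCat.of (FractionRing R)))
    (H : IsPullback d s f (Neron.genPt R))
    (σ : Γ(P, ⊤)) (hσ : ((d ≫ f).appTop.hom).IsIntegralElem σ)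
    (U : X.Opens) (hU : IsAffineOpen U) (hinj : Function.Injective (d.app U))
    [IsDomain Γ(X, U)] [IsIntegrallyClosed Γ(X, U)] :
    ∃ τ : Γ(X, U), d.app U τ = P.presheaf.map (homOfLE le_top).op σ := by
  let Y : Scheme.{u} := Spec (CommRingCat.of R)
  obtain ⟨ψ, hψ, h⟩ := NeronClosA.exists_iso_fromSpecStalk R
  have sq : IsPullback (Spec.map ψ) (Neron.genPt R) (Y.fromSpecStalk (genericPoint Y)) (𝟙 Y) :=
    IsPullback.of_horiz_isIso ⟨by rw [h, Category.comp_id]⟩
  have H2 := (H.flip.paste_horiz sq).flip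
  rw [Category.comp_id] at H2
  have hη : genericPoint Y ∈ (⊤ : Y.Opens) := trivial
  have hUtop : U ≤ f ⁻¹ᵁ ⊤ := by rw [Scheme.Hom.preimage_top]; exact le_top
  have hloc := GenFibE.isLocalization_sections' (Y.fromSpecStalk (genericPoint Y)) f d
    (s ≫ Spec.map ψ) H2 (isAffineOpen_top Y) ⟨⟨genericPoint Y, hη⟩⟩
    (GenFibE.top_le_preimage_fromSpecStalk hη)
    (GenFibE.isFractionRing_stalk_generic (isAffineOpen_top Y) hη) hU hUtop
  obtain ⟨a, ha, b, hab⟩ := hloc.1 (P.presheaf.map (homOfLE le_top).op σ)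
  -- the image of `a` is a unit
  have hgen : ∀ w : P, (d ≫ f).base w = genericPoint Y := by
    intro w
    rw [H.w]
    exact NeronClosA.genPt_apply R (s w)
  have hunit0 : IsUnit ((d ≫ f).app ⊤ a) := GenFibA.isUnit_app_of_generic (d ≫ f) hgen a ha
  have h1 : f.appLE ⊤ U hUtop ≫ d.app U =
      (d ≫ f).appTop ≫ P.presheaf.map (homOfLE (le_top : d ⁻¹ᵁ U ≤ ⊤)).op := by
    rw [Scheme.Hom.app_eq_appLE, Scheme.Hom.appLE_comp_appLE]
    rfl
  have hcomp : ∀ r : Γ(Y, ⊤), d.app U (f.appLE ⊤ U hUtop r) =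
      P.presheaf.map (homOfLE (le_top : d ⁻¹ᵁ U ≤ ⊤)).op ((d ≫ f).appTop r) := fun r =>
    congr($(h1) r)
  have hunit : IsUnit (d.app U (f.appLE ⊤ U hUtop a)) := by
    rw [hcomp]
    exact hunit0.map _
  -- integrality
  have hint : ((d.app U).hom).IsIntegralElem (P.presheaf.map (homOfLE le_top).op σ) := by
    obtain ⟨p, hp, hpσ⟩ := hσ
    refine ⟨p.map (f.appLE ⊤ U hUtop).hom, hp.map _, ?_⟩
    rw [Polynomial.eval₂_map]
    have h2 : (d.app U).hom.comp (f.appLE ⊤ U hUtop).hom =
        (P.presheaf.map (homOfLE (le_top : d ⁻¹ᵁ U ≤ ⊤)).op).hom.comp (d ≫ f).appTop.hom := by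
      ext r
      exact hcomp r
    rw [h2]
    have h3 := Polynomial.hom_eval₂ p (d ≫ f).appTop.hom
      (P.presheaf.map (homOfLE (le_top : d ⁻¹ᵁ U ≤ ⊤)).op).hom σ
    rw [hpσ, map_zero] at h3
    exact h3.symm
  exact exists_of_isIntegralElem_of_mul_eq (d.app U).hom hinj _ hint _ b hunit hab

/-- Let `X` be smooth over the Dedekind domain `R` and `P` its generic fibre. A global section of
`P` which is integral over `R` extends to a global section of `X`. -/
theorem exists_appTop_eq_of_isIntegralElem {X P : Scheme.{u}} (f : X ⟶ Spec (CommRingCat.of R))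
    [Smooth f] (d : P ⟶ X) (s : P ⟶ Spec (CommRingCat.of (FractionRing R)))
    (H : IsPullback d s f (Neron.genPt R))
    (σ : Γ(P, ⊤)) (hσ : ((d ≫ f).appTop.hom).IsIntegralElem σ) :
    ∃ τ : Γ(X, ⊤), d.appTop τ = σ := by
  have hker : d.ker = ⊥ := NeronClosA.ker_eq_bot_of_isPullback_genPt R f d s H
  have hqc : QuasiCompact d :=
    MorphismProperty.of_isPullback (P := @QuasiCompact) H.flip inferInstance
  have hinj := app_injective_of_ker_eq_bot d hker
  have hS : Pi1.IsNormalScheme (Spec (CommRingCat.of R)) :=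
    isNormalScheme_Spec_of_isIntegrallyClosed R
  have hXN : Pi1.IsNormalScheme X := AlignedEtale.isNormalScheme_of_smooth f hS
  have hXloc : IsLocallyNoetherian X := LocallyOfFiniteType.isLocallyNoetherian f
  refine exists_appTop_eq_of_locally d hinj σ fun x => ?_
  obtain ⟨N, hxN, hNirr⟩ := NeronFin.exists_irreducible_open_nhd (fun x => (hXN x).1) x
  obtain ⟨_, ⟨U, hU, rfl⟩, hxU, hUN⟩ :=
    X.isBasis_affineOpens.exists_subset_of_mem_open hxN N.isOpen
  have hUirr : IsIrreducible (U : Set X) :=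
    ⟨⟨x, hxU⟩, hNirr.isPreirreducible.open_subset U.isOpen hUN⟩
  obtain ⟨hdom, hic⟩ := RelNorm.isNormalDomain_sections_of_isIrreducible hXN U hUirr
  obtain ⟨τ, hτ⟩ := exists_app_eq_of_isIntegralElem R f d s H σ hσ U hU (hinj U)
  exact ⟨U, hxU, τ, hτ⟩

end Extend

end Groth.Agent.Lib.Helper24.NeronFEt
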