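import Mathlib
import Groth.Prelude.Def_Neron
import Groth.Agent.Lib.Helper24.NeronFEtB
import Groth.Agent.Lib.Helper24.NeronFinA
import Groth.Agent.S4997

/-!
# The Néron model of `Spec C`, `C` finite étale over the fraction field of a Dedekind domain
(helper24)
-/

set_option autoImplicit false
set_option linter.unusedSectionVars false
universe u
open CategoryTheory AlgebraicGeometry Limits TopologicalSpace Opposite

namespace Groth.Agent.Lib.Helper24.NeronFEt

/-- The stalk map of `Spec B ⟶ Spec R` at `q` is formally smooth if `B_q` is formally smooth over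
`R`. -/
theorem formallySmooth_stalkMap_SpecMap {R B : Type u} [CommRing R] [CommRing B] [Algebra R B]
    (q : PrimeSpectrum B) (h : Algebra.FormallySmooth R (Localization.AtPrime q.asIdeal)) :
    ((Spec.map (CommRingCat.ofHom (algebraMap R B))).stalkMap q).hom.FormallySmooth := by
  rw [RingHom.FormallySmooth.respectsIso.arrow_mk_iso_iff
    (Scheme.arrowStalkMapSpecIso (CommRingCat.ofHom (algebraMap R B)) q)]
  let p : Ideal R := q.asIdeal.comap (algebraMap R B)
  have hp : p.IsPrime := Ideal.IsPrime.comap _
  have : q.asIdeal.LiesOver p := ⟨rfl⟩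
  let _ := Localization.AtPrime.algebraOfLiesOver p q.asIdeal
  have h2 : Algebra.FormallySmooth (Localization.AtPrime p) (Localization.AtPrime q.asIdeal) :=
    (Algebra.FormallySmooth.iff_restrictScalars (R := R)).mp h
  exact h2

section Construction

variable (R : Type u) [CommRing R] [IsDedekindDomain R]
variable (C : Type u) [CommRing C] [Algebra (FractionRing R) C] [Algebra R C]
  [IsScalarTower R (FractionRing R) C] [Module.Finite (FractionRing R) C]
  [Algebra.Etale (FractionRing R) C]

/-- The normalization of `Spec R` in `Spec C`. -/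
noncomputable abbrev normT : Scheme.{u} := Spec (CommRingCat.of (integralClosure R C))

/-- The structure morphism of the normalization. -/
noncomputable abbrev normπ : normT R C ⟶ Spec (CommRingCat.of R) :=
  Spec.map (CommRingCat.ofHom (algebraMap R (integralClosure R C)))

/-- The map from `Spec C` to the normalization. -/
noncomputable abbrev normt : Spec (CommRingCat.of C) ⟶ normT R C :=
  Spec.map (CommRingCat.ofHom (algebraMap (integralClosure R C) C))

/-- The structure morphism of `Spec C` over the fraction field. -/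
noncomputable abbrev specγ : Spec (CommRingCat.of C) ⟶ Spec (CommRingCat.of (FractionRing R)) :=
  Spec.map (CommRingCat.ofHom (algebraMap (FractionRing R) C))

instance isFinite_normπ : IsFinite (normπ R C) := by
  rw [IsFinite.SpecMap_iff]
  have : Module.Finite R (integralClosure R C) := finite_integralClosure (K := FractionRing R)
  exact RingHom.finite_algebraMap.mpr this

instance : LocallyOfFinitePresentation (normπ R C) := inferInstance

theorem isNormalScheme_normT : Pi1.IsNormalScheme (normT R C) :=
  isNormalScheme_Spec _ fun p _ =>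
    isNormalDomain_localization_integralClosure (K := FractionRing R) p

instance : IsLocallyNoetherian (normT R C) :=
  LocallyOfFiniteType.isLocallyNoetherian (normπ R C)

theorem isPullback_normt :
    IsPullback (normt R C) (specγ R C) (normπ R C) (Neron.genPt R) := by
  have : Algebra.IsIntegral (FractionRing R) C := inferInstance
  have hloc : IsLocalization
      (Algebra.algebraMapSubmonoid (integralClosure R C) (nonZeroDivisors R)) C :=
    isLocalization_integralClosure (K := FractionRing R)
  have hloc' : IsLocalization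
      ((nonZeroDivisors R).map (algebraMap R (integralClosure R C))) C := hloc
  have hpo := CommRingCat.isPushout_of_isLocalization (algebraMap R (integralClosure R C))
    (algebraMap (FractionRing R) C) (by
      ext r
      simp only [RingHom.comp_apply]
      rw [← IsScalarTower.algebraMap_apply R (FractionRing R) C,
        ← IsScalarTower.algebraMap_apply R (integralClosure R C) C]) (nonZeroDivisors R)
  exact isPullback_SpecMap_of_isPushout _ _ _ _ hpo

theorem normt_mem_smoothLocus (x : Spec (CommRingCat.of C)) :
    (normt R C) x ∈ (normπ R C).smoothLocus := by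
  rw [Scheme.Hom.mem_smoothLocus]
  have : Algebra.IsIntegral (FractionRing R) C := inferInstance
  have hloc : IsLocalization
      (Algebra.algebraMapSubmonoid (integralClosure R C) (nonZeroDivisors R)) C :=
    isLocalization_integralClosure (K := FractionRing R)
  let x' : PrimeSpectrum C := x
  have hx' : x'.asIdeal.IsPrime := x'.2
  have h1 := formallySmooth_localization_comap (A := R) (K := FractionRing R) (C := C)
    (B := integralClosure R C) x'.asIdeal
  exact formallySmooth_stalkMap_SpecMap ((normt R C) x) h1

end Construction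

section AffineTarget

/-- A morphism to an affine scheme is determined by its global sections. -/
theorem eq_toSpecΓ_comp {P : Scheme.{u}} {A : CommRingCat.{u}} (v : P ⟶ Spec A) :
    v = P.toSpecΓ ≫ Spec.map ((Scheme.ΓSpecIso A).inv ≫ v.appTop) := by
  rw [Spec.map_comp, ← Category.assoc, ← Scheme.toSpecΓ_naturality, Category.assoc,
    toSpecΓ_SpecMap_ΓSpecIso_inv, Category.comp_id]

/-- If `d.appTop` is injective then `d` is an epimorphism with respect to affine targets. -/
theorem eq_of_comp_eq_of_appTop_injective {P X Z : Scheme.{u}} [IsAffine Z] (d : P ⟶ X)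
    (hd : Function.Injective d.appTop) (f₁ f₂ : X ⟶ Z) (h : d ≫ f₁ = d ≫ f₂) : f₁ = f₂ := by
  apply ext_of_isAffine
  have h1 : f₁.appTop ≫ d.appTop = f₂.appTop ≫ d.appTop := by
    rw [← Scheme.Hom.comp_appTop, ← Scheme.Hom.comp_appTop, h]
  ext r
  apply hd
  exact congr($(h1) r)

/-- Extending a morphism to an affine scheme along `d`, when the needed sections extend. -/
theorem exists_lift_Spec {P X : Scheme.{u}} (d : P ⟶ X) (hd : Function.Injective d.appTop)
    {A B : CommRingCat.{u}} (i : B ⟶ A) (v : P ⟶ Spec A)
    (hrange : ∀ b : B, ∃ τ : Γ(X, ⊤), d.appTop τ = v.appTop ((Scheme.ΓSpecIso A).inv (i b))) :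
    ∃ g : X ⟶ Spec B, d ≫ g = v ≫ Spec.map i := by
  let ρ : Γ(X, ⊤) →+* Γ(P, ⊤) := d.appTop.hom
  let φ : B →+* Γ(P, ⊤) := (i ≫ (Scheme.ΓSpecIso A).inv ≫ v.appTop).hom
  have hφ : ∀ b, φ b ∈ ρ.range := fun b => by
    obtain ⟨τ, hτ⟩ := hrange b
    exact ⟨τ, hτ⟩
  let e : Γ(X, ⊤) ≃+* ρ.range :=
    RingEquiv.ofBijective ρ.rangeRestrict
      ⟨fun x y hxy => hd (congrArg Subtype.val hxy), ρ.rangeRestrict_surjective⟩
  let ψ : B →+* Γ(X, ⊤) := e.symm.toRingHom.comp (φ.codRestrict ρ.range hφ)
  have hψ : ∀ b, ρ (ψ b) = φ b := by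
    intro b
    have h1 : e (ψ b) = φ.codRestrict ρ.range hφ b := e.apply_symm_apply _
    exact congrArg Subtype.val h1
  refine ⟨X.toSpecΓ ≫ Spec.map (CommRingCat.ofHom ψ), ?_⟩
  have h2 : CommRingCat.ofHom ψ ≫ d.appTop = i ≫ (Scheme.ΓSpecIso A).inv ≫ v.appTop := by
    ext b
    exact hψ b
  calc d ≫ X.toSpecΓ ≫ Spec.map (CommRingCat.ofHom ψ)
      = P.toSpecΓ ≫ Spec.map d.appTop ≫ Spec.map (CommRingCat.ofHom ψ) := by
        rw [← Category.assoc, Scheme.toSpecΓ_naturality, Category.assoc]
    _ = P.toSpecΓ ≫ Spec.map (i ≫ (Scheme.ΓSpecIso A).inv ≫ v.appTop) := by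
        rw [← Spec.map_comp, h2]
    _ = v ≫ Spec.map i := by
        conv_rhs => rw [eq_toSpecΓ_comp v]
        rw [Category.assoc, ← Spec.map_comp]

end AffineTarget

section Neron

variable (R : Type u) [CommRing R] [IsDedekindDomain R]
variable (C : Type u) [CommRing C] [Algebra (FractionRing R) C] [Algebra R C]
  [IsScalarTower R (FractionRing R) C] [Module.Finite (FractionRing R) C]
  [Algebra.Etale (FractionRing R) C]

/-- The Néron model of `Spec C`: the smooth locus of the normalization. -/
noncomputable abbrev neronN : Over (Spec (CommRingCat.of R)) :=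
  Over.mk ((normπ R C).smoothLocus.ι ≫ normπ R C)

theorem range_normt_subset :
    Set.range (normt R C) ⊆ Set.range (normπ R C).smoothLocus.ι := by
  rw [Scheme.Opens.range_ι]
  rintro _ ⟨x, rfl⟩
  exact normt_mem_smoothLocus R C x

/-- The inclusion of `Spec C` into its Néron model. -/
noncomputable def neronA : Spec (CommRingCat.of C) ⟶ (neronN R C).left :=
  IsOpenImmersion.lift (normπ R C).smoothLocus.ι (normt R C) (range_normt_subset R C)

theorem neronA_ι : neronA R C ≫ (normπ R C).smoothLocus.ι = normt R C :=
  IsOpenImmersion.lift_fac _ _ _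

theorem isPullback_neronA :
    IsPullback (neronA R C) (specγ R C) (neronN R C).hom (Neron.genPt R) := by
  have h1 : IsPullback (neronA R C) (𝟙 _) (normπ R C).smoothLocus.ι (normt R C) :=
    IsPullback.of_vert_isIso_mono ⟨by rw [neronA_ι, Category.id_comp]⟩
  have h2 := h1.paste_vert (isPullback_normt R C)
  rw [Category.id_comp] at h2
  exact h2

instance smooth_neronN : Smooth (neronN R C).hom := by
  show Smooth ((normπ R C).smoothLocus.ι ≫ normπ R C)
  rw [← Scheme.Hom.smoothLocus_eq_top_iff, ← Scheme.Hom.preimage_smoothLocus_eq]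
  exact top_le_iff.mp (fun x _ => x.2)

instance : IsSeparated (neronN R C).hom :=
  inferInstanceAs (IsSeparated ((normπ R C).smoothLocus.ι ≫ normπ R C))

instance : QuasiCompact (neronN R C).hom :=
  inferInstanceAs (QuasiCompact ((normπ R C).smoothLocus.ι ≫ normπ R C))

instance : LocallyQuasiFinite (neronN R C).hom :=
  inferInstanceAs (LocallyQuasiFinite ((normπ R C).smoothLocus.ι ≫ normπ R C))

instance : Etale (neronN R C).hom :=
  (Groth.Agent.S4997.result _).mpr ⟨inferInstance, inferInstance⟩

end Neron

section Extension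

variable (R : Type u) [CommRing R] [IsDedekindDomain R]
variable (C : Type u) [CommRing C] [Algebra (FractionRing R) C] [Algebra R C]
  [IsScalarTower R (FractionRing R) C] [Module.Finite (FractionRing R) C]
  [Algebra.Etale (FractionRing R) C]

theorem specγ_genPt :
    specγ R C ≫ Neron.genPt R = Spec.map (CommRingCat.ofHom (algebraMap R C)) := by
  rw [← Spec.map_comp, ← CommRingCat.ofHom_comp, ← IsScalarTower.algebraMap_eq]

/-- Existence part of the Néron mapping property. -/
theorem exists_extension {X P : Scheme.{u}} (f : X ⟶ Spec (CommRingCat.of R)) [Smooth f]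
    (d : P ⟶ X) (s : P ⟶ Spec (CommRingCat.of (FractionRing R)))
    (H : IsPullback d s f (Neron.genPt R)) (v : P ⟶ Spec (CommRingCat.of C))
    (hv : v ≫ specγ R C = s) :
    ∃ g : X ⟶ (neronN R C).left, g ≫ (neronN R C).hom = f ∧ d ≫ g = v ≫ neronA R C := by
  open Groth.Agent.Lib.Helper70 in
  have hker : d.ker = ⊥ := NeronClosA.ker_eq_bot_of_isPullback_genPt R f d s H
  have hqc : QuasiCompact d :=
    MorphismProperty.of_isPullback (P := @QuasiCompact) H.flip inferInstance
  have hinj : Function.Injective d.appTop := app_injective_of_ker_eq_bot d hker ⊤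
  have hcomp : d ≫ f = v ≫ Spec.map (CommRingCat.ofHom (algebraMap R C)) := by
    rw [H.w, ← hv, Category.assoc, specγ_genPt]
  -- the ring map `R → Γ(P, ⊤)` in two ways
  have hR : (Scheme.ΓSpecIso (CommRingCat.of R)).inv ≫ (d ≫ f).appTop =
      CommRingCat.ofHom (algebraMap R C) ≫ (Scheme.ΓSpecIso (CommRingCat.of C)).inv ≫
        v.appTop := by
    rw [hcomp, Scheme.Hom.comp_appTop, ← Category.assoc, ← Scheme.ΓSpecIso_inv_naturality,
      Category.assoc]
  -- sections coming from the integral closure extend
  have hrange : ∀ b : CommRingCat.of (integralClosure R C), ∃ τ : Γ(X, ⊤),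
      d.appTop τ = v.appTop ((Scheme.ΓSpecIso (CommRingCat.of C)).inv
        ((CommRingCat.ofHom (algebraMap (integralClosure R C) C)) b)) := by
    intro b
    refine exists_appTop_eq_of_isIntegralElem R f d s H _ ?_
    obtain ⟨p, hp, hpb⟩ := (b : integralClosure R C).2
    let φ : C →+* Γ(P, ⊤) := ((Scheme.ΓSpecIso (CommRingCat.of C)).inv ≫ v.appTop).hom
    refine ⟨p.map (Scheme.ΓSpecIso (CommRingCat.of R)).inv.hom, hp.map _, ?_⟩
    rw [Polynomial.eval₂_map]
    have h1 : (d ≫ f).appTop.hom.comp (Scheme.ΓSpecIso (CommRingCat.of R)).inv.hom =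
        φ.comp (algebraMap R C) := congrArg CommRingCat.Hom.hom hR
    rw [h1]
    have h2 := Polynomial.hom_eval₂ p (algebraMap R C) φ ((b : integralClosure R C) : C)
    rw [hpb, map_zero] at h2
    exact h2.symm
  obtain ⟨gT, hgT⟩ := exists_lift_Spec d hinj
    (CommRingCat.ofHom (algebraMap (integralClosure R C) C)) v hrange
  have hgTπ : gT ≫ normπ R C = f := by
    refine eq_of_comp_eq_of_appTop_injective d hinj _ _ ?_
    rw [← Category.assoc, hgT, Category.assoc, hcomp]
    congr 1
    rw [← Spec.map_comp, ← CommRingCat.ofHom_comp, ← IsScalarTower.algebraMap_eq]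
  have hr : Set.range gT ⊆ Set.range (normπ R C).smoothLocus.ι := by
    rw [Scheme.Opens.range_ι]
    rintro _ ⟨z, rfl⟩
    exact NeronFin.mem_smoothLocus_of_smooth_source (normπ R C) (isNormalScheme_normT R C) f gT
      hgTπ z
  refine ⟨IsOpenImmersion.lift (normπ R C).smoothLocus.ι gT hr, ?_, ?_⟩
  · show IsOpenImmersion.lift _ gT hr ≫ (normπ R C).smoothLocus.ι ≫ normπ R C = f
    rw [← Category.assoc, IsOpenImmersion.lift_fac, hgTπ]
  · rw [← cancel_mono (normπ R C).smoothLocus.ι, Category.assoc, Category.assoc,
      IsOpenImmersion.lift_fac, neronA_ι, hgT]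

end Extension

end Groth.Agent.Lib.Helper24.NeronFEt
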