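import Mathlib
import Groth.Prelude.Def_Neron
import Groth.Agent.Lib.Helper24.NeronFEtC
import Groth.Agent.S18498

/-!
# Néron models of finite étale schemes over the fraction field of a Dedekind domain (helper24)
-/

set_option autoImplicit false
universe u
open CategoryTheory AlgebraicGeometry Limits TopologicalSpace Opposite

namespace Groth.Agent.Lib.Helper24.NeronFEt

variable (R : Type u) [CommRing R] [IsDedekindDomain R]

/-- Néron model for `Spec C`, `C` a finite étale algebra over the fraction field. -/
theorem exists_neron_Spec (C : Type u) [CommRing C] [Algebra (FractionRing R) C] [Algebra R C]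
    [IsScalarTower R (FractionRing R) C] [Module.Finite (FractionRing R) C]
    [Algebra.Etale (FractionRing R) C] :
    ∃ (N : Over (Spec (CommRingCat.of R)))
      (e : (Neron.genericFibre R).obj N ≅ Over.mk (specγ R C)),
      Neron.IsNeronModelOf R N (Over.mk (specγ R C)) e ∧ Etale N.hom ∧
        LocallyQuasiFinite N.hom := by
  have hPB := isPullback_neronA R C
  let e : (Neron.genericFibre R).obj (neronN R C) ≅ Over.mk (specγ R C) :=
    Over.isoMk hPB.isoPullback.symm hPB.isoPullback_inv_snd
  refine ⟨neronN R C, e, ⟨inferInstance, inferInstance, inferInstance, inferInstance, ?_⟩,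
    inferInstance, inferInstance⟩
  intro Y hY
  constructor
  · intro g₁ g₂ h
    have h' : (Neron.genericFibre R).map g₁ = (Neron.genericFibre R).map g₂ :=
      (cancel_mono e.hom).mp h
    exact Groth.Agent.S18498.result R Y (neronN R C) g₁ g₂ h'
  · intro u
    let d := pullback.fst Y.hom (Neron.genPt R)
    let s := pullback.snd Y.hom (Neron.genPt R)
    have H : IsPullback d s Y.hom (Neron.genPt R) := IsPullback.of_hasPullback _ _
    have hv : u.left ≫ specγ R C = s := Over.w u
    obtain ⟨g, hg1, hg2⟩ := exists_extension R C Y.hom d s H u.left hv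
    refine ⟨Over.homMk g hg1, ?_⟩
    have hmap : ((Neron.genericFibre R).map (Over.homMk g hg1 : Y ⟶ neronN R C)).left =
        u.left ≫ hPB.isoPullback.hom := by
      apply pullback.hom_ext
      · refine (pullback.lift_fst _ _ _).trans (hg2.trans ?_)
        rw [Category.assoc, hPB.isoPullback_hom_fst]
      · refine (pullback.lift_snd _ _ _).trans (hv.symm.trans ?_)
        rw [Category.assoc, hPB.isoPullback_hom_snd]
    apply Over.OverMorphism.ext
    rw [Over.comp_left, hmap]
    have he : e.hom.left = hPB.isoPullback.inv := rfl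
    rw [he, Category.assoc, Iso.hom_inv_id, Category.comp_id]

/-- Néron model of a finite étale scheme over the fraction field. -/
theorem exists_neron_of_finite_etale (G : Over (Spec (CommRingCat.of (FractionRing R))))
    [IsFinite G.hom] [Etale G.hom] :
    ∃ (N : Over (Spec (CommRingCat.of R))) (e : (Neron.genericFibre R).obj N ≅ G),
      Neron.IsNeronModelOf R N G e ∧ Etale N.hom ∧ LocallyQuasiFinite N.hom := by
  have : IsAffine G.left := isAffine_of_isAffineHom G.hom
  let C : Type u := Γ(G.left, ⊤)
  let φ : CommRingCat.of (FractionRing R) ⟶ Γ(G.left, ⊤) :=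
    (Scheme.ΓSpecIso _).inv ≫ G.hom.appTop
  let _ : Algebra (FractionRing R) C := φ.hom.toAlgebra
  let _ : Algebra R C := (φ.hom.comp (algebraMap R (FractionRing R))).toAlgebra
  have : IsScalarTower R (FractionRing R) C := IsScalarTower.of_algebraMap_eq fun _ => rfl
  have hG : G.hom = G.left.isoSpec.hom ≫ Spec.map φ := eq_toSpecΓ_comp G.hom
  have hfin : IsFinite (Spec.map φ) := by
    have h1 : IsFinite (G.left.isoSpec.hom ≫ Spec.map φ) := hG ▸ ‹IsFinite G.hom›
    exact (MorphismProperty.cancel_left_of_respectsIso (P := @IsFinite) G.left.isoSpec.hom _).mp h1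
  have het : Etale (Spec.map φ) := by
    have h1 : Etale (G.left.isoSpec.hom ≫ Spec.map φ) := hG ▸ ‹Etale G.hom›
    exact (MorphismProperty.cancel_left_of_respectsIso (P := @Etale) G.left.isoSpec.hom _).mp h1
  have : Module.Finite (FractionRing R) C := (IsFinite.SpecMap_iff φ).mp hfin
  have : Algebra.Etale (FractionRing R) C := (HasRingHomProperty.Spec_iff (P := @Etale)).mp het
  obtain ⟨N, e', ⟨h1, h2, h3, h4, h5⟩, hNet, hNqf⟩ := exists_neron_Spec R C
  have hφ : specγ R C = Spec.map φ := rfl
  let isoG : G ≅ Over.mk (specγ R C) := Over.isoMk G.left.isoSpec (by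
    show G.left.isoSpec.hom ≫ specγ R C = G.hom
    rw [hφ, ← hG])
  refine ⟨N, e' ≪≫ isoG.symm, ⟨h1, h2, h3, h4, fun Y hY => ?_⟩, hNet, hNqf⟩
  have hb : Function.Bijective (fun x : (Neron.genericFibre R).obj Y ⟶ Over.mk (specγ R C) =>
      x ≫ isoG.inv) :=
    ⟨fun a b h => (cancel_mono isoG.inv).mp h, fun y => ⟨y ≫ isoG.hom, by simp⟩⟩
  have := hb.comp (h5 Y hY)
  convert this using 2
  simp [Function.comp]


end Groth.Agent.Lib.Helper24.NeronFEt
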