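import Mathlib
import Groth.Prelude.Def_CInt
import Groth.Agent.Lib.Helper47.FibrePoints
import Groth.Agent.S0413
import Groth.Agent.Lib.Helper24.NeronUniqA

set_option autoImplicit false
universe u
open CategoryTheory AlgebraicGeometry Limits

namespace Groth.Agent.Lib.Helper24.NeronUniq

theorem main {k : Type u} [Field k] [CharZero k] {S : Scheme.{u}}
    (σ : S ⟶ Spec (CommRingCat.of k)) [IsLocallyNoetherian S] (S₀ : S.Opens)
    (hS₀ : CInt.IsSchematicallyDense S₀) (N : Over S)
    (hN : ∀ U : Over S, Etale U.hom →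
      Function.Injective (fun g : U ⟶ N => (Over.pullback S₀.ι).map g))
    (Z : Over S) [Smooth Z.hom] :
    Function.Injective (fun g : Z ⟶ N => (Over.pullback S₀.ι).map g) := by
  intro g g' hgg'
  have hgg : (Over.pullback S₀.ι).map g = (Over.pullback S₀.ι).map g' := hgg'
  have hj : pullback.fst Z.hom S₀.ι ≫ g.left = pullback.fst Z.hom S₀.ι ≫ g'.left := by
    have key : ∀ φ : Z ⟶ N, ((Over.pullback S₀.ι).map φ).left ≫ pullback.fst N.hom S₀.ι =
        pullback.fst Z.hom S₀.ι ≫ φ.left := by
      intro φ
      change CommaMorphism.left ((Over.pullback S₀.ι).map φ) ≫ _ = _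
      rw [Over.pullback_map_left]
      exact pullback.lift_fst _ _ _
    rw [← key g, ← key g', hgg]
  have hinj : ∀ V : Z.left.Opens, Function.Injective ((pullback.fst Z.hom S₀.ι).app V) :=
    app_injective_pullback_fst S₀ hS₀ Z.hom
  -- pointwise agreement at points closed in their fibre
  have hpt : ∀ z : Z.left, IsClosed ({Z.hom.asFiber z} : Set (Z.hom.fiber (Z.hom z))) →
      g.left z = g'.left z := by
    intro z hcl
    have hfin := (Helper47.isClosed_singleton_asFiber_iff_finite Z.hom z).mp hcl
    have := charZero_residueField σ (Z.hom z)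
    have hsep := isSeparable_of_finite_of_charZero _ hfin
    obtain ⟨U, i, u, -, hEt, hiu, -⟩ := Groth.Agent.S0413.result Z.hom z hcl hsep
    let U' : Over S := Over.mk (i ≫ Z.hom)
    let τ : U' ⟶ Z := Over.homMk i rfl
    have hτ : τ ≫ g = τ ≫ g' := by
      apply hN U' hEt
      change (Over.pullback S₀.ι).map (τ ≫ g) = (Over.pullback S₀.ι).map (τ ≫ g')
      rw [Functor.map_comp, Functor.map_comp, hgg]
    have h1 : i ≫ g.left = i ≫ g'.left := congrArg (fun φ => φ.left) hτ
    have h2 := congrArg (fun φ : U ⟶ N.left => φ u) h1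
    simpa [hiu] using h2
  -- agreement everywhere
  have hall : ∀ z : Z.left, g.left z = g'.left z := by
    by_contra hne
    push Not at hne
    obtain ⟨z₀, hz₀⟩ := hne
    have hD : IsClosed {z : Z.left | g.left z ≠ g'.left z} := by
      rw [← isOpen_compl_iff, isOpen_iff_forall_mem_open]
      intro z hz
      have hz' : g.left z = g'.left z := by simpa using hz
      obtain ⟨V, hzV, hV⟩ := exists_open_eq_of_app_injective _ hinj g.left g'.left hj z hz'
      refine ⟨V, ?_, V.2, hzV⟩
      intro v hv
      have h3 := congrArg (fun φ : V.toScheme ⟶ N.left => φ ⟨v, hv⟩) hV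
      simp only [Set.mem_compl_iff, Set.mem_ofPred_eq, not_not]
      exact h3
    obtain ⟨z, hzD, hcl⟩ := exists_mem_isClosed_asFiber Z.hom _ hD z₀ hz₀
    exact hzD (hpt z hcl)
  apply Over.OverMorphism.ext
  exact Scheme.hom_ext_of_forall _ _ fun z =>
    exists_open_eq_of_app_injective _ hinj g.left g'.left hj z (hall z)

end Groth.Agent.Lib.Helper24.NeronUniq
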