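/-
Helper library (helper24): a sheaf of differentials `(Ω', d)` (universal derivation) of a morphism
`f : X ⟶ Y` is, near a smooth point `x`, free of rank the local dimension at `x` of the fibre
of `f` through `x`.
-/
import Mathlib
import Groth.Agent.Lib.Helper51.OmegaUniv.Sections
import Groth.Agent.Lib.Helper45.FreeMod
import Groth.Agent.H52.SmoothDim
import Groth.Agent.S7408
import Groth.Agent.S2768

set_option autoImplicit false
universe u
open CategoryTheory CategoryTheory.Limits AlgebraicGeometry TopologicalSpace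


namespace Groth.Agent.Lib.Helper24

/-- A chart of `f` which is standard smooth of relative dimension `n` computes the local fibre
dimension of `f` at the points of the chart. -/
theorem fibreDimAt_eq_of_chart_isStandardSmoothOfRelativeDimension {X Y : Scheme.{u}} (f : X ⟶ Y)
    {V₀ : Y.Opens} (hV₀ : IsAffineOpen V₀) {U₀ : X.Opens} (hU₀ : IsAffineOpen U₀)
    (e : U₀ ≤ f ⁻¹ᵁ V₀) (n : ℕ)
    (hn : (f.appLE V₀ U₀ e).hom.IsStandardSmoothOfRelativeDimension n) (x : X) (hu : x ∈ U₀) :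
    FlatMor.fibreDimAt f x = (n : WithBot ℕ∞) := by
  have : IsAffine (U₀ : Scheme.{u}) := hU₀
  have : IsAffine (V₀ : Scheme.{u}) := hV₀
  have hg : SmoothOfRelativeDimension n (f.resLE V₀ U₀ e) := by
    rw [HasRingHomProperty.iff_of_isAffine (P := @SmoothOfRelativeDimension n)]
    apply RingHom.locally_of RingHom.isStandardSmoothOfRelativeDimension_respectsIso
    change ((f.resLE V₀ U₀ e).app ⊤).hom.IsStandardSmoothOfRelativeDimension _
    rw [Scheme.Hom.resLE_app_top]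
    have hri := RingHom.isStandardSmoothOfRelativeDimension_respectsIso (n := n)
    exact hri.2 _ V₀.topIso.commRingCatIsoToRingEquiv
      (hri.1 _ U₀.topIso.symm.commRingCatIsoToRingEquiv hn)
  have key := Groth.Agent.S7408.result f (f.resLE V₀ U₀ e) U₀.ι V₀.ι
    (Scheme.Hom.resLE_comp_ι f e) ⟨x, hu⟩
  have key2 := Groth.Agent.S2768.result n (f.resLE V₀ U₀ e) ⟨x, hu⟩
  rw [← key2, ← key]
  rfl

/-- On a chart of `f` which is standard smooth of relative dimension `n`, a sheaf of differentials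
of `f` is free of rank `n`. -/
theorem nonempty_restrict_iso_freeMod_of_chart {X Y : Scheme.{u}} (f : X ⟶ Y)
    (Ω' : X.Modules) (d : OmegaSh.Der f Ω') (hd : OmegaSh.IsUniversal d)
    {V₀ : Y.Opens} (hV₀ : IsAffineOpen V₀) {U₀ : X.Opens} (hU₀ : IsAffineOpen U₀)
    (e : U₀ ≤ f ⁻¹ᵁ V₀) (n : ℕ)
    (hn : (f.appLE V₀ U₀ e).hom.IsStandardSmoothOfRelativeDimension n) (x : X) (hu : x ∈ U₀) :
    Nonempty (Ω'.restrict U₀.ι ≅ FlatMod.freeMod (↑U₀) n) := by
  have hq : Ω'.IsQuasicoherent :=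
    Groth.Agent.Lib.Helper51.OmegaUniv.isQuasicoherent_of_isUniversal f hd
  let _ : Algebra Γ(Y, V₀) Γ(X, U₀) := (f.appLE V₀ U₀ e).hom.toAlgebra
  obtain ⟨E, -⟩ := Groth.Agent.Lib.Helper51.OmegaUniv.exists_sections_equiv f hd hU₀ hV₀ e
  have hn' : Algebra.IsStandardSmoothOfRelativeDimension n Γ(Y, V₀) Γ(X, U₀) := hn
  have hss : Algebra.IsStandardSmooth Γ(Y, V₀) Γ(X, U₀) :=
    Algebra.IsStandardSmoothOfRelativeDimension.isStandardSmooth n
  have hnt : Nontrivial Γ(X, U₀) := by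
    have hp := (hU₀.primeIdealOf ⟨x, hu⟩).isPrime
    exact ⟨⟨0, 1, fun h => hp.ne_top ((Ideal.eq_top_iff_one _).mpr (h ▸ Ideal.zero_mem _))⟩⟩
  have hrank : Module.rank Γ(X, U₀) Ω[Γ(X, U₀)⁄Γ(Y, V₀)] = n :=
    Algebra.IsStandardSmoothOfRelativeDimension.rank_kaehlerDifferential n
  have hfin : Module.Finite Γ(X, U₀) Ω[Γ(X, U₀)⁄Γ(Y, V₀)] := inferInstance
  have hfree : Module.Free Γ(X, U₀) Ω[Γ(X, U₀)⁄Γ(Y, V₀)] := inferInstance
  have hfr : Module.finrank Γ(X, U₀) Ω[Γ(X, U₀)⁄Γ(Y, V₀)] = n := by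
    simp [Module.finrank, hrank]
  let b := Module.finBasisOfFinrankEq Γ(X, U₀) Ω[Γ(X, U₀)⁄Γ(Y, V₀)] hfr
  exact Groth.Agent.Lib.Helper45.nonempty_restrict_iso_freeMod hU₀ Ω' n
    (E.symm.trans b.equivFun)

/-- **Smooth morphisms**: a sheaf of differentials is, near every point, free of rank the local
dimension of the fibre. -/
theorem exists_restrict_iso_freeMod_fibreDimAt_of_smooth {X Y : Scheme.{u}} (f : X ⟶ Y) [Smooth f]
    (Ω' : X.Modules) (d : OmegaSh.Der f Ω') (hd : OmegaSh.IsUniversal d) (x : X) :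
    ∃ (U : X.Opens) (n : ℕ), x ∈ U ∧ Nonempty (Ω'.restrict U.ι ≅ FlatMod.freeMod (↑U) n) ∧
      FlatMor.fibreDimAt f x = (n : WithBot ℕ∞) := by
  obtain ⟨V₀, hV₀, U₀, hU₀, hu, e, hss⟩ := Smooth.exists_isStandardSmooth f x
  obtain ⟨n, hn⟩ := Groth.Agent.H52.exists_relDim_of_isStandardSmooth _ hss
  exact ⟨U₀, n, hu, nonempty_restrict_iso_freeMod_of_chart f Ω' d hd hV₀ hU₀ e n hn x hu,
    fibreDimAt_eq_of_chart_isStandardSmoothOfRelativeDimension f hV₀ hU₀ e n hn x hu⟩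

end Groth.Agent.Lib.Helper24
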