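import Mathlib

set_option autoImplicit false
universe u v
open TensorProduct KaehlerDifferential

namespace Groth.Agent.Lib.Helper24.PurityEt

/-- Purity for maps of finite free modules over a Noetherian ring: a linear map which becomes
bijective after base change to suitable algebras hitting every prime of height `≤ 1` is
bijective. -/
theorem bijective_of_height_le_one {C : Type u} [CommRing C] [IsNoetherianRing C]
    {P Q : Type v} [AddCommGroup P] [Module C P] [AddCommGroup Q] [Module C Q]
    [Module.Free C P] [Module.Finite C P] [Module.Free C Q] [Module.Finite C Q] (φ : P →ₗ[C] Q)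
    (h : ∀ q : Ideal C, q.IsPrime → q.height ≤ 1 → ∃ (D : Type u) (_ : CommRing D)
      (_ : Algebra C D), q.map (algebraMap C D) ≠ ⊤ ∧ Function.Bijective (φ.baseChange D)) :
    Function.Bijective φ := by
  cases subsingleton_or_nontrivial C with
  | inl hC =>
    have : Subsingleton P := Module.subsingleton C P
    have : Subsingleton Q := Module.subsingleton C Q
    exact ⟨fun a b _ => Subsingleton.elim a b, fun b => ⟨0, Subsingleton.elim _ _⟩⟩
  | inr hC =>
    -- equal ranks, via a minimal prime
    obtain ⟨m, hm⟩ := Ideal.exists_maximal C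
    obtain ⟨q₀, hq₀, -⟩ := Ideal.exists_minimalPrimes_le (bot_le : (⊥ : Ideal C) ≤ m)
    have hq₀p : q₀.IsPrime := hq₀.1.1
    have hq₀h : q₀.height ≤ 1 := by
      have : q₀.height = 0 := by
        rw [Ideal.height_eq_zero_iff]
        exact hq₀
      rw [this]; exact zero_le_one
    obtain ⟨D₀, _, _, hD₀, hbij₀⟩ := h q₀ hq₀p hq₀h
    have hD₀nt : Nontrivial D₀ := by
      by_contra hn
      rw [not_nontrivial_iff_subsingleton] at hn
      exact hD₀ (Subsingleton.elim _ _)
    have hrank : Module.finrank C Q = Module.finrank C P := by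
      have e := LinearEquiv.ofBijective (φ.baseChange D₀) hbij₀
      have h1 := e.finrank_eq
      rw [Module.finrank_baseChange, Module.finrank_baseChange] at h1
      exact h1.symm
    let e : Q ≃ₗ[C] P := LinearEquiv.ofFinrankEq Q P hrank
    let ψ : P →ₗ[C] P := e.toLinearMap ∘ₗ φ
    have hunit : IsUnit (LinearMap.det ψ) := by
      by_contra hd
      have hne : Ideal.span {LinearMap.det ψ} ≠ ⊤ := by
        rwa [Ne, Ideal.span_singleton_eq_top]
      obtain ⟨m', hm', hle⟩ := Ideal.exists_le_maximal _ hne
      obtain ⟨q, hq, -⟩ := Ideal.exists_minimalPrimes_le hle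
      have hqp : q.IsPrime := hq.1.1
      have hqh : q.height ≤ 1 :=
        Ideal.height_le_one_of_isPrincipal_of_mem_minimalPrimes _ q hq
      obtain ⟨D, _, _, hD, hbij⟩ := h q hqp hqh
      have hψ : Function.Bijective (ψ.baseChange D) := by
        have : ψ.baseChange D = (e.toLinearMap.baseChange D) ∘ₗ (φ.baseChange D) :=
          LinearMap.baseChange_comp _ _
        rw [this, LinearMap.coe_comp]
        refine Function.Bijective.comp ?_ hbij
        exact (e.baseChange C D Q P).bijective
      have h1 : IsUnit (LinearMap.det (ψ.baseChange D)) :=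
        (LinearEquiv.ofBijective _ hψ).isUnit_det'
      rw [LinearMap.det_baseChange] at h1
      apply hD
      refine Ideal.eq_top_of_isUnit_mem _ (Ideal.mem_map_of_mem _ ?_) h1
      exact hq.1.2 (Ideal.mem_span_singleton_self _)
    have hψbij : Function.Bijective ψ := by
      have := (LinearMap.isUnit_iff_isUnit_det ψ).mpr hunit
      exact (Module.End.isUnit_iff ψ).mp this
    have : (φ : P → Q) = e.symm ∘ ψ := by
      ext x; simp [ψ]
    rw [this]
    exact e.symm.bijective.comp hψbij

/-- The tower identity for `mapBaseChange`. -/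
theorem mapBaseChange_tower (A B C D : Type u) [CommRing A] [CommRing B] [CommRing C] [CommRing D]
    [Algebra A B] [Algebra A C] [Algebra A D] [Algebra B C] [Algebra B D] [Algebra C D]
    [IsScalarTower A B C] [IsScalarTower A B D] [IsScalarTower A C D] [IsScalarTower B C D] :
    (mapBaseChange A C D) ∘ₗ ((mapBaseChange A B C).baseChange D) =
      (mapBaseChange A B D) ∘ₗ
        (AlgebraTensorModule.cancelBaseChange B C D D Ω[B⁄A]).toLinearMap := by
  ext x
  simp [← IsScalarTower.algebraMap_apply]

/-- If `D` is formally étale over both `B` and `C`, the base change to `D` of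
`C ⊗[B] Ω[B⁄A] → Ω[C⁄A]` is bijective. -/
theorem bijective_baseChange_mapBaseChange (A B C D : Type u) [CommRing A] [CommRing B]
    [CommRing C] [CommRing D]
    [Algebra A B] [Algebra A C] [Algebra A D] [Algebra B C] [Algebra B D] [Algebra C D]
    [IsScalarTower A B C] [IsScalarTower A B D] [IsScalarTower A C D] [IsScalarTower B C D]
    [Algebra.FormallyEtale B D] [Algebra.FormallyEtale C D] :
    Function.Bijective ((mapBaseChange A B C).baseChange D) := by
  have h := mapBaseChange_tower A B C D
  have h1 : Function.Bijective (mapBaseChange A C D) :=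
    (tensorKaehlerEquivOfFormallyEtale A C D).bijective
  have h2 : Function.Bijective (mapBaseChange A B D) :=
    (tensorKaehlerEquivOfFormallyEtale A B D).bijective
  have h3 : Function.Bijective ((mapBaseChange A C D) ∘ ((mapBaseChange A B C).baseChange D)) := by
    have := congrArg (fun f : _ →ₗ[D] _ => (f : _ → _)) h
    simp only [LinearMap.coe_comp] at this
    rw [this]
    exact h2.comp (AlgebraTensorModule.cancelBaseChange B C D D Ω[B⁄A]).bijective
  exact (Function.Bijective.of_comp_iff' h1 _).mp h3

/-- If `C` is formally smooth over `A` and `C ⊗[B] Ω[B⁄A] → Ω[C⁄A]` is bijective, then `C` is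
formally étale over `B`. -/
theorem formallyEtale_of_bijective_mapBaseChange (A B C : Type u) [CommRing A] [CommRing B]
    [CommRing C] [Algebra A B] [Algebra A C] [Algebra B C] [IsScalarTower A B C]
    [Algebra.FormallySmooth A C] (h : Function.Bijective (mapBaseChange A B C)) :
    Algebra.FormallyEtale B C := by
  rw [Algebra.formallyEtale_iff]
  constructor
  · refine ⟨fun x y => ?_⟩
    suffices ∀ z : Ω[C⁄B], z = 0 by rw [this x, this y]
    intro z
    obtain ⟨w, rfl⟩ := KaehlerDifferential.map_surjective A B C z
    obtain ⟨v, rfl⟩ := h.2 w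
    exact (KaehlerDifferential.exact_mapBaseChange_map A B C _).mpr ⟨v, rfl⟩
  · refine ⟨fun x y => ?_⟩
    suffices ∀ z : Algebra.H1Cotangent B C, z = 0 by rw [this x, this y]
    intro z
    have h1 : mapBaseChange A B C (Algebra.H1Cotangent.δ A B C z) = 0 :=
      (Algebra.H1Cotangent.exact_δ_mapBaseChange A B C).apply_apply_eq_zero z
    have h2 : Algebra.H1Cotangent.δ A B C z = 0 := h.1 (by rw [h1, map_zero])
    obtain ⟨w, rfl⟩ := (Algebra.H1Cotangent.exact_map_δ A B C z).mp h2
    have : Subsingleton (Algebra.H1Cotangent A C) := inferInstance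
    rw [Subsingleton.elim w 0, map_zero]


end Groth.Agent.Lib.Helper24.PurityEt
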