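import Mathlib
import Groth.Agent.Lib.Helper24.PurityEtA

set_option autoImplicit false
universe u v
open TensorProduct KaehlerDifferential

namespace Groth.Agent.Lib.Helper24.PurityEt

/-- Ring-level purity: for smooth `A`-algebras `B → C` with `C` Noetherian, if `C` is étale over
`B` at all primes of height `≤ 1`, then it is étale over `B` everywhere. -/
theorem etaleLocus_eq_univ_of_height_le_one (A B C : Type u) [CommRing A] [CommRing B]
    [CommRing C] [Algebra A B] [Algebra A C] [Algebra B C] [IsScalarTower A B C]
    [IsNoetherianRing C] [Algebra.Smooth A B] [Algebra.Smooth A C]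
    (h : ∀ q : PrimeSpectrum C, q.asIdeal.height ≤ 1 → q ∈ Algebra.etaleLocus B C) :
    Algebra.etaleLocus B C = Set.univ := by
  rw [Set.eq_univ_iff_forall]
  intro q₀
  rw [Algebra.mem_etaleLocus_iff]
  change Algebra.FormallyEtale B (Localization.AtPrime q₀.asIdeal)
  let C₀ := Localization.AtPrime q₀.asIdeal
  have hfeC : Algebra.FormallyEtale C C₀ := Algebra.FormallyEtale.of_isLocalization q₀.asIdeal.primeCompl
  have hfsC : Algebra.FormallySmooth C C₀ := inferInstance
  have hfsA : Algebra.FormallySmooth A C₀ := Algebra.FormallySmooth.comp A C C₀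
  have hNoeth : IsNoetherianRing C₀ := IsLocalization.isNoetherianRing q₀.asIdeal.primeCompl C₀ inferInstance
  apply formallyEtale_of_bijective_mapBaseChange A B C₀
  have hP1 : Module.Finite C₀ (C₀ ⊗[B] Ω[B⁄A]) := inferInstance
  have hP2 : Module.Flat C₀ (C₀ ⊗[B] Ω[B⁄A]) := inferInstance
  have hP : Module.Free C₀ (C₀ ⊗[B] Ω[B⁄A]) := Module.free_of_flat_of_isLocalRing
  have hQ1 : Module.Finite C₀ Ω[C₀⁄A] := inferInstance
  have hQ2 : Module.Flat C₀ Ω[C₀⁄A] := inferInstance
  have hQ : Module.Free C₀ Ω[C₀⁄A] := Module.free_of_flat_of_isLocalRing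
  apply bijective_of_height_le_one
  intro q' hq' hq'h
  let q : Ideal C := q'.under C
  have hqp : q.IsPrime := inferInstance
  have hqh : q.height ≤ 1 := by
    have := IsLocalization.height_under q₀.asIdeal.primeCompl q'
    rw [this]; exact hq'h
  have hqet : Algebra.FormallyEtale B (Localization.AtPrime q) := h ⟨q, hqp⟩ hqh
  let D := Localization.AtPrime q'
  have hloc : IsLocalization.AtPrime D q :=
    IsLocalization.isLocalization_isLocalization_atPrime_isLocalization q₀.asIdeal.primeCompl D q'
  have t1 : IsScalarTower A B D := inferInstance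
  have t2 : IsScalarTower A C₀ D := inferInstance
  have t3 : IsScalarTower B C₀ D := inferInstance
  have t4 : IsScalarTower B C D := inferInstance
  let e : Localization.AtPrime q ≃ₐ[C] D := IsLocalization.algEquiv q.primeCompl _ _
  have hBD : Algebra.FormallyEtale B D := Algebra.FormallyEtale.of_equiv (e.restrictScalars B)
  have hC₀D : Algebra.FormallyEtale C₀ D := Algebra.FormallyEtale.of_isLocalization q'.primeCompl
  refine ⟨D, inferInstance, inferInstance, ?_, bijective_baseChange_mapBaseChange A B C₀ D⟩
  rw [Localization.AtPrime.map_eq_maximalIdeal]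
  exact Ideal.IsPrime.ne_top'

/-- Ring-level purity, in the form used for schemes. -/
theorem etale_of_height_le_one (A B C : Type u) [CommRing A] [CommRing B]
    [CommRing C] [Algebra A B] [Algebra A C] [Algebra B C] [IsScalarTower A B C]
    [IsNoetherianRing C] [Algebra.Smooth A B] [Algebra.Smooth A C]
    (h : ∀ q : Ideal C, q.IsPrime → q.height ≤ 1 → ∃ (c : C) (T : Type u) (_ : CommRing T)
      (_ : Algebra C T) (_ : Algebra B T) (_ : IsScalarTower B C T) (_ : IsLocalization.Away c T),
      c ∉ q ∧ Algebra.FormallyEtale B T) :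
    Algebra.Etale B C := by
  have hfp : Algebra.FinitePresentation B C :=
    Algebra.FinitePresentation.of_restrict_scalars_finitePresentation A B C
  rw [← Algebra.etaleLocus_eq_univ_iff_etale]
  apply etaleLocus_eq_univ_of_height_le_one A B C
  intro q hq
  obtain ⟨c, T, _, _, _, _, _, hc, hT⟩ := h q.asIdeal q.2 hq
  let e : T ≃ₐ[C] Localization.Away c := IsLocalization.algEquiv (.powers c) _ _
  have h1 : Algebra.FormallyEtale B (Localization.Away c) :=
    Algebra.FormallyEtale.of_equiv (e.restrictScalars B)
  have h2 := (Algebra.basicOpen_subset_etaleLocus_iff (R := B) (A := C) (f := c)).mpr h1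
  exact h2 hc

end Groth.Agent.Lib.Helper24.PurityEt
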