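import Mathlib
import Groth.Agent.Lib.Helper24.PurityEtB
import Groth.Agent.Lib.Helper24.EtaleDenseB

set_option autoImplicit false
universe u v
open CategoryTheory AlgebraicGeometry Limits

namespace Groth.Agent.Lib.Helper24.PurityEt

open EtaleDense

/-- A morphism `f : G ⟶ H` of smooth schemes over a locally Noetherian `S`, which is étale on an
open of `G` containing all points lying over points of `S` of codimension `≤ 1`, is étale. -/
theorem etale_of_etale_of_codim {S G H G' : Scheme.{u}} [IsLocallyNoetherian S] (g : G ⟶ S)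
    (h : H ⟶ S) [Smooth g] [Smooth h] (f : G ⟶ H) (hf : f ≫ h = g) (j : G' ⟶ G)
    [IsOpenImmersion j] [Etale (j ≫ f)]
    (hj : ∀ x : G, ringKrullDim (S.presheaf.stalk (g x)) ≤ 1 → x ∈ Set.range j) :
    Etale f := by
  subst hf
  have hGN : IsLocallyNoetherian G := LocallyOfFiniteType.isLocallyNoetherian (f ≫ h)
  have hQ : RingHom.StableUnderCompositionWithLocalizationAwaySource RingHom.Etale := by
    refine (RingHom.Etale.stableUnderComposition.stableUnderCompositionWithLocalizationAway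
      ?_).left
    intro R T _ _ _ r _
    rw [RingHom.etale_algebraMap]
    exact Algebra.Etale.of_isLocalizationAway r
  rw [HasRingHomProperty.iff_exists_appLE (P := @Etale) hQ]
  intro x
  -- charts
  obtain ⟨W, hW, hxW⟩ : ∃ W : S.Opens, IsAffineOpen W ∧ (f ≫ h) x ∈ W := by
    obtain ⟨_, ⟨W, hW, rfl⟩, hxW, -⟩ :=
      S.isBasis_affineOpens.exists_subset_of_mem_open (Set.mem_univ ((f ≫ h) x)) isOpen_univ
    exact ⟨W, hW, hxW⟩
  have hfx : f x ∈ h ⁻¹ᵁ W := by
    exact hxW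
  obtain ⟨U, hU, hxU, hUW⟩ : ∃ U : H.Opens, IsAffineOpen U ∧ f x ∈ U ∧ U ≤ h ⁻¹ᵁ W := by
    obtain ⟨_, ⟨U, hU, rfl⟩, hxU, hUW⟩ :=
      H.isBasis_affineOpens.exists_subset_of_mem_open hfx (h ⁻¹ᵁ W).2
    exact ⟨U, hU, hxU, hUW⟩
  obtain ⟨V, hV, hxV, hVU⟩ : ∃ V : G.Opens, IsAffineOpen V ∧ x ∈ V ∧ V ≤ f ⁻¹ᵁ U := by
    obtain ⟨_, ⟨V, hV, rfl⟩, hxV, hVU⟩ :=
      G.isBasis_affineOpens.exists_subset_of_mem_open (show x ∈ f ⁻¹ᵁ U from hxU) (f ⁻¹ᵁ U).2
    exact ⟨V, hV, hxV, hVU⟩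
  have hVW : V ≤ (f ≫ h) ⁻¹ᵁ W := fun y hy => hUW (hVU hy)
  refine ⟨⟨U, hU⟩, ⟨V, hV⟩, hxV, hVU, ?_⟩
  -- ring-level setup
  have hA : (h.appLE W U hUW).hom.Smooth := Smooth.smooth_appLE h hW hU hUW
  have hC : ((f ≫ h).appLE W V hVW).hom.Smooth := Smooth.smooth_appLE (f ≫ h) hW hV hVW
  let _ : Algebra Γ(S, W) Γ(H, U) := (h.appLE W U hUW).hom.toAlgebra
  let _ : Algebra Γ(S, W) Γ(G, V) := ((f ≫ h).appLE W V hVW).hom.toAlgebra
  let _ : Algebra Γ(H, U) Γ(G, V) := (f.appLE U V hVU).hom.toAlgebra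
  have htower : IsScalarTower Γ(S, W) Γ(H, U) Γ(G, V) := by
    apply IsScalarTower.of_algebraMap_eq'
    have h3 := Scheme.Hom.appLE_comp_appLE f h W U V hUW hVU
    exact congrArg CommRingCat.Hom.hom h3.symm
  have hA' : Algebra.Smooth Γ(S, W) Γ(H, U) := hA
  have hC' : Algebra.Smooth Γ(S, W) Γ(G, V) := hC
  have hCN : IsNoetherianRing Γ(G, V) := IsLocallyNoetherian.component_noetherian ⟨V, hV⟩
  have hAN : IsNoetherianRing Γ(S, W) := IsLocallyNoetherian.component_noetherian ⟨W, hW⟩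
  change Algebra.Etale Γ(H, U) Γ(G, V)
  apply etale_of_height_le_one Γ(S, W) Γ(H, U) Γ(G, V)
  intro q hq hqh
  let q' : PrimeSpectrum Γ(G, V) := ⟨q, hq⟩
  let y : G := hV.fromSpec q'
  have hyV : y ∈ V := by
    have := hV.range_fromSpec ▸ Set.mem_range_self q'
    exact this
  have hyW : (f ≫ h) y ∈ W := hVW hyV
  -- the dimension of the local ring of `S` at the image of `y`
  have hdim : ringKrullDim (S.presheaf.stalk ((f ≫ h) y)) ≤ 1 := by
    let _ : Algebra Γ(S, W) (S.presheaf.stalk ((f ≫ h) y)) :=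
      S.presheaf.algebra_section_stalk ⟨(f ≫ h) y, hyW⟩
    have hloc := hW.isLocalization_stalk ⟨(f ≫ h) y, hyW⟩
    rw [IsLocalization.AtPrime.ringKrullDim_eq_height
      (hW.primeIdealOf ⟨(f ≫ h) y, hyW⟩).asIdeal (S.presheaf.stalk ((f ≫ h) y))]
    have h1 : hV.primeIdealOf ⟨y, hyV⟩ = q' := by
      apply hV.fromSpec.isOpenEmbedding.injective
      exact hV.fromSpec_primeIdealOf ⟨y, hyV⟩
    have h2 := IsAffineOpen.comap_primeIdealOf_appLE (f := f ≫ h) (x := y) W hW V hV hVW hyV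
    rw [h1] at h2
    have h3 : (hW.primeIdealOf ⟨(f ≫ h) y, hyW⟩).asIdeal = q.under Γ(S, W) := by
      rw [← h2]; rfl
    rw [h3]
    have hflat : Module.Flat Γ(S, W) Γ(G, V) := inferInstance
    have hgd : Algebra.HasGoingDown Γ(S, W) Γ(G, V) := inferInstance
    have h4 := Ideal.height_eq_height_add_of_liesOver_of_hasGoingDown (q.under Γ(S, W)) q
    have h5 : (q.under Γ(S, W)).height ≤ 1 := by
      refine le_trans ?_ hqh
      rw [h4]; exact le_self_add
    exact_mod_cast h5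
  have hy : y ∈ Set.range j := hj y hdim
  obtain ⟨c, hcle, hyc⟩ := hV.exists_basicOpen_le (V := j.opensRange) ⟨y, hy⟩ hyV
  have e'' : G.basicOpen c ≤ f ⁻¹ᵁ U := (G.basicOpen_le c).trans hVU
  let _ : Algebra Γ(H, U) Γ(G, G.basicOpen c) := (f.appLE U (G.basicOpen c) e'').hom.toAlgebra
  have htower' : IsScalarTower Γ(H, U) Γ(G, V) Γ(G, G.basicOpen c) := by
    apply IsScalarTower.of_algebraMap_eq'
    have h3 := f.appLE_map hVU (homOfLE (G.basicOpen_le c)).op
    exact congrArg CommRingCat.Hom.hom h3.symm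
  refine ⟨c, Γ(G, G.basicOpen c), inferInstance, inferInstance, inferInstance, htower',
    hV.isLocalization_basicOpen c, ?_, ?_⟩
  · have h4 : q' ∈ hV.fromSpec ⁻¹ᵁ G.basicOpen c := hyc
    rw [hV.fromSpec_preimage_basicOpen] at h4
    exact h4
  · have h5 := etale_appLE_of_le_opensRange f j hU (hV.basicOpen c) hcle e''
    have h6 : Algebra.Etale Γ(H, U) Γ(G, G.basicOpen c) := h5
    exact h6.formallyEtale

end Groth.Agent.Lib.Helper24.PurityEt
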