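import Mathlib.Topology.LocallyClosed
import Mathlib.Topology.JacobsonSpace
import Mathlib.Topology.NoetherianSpace
import Mathlib.Topology.Sets.Opens
import Mathlib.Topology.Constructions
import Mathlib.Data.Set.Restrict

/-!
# Quasi-constructible sets, very dense subsets and quasi-homeomorphisms (EGA IV 10.1–10.3)

Shared library of helper24.  Everything lives in `Groth.Agent.Lib.Helper24`.
-/

set_option autoImplicit false

namespace Groth.Agent.Lib.Helper24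

open Set

universe u v

variable {X : Type u} {Y : Type v} [TopologicalSpace X] [TopologicalSpace Y]

/-- A finite union of locally closed subsets ("quasi-constructible"). -/
def IsQC (Z : Set X) : Prop :=
  ∃ T : Set (Set X), T.Finite ∧ (∀ t ∈ T, IsLocallyClosed t) ∧ Z = ⋃₀ T

/-- Locally quasi-constructible. -/
def IsLQC (Z : Set X) : Prop :=
  ∀ x : X, ∃ U : Set X, IsOpen U ∧ x ∈ U ∧ IsQC (U ∩ Z)

theorem IsQC.empty : IsQC (∅ : Set X) := ⟨∅, Set.finite_empty, by simp, by simp⟩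

theorem IsQC.of_isLocallyClosed {Z : Set X} (h : IsLocallyClosed Z) : IsQC Z :=
  ⟨{Z}, Set.finite_singleton _, by simpa using h, by simp⟩

theorem IsQC.union {Z₁ Z₂ : Set X} (h₁ : IsQC Z₁) (h₂ : IsQC Z₂) : IsQC (Z₁ ∪ Z₂) := by
  obtain ⟨T₁, hf₁, hl₁, rfl⟩ := h₁
  obtain ⟨T₂, hf₂, hl₂, rfl⟩ := h₂
  refine ⟨T₁ ∪ T₂, hf₁.union hf₂, ?_, (Set.sUnion_union T₁ T₂).symm⟩
  rintro t (ht | ht)
  · exact hl₁ t ht
  · exact hl₂ t ht

theorem IsQC.inter_isLocallyClosed {Z L : Set X} (h : IsQC Z) (hL : IsLocallyClosed L) :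
    IsQC (Z ∩ L) := by
  obtain ⟨T, hf, hl, rfl⟩ := h
  refine ⟨(fun t => t ∩ L) '' T, hf.image _, ?_, ?_⟩
  · rintro _ ⟨t, ht, rfl⟩
    exact (hl t ht).inter hL
  · rw [Set.sUnion_image, Set.sUnion_eq_biUnion, Set.iUnion₂_inter]

theorem IsQC.isLocallyClosed_inter {Z L : Set X} (h : IsQC Z) (hL : IsLocallyClosed L) :
    IsQC (L ∩ Z) := by
  rw [Set.inter_comm]; exact h.inter_isLocallyClosed hL

theorem IsQC.sUnion {S : Set (Set X)} (hS : S.Finite) (h : ∀ s ∈ S, IsQC s) : IsQC (⋃₀ S) := by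
  induction S, hS using Set.Finite.induction_on with
  | empty => simpa using IsQC.empty
  | insert _ _ ih =>
    rw [Set.sUnion_insert]
    exact (h _ (Set.mem_insert _ _)).union (ih fun s hs => h s (Set.mem_insert_of_mem _ hs))

theorem IsQC.inter {Z₁ Z₂ : Set X} (h₁ : IsQC Z₁) (h₂ : IsQC Z₂) : IsQC (Z₁ ∩ Z₂) := by
  obtain ⟨T₂, hf₂, hl₂, rfl⟩ := h₂
  have : Z₁ ∩ ⋃₀ T₂ = ⋃₀ ((fun t => Z₁ ∩ t) '' T₂) := by
    rw [Set.sUnion_image, Set.sUnion_eq_biUnion, Set.inter_iUnion₂]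
  rw [this]
  refine IsQC.sUnion (hf₂.image _) ?_
  rintro _ ⟨t, ht, rfl⟩
  exact h₁.inter_isLocallyClosed (hl₂ t ht)

theorem IsQC.preimage {Z : Set Y} (h : IsQC Z) {f : X → Y} (hf : Continuous f) :
    IsQC (f ⁻¹' Z) := by
  obtain ⟨T, hfin, hl, rfl⟩ := h
  refine ⟨(fun t => f ⁻¹' t) '' T, hfin.image _, ?_, ?_⟩
  · rintro _ ⟨t, ht, rfl⟩
    exact (hl t ht).preimage hf
  · rw [Set.sUnion_image, Set.sUnion_eq_biUnion, Set.preimage_iUnion₂]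

theorem IsQC.isLQC {Z : Set X} (h : IsQC Z) : IsLQC Z := fun x =>
  ⟨Set.univ, isOpen_univ, Set.mem_univ x, by rwa [Set.univ_inter]⟩

theorem _root_.IsLocallyClosed.isLQC_helper24 {Z : Set X} (h : IsLocallyClosed Z) : IsLQC Z :=
  (IsQC.of_isLocallyClosed h).isLQC

theorem IsLQC.inter {Z₁ Z₂ : Set X} (h₁ : IsLQC Z₁) (h₂ : IsLQC Z₂) : IsLQC (Z₁ ∩ Z₂) := by
  intro x
  obtain ⟨U₁, hU₁, hx₁, hq₁⟩ := h₁ x
  obtain ⟨U₂, hU₂, hx₂, hq₂⟩ := h₂ x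
  refine ⟨U₁ ∩ U₂, hU₁.inter hU₂, ⟨hx₁, hx₂⟩, ?_⟩
  have : U₁ ∩ U₂ ∩ (Z₁ ∩ Z₂) = (U₁ ∩ Z₁) ∩ (U₂ ∩ Z₂) := by
    ext y; simp only [Set.mem_inter_iff]; tauto
  rw [this]
  exact hq₁.inter hq₂

theorem IsLQC.union {Z₁ Z₂ : Set X} (h₁ : IsLQC Z₁) (h₂ : IsLQC Z₂) : IsLQC (Z₁ ∪ Z₂) := by
  intro x
  obtain ⟨U₁, hU₁, hx₁, hq₁⟩ := h₁ x
  obtain ⟨U₂, hU₂, hx₂, hq₂⟩ := h₂ x
  refine ⟨U₁ ∩ U₂, hU₁.inter hU₂, ⟨hx₁, hx₂⟩, ?_⟩
  have : U₁ ∩ U₂ ∩ (Z₁ ∪ Z₂) = ((U₁ ∩ Z₁) ∩ U₂) ∪ ((U₂ ∩ Z₂) ∩ U₁) := by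
    ext y; simp only [Set.mem_inter_iff, Set.mem_union]; tauto
  rw [this]
  exact (hq₁.inter_isLocallyClosed hU₂.isLocallyClosed).union
    (hq₂.inter_isLocallyClosed hU₁.isLocallyClosed)

theorem IsLQC.inter_isLocallyClosed {Z L : Set X} (h : IsLQC Z) (hL : IsLocallyClosed L) :
    IsLQC (Z ∩ L) := h.inter hL.isLQC_helper24

theorem IsLQC.isLocallyClosed_inter {Z L : Set X} (h : IsLQC Z) (hL : IsLocallyClosed L) :
    IsLQC (L ∩ Z) := hL.isLQC_helper24.inter h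

theorem IsLQC.preimage {Z : Set Y} (h : IsLQC Z) {f : X → Y} (hf : Continuous f) :
    IsLQC (f ⁻¹' Z) := by
  intro x
  obtain ⟨U, hU, hx, hq⟩ := h (f x)
  refine ⟨f ⁻¹' U, hU.preimage hf, hx, ?_⟩
  rw [← Set.preimage_inter]
  exact hq.preimage hf

/-- A quasi-constructible subset of a subspace is the trace of a quasi-constructible subset. -/
theorem IsQC.exists_of_subtype {S : Set X} {Z : Set S} (h : IsQC Z) :
    ∃ Z' : Set X, IsQC Z' ∧ Subtype.val ⁻¹' Z' = Z := by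
  obtain ⟨T, hfin, hl, rfl⟩ := h
  have : ∀ t ∈ T, ∃ t' : Set X, IsLocallyClosed t' ∧ Subtype.val ⁻¹' t' = t := fun t ht =>
    (Topology.IsInducing.subtypeVal.isLocallyClosed_iff).mp (hl t ht)
  choose! g hg₁ hg₂ using this
  refine ⟨⋃₀ (g '' T), IsQC.sUnion (hfin.image _) ?_, ?_⟩
  · rintro _ ⟨t, ht, rfl⟩
    exact IsQC.of_isLocallyClosed (hg₁ t ht)
  · rw [Set.sUnion_image, Set.preimage_iUnion₂, Set.sUnion_eq_biUnion]
    exact Set.iUnion₂_congr fun t ht => hg₂ t ht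

/-! ### Very dense subsets -/

/-- `X₀` is very dense in `X`: every nonempty locally closed subset meets `X₀`. -/
def IsVeryDense (X₀ : Set X) : Prop :=
  ∀ Z : Set X, IsLocallyClosed Z → Z.Nonempty → (Z ∩ X₀).Nonempty

theorem IsVeryDense.subset_sUnion {X₀ : Set X} (h : IsVeryDense X₀) {T : Set (Set X)}
    (hT : T.Finite) (hl : ∀ t ∈ T, IsLocallyClosed t) :
    ∀ L : Set X, IsLocallyClosed L → L ∩ X₀ ⊆ ⋃₀ T → L ⊆ ⋃₀ T := by
  induction T, hT using Set.Finite.induction_on with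
  | empty =>
    intro L hL hsub
    by_contra hne
    have hLne : L.Nonempty := by
      rw [Set.nonempty_iff_ne_empty]
      intro e
      exact hne (by rw [e]; exact Set.empty_subset _)
    obtain ⟨z, hz⟩ := h L hL hLne
    simpa using hsub hz
  | @insert s T' _ _ ih =>
    intro L hL hsub
    have hl' : ∀ t ∈ T', IsLocallyClosed t := fun t ht => hl t (Set.mem_insert_of_mem _ ht)
    obtain ⟨O, C, hO, hC, rfl⟩ := hl s (Set.mem_insert _ _)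
    rw [Set.sUnion_insert] at hsub ⊢
    have h1 : L ∩ Cᶜ ⊆ ⋃₀ T' := by
      refine ih hl' _ (hL.inter hC.isOpen_compl.isLocallyClosed) ?_
      rintro z ⟨⟨hzL, hzC⟩, hz0⟩
      rcases hsub ⟨hzL, hz0⟩ with hz | hz
      · exact absurd hz.2 hzC
      · exact hz
    have h2 : L ∩ Oᶜ ⊆ ⋃₀ T' := by
      refine ih hl' _ (hL.inter hO.isClosed_compl.isLocallyClosed) ?_
      rintro z ⟨⟨hzL, hzO⟩, hz0⟩
      rcases hsub ⟨hzL, hz0⟩ with hz | hz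
      · exact absurd hz.1 hzO
      · exact hz
    intro z hz
    by_cases hzO : z ∈ O
    · by_cases hzC : z ∈ C
      · exact Or.inl ⟨hzO, hzC⟩
      · exact Or.inr (h1 ⟨hz, hzC⟩)
    · exact Or.inr (h2 ⟨hz, hzO⟩)

/-- The key property of very dense subsets: locally quasi-constructible subsets are determined
by their traces. -/
theorem IsVeryDense.subset_of_inter_subset {X₀ : Set X} (h : IsVeryDense X₀) {Z₁ Z₂ : Set X}
    (h₁ : IsLQC Z₁) (h₂ : IsLQC Z₂) (hsub : Z₁ ∩ X₀ ⊆ Z₂) : Z₁ ⊆ Z₂ := by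
  intro y hy
  obtain ⟨U₁, hU₁, hy₁, T₁, hf₁, hl₁, e₁⟩ := h₁ y
  obtain ⟨U₂, hU₂, hy₂, T₂, hf₂, hl₂, e₂⟩ := h₂ y
  have hy' : y ∈ ⋃₀ T₁ := e₁ ▸ ⟨hy₁, hy⟩
  obtain ⟨t, ht, hyt⟩ := hy'
  have htsub : t ⊆ U₁ ∩ Z₁ := e₁ ▸ Set.subset_sUnion_of_mem ht
  have key : t ∩ U₂ ⊆ ⋃₀ T₂ := by
    refine h.subset_sUnion hf₂ hl₂ _ ((hl₁ t ht).inter hU₂.isLocallyClosed) ?_
    rintro z ⟨⟨hzt, hzU₂⟩, hz0⟩
    rw [← e₂]
    exact ⟨hzU₂, hsub ⟨(htsub hzt).2, hz0⟩⟩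
  have := key ⟨hyt, hy₂⟩
  rw [← e₂] at this
  exact this.2

theorem IsVeryDense.eq_of_inter_eq {X₀ : Set X} (h : IsVeryDense X₀) {Z₁ Z₂ : Set X}
    (h₁ : IsLQC Z₁) (h₂ : IsLQC Z₂) (he : Z₁ ∩ X₀ = Z₂ ∩ X₀) : Z₁ = Z₂ :=
  Set.Subset.antisymm
    (h.subset_of_inter_subset h₁ h₂ (he ▸ Set.inter_subset_left))
    (h.subset_of_inter_subset h₂ h₁ (he ▸ Set.inter_subset_left))

theorem IsVeryDense.nonempty_inter_of_isLQC {X₀ : Set X} (h : IsVeryDense X₀) {Z : Set X}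
    (hZ : IsLQC Z) (hne : Z.Nonempty) : (Z ∩ X₀).Nonempty := by
  obtain ⟨y, hy⟩ := hne
  obtain ⟨U, hU, hyU, T, hf, hl, e⟩ := hZ y
  have hy' : y ∈ ⋃₀ T := e ▸ ⟨hyU, hy⟩
  obtain ⟨t, ht, hyt⟩ := hy'
  obtain ⟨z, hzt, hz0⟩ := h t (hl t ht) ⟨y, hyt⟩
  have : z ∈ U ∩ Z := e ▸ Set.mem_sUnion_of_mem hzt ht
  exact ⟨z, this.2, hz0⟩

theorem isVeryDense_closedPoints [JacobsonSpace X] : IsVeryDense (closedPoints X) :=
  fun Z hZ hne => nonempty_inter_closedPoints hne hZ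

/-! ### Quasi-homeomorphisms -/

/-- A map such that `U ↦ f ⁻¹' U` is a bijection from the open subsets of `Y` onto the open
subsets of `X` (continuity is implied by the second clause). -/
def IsQHomeo (f : X → Y) : Prop :=
  (∀ U₁ U₂ : Set Y, IsOpen U₁ → IsOpen U₂ → f ⁻¹' U₁ = f ⁻¹' U₂ → U₁ = U₂) ∧
    (∀ V : Set X, IsOpen V → ∃ U : Set Y, IsOpen U ∧ f ⁻¹' U = V)

theorem isQHomeo_of_bijective {f : X → Y} (hf : Continuous f)
    (hq : Function.Bijective (fun U : TopologicalSpace.Opens Y =>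
      (⟨f ⁻¹' (U : Set Y), U.isOpen.preimage hf⟩ : TopologicalSpace.Opens X))) :
    IsQHomeo f := by
  constructor
  · intro U₁ U₂ h₁ h₂ e
    have := @hq.1 ⟨U₁, h₁⟩ ⟨U₂, h₂⟩ (by ext1; exact e)
    exact congrArg (fun U : TopologicalSpace.Opens Y => (U : Set Y)) this
  · intro V hV
    obtain ⟨U, hU⟩ := hq.2 ⟨V, hV⟩
    exact ⟨U, U.isOpen, congrArg (fun U : TopologicalSpace.Opens X => (U : Set X)) hU⟩

theorem IsQHomeo.isVeryDense_range {f : X → Y} (h : IsQHomeo f) : IsVeryDense (Set.range f) := by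
  rintro _ ⟨O, C, hO, hC, rfl⟩ hne
  by_contra hcon
  rw [Set.not_nonempty_iff_eq_empty] at hcon
  have e : f ⁻¹' O = f ⁻¹' (O ∩ Cᶜ) := by
    ext x
    simp only [Set.mem_preimage, Set.mem_inter_iff, Set.mem_compl_iff]
    constructor
    · intro hx
      refine ⟨hx, fun hxC => ?_⟩
      have : f x ∈ (O ∩ C) ∩ Set.range f := ⟨⟨hx, hxC⟩, x, rfl⟩
      rw [hcon] at this
      exact this
    · exact fun hx => hx.1
  have := h.1 O (O ∩ Cᶜ) hO (hO.inter hC.isOpen_compl) e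
  obtain ⟨z, hzO, hzC⟩ := hne
  rw [this] at hzO
  exact hzO.2 hzC

theorem IsQHomeo.subset_of_preimage_subset {f : X → Y} (h : IsQHomeo f) {Z₁ Z₂ : Set Y}
    (h₁ : IsLQC Z₁) (h₂ : IsLQC Z₂) (hsub : f ⁻¹' Z₁ ⊆ f ⁻¹' Z₂) : Z₁ ⊆ Z₂ := by
  refine h.isVeryDense_range.subset_of_inter_subset h₁ h₂ ?_
  rintro _ ⟨hz, x, rfl⟩
  exact hsub hz

theorem IsQHomeo.eq_of_preimage_eq {f : X → Y} (h : IsQHomeo f) {Z₁ Z₂ : Set Y}
    (h₁ : IsLQC Z₁) (h₂ : IsLQC Z₂) (he : f ⁻¹' Z₁ = f ⁻¹' Z₂) : Z₁ = Z₂ :=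
  Set.Subset.antisymm (h.subset_of_preimage_subset h₁ h₂ he.subset)
    (h.subset_of_preimage_subset h₂ h₁ he.symm.subset)

/-- EGA IV 10.2.?: the restriction of a quasi-homeomorphism over a locally quasi-constructible
subset is a quasi-homeomorphism. -/
theorem IsQHomeo.restrictPreimage {f : X → Y} (h : IsQHomeo f) {Y' : Set Y} (hY' : IsLQC Y') :
    IsQHomeo (Y'.restrictPreimage f) := by
  constructor
  · intro U₁' U₂' h₁ h₂ e
    obtain ⟨U₁, hU₁, rfl⟩ := isOpen_induced_iff.mp h₁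
    obtain ⟨U₂, hU₂, rfl⟩ := isOpen_induced_iff.mp h₂
    have key : ∀ x, f x ∈ Y' → (f x ∈ U₁ ↔ f x ∈ U₂) := by
      intro x hx
      have := congrArg (fun S : Set ↥(f ⁻¹' Y') => (⟨x, hx⟩ : ↥(f ⁻¹' Y')) ∈ S) e
      simpa using this
    have e' : U₁ ∩ Y' = U₂ ∩ Y' := by
      refine h.eq_of_preimage_eq (hY'.isLocallyClosed_inter hU₁.isLocallyClosed)
        (hY'.isLocallyClosed_inter hU₂.isLocallyClosed) ?_
      ext x
      simp only [Set.mem_preimage, Set.mem_inter_iff]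
      constructor
      · rintro ⟨h1, h2⟩; exact ⟨(key x h2).mp h1, h2⟩
      · rintro ⟨h1, h2⟩; exact ⟨(key x h2).mpr h1, h2⟩
    ext ⟨y, hy⟩
    simp only [Set.mem_preimage]
    constructor
    · intro hy1
      have : y ∈ U₂ ∩ Y' := e' ▸ ⟨hy1, hy⟩
      exact this.1
    · intro hy2
      have : y ∈ U₁ ∩ Y' := e'.symm ▸ ⟨hy2, hy⟩
      exact this.1
  · intro V' hV'
    obtain ⟨V, hV, rfl⟩ := isOpen_induced_iff.mp hV'
    obtain ⟨U, hU, rfl⟩ := h.2 V hV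
    refine ⟨Subtype.val ⁻¹' U, hU.preimage continuous_subtype_val, ?_⟩
    ext ⟨x, hx⟩
    simp

end Groth.Agent.Lib.Helper24
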