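import Groth.Agent.Lib.Helper24.QuasiHomeo
import Mathlib.Topology.Compactness.Compact

/-!
# Quasi-homeomorphisms and compactness / Noetherianity (EGA IV 10.2)

Shared library of helper24.  Everything lives in `Groth.Agent.Lib.Helper24`.
-/

set_option autoImplicit false

namespace Groth.Agent.Lib.Helper24

open Set

universe u v

variable {X : Type u} {Y : Type v} [TopologicalSpace X] [TopologicalSpace Y]

theorem IsQHomeo.compactSpace_iff {f : X → Y} (h : IsQHomeo f) (hf : Continuous f) :
    CompactSpace X ↔ CompactSpace Y := by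
  constructor
  · intro _
    rw [← isCompact_univ_iff]
    refine isCompact_of_finite_subcover ?_
    intro ι U hUo hcov
    have hcov' : (Set.univ : Set X) ⊆ ⋃ i, f ⁻¹' (U i) := by
      intro x _
      obtain ⟨i, hi⟩ := Set.mem_iUnion.mp (hcov (Set.mem_univ (f x)))
      exact Set.mem_iUnion.mpr ⟨i, hi⟩
    obtain ⟨t, ht⟩ := isCompact_univ.elim_finite_subcover _ (fun i => (hUo i).preimage hf) hcov'
    refine ⟨t, ?_⟩
    have e : f ⁻¹' (⋃ i ∈ t, U i) = f ⁻¹' Set.univ := by
      rw [Set.preimage_univ, Set.preimage_iUnion₂]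
      exact Set.eq_univ_of_univ_subset ht
    exact (h.1 _ _ (isOpen_biUnion fun i _ => hUo i) isOpen_univ e).symm.subset
  · intro _
    rw [← isCompact_univ_iff]
    refine isCompact_of_finite_subcover ?_
    intro ι V hVo hcov
    have key : ∀ i, ∃ U : Set Y, IsOpen U ∧ f ⁻¹' U = V i := fun i => h.2 _ (hVo i)
    choose U hUo hU using key
    have e : f ⁻¹' (⋃ i, U i) = f ⁻¹' Set.univ := by
      rw [Set.preimage_univ, Set.preimage_iUnion]
      simp_rw [hU]
      exact Set.eq_univ_of_univ_subset hcov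
    have e' := h.1 _ _ (isOpen_iUnion hUo) isOpen_univ e
    obtain ⟨t, ht⟩ := isCompact_univ.elim_finite_subcover U hUo e'.symm.subset
    refine ⟨t, ?_⟩
    intro x _
    obtain ⟨i, hi, hxi⟩ := Set.mem_iUnion₂.mp (ht (Set.mem_univ (f x)))
    refine Set.mem_iUnion₂.mpr ⟨i, hi, ?_⟩
    rw [← hU i]
    exact hxi

theorem IsQHomeo.isCompact_preimage_iff {f : X → Y} (h : IsQHomeo f) (hf : Continuous f)
    {Y' : Set Y} (hY' : IsLQC Y') : IsCompact (f ⁻¹' Y') ↔ IsCompact Y' := by
  rw [isCompact_iff_compactSpace, isCompact_iff_compactSpace (s := Y')]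
  exact (h.restrictPreimage hY').compactSpace_iff hf.restrictPreimage

theorem IsQHomeo.noetherianSpace_iff {f : X → Y} (h : IsQHomeo f) (hf : Continuous f) :
    TopologicalSpace.NoetherianSpace X ↔ TopologicalSpace.NoetherianSpace Y := by
  rw [TopologicalSpace.noetherianSpace_iff_opens, TopologicalSpace.noetherianSpace_iff_opens]
  constructor
  · intro H U
    have := H ⟨f ⁻¹' (U : Set Y), U.isOpen.preimage hf⟩
    exact (h.isCompact_preimage_iff hf U.isOpen.isLocallyClosed.isLQC_helper24).mp this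
  · intro H V
    obtain ⟨U, hUo, hU⟩ := h.2 V V.isOpen
    have := H ⟨U, hUo⟩
    rw [← hU]
    exact (h.isCompact_preimage_iff hf hUo.isLocallyClosed.isLQC_helper24).mpr this

end Groth.Agent.Lib.Helper24
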