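import Groth.Agent.Lib.Helper24.QuasiHomeoCompact
import Mathlib.Topology.Constructible

/-!
# Quasi-homeomorphisms and (locally) constructible sets (EGA IV 10.2.7)

Shared library of helper24.  Everything lives in `Groth.Agent.Lib.Helper24`.
-/

set_option autoImplicit false

namespace Groth.Agent.Lib.Helper24

open Set Topology

universe u v

variable {X : Type u} {Y : Type v} [TopologicalSpace X] [TopologicalSpace Y]

theorem IsQC.univ : IsQC (Set.univ : Set X) :=
  IsQC.of_isLocallyClosed isOpen_univ.isLocallyClosed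

theorem IsQC.compl {Z : Set X} (h : IsQC Z) : IsQC Zᶜ := by
  obtain ⟨T, hT, hl, rfl⟩ := h
  induction T, hT using Set.Finite.induction_on with
  | empty => simpa using IsQC.univ
  | @insert s T' _ _ ih =>
    rw [Set.sUnion_insert, Set.compl_union]
    refine IsQC.inter ?_ (ih fun t ht => hl t (Set.mem_insert_of_mem _ ht))
    obtain ⟨O, C, hO, hC, rfl⟩ := hl s (Set.mem_insert _ _)
    rw [Set.compl_inter]
    exact (IsQC.of_isLocallyClosed hO.isClosed_compl.isLocallyClosed).union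
      (IsQC.of_isLocallyClosed hC.isOpen_compl.isLocallyClosed)

theorem _root_.Topology.IsConstructible.isQC_helper24 {Z : Set X} (h : IsConstructible Z) :
    IsQC Z := by
  induction h using IsConstructible.empty_union_induction with
  | open_retrocompact U hUopen _ => exact IsQC.of_isLocallyClosed hUopen.isLocallyClosed
  | union s _ t _ hs' ht' => exact hs'.union ht'
  | compl s _ hs' => exact hs'.compl

theorem IsQC.image_val_of_isOpen {U : Set X} (hU : IsOpen U) {Z : Set U} (h : IsQC Z) :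
    IsQC (Subtype.val '' Z) := by
  obtain ⟨T, hT, hl, rfl⟩ := h
  refine ⟨(fun t => Subtype.val '' t) '' T, hT.image _, ?_, ?_⟩
  · rintro _ ⟨t, ht, rfl⟩
    refine (hl t ht).image IsInducing.subtypeVal ?_
    rw [Subtype.range_coe]
    exact hU.isLocallyClosed
  · rw [Set.sUnion_image, Set.sUnion_eq_biUnion, Set.image_iUnion₂]

theorem _root_.Topology.IsLocallyConstructible.isLQC_helper24 {Z : Set X}
    (h : IsLocallyConstructible Z) : IsLQC Z := by
  intro x
  obtain ⟨U, hxU, hU, hc⟩ := h x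
  refine ⟨U, hU, mem_of_mem_nhds hxU, ?_⟩
  have := hc.isQC_helper24.image_val_of_isOpen hU
  rwa [Subtype.image_preimage_coe] at this

/-! ### Retrocompact opens and constructible sets under a quasi-homeomorphism -/

theorem IsQHomeo.isRetrocompact_preimage {f : X → Y} (h : IsQHomeo f) (hf : Continuous f)
    {U : Set Y} (hU : IsOpen U) (hr : IsRetrocompact U) : IsRetrocompact (f ⁻¹' U) := by
  intro V hVc hVo
  obtain ⟨U', hU'o, rfl⟩ := h.2 V hVo
  have hU'c : IsCompact U' :=
    (h.isCompact_preimage_iff hf hU'o.isLocallyClosed.isLQC_helper24).mp hVc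
  rw [← Set.preimage_inter]
  exact (h.isCompact_preimage_iff hf (hU.inter hU'o).isLocallyClosed.isLQC_helper24).mpr
    (hr hU'c hU'o)

theorem IsQHomeo.isRetrocompact_of_preimage {f : X → Y} (h : IsQHomeo f) (hf : Continuous f)
    {U : Set Y} (hU : IsOpen U) (hr : IsRetrocompact (f ⁻¹' U)) : IsRetrocompact U := by
  intro U' hU'c hU'o
  have hVc : IsCompact (f ⁻¹' U') :=
    (h.isCompact_preimage_iff hf hU'o.isLocallyClosed.isLQC_helper24).mpr hU'c
  have := hr hVc (hU'o.preimage hf)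
  rw [← Set.preimage_inter] at this
  exact (h.isCompact_preimage_iff hf (hU.inter hU'o).isLocallyClosed.isLQC_helper24).mp this

theorem IsQHomeo.isConstructible_preimage {f : X → Y} (h : IsQHomeo f) (hf : Continuous f)
    {Z : Set Y} (hZ : IsConstructible Z) : IsConstructible (f ⁻¹' Z) :=
  hZ.preimage hf fun _ hs hr => h.isRetrocompact_preimage hf hs hr

theorem IsQHomeo.exists_isConstructible_preimage_eq {f : X → Y} (h : IsQHomeo f)
    (hf : Continuous f) {W : Set X} (hW : IsConstructible W) :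
    ∃ Z : Set Y, IsConstructible Z ∧ f ⁻¹' Z = W := by
  induction hW using IsConstructible.empty_union_induction with
  | open_retrocompact V hVo hVr =>
    obtain ⟨U, hUo, rfl⟩ := h.2 V hVo
    exact ⟨U, (h.isRetrocompact_of_preimage hf hUo hVr).isConstructible hUo, rfl⟩
  | union s _ t _ hs' ht' =>
    obtain ⟨Z₁, hZ₁, rfl⟩ := hs'
    obtain ⟨Z₂, hZ₂, rfl⟩ := ht'
    exact ⟨Z₁ ∪ Z₂, hZ₁.union hZ₂, Set.preimage_union⟩
  | compl s _ hs' =>
    obtain ⟨Z, hZ, rfl⟩ := hs'
    exact ⟨Zᶜ, hZ.compl, Set.preimage_compl⟩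

theorem IsQHomeo.isLocallyConstructible_preimage {f : X → Y} (h : IsQHomeo f) (hf : Continuous f)
    {Z : Set Y} (hZ : IsLocallyConstructible Z) : IsLocallyConstructible (f ⁻¹' Z) := by
  intro x
  obtain ⟨U, hxU, hU, hc⟩ := hZ (f x)
  refine ⟨f ⁻¹' U, hf.continuousAt hxU, hU.preimage hf, ?_⟩
  have hres : IsQHomeo (U.restrictPreimage f) :=
    h.restrictPreimage hU.isLocallyClosed.isLQC_helper24
  have := hres.isConstructible_preimage hf.restrictPreimage hc
  exact this

theorem IsQHomeo.exists_isLocallyConstructible_preimage_eq {f : X → Y} (h : IsQHomeo f)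
    (hf : Continuous f) {W : Set X} (hW : IsLocallyConstructible W) :
    ∃ Z : Set Y, IsLocallyConstructible Z ∧ f ⁻¹' Z = W := by
  choose V hxV hVo hVc using hW
  have h1 : ∀ x, ∃ U : Set Y, IsOpen U ∧ f ⁻¹' U = V x := fun x => h.2 _ (hVo x)
  choose U hUo hU using h1
  have hres : ∀ x, IsQHomeo ((U x).restrictPreimage f) := fun x =>
    h.restrictPreimage (hUo x).isLocallyClosed.isLQC_helper24
  -- constructible pieces
  have h2 : ∀ x, ∃ Z' : Set ↥(U x), IsConstructible Z' ∧
      ∀ w : X, ∀ hw : f w ∈ U x, ((⟨f w, hw⟩ : ↥(U x)) ∈ Z' ↔ w ∈ W) := by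
    intro x
    have hc : IsConstructible (Subtype.val ⁻¹' W : Set ↥(f ⁻¹' U x)) := by
      have := hVc x
      rw [← hU x] at this
      exact this
    obtain ⟨Z', hZ', e⟩ := (hres x).exists_isConstructible_preimage_eq hf.restrictPreimage hc
    refine ⟨Z', hZ', fun w hw => ?_⟩
    have := congrArg (fun S : Set ↥(f ⁻¹' U x) => (⟨w, hw⟩ : ↥(f ⁻¹' U x)) ∈ S) e
    simpa using this
  choose Z' hZ'c hZ' using h2
  -- the global pieces
  obtain ⟨Zx, hZx⟩ : ∃ Zx : X → Set Y, ∀ x, Zx x = Subtype.val '' (Z' x) := ⟨_, fun _ => rfl⟩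
  have hZxU : ∀ x, Zx x ⊆ U x := by
    intro x; rw [hZx]; rintro _ ⟨z, -, rfl⟩; exact z.2
  have hZxq : ∀ x, IsQC (Zx x) := fun x => by
    rw [hZx]; exact (hZ'c x).isQC_helper24.image_val_of_isOpen (hUo x)
  have hZxpre : ∀ x, f ⁻¹' (Zx x) = V x ∩ W := by
    intro x
    ext w
    rw [hZx, ← hU x]
    simp only [Set.mem_preimage, Set.mem_image, Subtype.exists, exists_and_right, exists_eq_right,
      Set.mem_inter_iff]
    constructor
    · rintro ⟨hw, hwZ⟩; exact ⟨hw, (hZ' x w hw).mp hwZ⟩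
    · rintro ⟨hw, hwW⟩; exact ⟨hw, (hZ' x w hw).mpr hwW⟩
  have hcompat : ∀ x x', U x ∩ Zx x' = U x' ∩ Zx x := by
    intro x x'
    refine h.eq_of_preimage_eq ((hZxq x').isLocallyClosed_inter (hUo x).isLocallyClosed).isLQC
      ((hZxq x).isLocallyClosed_inter (hUo x').isLocallyClosed).isLQC ?_
    rw [Set.preimage_inter, Set.preimage_inter, hZxpre, hZxpre, hU, hU]
    ext w; simp only [Set.mem_inter_iff]; tauto
  have hcover : ⋃ x, U x = Set.univ := by
    refine h.1 _ _ (isOpen_iUnion hUo) isOpen_univ ?_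
    rw [Set.preimage_iUnion, Set.preimage_univ]
    simp_rw [hU]
    exact Set.eq_univ_of_forall fun x => Set.mem_iUnion.mpr ⟨x, mem_of_mem_nhds (hxV x)⟩
  have hinter : ∀ x, U x ∩ ⋃ x', Zx x' = Zx x := by
    intro x
    ext w
    constructor
    · rintro ⟨hwU, hwZ⟩
      obtain ⟨x', hwx'⟩ := Set.mem_iUnion.mp hwZ
      have : w ∈ U x ∩ Zx x' := ⟨hwU, hwx'⟩
      rw [hcompat] at this
      exact this.2
    · intro hw
      exact ⟨hZxU x hw, Set.mem_iUnion.mpr ⟨x, hw⟩⟩
  refine ⟨⋃ x, Zx x, ?_, ?_⟩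
  · intro y
    have hy : y ∈ ⋃ x, U x := by rw [hcover]; trivial
    obtain ⟨x, hyx⟩ := Set.mem_iUnion.mp hy
    refine ⟨U x, (hUo x).mem_nhds hyx, hUo x, ?_⟩
    have e : (Subtype.val ⁻¹' (⋃ x', Zx x') : Set ↥(U x)) = Z' x := by
      ext ⟨w, hw⟩
      have : w ∈ U x ∩ ⋃ x', Zx x' ↔ w ∈ Zx x := by rw [hinter]
      simp only [Set.mem_preimage]
      rw [show (w ∈ ⋃ x', Zx x') ↔ w ∈ U x ∩ ⋃ x', Zx x' from ⟨fun h => ⟨hw, h⟩, fun h => h.2⟩,
        this, hZx]
      simp only [Set.mem_image, Subtype.exists, exists_and_right, exists_eq_right]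
      exact ⟨fun ⟨_, h⟩ => h, fun h => ⟨hw, h⟩⟩
    rw [e]
    exact hZ'c x
  · rw [Set.preimage_iUnion]
    simp_rw [hZxpre]
    ext w
    simp only [Set.mem_iUnion, Set.mem_inter_iff]
    constructor
    · rintro ⟨x, -, hw⟩; exact hw
    · intro hw; exact ⟨w, mem_of_mem_nhds (hxV w), hw⟩

end Groth.Agent.Lib.Helper24
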