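/-
Helper library (helper24): the ramification index (Mathlib's length definition) of the maximal
ideal of a local ring `B'` over a local ring `B` (local homomorphism) is the length of the ring
`B' ⧸ 𝔪_B B'`.
-/
import Groth.Agent.Lib.Helper24.InsepLength

set_option autoImplicit false
universe u
open IsLocalRing

namespace Groth.Agent.Lib.Helper24

theorem ramificationIdx_maximalIdeal_eq_length (B B' : Type u) [CommRing B] [CommRing B']
    [IsLocalRing B] [IsLocalRing B'] [Algebra B B'] [IsLocalHom (algebraMap B B')] :
    (maximalIdeal B').ramificationIdx B =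
      (Module.length (B' ⧸ (maximalIdeal B).map (algebraMap B B'))
        (B' ⧸ (maximalIdeal B).map (algebraMap B B'))).toNat := by
  rw [Ideal.ramificationIdx_def]
  congr 1
  set q := maximalIdeal B' with hq
  have hunder : q.under B = maximalIdeal B := by
    rw [Ideal.under_def, hq]
    exact IsLocalRing.maximalIdeal_comap (algebraMap B B')
  rw [hunder]
  have hM : q.primeCompl ≤ IsUnit.submonoid B' := by
    intro y hy
    exact (IsLocalRing.notMem_maximalIdeal).mp hy
  let e : B' ≃ₐ[B'] Localization.AtPrime q := IsLocalization.atUnits B' q.primeCompl hM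
  have hJ : (maximalIdeal B).map (algebraMap B (Localization.AtPrime q)) =
      ((maximalIdeal B).map (algebraMap B B')).map (e : B' →+* Localization.AtPrime q) := by
    rw [Ideal.map_map]
    congr 1
  let eq : (B' ⧸ (maximalIdeal B).map (algebraMap B B')) ≃+*
      (Localization.AtPrime q ⧸ (maximalIdeal B).map (algebraMap B (Localization.AtPrime q))) :=
    Ideal.quotientEquiv _ _ e.toRingEquiv hJ
  rw [Module.length_eq_of_surjective (S := Localization.AtPrime q)
    (R := Localization.AtPrime q ⧸ (maximalIdeal B).map (algebraMap B (Localization.AtPrime q)))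
    Ideal.Quotient.mk_surjective]
  exact (length_self_eq_of_ringEquiv eq).symm

end Groth.Agent.Lib.Helper24
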