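/-
Helper library (helper24): EGA IV 11.9.5-like — a FINITE separating family of homomorphisms of
quasi-coherent modules stays separating after an arbitrary flat base change.
Built on helper20's `SepChart`/`SepPull` framework.
-/
import Mathlib
import Groth.Agent.Lib.Helper20.SepPull

set_option autoImplicit false
universe u
open TensorProduct AlgebraicGeometry CategoryTheory

namespace Groth.Agent.Lib.Helper24.SepFinite

open Groth.Agent.Lib.Helper20.SchDenseFlat Groth.Agent.Lib.Helper20.SepChart
  Groth.Agent.Lib.Helper16.FlatPull Groth.Agent.Lib.Helper49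
  Groth.Agent.Lib.Helper11.PullbackChart Groth.Agent.Lib.Helper11

/-- A finite jointly injective family stays jointly injective after a flat base change. -/
theorem eq_zero_of_flat_lTensor_of_finite {A B : Type u} [CommRing A] [AddCommGroup B]
    [Module A B] [Module.Flat A B] {N : Type u} [AddCommGroup N] [Module A N]
    {Λ : Type u} [Finite Λ] {Nl : Λ → Type u} [∀ l, AddCommGroup (Nl l)] [∀ l, Module A (Nl l)]
    (ψ : ∀ l, N →ₗ[A] Nl l) (hD : JointInj ψ) (x : B ⊗[A] N)
    (hx : ∀ l, (ψ l).lTensor B x = 0) : x = 0 := by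
  classical
  have _ : Fintype Λ := Fintype.ofFinite Λ
  let Ψ : N →ₗ[A] (∀ l, Nl l) := LinearMap.pi ψ
  have hΨ : Function.Injective Ψ := by
    rw [injective_iff_map_eq_zero]
    intro n hn
    obtain ⟨m, hm⟩ := hD 1 n (fun l => ⟨0, by
      have : ψ l n = 0 := congrFun hn l
      rw [this, smul_zero]⟩)
    rwa [one_pow, one_smul] at hm
  have hinj : Function.Injective (Ψ.lTensor B) :=
    Module.Flat.lTensor_preserves_injective_linearMap Ψ hΨ
  apply hinj
  rw [map_zero]
  apply (TensorProduct.piRight A A B Nl).injective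
  rw [map_zero]
  funext l
  have key : ∀ y : B ⊗[A] N, (TensorProduct.piRight A A B Nl (Ψ.lTensor B y)) l =
      (ψ l).lTensor B y := by
    intro y
    induction y using TensorProduct.induction_on with
    | zero => simp
    | tmul b n => simp [Ψ]
    | add y₁ y₂ h₁ h₂ => simp only [map_add, Pi.add_apply, h₁, h₂]
  rw [key, hx l]
  rfl

section Scheme

variable {X' X : Scheme.{u}} (g : X' ⟶ X) {U : X.Opens} (hU : IsAffineOpen U) {W : X'.Opens}
  (hW : IsAffineOpen W) (hWU : W ≤ g ⁻¹ᵁ U) {F : X.Modules} [F.IsQuasicoherent]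
  {ι : Type u} [Finite ι] {G : ι → X.Modules} [∀ i, (G i).IsQuasicoherent] (u : ∀ i, F ⟶ G i)

omit [∀ i, (G i).IsQuasicoherent] in
include hU hW in
theorem extendScalars_sep_of_flat_finite [Flat g] (h : IsSeparating u)
    (x : ((ModuleCat.extendScalars (g.appLE U W hWU).hom).obj ((ΓU hU).obj F)))
    (hx : ∀ i,
      ((ModuleCat.extendScalars (g.appLE U W hWU).hom).map ((ΓU hU).map (u i))).hom x = 0) :
    x = 0 := by
  have hflat : (g.appLE U W hWU).hom.Flat :=
    HasRingHomProperty.appLE @Flat g inferInstance ⟨U, hU⟩ ⟨W, hW⟩ hWU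
  algebraize [(g.appLE U W hWU).hom]
  have hJ := jointInj_of_isSeparating hU u h
  have key : extEquiv (g.appLE U W hWU).hom ((ΓU hU).obj F) x = 0 := by
    refine eq_zero_of_flat_lTensor_of_finite (A := Γ(X, U)) (B := Γ(X', W))
      (N := (ΓU hU).obj F) (fun i => ((ΓU hU).map (u i)).hom) hJ _ (fun i => ?_)
    have := lTensor_extEquiv (g.appLE U W hWU).hom ((ΓU hU).map (u i)) x
    rw [hx i, map_zero] at this
    exact this
  exact (extEquiv (g.appLE U W hWU).hom ((ΓU hU).obj F)).injective (key.trans (map_zero _).symm)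

/-- A finite separating family of homomorphisms of quasi-coherent modules stays separating after
any flat base change. -/
theorem isSeparating_pullback_of_flat_of_finite [Flat g] (h : IsSeparating u) :
    IsSeparating (fun i => (Scheme.Modules.pullback g).map (u i)) := by
  refine isSeparating_of_basis _ _ (isBasis_affine_charts g) ?_
  rintro W ⟨hW, U, hU, hWU⟩ t ht
  exact eq_zero_of_chart g hU hW hWU u
    (fun x hx => extendScalars_sep_of_flat_finite g hU hW hWU u h x hx) t ht

end Scheme

end Groth.Agent.Lib.Helper24.SepFinite
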