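/-
Helper library (helper24): smoothness at a point in terms of flatness and the rank of a sheaf of
differentials (EGA IV 17.15.? / Stacks 02G1-like criterion), for a universal derivation `(Ω', d)`.
-/
import Mathlib
import Groth.Agent.Lib.Helper24.OmegaFreeRank
import Groth.Agent.Lib.Helper24.SmoothNormalStalk
import Groth.Agent.Lib.Helper13.SmoothFibreCons
import Groth.Agent.Lib.Helper14.SmoothFibre
import Groth.Agent.Lib.Helper49.FreeMod

set_option autoImplicit false
universe u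
open CategoryTheory CategoryTheory.Limits AlgebraicGeometry TopologicalSpace TensorProduct

namespace Groth.Agent.Lib.Helper24

set_option backward.defeqAttrib.useBackward true in
set_option backward.isDefEq.respectTransparency false in
/-- Around a point of the smooth locus there is a standard smooth affine chart. -/
theorem exists_chart_isStandardSmooth_of_mem_smoothLocus {X Y : Scheme.{u}} (f : X ⟶ Y)
    [LocallyOfFinitePresentation f] (x : X) (H : x ∈ f.smoothLocus) :
    ∃ (U : Y.Opens) (_ : IsAffineOpen U) (V : X.Opens) (_ : IsAffineOpen V) (hVU : V ≤ f ⁻¹ᵁ U),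
      x ∈ V ∧ (f.appLE U V hVU).hom.IsStandardSmooth := by
  obtain ⟨_, ⟨U, hU, rfl⟩, hxU, -⟩ :=
    Y.isBasis_affineOpens.exists_subset_of_mem_open (Set.mem_univ (f x)) isOpen_univ
  obtain ⟨_, ⟨V, hV, rfl⟩, hxV, hVU⟩ :=
    X.isBasis_affineOpens.exists_subset_of_mem_open hxU (U.2.preimage f.continuous)
  have := f.finitePresentation_appLE hU hV hVU
  algebraize [(f.appLE U V hVU).hom]
  have : Algebra.IsSmoothAt _ _ := (formallySmooth_stalkMap_iff U hU V hV hVU hxV).mp H
  obtain ⟨r, hrx, hr⟩ := Algebra.IsSmoothAt.exists_notMem_isStandardSmooth Γ(Y, U)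
    (hV.primeIdealOf ⟨x, hxV⟩).asIdeal
  refine ⟨_, hU, _, hV.basicOpen r, (X.basicOpen_le r).trans hVU, ?_, ?_⟩
  · rwa [← PrimeSpectrum.mem_basicOpen, IsAffineOpen.primeIdealOf,
      ← hV.fromSpec_preimage_basicOpen, Scheme.Hom.mem_preimage, ← Scheme.Hom.comp_apply,
      IsAffineOpen.isoSpec_hom, IsAffineOpen.toSpecΓ_fromSpec] at hrx
  · have := hV.isLocalization_basicOpen r
    rw [← RingHom.isStandardSmooth_algebraMap] at hr
    convert!
      RingHom.isStandardSmooth_respectsIso.1 _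
        (IsLocalization.algEquiv (.powers r) _ Γ(X, X.basicOpen r)).toRingEquiv hr
    ext
    dsimp
    simp only [IsScalarTower.algebraMap_apply Γ(Y, U) Γ(X, V) (Localization _),
      IsLocalization.map_eq]
    simp only [RingHom.algebraMap_toAlgebra, RingHomCompTriple.comp_apply, ← ConcreteCategory.comp_apply,
      Scheme.Hom.appLE_map]

/-- At a point of the smooth locus, a sheaf of differentials is free of rank the local fibre
dimension. -/
theorem exists_restrict_iso_freeMod_fibreDimAt_of_mem_smoothLocus {X Y : Scheme.{u}} (f : X ⟶ Y)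
    [LocallyOfFinitePresentation f]
    (Ω' : X.Modules) (d : OmegaSh.Der f Ω') (hd : OmegaSh.IsUniversal d) (x : X)
    (hx : x ∈ f.smoothLocus) :
    ∃ (U : X.Opens) (n : ℕ), x ∈ U ∧ Nonempty (Ω'.restrict U.ι ≅ FlatMod.freeMod (↑U) n) ∧
      FlatMor.fibreDimAt f x = (n : WithBot ℕ∞) := by
  obtain ⟨V₀, hV₀, U₀, hU₀, e, hu, hss⟩ := exists_chart_isStandardSmooth_of_mem_smoothLocus f x hx
  obtain ⟨n, hn⟩ := Groth.Agent.H52.exists_relDim_of_isStandardSmooth _ hss
  exact ⟨U₀, n, hu, nonempty_restrict_iso_freeMod_of_chart f Ω' d hd hV₀ hU₀ e n hn x hu,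
    fibreDimAt_eq_of_chart_isStandardSmoothOfRelativeDimension f hV₀ hU₀ e n hn x hu⟩

/-- Conversely: flat at `x` and a sheaf of differentials free of rank the local fibre dimension
near `x` imply smoothness at `x`. -/
theorem mem_smoothLocus_of_flat_of_restrict_iso_freeMod {X Y : Scheme.{u}} (f : X ⟶ Y)
    [LocallyOfFinitePresentation f]
    (Ω' : X.Modules) (d : OmegaSh.Der f Ω') (hd : OmegaSh.IsUniversal d) (x : X)
    (hflat : (f.stalkMap x).hom.Flat) (U : X.Opens) (n : ℕ) (hxU : x ∈ U)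
    (iso : Ω'.restrict U.ι ≅ FlatMod.freeMod (↑U) n)
    (hdim : FlatMor.fibreDimAt f x = (n : WithBot ℕ∞)) : x ∈ f.smoothLocus := by
  obtain ⟨W, hW, hxW, -⟩ := exists_isAffineOpen_mem_and_subset (x := f x) (U := ⊤) trivial
  obtain ⟨V, hV, hxV, hVle⟩ := exists_isAffineOpen_mem_and_subset (x := x) (U := U ⊓ f ⁻¹ᵁ W)
    ⟨hxU, hxW⟩
  have hVU : V ≤ U := hVle.trans inf_le_left
  have eV : V ≤ f ⁻¹ᵁ W := hVle.trans inf_le_right
  have hK : IsField (Y.residueField (f x)) := Field.toIsField _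
  have H : IsPullback (f.fiberι (f x)) (f.fiberToSpecResidueField (f x)) f
      (Y.fromSpecResidueField (f x)) := IsPullback.of_hasPullback f _
  have hlfp : LocallyOfFinitePresentation (f.fiberToSpecResidueField (f x)) :=
    inferInstanceAs (LocallyOfFinitePresentation
      (pullback.snd f (Y.fromSpecResidueField (f x))))
  refine Groth.Agent.Lib.Helper14.mem_smoothLocus_of_isPullback_field hK H (f.asFiber x) x
    (f.fiberι_asFiber x) hflat ?_
  rw [Groth.Agent.Lib.Helper13.SmoothFibreCons.mem_smoothLocus_fiber_iff f (f x) (f.asFiber x)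
    hW hV eV x (f.fiberι_asFiber x) hxV]
  let _ : Algebra Γ(Y, W) Γ(X, V) := (f.appLE W V eV).hom.toAlgebra
  obtain ⟨E, -⟩ := Groth.Agent.Lib.Helper51.OmegaUniv.exists_sections_equiv f hd hV hW eV
  let e' : Γ(Ω', V) ≃ₗ[Γ(X, V)] (Fin n → Γ(X, V)) :=
    Groth.Agent.Lib.Helper49.sectionsEquivOfIsoFree Ω' n
      (Groth.Agent.Lib.Helper49.isoFreeOfLE hVU Ω' n iso)
  let E' : Ω[Γ(X, V)⁄Γ(Y, W)] ≃ₗ[Γ(X, V)] (Fin n → Γ(X, V)) := E.trans e'
  have hfree : Module.Free Γ(X, V) Ω[Γ(X, V)⁄Γ(Y, W)] := Module.Free.of_equiv E'.symm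
  have hnt : Nontrivial Γ(X, V) := by
    have hp := (hV.primeIdealOf ⟨x, hxV⟩).isPrime
    exact ⟨⟨0, 1, fun h => hp.ne_top ((Ideal.eq_top_iff_one _).mpr (h ▸ Ideal.zero_mem _))⟩⟩
  have hfr : Module.finrank Γ(X, V) Ω[Γ(X, V)⁄Γ(Y, W)] = n := by
    rw [E'.finrank_eq]
    simp
  have h1 : Module.finrank (hV.primeIdealOf ⟨x, hxV⟩).asIdeal.ResidueField
      ((hV.primeIdealOf ⟨x, hxV⟩).asIdeal.ResidueField ⊗[Γ(X, V)] Ω[Γ(X, V)⁄Γ(Y, W)]) = n := by
    rw [Module.finrank_baseChange, hfr]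
  rw [h1]
  have h2 : FlatMor.localDim ↥(f.fiber (f x)) (f.asFiber x) = (n : WithBot ℕ∞) := hdim
  rw [h2]
  rfl

end Groth.Agent.Lib.Helper24
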