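/-
Helper library (helper24): a differential criterion for unramifiedness.
Let `k` be a field, `A → B` a local homomorphism of local `k`-algebras, essentially of finite type,
with separable residue field extension. If `Ω[B⁄k]` is generated by one element and the residue
field of `B` is not formally unramified over `k` (`Ω[κ(B)⁄k] ≠ 0`), then `B` is formally unramified
over `A`.
-/
import Mathlib

set_option autoImplicit false
universe u
open TensorProduct IsLocalRing

namespace Groth.Agent.Lib.Helper24

/-- If `Ω[B⁄k]` is cyclic and `Ω[κ(B)⁄k] ≠ 0` then `1 ⊗ d m = 0` in `κ(B) ⊗ Ω[B⁄k]` for `m ∈ 𝔪_B`. -/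
theorem one_tmul_D_eq_zero_of_cyclic
    (k B : Type u) [Field k] [CommRing B] [IsLocalRing B] [Algebra k B]
    (ω : Ω[B⁄k]) (hω : Submodule.span B {ω} = ⊤)
    (hns : ¬ Subsingleton Ω[ResidueField B⁄k]) (m : B) (hm : m ∈ maximalIdeal B) :
    (1 : ResidueField B) ⊗ₜ[B] KaehlerDifferential.D k B m = 0 := by
  -- every element of the tensor product is a multiple of `1 ⊗ ω`
  have hspan : ∀ t : ResidueField B ⊗[B] Ω[B⁄k], ∃ c : ResidueField B, t = c • ((1 : ResidueField B) ⊗ₜ[B] ω) := by
    intro t
    induction t using TensorProduct.induction_on with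
    | zero => exact ⟨0, by simp⟩
    | tmul a n =>
      have hn : n ∈ Submodule.span B {ω} := by rw [hω]; trivial
      obtain ⟨b, rfl⟩ := Submodule.mem_span_singleton.mp hn
      refine ⟨a * residue B b, ?_⟩
      rw [TensorProduct.tmul_smul, TensorProduct.smul_tmul', TensorProduct.smul_tmul']
      congr 1
      rw [smul_eq_mul, mul_one, Algebra.smul_def, mul_comm]
      rfl
    | add x y hx hy =>
      obtain ⟨c, rfl⟩ := hx
      obtain ⟨d, rfl⟩ := hy
      exact ⟨c + d, by rw [add_smul]⟩
  set v := KaehlerDifferential.mapBaseChange k B (ResidueField B) ((1 : ResidueField B) ⊗ₜ[B] ω) with hv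
  have hv0 : v ≠ 0 := by
    intro h0
    apply hns
    refine subsingleton_of_forall_eq 0 fun y => ?_
    obtain ⟨t, rfl⟩ := KaehlerDifferential.mapBaseChange_surjective k B (ResidueField B)
      Ideal.Quotient.mk_surjective y
    obtain ⟨c, rfl⟩ := hspan t
    rw [map_smul, ← hv, h0, smul_zero]
  obtain ⟨c, hc⟩ := hspan ((1 : ResidueField B) ⊗ₜ[B] KaehlerDifferential.D k B m)
  have hex := KaehlerDifferential.exact_kerCotangentToTensor_mapBaseChange k B (ResidueField B)
    Ideal.Quotient.mk_surjective
  have hker : KaehlerDifferential.mapBaseChange k B (ResidueField B)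
      ((1 : ResidueField B) ⊗ₜ[B] KaehlerDifferential.D k B m) = 0 := by
    have hm' : m ∈ RingHom.ker (algebraMap B (ResidueField B)) := by
      rw [RingHom.mem_ker]
      exact (residue_eq_zero_iff m).mpr hm
    have := (hex ((1 : ResidueField B) ⊗ₜ[B] KaehlerDifferential.D k B m)).mpr
      ⟨(RingHom.ker (algebraMap B (ResidueField B))).toCotangent ⟨m, hm'⟩, by
        simp only [KaehlerDifferential.kerCotangentToTensor_toCotangent]⟩
    exact this
  rw [hc, map_smul, ← hv] at hker
  rcases smul_eq_zero.mp hker with h | h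
  · rw [hc, h, zero_smul]
  · exact absurd h hv0

/-- The differential criterion. -/
theorem formallyUnramified_of_cyclic_kaehler
    (k A B : Type u) [Field k] [CommRing A] [CommRing B] [IsLocalRing A] [IsLocalRing B]
    [Algebra k A] [Algebra k B] [Algebra A B] [IsScalarTower k A B]
    [IsLocalHom (algebraMap A B)] [Algebra.EssFiniteType A B]
    [Algebra.IsSeparable (ResidueField A) (ResidueField B)]
    (ω : Ω[B⁄k]) (hω : Submodule.span B {ω} = ⊤)
    (hns : ¬ Subsingleton Ω[ResidueField B⁄k]) :
    Algebra.FormallyUnramified A B := by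
  constructor
  have : Algebra.FormallyUnramified (ResidueField A) (ResidueField B) := .of_isSeparable _ _
  have : Algebra.FormallyUnramified A (ResidueField B) := .comp _ (ResidueField A) _
  rw [← subsingleton_tensorProduct (R := B)]
  refine subsingleton_of_forall_eq 0 fun x ↦ ?_
  obtain ⟨x, rfl⟩ := (KaehlerDifferential.exact_kerCotangentToTensor_mapBaseChange A B
    (ResidueField B) Ideal.Quotient.mk_surjective x).mp (Subsingleton.elim _ _)
  obtain ⟨⟨x, hx⟩, rfl⟩ := Ideal.toCotangent_surjective _ x
  simp only [KaehlerDifferential.kerCotangentToTensor_toCotangent]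
  have hxm : x ∈ maximalIdeal B := by
    rw [RingHom.mem_ker] at hx
    exact (residue_eq_zero_iff x).mp hx
  have h0 := one_tmul_D_eq_zero_of_cyclic k B ω hω hns x hxm
  have h1 := congrArg (LinearMap.lTensor (ResidueField B) (KaehlerDifferential.map k A B B)) h0
  rw [LinearMap.lTensor_tmul, KaehlerDifferential.map_D, map_zero] at h1
  exact h1

end Groth.Agent.Lib.Helper24
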