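import Mathlib

/-!
# Going down along integral extensions of a unibranch local domain

If `R` is a local domain whose normalisation (integral closure in its fraction field `K`) is local,
`B ⊇ R` is an integral domain integral over `R` and `n` is a prime of `B` over the maximal ideal of
`R`, then every prime of `R` is the contraction of a prime of `B` contained in `n`.
-/

set_option autoImplicit false
universe u

namespace Groth.Agent.Lib.Helper24

theorem exists_prime_le_of_isLocalRing_integralClosure
    {R : Type u} [CommRing R] [IsDomain R] [IsLocalRing R]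
    (K : Type u) [Field K] [Algebra R K] [IsFractionRing R K]
    (hloc : IsLocalRing (integralClosure R K))
    {B : Type u} [CommRing B] [IsDomain B] [Algebra R B]
    (hinj : Function.Injective (algebraMap R B)) [Algebra.IsIntegral R B]
    (n : Ideal B) [n.IsPrime] (hn : n.comap (algebraMap R B) = IsLocalRing.maximalIdeal R)
    (p : Ideal R) [p.IsPrime] :
    ∃ q : Ideal B, q.IsPrime ∧ q ≤ n ∧ q.comap (algebraMap R B) = p := by
  classical
  let L := FractionRing B
  have hRL : Function.Injective (algebraMap R L) := by
    rw [IsScalarTower.algebraMap_eq R B L]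
    exact (IsFractionRing.injective B L).comp hinj
  let _ : Algebra K L := (IsFractionRing.lift hRL).toAlgebra
  have : IsScalarTower R K L :=
    IsScalarTower.of_algebraMap_eq fun x => (IsFractionRing.lift_algebraMap hRL x).symm
  let A' := integralClosure R K
  let C := integralClosure R L
  let i : A' →ₐ[R] C :=
    ((IsScalarTower.toAlgHom R K L).comp A'.val).codRestrict C (fun x =>
      (x.2 : IsIntegral R (x : K)).map (IsScalarTower.toAlgHom R K L))
  let j : B →ₐ[R] C := (IsScalarTower.toAlgHom R B L).codRestrict C (fun b =>
      (Algebra.IsIntegral.isIntegral (R := R) b).map (IsScalarTower.toAlgHom R B L))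
  have hi : Function.Injective i := by
    intro x y hxy
    have h1 : algebraMap K L (x : K) = algebraMap K L (y : K) := congrArg Subtype.val hxy
    exact Subtype.ext ((algebraMap K L).injective h1)
  have hj : Function.Injective j := by
    intro x y hxy
    have h1 : algebraMap B L x = algebraMap B L y := congrArg Subtype.val hxy
    exact IsFractionRing.injective B L h1
  let _ : Algebra A' C := i.toRingHom.toAlgebra
  have : IsScalarTower R A' C := IsScalarTower.of_algebraMap_eq' i.comp_algebraMap.symm
  let _ : Algebra B C := j.toRingHom.toAlgebra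
  have : IsScalarTower R B C := IsScalarTower.of_algebraMap_eq' j.comp_algebraMap.symm
  have : Algebra.IsIntegral A' C := Algebra.IsIntegral.tower_top (R := R)
  have : Algebra.IsIntegral B C := Algebra.IsIntegral.tower_top (R := R)
  have : IsIntegrallyClosed A' := integralClosure.isIntegrallyClosedOfFiniteExtension K (L := K)
  have : FaithfulSMul A' C := (faithfulSMul_iff_algebraMap_injective A' C).mpr hi
  have : IsLocalRing A' := hloc
  -- Step 1: a prime of `C` over `n`
  obtain ⟨n', -, hn'prime, hn'⟩ := Ideal.exists_ideal_over_prime_of_isIntegral n (⊥ : Ideal C) (by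
    rw [← RingHom.ker_eq_comap_bot, (RingHom.injective_iff_ker_eq_bot (algebraMap B C)).mp hj]
    exact bot_le)
  -- Step 2: its contraction to `A'` is the maximal ideal
  have hn'R : n'.comap (algebraMap R C) = IsLocalRing.maximalIdeal R := by
    rw [IsScalarTower.algebraMap_eq R B C, ← Ideal.comap_comap, hn', hn]
  have hmax : (n'.comap (algebraMap A' C)).IsMaximal := by
    apply Ideal.isMaximal_of_isIntegral_of_isMaximal_comap (R := R)
    rw [Ideal.comap_comap, ← IsScalarTower.algebraMap_eq R A' C, hn'R]
    exact IsLocalRing.maximalIdeal.isMaximal R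
  have hn'A' : n'.comap (algebraMap A' C) = IsLocalRing.maximalIdeal A' :=
    IsLocalRing.eq_maximalIdeal hmax
  -- Step 3: a prime of `A'` over `p`
  have hRA' : Function.Injective (algebraMap R A') := by
    intro x y hxy
    exact (IsFractionRing.injective R K) (congrArg Subtype.val hxy)
  obtain ⟨p', -, hp'prime, hp'⟩ := Ideal.exists_ideal_over_prime_of_isIntegral p (⊥ : Ideal A') (by
    rw [← RingHom.ker_eq_comap_bot, (RingHom.injective_iff_ker_eq_bot (algebraMap R A')).mp hRA']
    exact bot_le)
  -- Step 4: going down
  have : n'.LiesOver (IsLocalRing.maximalIdeal A') := ⟨hn'A'.symm⟩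
  obtain ⟨q', hq'le, hq'prime, hq'over⟩ :=
    Ideal.exists_ideal_le_liesOver_of_le (p := p') (q := IsLocalRing.maximalIdeal A') n'
      (IsLocalRing.le_maximalIdeal hp'prime.ne_top)
  refine ⟨q'.comap (algebraMap B C), inferInstance, ?_, ?_⟩
  · rw [← hn']; exact Ideal.comap_mono hq'le
  · rw [Ideal.comap_comap, ← IsScalarTower.algebraMap_eq R B C, IsScalarTower.algebraMap_eq R A' C,
      ← Ideal.comap_comap, ← hp']
    congr 1
    exact hq'over.over.symm

end Groth.Agent.Lib.Helper24
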