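import Groth.Agent.Lib.Helper24.UnivOpenAtDescent
import Mathlib.AlgebraicGeometry.Morphisms.ClosedImmersion

/-!
# Openness at a point and finite closed covers (EGA IV 14.3.?)

Shared library of helper24.  Everything lives in `Groth.Agent.Lib.Helper24`.
-/

set_option autoImplicit false

namespace Groth.Agent.Lib.Helper24

open CategoryTheory AlgebraicGeometry Limits EGA43

universe u w

/-- The double base change square: `X_T ×_T (Y₁)_T` is the base change of `X ×_Y Y₁ ⟶ Y₁` along
`(Y₁)_T ⟶ Y₁`. -/
theorem exists_isPullback_double_baseChange {X Y Y₁ T : Scheme.{u}} (f : X ⟶ Y) (v : Y₁ ⟶ Y)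
    (g : T ⟶ Y) :
    ∃ top : pullback (pullback.snd f g) (pullback.snd v g) ⟶ pullback f v,
      IsPullback top (pullback.snd (pullback.snd f g) (pullback.snd v g))
        (pullback.snd f v) (pullback.fst v g) ∧
      top ≫ pullback.fst f v =
        pullback.fst (pullback.snd f g) (pullback.snd v g) ≫ pullback.fst f g := by
  let top : pullback (pullback.snd f g) (pullback.snd v g) ⟶ pullback f v :=
    pullback.lift (pullback.fst _ _ ≫ pullback.fst f g) (pullback.snd _ _ ≫ pullback.fst v g)
      (by
        rw [Category.assoc, Category.assoc, pullback.condition (f := f), pullback.condition (f := v),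
          ← Category.assoc, ← Category.assoc, pullback.condition])
  have htop1 : top ≫ pullback.fst f v = pullback.fst _ _ ≫ pullback.fst f g := pullback.lift_fst _ _ _
  have htop2 : top ≫ pullback.snd f v = pullback.snd _ _ ≫ pullback.fst v g := pullback.lift_snd _ _ _
  have outer : IsPullback (pullback.fst (pullback.snd f g) (pullback.snd v g) ≫ pullback.fst f g)
      (pullback.snd (pullback.snd f g) (pullback.snd v g)) f (pullback.snd v g ≫ g) :=
    (IsPullback.of_hasPullback (pullback.snd f g) (pullback.snd v g)).paste_horiz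
      (IsPullback.of_hasPullback f g)
  have outer' : IsPullback (top ≫ pullback.fst f v)
      (pullback.snd (pullback.snd f g) (pullback.snd v g)) f (pullback.fst v g ≫ v) := by
    rw [htop1, pullback.condition (f := v)]
    exact outer
  exact ⟨top, IsPullback.of_right outer' htop2 (IsPullback.of_hasPullback f v), htop1⟩

/-- Openness at a point can be checked after base change to the members of a finite closed cover. -/
theorem isOpenAt_of_finite_closed_cover {X Y : Scheme.{u}} (f : X ⟶ Y) (x : X) {ι : Type w}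
    [Finite ι] (T : ι → Scheme.{u}) (g : ∀ i, T i ⟶ Y) [∀ i, IsClosedImmersion (g i)]
    (hcov : ⋃ i, Set.range (g i).base = Set.univ)
    (P : ι → Scheme.{u}) (fst : ∀ i, P i ⟶ X) (snd : ∀ i, P i ⟶ T i)
    (sq : ∀ i, IsPullback (fst i) (snd i) f (g i))
    (h : ∀ i, ∀ p : P i, (fst i).base p = x → IsOpenAt (snd i).base p) :
    IsOpenAt f.base x := by
  intro U hU
  obtain ⟨U', hU'U, hU'o, hxU'⟩ := mem_nhds_iff.mp hU
  have key : ∀ i, ∃ O ∈ nhds (f.base x), O ∩ Set.range (g i).base ⊆ f.base '' U' := by
    intro i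
    by_cases hi : f.base x ∈ Set.range (g i).base
    · obtain ⟨t, ht⟩ := hi
      obtain ⟨p, hp1, hp2⟩ := exists_preimage_of_isPullback (sq i) x t ht.symm
      have himg : (snd i).base '' ((fst i).base ⁻¹' U') = (g i).base ⁻¹' (f.base '' U') := by
        ext y₁
        constructor
        · rintro ⟨q, hq, rfl⟩
          refine ⟨(fst i).base q, hq, ?_⟩
          rw [← Scheme.Hom.comp_apply, ← Scheme.Hom.comp_apply, (sq i).w]
        · rintro ⟨u, hu, huy⟩
          obtain ⟨q, hq1, hq2⟩ := exists_preimage_of_isPullback (sq i) u y₁ huy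
          exact ⟨q, by rw [Set.mem_preimage, hq1]; exact hu, hq2⟩
      have := h i p hp1 ((fst i).base ⁻¹' U')
        ((hU'o.preimage (fst i).continuous).mem_nhds (by rw [Set.mem_preimage, hp1]; exact hxU'))
      rw [himg, hp2, (g i).isClosedEmbedding.isInducing.nhds_eq_comap, Filter.mem_comap] at this
      obtain ⟨O, hO, hOsub⟩ := this
      rw [ht] at hO
      refine ⟨O, hO, ?_⟩
      rintro _ ⟨hzO, t', rfl⟩
      exact hOsub hzO
    · refine ⟨(Set.range (g i).base)ᶜ,
        (g i).isClosedEmbedding.isClosed_range.isOpen_compl.mem_nhds hi, ?_⟩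
      rintro z ⟨hz1, hz2⟩
      exact absurd hz2 hz1
  choose O hO hOsub using key
  have hOall : (⋂ i, O i) ∈ nhds (f.base x) := Filter.iInter_mem.mpr hO
  refine Filter.mem_of_superset hOall ?_
  intro z hz
  have hz' : z ∈ ⋃ i, Set.range (g i).base := by rw [hcov]; trivial
  obtain ⟨i, hi⟩ := Set.mem_iUnion.mp hz'
  obtain ⟨u, hu, huz⟩ := hOsub i ⟨Set.mem_iInter.mp hz i, hi⟩
  exact ⟨u, hU'U hu, huz⟩

end Groth.Agent.Lib.Helper24
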