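import Groth.Agent.Lib.Helper24.UnivOpenAt

/-!
# Descent of openness at a point along closed surjective maps (EGA IV 14.3.?)

Shared library of helper24.  Everything lives in `Groth.Agent.Lib.Helper24`.
-/

set_option autoImplicit false

namespace Groth.Agent.Lib.Helper24

open CategoryTheory AlgebraicGeometry Limits EGA43

universe u

/-- Let `v : Y₁ ⟶ Y` be surjective and closed, and `P` a pullback of `f` and `v`. If `snd : P ⟶ Y₁`
is open at every point over `x`, then `f` is open at `x`. -/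
theorem isOpenAt_of_isPullback_of_isClosedMap {X Y Y₁ P : Scheme.{u}} {f : X ⟶ Y} {v : Y₁ ⟶ Y}
    {fst : P ⟶ X} {snd : P ⟶ Y₁} (sq : IsPullback fst snd f v)
    (hv : IsClosedMap v.base) (hvs : Function.Surjective v.base) (x : X)
    (h : ∀ p : P, fst.base p = x → IsOpenAt snd.base p) : IsOpenAt f.base x := by
  intro U hU
  obtain ⟨U', hU'U, hU'o, hxU'⟩ := mem_nhds_iff.mp hU
  -- the image of `fst ⁻¹' U'` under `snd` is `v ⁻¹' (f '' U')`
  have himg : snd.base '' (fst.base ⁻¹' U') = v.base ⁻¹' (f.base '' U') := by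
    ext y₁
    constructor
    · rintro ⟨p, hp, rfl⟩
      refine ⟨fst.base p, hp, ?_⟩
      rw [← Scheme.Hom.comp_apply, ← Scheme.Hom.comp_apply, sq.w]
    · rintro ⟨u, hu, huy⟩
      obtain ⟨p, hp1, hp2⟩ := exists_preimage_of_isPullback sq u y₁ huy
      exact ⟨p, by rw [Set.mem_preimage, hp1]; exact hu, hp2⟩
  have key : ∀ y₁ ∈ v.base ⁻¹' {f.base x}, ∀ᶠ z in nhds y₁, z ∈ v.base ⁻¹' (f.base '' U') := by
    intro y₁ hy₁
    obtain ⟨p, hp1, hp2⟩ := exists_preimage_of_isPullback sq x y₁ hy₁.symm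
    have := h p hp1 (fst.base ⁻¹' U')
      ((hU'o.preimage fst.continuous).mem_nhds (by rw [Set.mem_preimage, hp1]; exact hxU'))
    rw [himg, hp2] at this
    exact this
  have := hv.eventually_nhds_fiber (f.base x) key
  refine Filter.mem_of_superset this ?_
  intro y hy
  obtain ⟨y₁, rfl⟩ := hvs y
  obtain ⟨u, hu, huy⟩ := hy y₁ rfl
  exact ⟨u, hU'U hu, huy⟩

end Groth.Agent.Lib.Helper24
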