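import Mathlib

/-!
# Sections of quasi-finite local algebras over a normal local domain (helper24)

`exists_eq_algebraMap_of_quasiFinite`: let `O` be an integrally closed local domain with fraction field
`K`, `B` a local `O`-algebra, essentially of finite type and quasi-finite, with `O → B` local.
Then every `O`-algebra map `B → K` has image in `O` (Zariski's main theorem).
-/

universe u

open IsLocalRing

namespace Groth.Agent.Lib.Helper24.UnramSection

theorem isUnit_of_map_eq_algebraMap
    (O K B : Type u) [CommRing O] [IsLocalRing O]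
    [Field K] [Algebra O K]
    [CommRing B] [IsLocalRing B] [Algebra O B] [IsLocalHom (algebraMap O B)]
    (β : B →ₐ[O] K) (r : B) (a : O) (hr : IsUnit r) (hra : β r = algebraMap O K a) : IsUnit a := by
  by_contra ha
  have ha' : a ∈ maximalIdeal O := ha
  have h1 : algebraMap O B a ∈ maximalIdeal B := map_nonunit (algebraMap O B) a ha'
  have h2 : IsUnit (r - algebraMap O B a) := by
    by_contra h
    have h3 : r - algebraMap O B a ∈ maximalIdeal B := h
    have h4 : r ∈ maximalIdeal B := by
      have := Ideal.add_mem _ h3 h1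
      simpa using this
    exact h4 hr
  have h5 : β (r - algebraMap O B a) = 0 := by
    rw [map_sub, hra, AlgHom.commutes, sub_self]
  have h6 : IsUnit (β (r - algebraMap O B a)) := h2.map β
  rw [h5] at h6
  exact not_isUnit_zero h6

theorem exists_eq_algebraMap_of_quasiFinite
    (O K B : Type u) [CommRing O] [IsDomain O] [IsLocalRing O] [IsIntegrallyClosed O]
    [Field K] [Algebra O K] [IsFractionRing O K]
    [CommRing B] [IsLocalRing B] [Algebra O B] [IsLocalHom (algebraMap O B)]
    [Algebra.EssFiniteType O B] [Algebra.QuasiFinite O B]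
    (β : B →ₐ[O] K) (b : B) : ∃ a : O, algebraMap O K a = β b := by
  classical
  let C := Algebra.EssFiniteType.subalgebra O B
  let q : Ideal C := (maximalIdeal B).comap (algebraMap C B)
  have hq : q.IsPrime := Ideal.comap_isPrime _ _
  have hmemq : ∀ x : C, x ∈ q.primeCompl ↔ IsUnit (algebraMap C B x) := by
    intro x
    rw [Ideal.mem_primeCompl_iff, Ideal.mem_comap, mem_maximalIdeal, mem_nonunits_iff, not_not]
  have hM : Algebra.EssFiniteType.submonoid O B = q.primeCompl := by
    ext x
    rw [hmemq]
    rfl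
  have hloc : IsLocalization.AtPrime B q := by
    have h := Algebra.EssFiniteType.isLocalization (R := O) (S := B)
    rw [hM] at h
    exact h
  have hqf : Algebra.QuasiFiniteAt O q := by
    let e : Localization.AtPrime q ≃ₐ[C] B := IsLocalization.algEquiv q.primeCompl _ _
    exact (Algebra.QuasiFinite.iff_of_algEquiv (e.restrictScalars O)).mpr inferInstance
  obtain ⟨r, hrq, hrint, hr⟩ :=
    Algebra.zariskisMainProperty_iff.mp (Algebra.ZariskisMainProperty.of_finiteType (R := O) q)
  let β' : C →ₐ[O] K := β.comp C.val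
  -- integral elements map into `O`
  have hint : ∀ x : C, IsIntegral O x → ∃ a : O, algebraMap O K a = β' x := by
    intro x hx
    exact IsIntegrallyClosed.isIntegral_iff.mp (hx.map β')
  obtain ⟨a, ha⟩ := hint r hrint
  have hrunit : IsUnit (algebraMap C B r) := (hmemq r).mp hrq
  have haunit : IsUnit a :=
    isUnit_of_map_eq_algebraMap O K B β (algebraMap C B r) a hrunit ha.symm
  have haK : algebraMap O K a ≠ 0 := (haunit.map (algebraMap O K)).ne_zero
  -- all of `C` maps into `O`
  have hC : ∀ x : C, ∃ c : O, algebraMap O K c = β' x := by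
    intro x
    obtain ⟨m, hm⟩ := hr x
    obtain ⟨a', ha'⟩ := hint _ hm
    obtain ⟨u, hu⟩ := haunit
    refine ⟨a' * ((u⁻¹ : Oˣ) : O) ^ m, ?_⟩
    rw [map_mul, map_pow, ha', map_mul, map_pow, ← ha, ← hu]
    have h1 : algebraMap O K (u : O) * algebraMap O K ((u⁻¹ : Oˣ) : O) = 1 := by
      rw [← map_mul, Units.mul_inv, map_one]
    calc algebraMap O K (u : O) ^ m * β' x * algebraMap O K ((u⁻¹ : Oˣ) : O) ^ m
        = (algebraMap O K (u : O) * algebraMap O K ((u⁻¹ : Oˣ) : O)) ^ m * β' x := by ring
      _ = β' x := by rw [h1, one_pow, one_mul]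
  -- all of `B` maps into `O`
  obtain ⟨⟨x, y⟩, hxy⟩ := IsLocalization.surj q.primeCompl b
  obtain ⟨cx, hcx⟩ := hC x
  obtain ⟨cy, hcy⟩ := hC y.1
  have hyunit : IsUnit (algebraMap C B y.1) := (hmemq y.1).mp y.2
  have hcyunit : IsUnit cy :=
    isUnit_of_map_eq_algebraMap O K B β (algebraMap C B y.1) cy hyunit hcy.symm
  obtain ⟨u, hu⟩ := hcyunit
  refine ⟨cx * ((u⁻¹ : Oˣ) : O), ?_⟩
  have h2 : β b * β' y.1 = β' x := by
    have := congrArg β hxy
    rw [map_mul] at this
    exact this
  have h1 : algebraMap O K (u : O) * algebraMap O K ((u⁻¹ : Oˣ) : O) = 1 := by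
    rw [← map_mul, Units.mul_inv, map_one]
  rw [map_mul, hcx, ← h2, ← hcy, ← hu, mul_assoc, h1, mul_one]

end Groth.Agent.Lib.Helper24.UnramSection
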