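import Groth.Agent.Lib.Helper24.UnramSectionA

/-!
# Local sections of formally proper unramified morphisms over a normal point (helper24)
-/

universe u

open CategoryTheory CategoryTheory.Limits AlgebraicGeometry IsLocalRing

namespace Groth.Agent.Lib.Helper24.UnramSection

set_option backward.isDefEq.respectTransparency.types false in
/-- Let `f : Z ⟶ S` be locally of finite type, formally unramified and satisfy the existence part of
the valuative criterion. Let `s : S` be a point whose local ring `O` is an integrally closed domain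
with fraction field `K`. Every `K`-point of `Z` over the generic point of `Spec O` extends to a section
`Spec O ⟶ Z`. -/
theorem exists_section_stalk {Z S : Scheme.{u}} (f : Z ⟶ S) [LocallyOfFiniteType f]
    [FormallyUnramified f] (hfp : ValuativeCriterion.Existence f) (s : S)
    [IsDomain (S.presheaf.stalk s)] [IsIntegrallyClosed (S.presheaf.stalk s)]
    (K : Type u) [Field K] [Algebra (S.presheaf.stalk s) K] [IsFractionRing (S.presheaf.stalk s) K]
    (zK : Spec (CommRingCat.of K) ⟶ Z)
    (hzK : zK ≫ f =
      Spec.map (CommRingCat.ofHom (algebraMap (S.presheaf.stalk s) K)) ≫ S.fromSpecStalk s) :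
    ∃ σ : Spec (S.presheaf.stalk s) ⟶ Z, σ ≫ f = S.fromSpecStalk s ∧
      Spec.map (CommRingCat.ofHom (algebraMap (S.presheaf.stalk s) K)) ≫ σ = zK := by
  obtain ⟨A, hA, hAloc⟩ := exists_factor_valuationRing (algebraMap (S.presheaf.stalk s) K)
  let ι : S.presheaf.stalk s ⟶ CommRingCat.of A :=
    CommRingCat.ofHom ((algebraMap (S.presheaf.stalk s) K).codRestrict _ hA)
  have hιK : ι ≫ CommRingCat.ofHom (algebraMap A K) =
      CommRingCat.ofHom (algebraMap (S.presheaf.stalk s) K) := by
    ext a
    rfl
  have w : zK ≫ f = Spec.map (CommRingCat.ofHom (algebraMap A K)) ≫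
      Spec.map ι ≫ S.fromSpecStalk s := by
    rw [hzK, ← Spec.map_comp_assoc, hιK]
  obtain ⟨l, hl₁, hl₂⟩ := (hfp { R := A, K := K, commSq := ⟨w⟩, .. }).exists_lift
  dsimp only at hl₁ hl₂
  let z : Z := l.base (closedPoint A)
  have hz : f.base z = s := by
    change f.base (l.base (closedPoint A)) = s
    rw [← Scheme.Hom.comp_apply, hl₂]
    simp only [Scheme.Hom.comp_base, TopCat.coe_comp, Function.comp_apply]
    have : Spec.map ι (closedPoint A) = closedPoint (S.presheaf.stalk s) :=
      comap_closedPoint (S := A) ((algebraMap (S.presheaf.stalk s) K).codRestrict A.toSubring hA)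
    rw [this, S.fromSpecStalk_closedPoint]
  -- the local ring of `Z` at `z`
  let φ : Z.presheaf.stalk z ⟶ CommRingCat.of A := Scheme.stalkClosedPointTo l
  have hφl : Spec.map φ ≫ Z.fromSpecStalk z = l := Scheme.Spec_stalkClosedPointTo_fromSpecStalk l
  let c : S.presheaf.stalk (f.base z) ≅ S.presheaf.stalk s :=
    S.presheaf.stalkCongr (Inseparable.of_eq hz)
  obtain ⟨α, hαdef⟩ : ∃ α' : S.presheaf.stalk s ⟶ Z.presheaf.stalk z, α' = c.inv ≫ f.stalkMap z :=
    ⟨_, rfl⟩
  have hα1 : Spec.map α ≫ S.fromSpecStalk s = Z.fromSpecStalk z ≫ f := by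
    rw [hαdef]
    have h1 : Spec.map c.inv ≫ S.fromSpecStalk s = S.fromSpecStalk (f.base z) :=
      Scheme.SpecMap_stalkSpecializes_fromSpecStalk (Inseparable.of_eq hz).specializes
    rw [Spec.map_comp, Category.assoc, h1, Scheme.SpecMap_stalkMap_fromSpecStalk]
  have hα2 : α ≫ φ = ι := by
    apply Spec.map_injective
    rw [← cancel_mono (S.fromSpecStalk s), Spec.map_comp, Category.assoc, hα1, ← Category.assoc,
      hφl, hl₂]
  -- algebra structure
  let _ : Algebra (S.presheaf.stalk s) (Z.presheaf.stalk z) := α.hom.toAlgebra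
  have hαloc : IsLocalHom (algebraMap (S.presheaf.stalk s) (Z.presheaf.stalk z)) := by
    have h1 : IsLocalHom c.inv.hom := isLocalHom_of_isIso _
    have h2 : IsLocalHom (f.stalkMap z).hom := inferInstance
    rw [RingHom.algebraMap_toAlgebra, hαdef]
    exact inferInstanceAs (IsLocalHom (c.inv ≫ f.stalkMap z).hom)
  have hess : Algebra.EssFiniteType (S.presheaf.stalk s) (Z.presheaf.stalk z) := by
    rw [← RingHom.essFiniteType_algebraMap, RingHom.algebraMap_toAlgebra, hαdef]
    exact RingHom.EssFiniteType.respectsIso.2 _ (c.symm.commRingCatIsoToRingEquiv)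
      (LocallyOfFiniteType.stalkMap f z)
  have hunr : Algebra.FormallyUnramified (S.presheaf.stalk s) (Z.presheaf.stalk z) := by
    rw [← RingHom.formallyUnramified_algebraMap, RingHom.algebraMap_toAlgebra, hαdef]
    exact RingHom.FormallyUnramified.respectsIso.2 _ (c.symm.commRingCatIsoToRingEquiv)
      (FormallyUnramified.stalkMap f z)
  have hqf : Algebra.QuasiFinite (S.presheaf.stalk s) (Z.presheaf.stalk z) := inferInstance
  let β : Z.presheaf.stalk z →ₐ[S.presheaf.stalk s] K :=
    { toRingHom := (algebraMap A K).comp φ.hom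
      commutes' := by
        intro a
        have h1 : φ.hom (α.hom a) = ι.hom a := congr($hα2 a)
        change algebraMap A K (φ.hom (α.hom a)) = algebraMap (S.presheaf.stalk s) K a
        rw [h1]
        rfl }
  have hβ := exists_eq_algebraMap_of_quasiFinite (S.presheaf.stalk s) K (Z.presheaf.stalk z) β
  have hinj : Function.Injective (algebraMap (S.presheaf.stalk s) K) :=
    IsFractionRing.injective (S.presheaf.stalk s) K
  let ρ : Z.presheaf.stalk z →+* S.presheaf.stalk s :=
    { toFun := fun b => (hβ b).choose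
      map_one' := hinj (by rw [(hβ 1).choose_spec, map_one, map_one])
      map_mul' := fun x y => hinj (by
        rw [(hβ (x * y)).choose_spec, map_mul, map_mul, (hβ x).choose_spec, (hβ y).choose_spec])
      map_zero' := hinj (by rw [(hβ 0).choose_spec, map_zero, map_zero])
      map_add' := fun x y => hinj (by
        rw [(hβ (x + y)).choose_spec, map_add, map_add, (hβ x).choose_spec, (hβ y).choose_spec]) }
  have hρ : ∀ b, algebraMap (S.presheaf.stalk s) K (ρ b) = β b := fun b => (hβ b).choose_spec
  let ρ' : Z.presheaf.stalk z ⟶ S.presheaf.stalk s := CommRingCat.ofHom ρ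
  have hρα : α ≫ ρ' = 𝟙 _ := by
    ext a
    apply hinj
    change algebraMap (S.presheaf.stalk s) K (ρ (α.hom a)) = algebraMap (S.presheaf.stalk s) K a
    rw [hρ]
    exact β.commutes a
  have hρK : ρ' ≫ CommRingCat.ofHom (algebraMap (S.presheaf.stalk s) K) =
      φ ≫ CommRingCat.ofHom (algebraMap A K) := by
    ext b
    exact hρ b
  refine ⟨Spec.map ρ' ≫ Z.fromSpecStalk z, ?_, ?_⟩
  · calc (Spec.map ρ' ≫ Z.fromSpecStalk z) ≫ f
        = Spec.map ρ' ≫ Spec.map α ≫ S.fromSpecStalk s := by rw [Category.assoc, hα1]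
      _ = Spec.map (α ≫ ρ') ≫ S.fromSpecStalk s := (Spec.map_comp_assoc α ρ' _).symm
      _ = Spec.map (𝟙 _) ≫ S.fromSpecStalk s :=
          congrArg (fun t => Spec.map t ≫ S.fromSpecStalk s) hρα
      _ = S.fromSpecStalk s := by rw [Spec.map_id, Category.id_comp]
  · calc Spec.map (CommRingCat.ofHom (algebraMap (S.presheaf.stalk s) K)) ≫
          Spec.map ρ' ≫ Z.fromSpecStalk z
        = Spec.map (ρ' ≫ CommRingCat.ofHom (algebraMap (S.presheaf.stalk s) K)) ≫
            Z.fromSpecStalk z := (Spec.map_comp_assoc ρ' _ _).symm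
      _ = Spec.map (φ ≫ CommRingCat.ofHom (algebraMap A K)) ≫ Z.fromSpecStalk z :=
          congrArg (fun t => Spec.map t ≫ Z.fromSpecStalk z) hρK
      _ = zK := by rw [Spec.map_comp, Category.assoc, hφl, hl₁]

end Groth.Agent.Lib.Helper24.UnramSection
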