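import Groth.Agent.Lib.Helper24.UnramSectionB
import Groth.Agent.Lib.Helper24.NeronFinC
import Groth.Agent.Lib.Helper50.DomainLocus

/-!
# Rational sections of formally proper unramified separated morphisms over a normal base (helper24)
-/

universe u

open CategoryTheory CategoryTheory.Limits AlgebraicGeometry IsLocalRing

namespace Groth.Agent.Lib.Helper24.UnramSection

/-- In a locally Noetherian scheme, a point whose local ring is a domain has an open neighbourhood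
all of whose points are specializations of the generic point of the local ring. -/
theorem exists_opens_generic {S : Scheme.{u}} [IsLocallyNoetherian S] (s : S)
    [IsDomain (S.presheaf.stalk s)] :
    ∃ W : S.Opens, s ∈ W ∧ ∀ y ∈ W,
      S.fromSpecStalk s (⟨⊥, Ideal.isPrime_bot⟩ : PrimeSpectrum (S.presheaf.stalk s)) ⤳ y := by
  obtain ⟨_, ⟨U, hU, rfl⟩, hsU, -⟩ :=
    S.isBasis_affineOpens.exists_subset_of_mem_open (Set.mem_univ s) isOpen_univ
  have hM := Groth.Agent.Lib.Helper50.finite_setOf_closure_mem_irreducibleComponents hU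
  set η₀ := S.fromSpecStalk s (⟨⊥, Ideal.isPrime_bot⟩ : PrimeSpectrum (S.presheaf.stalk s)) with hη₀
  let Bad : Set S := {η : S | (η ∈ U ∧ closure {η} ∈ irreducibleComponents (S : Type u)) ∧ η ≠ η₀}
  have hBad : Bad.Finite := hM.subset fun η hη => hη.1
  let C : Set S := ⋃ η ∈ Bad, closure ({η} : Set S)
  have hC : IsClosed C := hBad.isClosed_biUnion fun η _ => isClosed_closure
  refine ⟨⟨(U : Set S) ∩ Cᶜ, U.isOpen.inter hC.isOpen_compl⟩, ⟨hsU, ?_⟩, ?_⟩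
  · intro hsC
    simp only [C, Set.mem_iUnion] at hsC
    obtain ⟨η, hηBad, hsη⟩ := hsC
    exact hηBad.2 (Groth.Agent.Lib.Helper50.eq_of_isDomain_stalk s η
      (specializes_iff_mem_closure.mpr hsη) hηBad.1.2)
  · rintro y ⟨hyU, hyC⟩
    obtain ⟨p, hp⟩ := Ideal.exists_minimalPrimes_le
      (bot_le : (⊥ : Ideal (S.presheaf.stalk y)) ≤ maximalIdeal _)
    have hp' : p ∈ minimalPrimes (S.presheaf.stalk y) := hp.1
    have hpp : p.IsPrime := hp'.1.1
    set η := S.fromSpecStalk y (⟨p, hpp⟩ : PrimeSpectrum (S.presheaf.stalk y)) with hη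
    have hηc : closure {η} ∈ irreducibleComponents (S : Type u) :=
      Groth.Agent.Lib.Helper50.closure_mem_irreducibleComponents_of_minimalPrimes y ⟨p, hpp⟩ hp'
    have hηy : η ⤳ y := by
      have : η ∈ Set.range (S.fromSpecStalk y) := ⟨_, rfl⟩
      rwa [Scheme.range_fromSpecStalk] at this
    have hηU : η ∈ U := hηy.mem_open U.isOpen hyU
    by_cases h : η = η₀
    · rw [← h]
      exact hηy
    · exfalso
      apply hyC
      have hmem : η ∈ Bad := ⟨⟨hηU, hηc⟩, h⟩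
      exact Set.mem_biUnion hmem (specializes_iff_mem_closure.mp hηy)

set_option backward.isDefEq.respectTransparency.types false in
theorem exists_local_extension {Z S : Scheme.{u}} (f : Z ⟶ S) [IsLocallyNoetherian S] [IsReduced S]
    (hS : ∀ s : S, IsDomain (S.presheaf.stalk s) ∧ IsIntegrallyClosed (S.presheaf.stalk s))
    [IsSeparated f] [FormallyUnramified f] [LocallyOfFiniteType f]
    (hfp : ValuativeCriterion.Existence f) (U : S.Opens) (hU : Dense (U : Set S))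
    (v : U.toScheme ⟶ Z) (hv : v ≫ f = U.ι) (s : S) :
    ∃ (W : S.Opens) (_ : s ∈ W) (w : W.toScheme ⟶ Z), w ≫ f = W.ι ≫ 𝟙 S ∧
      (W.ι ⁻¹ᵁ U).ι ≫ w = (W.ι ∣_ U) ≫ v := by
  obtain ⟨hdom, hic⟩ := hS s
  obtain ⟨W₀, hsW₀, hgen⟩ := exists_opens_generic s
  set η₀ := S.fromSpecStalk s (⟨⊥, Ideal.isPrime_bot⟩ : PrimeSpectrum (S.presheaf.stalk s)) with hη₀
  have hη₀s : η₀ ⤳ s := by
    have : η₀ ∈ Set.range (S.fromSpecStalk s) := ⟨_, rfl⟩
    rwa [Scheme.range_fromSpecStalk] at this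
  have hη₀U : η₀ ∈ U := by
    obtain ⟨y, hyW, hyU⟩ := hU.inter_open_nonempty W₀ W₀.isOpen ⟨s, hsW₀⟩
    exact (hgen y hyW).mem_open U.isOpen hyU
  let K := FractionRing (S.presheaf.stalk s)
  let jK : Spec (CommRingCat.of K) ⟶ S :=
    Spec.map (CommRingCat.ofHom (algebraMap (S.presheaf.stalk s) K)) ≫ S.fromSpecStalk s
  have hjK : ∀ p, jK.base p = η₀ := by
    intro p
    have h1 : (Spec.map (CommRingCat.ofHom (algebraMap (S.presheaf.stalk s) K))).base p =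
        (⟨⊥, Ideal.isPrime_bot⟩ : PrimeSpectrum (S.presheaf.stalk s)) := by
      apply PrimeSpectrum.ext
      change Ideal.comap (algebraMap (S.presheaf.stalk s) K) p.asIdeal = ⊥
      have hp : p.asIdeal = ⊥ := by
        rcases Ideal.eq_bot_or_top p.asIdeal with h | h
        · exact h
        · exact absurd h p.2.ne_top
      rw [hp]
      exact (RingHom.injective_iff_ker_eq_bot _).mp (IsFractionRing.injective (S.presheaf.stalk s) K)
    change (S.fromSpecStalk s).base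
      ((Spec.map (CommRingCat.ofHom (algebraMap (S.presheaf.stalk s) K))).base p) = η₀
    rw [h1]
  have hlift : ∀ T : S.Opens, η₀ ∈ T → Set.range jK ⊆ Set.range T.ι := by
    intro T hT
    rintro _ ⟨p, rfl⟩
    rw [Scheme.Opens.range_ι]
    change jK.base p ∈ T
    rw [hjK]
    exact hT
  let jU : Spec (CommRingCat.of K) ⟶ U.toScheme := IsOpenImmersion.lift U.ι jK (hlift U hη₀U)
  have hjU : jU ≫ U.ι = jK := IsOpenImmersion.lift_fac _ _ _
  let zK : Spec (CommRingCat.of K) ⟶ Z := jU ≫ v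
  have hzK : zK ≫ f = jK := by rw [Category.assoc, hv, hjU]
  obtain ⟨σ, hσ1, hσ2⟩ := exists_section_stalk f hfp s K zK hzK
  obtain ⟨V₀, hsV₀, w₀, hw₀1, hw₀2⟩ :=
    spread_out_of_isGermInjective' (𝟙 S) f (x := s) σ (by rw [hσ1, Category.comp_id])
  have hsW : s ∈ V₀ ⊓ W₀ := ⟨hsV₀, hsW₀⟩
  have hw1 : (S.homOfLE (inf_le_left : V₀ ⊓ W₀ ≤ V₀) ≫ w₀) ≫ f = (V₀ ⊓ W₀).ι ≫ 𝟙 S := by
    rw [Category.assoc, hw₀2, ← Category.assoc, Scheme.homOfLE_ι]
  refine ⟨V₀ ⊓ W₀, hsW, S.homOfLE (inf_le_left : V₀ ⊓ W₀ ≤ V₀) ≫ w₀, hw1, ?_⟩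
  have hη₀W : η₀ ∈ V₀ ⊓ W₀ := hη₀s.mem_open (V₀ ⊓ W₀).isOpen hsW
  let jW : Spec (CommRingCat.of K) ⟶ (V₀ ⊓ W₀).toScheme :=
    IsOpenImmersion.lift (V₀ ⊓ W₀).ι jK (hlift _ hη₀W)
  have hjW : jW ≫ (V₀ ⊓ W₀).ι = jK := IsOpenImmersion.lift_fac _ _ _
  have hjWT : Set.range jW ⊆ Set.range ((V₀ ⊓ W₀).ι ⁻¹ᵁ U).ι := by
    rintro _ ⟨p, rfl⟩
    rw [Scheme.Opens.range_ι]
    change (V₀ ⊓ W₀).ι.base (jW.base p) ∈ U
    rw [← Scheme.Hom.comp_apply, hjW, hjK]
    exact hη₀U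
  let jT : Spec (CommRingCat.of K) ⟶ ((V₀ ⊓ W₀).ι ⁻¹ᵁ U).toScheme :=
    IsOpenImmersion.lift ((V₀ ⊓ W₀).ι ⁻¹ᵁ U).ι jW hjWT
  have hjT : jT ≫ ((V₀ ⊓ W₀).ι ⁻¹ᵁ U).ι = jW := IsOpenImmersion.lift_fac _ _ _
  have hjTK : jT ≫ ((V₀ ⊓ W₀).ι ⁻¹ᵁ U).ι ≫ (V₀ ⊓ W₀).ι = jK := by
    rw [← Category.assoc, hjT, hjW]
  have hdomi : IsDominant jT := by
    constructor
    intro t
    have hemb := (((V₀ ⊓ W₀).ι ⁻¹ᵁ U).ι ≫ (V₀ ⊓ W₀).ι).isEmbedding
    have h1 : (((V₀ ⊓ W₀).ι ⁻¹ᵁ U).ι ≫ (V₀ ⊓ W₀).ι).base (jT.base (closedPoint K)) = η₀ := by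
      rw [← Scheme.Hom.comp_apply, hjTK, hjK]
    have hy : (((V₀ ⊓ W₀).ι ⁻¹ᵁ U).ι ≫ (V₀ ⊓ W₀).ι).base t ∈ W₀ := by
      have := (((V₀ ⊓ W₀).ι ⁻¹ᵁ U).ι.base t).2
      exact this.2
    have h2 : (((V₀ ⊓ W₀).ι ⁻¹ᵁ U).ι ≫ (V₀ ⊓ W₀).ι).base (jT.base (closedPoint K)) ⤳
        (((V₀ ⊓ W₀).ι ⁻¹ᵁ U).ι ≫ (V₀ ⊓ W₀).ι).base t := by
      rw [h1]
      exact hgen _ hy
    have h3 : jT.base (closedPoint K) ⤳ t := hemb.isInducing.specializes_iff.mp h2
    exact closure_mono (Set.singleton_subset_iff.mpr (Set.mem_range_self _))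
      (specializes_iff_mem_closure.mp h3)
  have hredW : IsReduced (V₀ ⊓ W₀).toScheme := isReduced_of_isOpenImmersion (V₀ ⊓ W₀).ι
  have hredT : IsReduced ((V₀ ⊓ W₀).ι ⁻¹ᵁ U).toScheme :=
    isReduced_of_isOpenImmersion ((V₀ ⊓ W₀).ι ⁻¹ᵁ U).ι
  refine ext_of_isDominant_of_isSeparated f ?_ jT ?_
  · rw [Category.assoc, hw1, Category.assoc, hv, morphismRestrict_ι, Category.comp_id]
  · have hL : jW ≫ S.homOfLE (inf_le_left : V₀ ⊓ W₀ ≤ V₀) =
        Spec.map (CommRingCat.ofHom (algebraMap (S.presheaf.stalk s) K)) ≫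
          V₀.fromSpecStalkOfMem s hsV₀ := by
      rw [← cancel_mono V₀.ι, Category.assoc, Scheme.homOfLE_ι, hjW, Category.assoc,
        Scheme.Opens.fromSpecStalkOfMem_ι]
    have hR : jT ≫ ((V₀ ⊓ W₀).ι ∣_ U) = jU := by
      rw [← cancel_mono U.ι, Category.assoc, morphismRestrict_ι, hjTK, hjU]
    calc jT ≫ ((V₀ ⊓ W₀).ι ⁻¹ᵁ U).ι ≫ S.homOfLE (inf_le_left : V₀ ⊓ W₀ ≤ V₀) ≫ w₀
        = (jW ≫ S.homOfLE (inf_le_left : V₀ ⊓ W₀ ≤ V₀)) ≫ w₀ := by
          rw [← Category.assoc, hjT, Category.assoc]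
      _ = Spec.map (CommRingCat.ofHom (algebraMap (S.presheaf.stalk s) K)) ≫ σ := by
          rw [hL, Category.assoc, ← hw₀1]
      _ = jU ≫ v := hσ2
      _ = jT ≫ ((V₀ ⊓ W₀).ι ∣_ U) ≫ v := by rw [← Category.assoc, hR]

/-- **Rational sections extend**: over a locally Noetherian normal scheme, a section over a dense open
of a separated, unramified morphism satisfying the existence part of the valuative criterion extends
to a global section. -/
theorem exists_section_of_dense {Z S : Scheme.{u}} (f : Z ⟶ S) [IsLocallyNoetherian S]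
    (hS : ∀ s : S, IsDomain (S.presheaf.stalk s) ∧ IsIntegrallyClosed (S.presheaf.stalk s))
    [IsSeparated f] [FormallyUnramified f] [LocallyOfFiniteType f]
    (hfp : ValuativeCriterion.Existence f) (U : S.Opens) (hU : Dense (U : Set S))
    (v : U.toScheme ⟶ Z) (hv : v ≫ f = U.ι) :
    ∃ w : S ⟶ Z, w ≫ f = 𝟙 S ∧ U.ι ≫ w = v := by
  have hred : IsReduced S := by
    have : ∀ x : S, _root_.IsReduced (S.presheaf.stalk x) := fun x => by
      have := (hS x).1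
      infer_instance
    exact isReduced_of_isReduced_stalk S
  exact Groth.Agent.Lib.Helper24.NeronFin.exists_glue_of_dense f (𝟙 S) U hU v
    (fun s => exists_local_extension f hS hfp U hU v hv s)

end Groth.Agent.Lib.Helper24.UnramSection
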