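import Groth.Agent.Lib.Helper24.UnramifiedEqualizer

/-!
# Separated unramified case: the agreement locus is open and closed

Shared library of helper24.  Everything lives in `Groth.Agent.Lib.Helper24`.
-/

set_option autoImplicit false

namespace Groth.Agent.Lib.Helper24

open CategoryTheory AlgebraicGeometry Limits

universe u

/-- Separated variant of `exists_opens_equalizing`: the open subscheme is also closed. -/
theorem exists_clopen_equalizing {X Y S : Scheme.{u}} (h : Y ⟶ S) [FormallyUnramified h]
    [LocallyOfFiniteType h] [IsSeparated h] (f g : X ⟶ Y) (w : g ≫ h = f ≫ h) :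
    ∃ U : X.Opens, IsClosed (U : Set X) ∧ U.ι ≫ f = U.ι ≫ g ∧
      ∀ {T : Scheme.{u}} (t : T ⟶ X), t ≫ f = t ≫ g → Set.range t.base ⊆ (U : Set X) := by
  let X' : Over S := Over.mk (f ≫ h)
  let Y' : Over S := Over.mk h
  let f' : X' ⟶ Y' := Over.homMk f rfl
  let g' : X' ⟶ Y' := Over.homMk g w
  have : FormallyUnramified Y'.hom := ‹_›
  have : LocallyOfFiniteType Y'.hom := ‹_›
  have : IsSeparated Y'.hom := ‹_›
  have hι : IsOpenImmersion (equalizer.ι f' g').left := isOpenImmersion_equalizer_ι_left f' g'
  have hι' : IsClosedImmersion (equalizer.ι f' g').left := inferInstance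
  have hcond : (equalizer.ι f' g').left ≫ f = (equalizer.ι f' g').left ≫ g :=
    congrArg CommaMorphism.left (equalizer.condition f' g')
  refine ⟨(equalizer.ι f' g').left.opensRange, ?_, ?_, ?_⟩
  · exact (equalizer.ι f' g').left.isClosedEmbedding.isClosed_range
  · rw [← cancel_epi (equalizer.ι f' g').left.isoOpensRange.hom]
    simp only [Scheme.Hom.isoOpensRange_hom_ι_assoc]
    exact hcond
  · intro T t ht
    let T' : Over S := Over.mk (t ≫ f ≫ h)
    let t' : T' ⟶ X' := Over.homMk t rfl
    have ht' : t' ≫ f' = t' ≫ g' := by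
      ext1
      exact ht
    have hl : (equalizer.lift t' ht').left ≫ (equalizer.ι f' g').left = t :=
      congrArg CommaMorphism.left (equalizer.lift_ι t' ht')
    rintro _ ⟨z, rfl⟩
    refine ⟨(equalizer.lift t' ht').left.base z, ?_⟩
    rw [← Scheme.Hom.comp_apply, hl]

end Groth.Agent.Lib.Helper24
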