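import Mathlib
import Groth.Agent.Lib.Helper13.LimDescent
import Groth.Agent.Lib.Helper24.UnramifiedLocus

set_option autoImplicit false
universe u
open AlgebraicGeometry CategoryTheory Limits

namespace Groth.Agent.Lib.Helper24

open Groth.Agent.Lib.Helper13.LimDescent

/-- A base change of `f₀` is formally unramified iff it maps into the unramified locus of `f₀`. -/
theorem formallyUnramified_pullback_fst_iff {T S X₀ : Scheme.{u}} (g : T ⟶ S) (f₀ : X₀ ⟶ S)
    [LocallyOfFiniteType f₀] :
    FormallyUnramified (pullback.fst g f₀) ↔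
      (pullback.snd g f₀) ⁻¹ᵁ unramifiedLocus f₀ = ⊤ := by
  have H : IsPullback (pullback.snd g f₀) (pullback.fst g f₀) f₀ g :=
    (IsPullback.of_hasPullback g f₀).flip
  constructor
  · intro h
    rw [eq_top_iff]
    intro p _
    exact (formallyUnramified_stalkMap_iff_of_isPullback H p).mp
      (FormallyUnramified.stalkMap _ p)
  · intro h
    refine HasRingHomProperty.of_stalkMap RingHom.FormallyUnramified.ofLocalizationPrime
      fun p => ?_
    exact (formallyUnramified_stalkMap_iff_of_isPullback H p).mpr (h.ge (Set.mem_univ p))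

set_option backward.isDefEq.respectTransparency false in
/-- One-step descent of unramifiedness through a cofiltered limit with affine transition maps. -/
theorem exists_formallyUnramified_pullback_fst {J : Type u} [SmallCategory J] [IsCofiltered J]
    (E : J ⥤ Scheme.{u}) (cE : Cone E) (j₀ : J)
    [hE : ∀ {i j : J} (f : i ⟶ j), IsAffineHom (E.map f)] (hcE : IsLimit cE)
    {X₀ : Scheme.{u}} (f₀ : X₀ ⟶ E.obj j₀) [LocallyOfFiniteType f₀] [CompactSpace X₀]
    (h : FormallyUnramified (pullback.fst (cE.π.app j₀) f₀)) :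
    ∃ k : Over j₀, FormallyUnramified (pullback.fst (E.map k.hom) f₀) := by
  rw [formallyUnramified_pullback_fst_iff] at h
  have hU : (sysCone E cE j₀ f₀).π.app (Over.mk (𝟙 j₀)) ⁻¹ᵁ
      (pullback.snd (E.map (Over.mk (𝟙 j₀)).hom) f₀ ⁻¹ᵁ unramifiedLocus f₀) = ⊤ := by
    rw [← Scheme.Hom.comp_preimage, sysCone_π_snd]
    exact h
  obtain ⟨k, fk, hk⟩ := exists_map_eq_top (sys E j₀ f₀) (sysCone E cE j₀ f₀)
    (isLimitSysCone E cE j₀ f₀ hcE) _ hU
  refine ⟨k, ?_⟩
  rw [formallyUnramified_pullback_fst_iff]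
  rw [← Scheme.Hom.comp_preimage, sys_map_snd] at hk
  exact hk

end Groth.Agent.Lib.Helper24
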