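import Mathlib
import Groth.Agent.Lib.Helper24.UnramifiedLocus

/-!
# Local structure of unramified morphisms (helper24)

* `exists_closedImmersion_etale_of_formallyUnramified_stalk`: `f` locally of finite type and
  unramified at `x` ⇒ an affine open neighbourhood of `x` is a closed subscheme of a scheme étale
  over the base.
* `isOpenImmersion_pullback_lift_of_etale`: graphs into étale schemes are open immersions.
* `exists_etale_opens_closedImmersion_of_formallyUnramified_stalk`: étale-locally on the base,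
  a neighbourhood of `x` becomes a closed subscheme of the base.
-/

set_option autoImplicit false
universe u
open AlgebraicGeometry CategoryTheory Limits

namespace Groth.Agent.Lib.Helper24

set_option backward.isDefEq.respectTransparency.types false in
/-- Local structure of unramified morphisms: if `f` is locally of finite type and unramified at `x`,
then an affine open neighbourhood of `x` is a closed subscheme of a scheme étale over `Y`. -/
theorem exists_closedImmersion_etale_of_formallyUnramified_stalk {X Y : Scheme.{u}} (f : X ⟶ Y)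
    [LocallyOfFiniteType f] (x : X) (hx : (f.stalkMap x).hom.FormallyUnramified) :
    ∃ (R : CommRingCat.{u}) (j : Spec R ⟶ X) (_ : IsOpenImmersion j) (X' : Scheme.{u})
      (i : Spec R ⟶ X') (p : X' ⟶ Y),
      x ∈ Set.range j ∧ IsClosedImmersion i ∧ Etale p ∧ i ≫ p = j ≫ f := by
  obtain ⟨_, ⟨U, hU, rfl⟩, hxU, -⟩ :=
    Y.isBasis_affineOpens.exists_subset_of_mem_open (Set.mem_univ (f x)) isOpen_univ
  obtain ⟨_, ⟨W, hW, rfl⟩, hxW, hWU⟩ :=
    X.isBasis_affineOpens.exists_subset_of_mem_open hxU (U.2.preimage f.continuous)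
  have hft := f.finiteType_appLE hU hW hWU
  algebraize [(f.appLE U W hWU).hom]
  let q := (hW.primeIdealOf ⟨x, hxW⟩).asIdeal
  have hq : Algebra.IsUnramifiedAt Γ(Y, U) q :=
    (formallyUnramified_stalkMap_iff U hU W hW hWU hxW).mp hx
  obtain ⟨h, hhq, P, φ, hφ⟩ :=
    Algebra.IsUnramifiedAt.exists_hasStandardEtaleSurjectionOn (R := Γ(Y, U)) q
  let V := X.basicOpen h
  have hV : IsAffineOpen V := hW.basicOpen h
  have hVW : V ≤ W := X.basicOpen_le h
  have hVU : V ≤ f ⁻¹ᵁ U := hVW.trans hWU
  have hloc : IsLocalization.Away h Γ(X, V) := hW.isLocalization_basicOpen h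
  let e : Localization.Away h ≃ₐ[Γ(X, W)] Γ(X, V) := IsLocalization.algEquiv (.powers h) _ _
  let ψ : P.Ring →+* Γ(X, V) := (e : Localization.Away h →+* Γ(X, V)).comp φ.toRingHom
  have hψ : Function.Surjective ψ := e.surjective.comp hφ
  have hcomp : ψ.comp (algebraMap Γ(Y, U) P.Ring) = (f.appLE U V hVU).hom := by
    ext a
    have h1 : φ (algebraMap Γ(Y, U) P.Ring a) = algebraMap Γ(Y, U) (Localization.Away h) a :=
      φ.commutes a
    have h2 : algebraMap Γ(Y, U) (Localization.Away h) a =
        algebraMap Γ(X, W) (Localization.Away h) (algebraMap Γ(Y, U) Γ(X, W) a) :=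
      IsScalarTower.algebraMap_apply _ _ _ a
    have h3 : e (algebraMap Γ(X, W) (Localization.Away h) (algebraMap Γ(Y, U) Γ(X, W) a)) =
        algebraMap Γ(X, W) Γ(X, V) (algebraMap Γ(Y, U) Γ(X, W) a) := e.commutes _
    change e (φ (algebraMap Γ(Y, U) P.Ring a)) = _
    rw [h1, h2, h3]
    change (X.presheaf.map (homOfLE hVW).op).hom ((f.appLE U W hWU).hom a) = _
    rw [← Scheme.Hom.appLE_map f hWU (homOfLE hVW).op]
    rfl
  have hxV : x ∈ V := by
    have h1 : hW.fromSpec (hW.primeIdealOf ⟨x, hxW⟩) = x := hW.fromSpec_primeIdealOf ⟨x, hxW⟩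
    have h2 : hW.primeIdealOf ⟨x, hxW⟩ ∈ hW.fromSpec ⁻¹ᵁ X.basicOpen h := by
      rw [hW.fromSpec_preimage_basicOpen]
      exact hhq
    have h3 : hW.fromSpec (hW.primeIdealOf ⟨x, hxW⟩) ∈ X.basicOpen h := h2
    rwa [h1] at h3
  refine ⟨Γ(X, V), hV.fromSpec, inferInstance, Spec (.of P.Ring),
    Spec.map (CommRingCat.ofHom ψ),
    Spec.map (CommRingCat.ofHom (algebraMap Γ(Y, U) P.Ring)) ≫ hU.fromSpec, ?_, ?_, ?_, ?_⟩
  · rw [hV.range_fromSpec]
    exact hxV
  · exact IsClosedImmersion.spec_of_surjective _ hψ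
  · have : Etale (Spec.map (CommRingCat.ofHom (algebraMap Γ(Y, U) P.Ring))) := by
      rw [HasRingHomProperty.Spec_iff (P := @Etale)]
      exact RingHom.etale_algebraMap.mpr inferInstance
    infer_instance
  · rw [← Spec.map_comp_assoc, ← IsAffineOpen.SpecMap_appLE_fromSpec f hU hV hVU]
    congr 2
    ext a
    exact congrFun (congrArg DFunLike.coe hcomp) a

set_option backward.isDefEq.respectTransparency.types false in
/-- The graph of a morphism `i : Z ⟶ X'` over `Y`, from an open subscheme `j : Z ⟶ X`, into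
`X ×_Y X'` is an open immersion if `X' ⟶ Y` is étale. -/
theorem isOpenImmersion_pullback_lift_of_etale {X Y X' Z : Scheme.{u}} (f : X ⟶ Y) (p : X' ⟶ Y)
    [Etale p] (j : Z ⟶ X) [IsOpenImmersion j] (i : Z ⟶ X') (w : j ≫ f = i ≫ p) :
    IsOpenImmersion (pullback.lift j i w) := by
  set γ := pullback.lift j i w with hγ
  have h1 : γ ≫ pullback.fst f p = j := pullback.lift_fst _ _ _
  have : Etale (γ ≫ pullback.fst f p) := by rw [h1]; infer_instance
  have : Etale γ := Etale.of_comp γ (pullback.fst f p)
  have : Mono γ := mono_of_mono_fac h1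
  exact IsOpenImmersion.of_flat_of_mono γ

set_option backward.isDefEq.respectTransparency.types false in
/-- If `f` is locally of finite type and unramified at `x`, there are an étale `g : Y' ⟶ Y` and an
open `U` of `X ×_Y Y'` whose image in `X` contains `x` such that `U ⟶ Y'` is a closed immersion. -/
theorem exists_etale_opens_closedImmersion_of_formallyUnramified_stalk {X Y : Scheme.{u}}
    (f : X ⟶ Y) [LocallyOfFiniteType f] (x : X) (hx : (f.stalkMap x).hom.FormallyUnramified) :
    ∃ (Y' : Scheme.{u}) (g : Y' ⟶ Y) (U : (pullback f g).Opens), Etale g ∧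
      x ∈ (pullback.fst f g).base '' (U : Set ↥(pullback f g)) ∧
      IsClosedImmersion (U.ι ≫ pullback.snd f g) := by
  obtain ⟨R, j, hj, X', i, p, hxj, hi, hp, hw⟩ :=
    exists_closedImmersion_etale_of_formallyUnramified_stalk f x hx
  have hγ := isOpenImmersion_pullback_lift_of_etale f p j i hw.symm
  set γ := pullback.lift j i hw.symm with hγdef
  refine ⟨X', p, γ.opensRange, hp, ?_, ?_⟩
  · obtain ⟨z, rfl⟩ := hxj
    refine ⟨γ z, ⟨z, rfl⟩, ?_⟩
    rw [← Scheme.Hom.comp_apply, pullback.lift_fst]
  · have : γ.opensRange.ι ≫ pullback.snd f p = γ.isoOpensRange.inv ≫ i := by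
      rw [← Scheme.Hom.isoOpensRange_inv_comp, Category.assoc, pullback.lift_snd]
    rw [this]
    infer_instance

end Groth.Agent.Lib.Helper24
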